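import Groth.Agent.FF.Degree

/-! Genus, repartitions, Weil differentials and the Riemann-Roch theorem. -/

set_option linter.style.haveILetI false

namespace Groth.Agent.FF

open FunFld
open scoped WithZero IntermediateField

variable {k K : Type*} [Field k] [Field K] [Algebra k K]

/-- `deg D + 1 - ℓ(D)`. -/
noncomputable def defect (D : Divisor k K) : ℤ := D.deg + 1 - ell D

lemma defect_mono (hK : IsFunctionField k K) {D E : Divisor k K} (h : D ≤ E) : defect D ≤ defect E := by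
  have := ell_sub_le hK h; unfold defect; omega

lemma mem_L_add_div (hK : IsFunctionField k K) (D : Divisor k K) {x : K} (hx : x ≠ 0) (y : K) :
    x * y ∈ L D ↔ y ∈ L (D + div k x) := by
  rcases eq_or_ne y 0 with rfl | hy
  · simp
  · rw [mem_L_iff_ord (mul_ne_zero hx hy), mem_L_iff_ord hy]
    refine forall_congr' fun P => ?_
    rw [ord_mul P hx hy, Finsupp.add_apply, div_apply hK]
    omega

lemma ell_add_div (hK : IsFunctionField k K) (D : Divisor k K) {x : K} (hx : x ≠ 0) :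
    ell (D + div k x) = ell D := by
  have h : (L (D + div k x)).map (LinearMap.mulLeft k x) = L D := by
    ext z
    constructor
    · rintro ⟨y, hy, rfl⟩; exact (mem_L_add_div hK D hx y).2 hy
    · intro hz
      exact ⟨x⁻¹ * z, (mem_L_add_div hK D hx _).1 (by rw [mul_inv_cancel_left₀ hx]; exact hz),
        by simp [mul_inv_cancel_left₀ hx]⟩
  rw [ell, ell, ← h]
  exact (Submodule.equivMapOfInjective _ (mul_right_injective₀ hx) _).finrank_eq

lemma defect_add_div (hK : IsFunctionField k K) (D : Divisor k K) {x : K} (hx : x ≠ 0) :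
    defect (D + div k x) = defect D := by
  rw [defect, defect, deg_add, deg_div hK, ell_add_div hK D hx]; ring

lemma defect_zero (hK : IsFunctionField k K) : defect (0 : Divisor k K) = 0 := by
  rw [defect, deg_zero, ell_zero hK]; rfl

lemma exists_ne_zero_of_ell_pos {D : Divisor k K} (h : 0 < ell D) : ∃ z : K, z ≠ 0 ∧ z ∈ L D := by
  obtain ⟨z, hz, h0⟩ := Submodule.exists_mem_ne_zero_of_ne_bot (p := L D) fun hb => by
    rw [ell, hb, finrank_bot] at h; exact lt_irrefl _ h
  exact ⟨z, h0, hz⟩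

lemma le_add_div_of_mem_L (hK : IsFunctionField k K) {D : Divisor k K} {z : K} (hz : z ≠ 0) (h : z ∈ L D) :
    0 ≤ D + div k z := fun P => by
  have := (mem_L_iff_ord hz).1 h P
  simp only [Finsupp.coe_zero, Pi.zero_apply, Finsupp.add_apply, div_apply hK]
  omega

lemma defect_bounded (hK : IsFunctionField k K) : ∃ γ : ℤ, ∀ D : Divisor k K, defect D ≤ γ := by
  classical
  obtain ⟨⟨x, hx, -⟩, -⟩ := id hK
  set B := zeros (k := k) x⁻¹ with hB
  have hx' : Transcendental k x⁻¹ := fun h => hx (by simpa using h.inv)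
  haveI := finiteDimensional_adjoin hK hx
  have hn : 0 < Module.finrank k⟮x⟯ K := Module.finrank_pos
  have hdeg : B.deg = Module.finrank k⟮x⟯ K := by rw [hB, deg_zeros hK hx', adjoin_inv]
  obtain ⟨C, hC0, hC⟩ := exists_ell_lower hK hx
  have hlow : ∀ l : ℕ, B.deg * (l + 1) ≤ ell ((l : ℤ) • B) + C.deg := by
    intro l
    have h1 := ell_sub_le hK (show (l : ℤ) • B ≤ (l : ℤ) • B + C from le_add_of_nonneg_right hC0)
    rw [deg_add] at h1
    have h2 : ((Module.finrank k⟮x⟯ K * (l + 1) : ℕ) : ℤ) ≤ (ell ((l : ℤ) • B + C) : ℕ) := by exact_mod_cast hC l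
    push_cast at h2
    rw [hdeg]
    omega
  have hl : ∀ l : ℕ, defect ((l : ℤ) • B) ≤ C.deg + 1 := by
    intro l
    have h := hlow l
    rw [defect, deg_smul]
    nlinarith
  refine ⟨C.deg + 1, fun D => ?_⟩
  have hE : defect D ≤ defect (D ⊔ 0) := defect_mono hK le_sup_left
  let l : ℕ := (D ⊔ 0).deg.toNat + C.deg.toNat
  have hpos : 0 < ell ((l : ℤ) • B - (D ⊔ 0)) := by
    have h1 := ell_sub_le hK (show (l : ℤ) • B - (D ⊔ 0) ≤ (l : ℤ) • B from
      sub_le_self _ le_sup_right)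
    rw [deg_sub] at h1
    have h2 := hlow l
    have h3 := deg_nonneg (D := D ⊔ 0) le_sup_right
    have h4 := deg_nonneg hC0
    have hl' : (l : ℤ) = (D ⊔ 0).deg + C.deg := by
      simp only [l, Nat.cast_add, Int.toNat_of_nonneg h3, Int.toNat_of_nonneg h4]
    nlinarith
  obtain ⟨z, hz, hzL⟩ := exists_ne_zero_of_ell_pos hpos
  have hle : D ⊔ 0 ≤ (l : ℤ) • B + div k z := by
    have := le_add_div_of_mem_L hK hz hzL
    intro P
    have h := this P
    simp only [Finsupp.coe_zero, Pi.zero_apply, Finsupp.add_apply, Finsupp.coe_sub, Pi.sub_apply] at h ⊢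
    omega
  calc defect D ≤ defect (D ⊔ 0) := hE
    _ ≤ defect ((l : ℤ) • B + div k z) := defect_mono hK hle
    _ = defect ((l : ℤ) • B) := defect_add_div hK _ hz
    _ ≤ C.deg + 1 := hl l

lemma genus_spec (hK : IsFunctionField k K) :
    (∀ D : Divisor k K, defect D ≤ genus k K) ∧ ∃ D₀ : Divisor k K, defect D₀ = genus k K := by
  obtain ⟨γ, hγ⟩ := defect_bounded hK
  set S := Set.range fun D : Divisor k K => (D.deg + 1 - (ell D : ℤ)).toNat
  have hb : BddAbove S := ⟨γ.toNat, by rintro _ ⟨D, rfl⟩; exact Int.toNat_le_toNat (hγ D)⟩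
  have hle : ∀ D : Divisor k K, defect D ≤ genus k K := fun D => by
    have : (D.deg + 1 - (ell D : ℤ)).toNat ≤ genus k K := le_csSup hb ⟨D, rfl⟩
    rw [defect]; omega
  refine ⟨hle, ?_⟩
  obtain ⟨D, hD⟩ := Nat.sSup_mem (s := S) ⟨_, 0, rfl⟩ hb
  have hD' : (D.deg + 1 - (ell D : ℤ)).toNat = genus k K := hD
  by_cases h : 0 ≤ defect D
  · exact ⟨D, by rw [defect] at h ⊢; omega⟩
  · exact ⟨0, by rw [defect_zero hK]; rw [defect] at h; omega⟩

lemma defect_eq_genus_of_le (hK : IsFunctionField k K) {D E : Divisor k K}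
    (h : defect D = genus k K) (hle : D ≤ E) : defect E = genus k K :=
  le_antisymm ((genus_spec hK).1 E) (h ▸ defect_mono hK hle)

lemma exists_riemann_bound (hK : IsFunctionField k K) :
    ∃ N : ℤ, ∀ D : Divisor k K, N ≤ D.deg → defect D = genus k K := by
  obtain ⟨D₀, hD₀⟩ := (genus_spec hK).2
  refine ⟨D₀.deg + genus k K, fun D hD => ?_⟩
  have h1 := (genus_spec hK).1 (D - D₀)
  rw [defect, deg_sub] at h1
  obtain ⟨z, hz, hzL⟩ := exists_ne_zero_of_ell_pos (D := D - D₀) (by omega)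
  rw [← defect_add_div hK D hz]
  refine defect_eq_genus_of_le hK hD₀ fun P => ?_
  have h := le_add_div_of_mem_L hK hz hzL P
  simp only [Finsupp.coe_zero, Pi.zero_apply, Finsupp.add_apply, Finsupp.coe_sub, Pi.sub_apply] at h ⊢
  omega

section adele

open Filter

lemma mem_adele {a : Place k K → K} : a ∈ adele k K ↔ {P : Place k K | ¬ P.1 (a P) ≤ 1}.Finite :=
  Filter.eventually_cofinite

lemma AD_le_adele (D : Divisor k K) : AD D ≤ adele k K := fun a ha => by
  rw [mem_adele]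
  refine D.support.finite_toSet.subset fun P hP => ?_
  by_contra h
  exact hP ((ha P).trans (by simp only [Finset.mem_coe, Finsupp.mem_support_iff, not_not] at h; rw [h, WithZero.exp_zero]))

lemma range_diag_le_adele (hK : IsFunctionField k K) : LinearMap.range (diag k K) ≤ adele k K := by
  rintro _ ⟨x, rfl⟩
  rw [mem_adele]
  refine (finite_support hK x).subset fun P hP => ?_
  simp only [Function.mem_support]
  intro h
  rcases eq_or_ne x 0 with rfl | hx
  · exact hP (le_of_eq_of_le (map_zero P.1) zero_le)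
  · exact hP ((v_le_one_iff P hx).2 (by omega))

lemma exists_AD_of_adele {a : Place k K → K} (ha : a ∈ adele k K) (D₀ : Divisor k K) :
    ∃ D, D₀ ≤ D ∧ a ∈ AD D := by
  classical
  rw [mem_adele] at ha
  let E : Divisor k K := Finsupp.ofSupportFinite
    (fun P => if P.1 (a P) ≤ 1 then 0 else -P.ord (a P))
    (ha.subset fun P hP => by
      simp only [Function.mem_support, ne_eq, ite_eq_left_iff, not_forall] at hP
      exact hP.1)
  refine ⟨D₀ ⊔ E, le_sup_left, fun P => ?_⟩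
  refine le_trans ?_ (WithZero.exp_le_exp.2 ((le_sup_right : E ≤ D₀ ⊔ E) P))
  have hE : E P = if P.1 (a P) ≤ 1 then 0 else -P.ord (a P) := rfl
  rw [hE]
  split_ifs with h
  · simpa using h
  · have h0 : a P ≠ 0 := fun h0 => h (by rw [h0, map_zero]; exact zero_le)
    rw [v_eq_exp P h0]

lemma smul_mem_adele (hK : IsFunctionField k K) (x : K) {a : Place k K → K} (ha : a ∈ adele k K) :
    x • a ∈ adele k K := by
  rw [mem_adele] at ha ⊢
  refine (ha.union (finite_support hK x)).subset fun P hP => ?_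
  rw [Set.mem_union]
  by_contra h
  obtain ⟨h1, h2⟩ := not_or.1 h
  simp only [Set.mem_setOf_eq, not_not, Function.mem_support] at h1 h2
  apply hP
  rw [Pi.smul_apply, smul_eq_mul, map_mul]
  refine mul_le_one' ?_ h1
  rcases eq_or_ne x 0 with rfl | hx
  · rw [map_zero]; exact zero_le
  · exact (v_le_one_iff P hx).2 (by omega)

/-- If the defect is maximal, `AD D + K` is everything. -/
lemma adele_le_of_defect (hK : IsFunctionField k K) {D : Divisor k K} (hD : defect D = genus k K) :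
    adele k K ≤ AD D ⊔ LinearMap.range (diag k K) := by
  intro a ha
  obtain ⟨E, hDE, haE⟩ := exists_AD_of_adele ha D
  obtain ⟨hf, hr⟩ := qt_ADK hK hDE
  have h2 : Module.finrank k (Qt (AD D ⊔ LinearMap.range (diag k K)) (AD E ⊔ LinearMap.range (diag k K))) = 0 := by
    have := defect_eq_genus_of_le hK hD hDE
    rw [defect] at hD this
    omega
  haveI : Subsingleton (Qt (AD D ⊔ LinearMap.range (diag k K)) (AD E ⊔ LinearMap.range (diag k K))) :=
    Module.finrank_zero_iff.1 h2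
  exact (qt_mk_eq_zero (A := AD D ⊔ LinearMap.range (diag k K)) ⟨a, (Submodule.mem_sup_left haE : a ∈ AD E ⊔ LinearMap.range (diag k K))⟩).1
    (Subsingleton.elim _ _)

/-- `dim adele / (A(D) + K) = g - (deg D + 1 - ℓ(D))`. -/
lemma finrank_quot_ADK (hK : IsFunctionField k K) (D : Divisor k K) :
    FiniteDimensional k (↥(adele k K) ⧸ ADK D) ∧
      (Module.finrank k (↥(adele k K) ⧸ ADK D) : ℤ) = (genus k K : ℤ) - defect D := by
  classical
  obtain ⟨D₀, hD₀⟩ := (genus_spec hK).2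
  have hE := defect_eq_genus_of_le hK hD₀ (le_sup_right : D₀ ≤ D ⊔ D₀)
  obtain ⟨hf, hr⟩ := qt_ADK hK (le_sup_left : D ≤ D ⊔ D₀)
  have heq : AD (D ⊔ D₀) ⊔ LinearMap.range (diag k K) = adele k K :=
    le_antisymm (sup_le (AD_le_adele _) (range_diag_le_adele hK)) (adele_le_of_defect hK hE)
  rw [heq] at hf hr
  rw [defect] at hE
  exact ⟨hf, by rw [defect]; change (Module.finrank k (Qt (AD D ⊔ LinearMap.range (diag k K)) (adele k K)) : ℤ) = _; omega⟩

lemma finrank_WD (hK : IsFunctionField k K) (D : Divisor k K) :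
    FiniteDimensional k (WD D) ∧ (Module.finrank k (WD D) : ℤ) = (genus k K : ℤ) - defect D := by
  obtain ⟨hf, hr⟩ := finrank_quot_ADK hK D
  have e := (ADK D).dualQuotEquivDualAnnihilator
  haveI := hf
  refine ⟨e.finiteDimensional, ?_⟩
  rw [WD, ← e.finrank_eq, Subspace.dual_finrank_eq, hr]

lemma mem_WD {D : Divisor k K} {ω : Module.Dual k (adele k K)} :
    ω ∈ WD D ↔ ∀ a : adele k K, a.1 ∈ AD D ⊔ LinearMap.range (diag k K) → ω a = 0 :=
  Submodule.mem_dualAnnihilator ω

lemma WD_anti {D E : Divisor k K} (h : D ≤ E) : WD E ≤ WD D := fun _ hω =>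
  mem_WD.2 fun a ha => mem_WD.1 hω a (sup_le_sup (AD_mono h) le_rfl ha)

lemma deg_bound_of_mem_WD (hK : IsFunctionField k K) :
    ∃ N : ℤ, ∀ (D : Divisor k K) (ω : Module.Dual k (adele k K)), ω ≠ 0 → ω ∈ WD D → D.deg < N := by
  obtain ⟨N, hN⟩ := exists_riemann_bound hK
  refine ⟨N, fun D ω h0 hω => ?_⟩
  by_contra h
  obtain ⟨hf, hr⟩ := finrank_WD hK D
  have : Module.finrank k (WD D) = 0 := by have := hN D (by omega); omega
  rw [Submodule.finrank_eq_zero] at this
  rw [this, Submodule.mem_bot] at hω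
  exact h0 hω

open scoped Classical in
lemma AD_sup (D E : Divisor k K) : AD (D ⊔ E) = AD D ⊔ AD E := by
  classical
  refine le_antisymm (fun a ha => ?_) (sup_le (AD_mono le_sup_left) (AD_mono le_sup_right))
  refine Submodule.mem_sup.2 ⟨fun P => if E P ≤ D P then a P else 0, fun P => ?_,
    fun P => if E P ≤ D P then 0 else a P, fun P => ?_, ?_⟩
  · dsimp only
    split_ifs with h
    · have := ha P; rwa [Finsupp.sup_apply, sup_eq_left.2 h] at this
    · simp
  · dsimp only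
    split_ifs with h
    · simp
    · have := ha P; rwa [Finsupp.sup_apply, sup_eq_right.2 (le_of_not_ge h)] at this
  · funext P; simp only [Pi.add_apply]; split_ifs <;> simp

lemma WD_sup {D E : Divisor k K} {ω : Module.Dual k (adele k K)} (hD : ω ∈ WD D) (hE : ω ∈ WD E) :
    ω ∈ WD (D ⊔ E) := by
  refine mem_WD.2 fun a ha => ?_
  rw [AD_sup, sup_assoc] at ha
  obtain ⟨b, hb, c, hc, hbc⟩ := Submodule.mem_sup.1 ha
  have hb' : b ∈ adele k K := AD_le_adele D hb
  have hc' : c ∈ adele k K := by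
    have : c = a.1 - b := eq_sub_of_add_eq' hbc
    rw [this]; exact (adele k K).sub_mem a.2 hb'
  rw [show a = ⟨b, hb'⟩ + ⟨c, hc'⟩ from Subtype.ext hbc.symm, map_add,
    mem_WD.1 hD _ (Submodule.mem_sup_left hb), mem_WD.1 hE ⟨c, hc'⟩ hc, add_zero]

lemma exists_isDivOf (hK : IsFunctionField k K) {ω : Module.Dual k (adele k K)} (hω : IsWeil ω) (h0 : ω ≠ 0) :
    ∃ C : Divisor k K, IsDivOf ω C := by
  classical
  obtain ⟨N, hN⟩ := deg_bound_of_mem_WD hK
  obtain ⟨D, hD⟩ := hω
  obtain ⟨n, ⟨C, hC, hn⟩, hmax⟩ := Int.exists_greatest_of_bdd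
    (P := fun n => ∃ E : Divisor k K, ω ∈ WD E ∧ E.deg = n)
    ⟨N, fun n ⟨E, hE, hn⟩ => hn ▸ (hN E ω h0 hE).le⟩ ⟨D.deg, D, hD, rfl⟩
  refine ⟨C, fun E => ⟨fun hE => ?_, fun h => WD_anti h hC⟩⟩
  have h1 := hmax _ ⟨C ⊔ E, WD_sup hC hE, rfl⟩
  intro P
  by_contra hP
  have h2 : C + Finsupp.single P 1 ≤ C ⊔ E := fun Q => by
    rcases eq_or_ne Q P with rfl | hQ
    · simp only [Finsupp.add_apply, Finsupp.single_eq_same, Finsupp.sup_apply]
      exact le_sup_of_le_right (by omega)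
    · simp [Finsupp.single_eq_of_ne hQ]
  have h3 := deg_mono h2
  rw [deg_add, deg_single] at h3
  have := deg_pos hK P
  omega

lemma IsDivOf.unique {ω : Module.Dual k (adele k K)} {C C' : Divisor k K} (h : IsDivOf ω C)
    (h' : IsDivOf ω C') : C = C' :=
  le_antisymm ((h' C).1 ((h C).2 le_rfl)) ((h C').1 ((h' C').2 le_rfl))

lemma mulW_apply (x : K) (hx : ∀ a ∈ adele k K, x • a ∈ adele k K) (ω : Module.Dual k (adele k K))
    (a : adele k K) : mulW x hx ω a = ω ⟨x • a.1, hx _ a.2⟩ := rfl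

lemma smul_mem_AD (hK : IsFunctionField k K) {x : K} (hx : x ≠ 0) {D : Divisor k K} {a : Place k K → K}
    (ha : a ∈ AD (D + div k x)) : x • a ∈ AD D := fun P => by
  rw [Pi.smul_apply, smul_eq_mul, map_mul, v_eq_exp P hx]
  refine (mul_le_mul' le_rfl (ha P)).trans ?_
  rw [← WithZero.exp_add, WithZero.exp_le_exp, Finsupp.add_apply, div_apply hK]
  omega

lemma mulW_mem_WD {x : K} {C D : Divisor k K} (hxD : x ∈ L D)
    (hx : ∀ a ∈ adele k K, x • a ∈ adele k K) {ω : Module.Dual k (adele k K)} (hω : ω ∈ WD C) :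
    mulW x hx ω ∈ WD (C - D) := by
  refine mem_WD.2 fun a ha => ?_
  rw [mulW_apply]
  refine mem_WD.1 hω _ ?_
  obtain ⟨b, hb, _, ⟨z, rfl⟩, hbz⟩ := Submodule.mem_sup.1 ha
  refine Submodule.mem_sup.2 ⟨x • b, fun P => ?_, diag k K (x * z), LinearMap.mem_range_self _ _, ?_⟩
  · rw [Pi.smul_apply, smul_eq_mul, map_mul]
    refine (mul_le_mul' (hxD P) (hb P)).trans (le_of_eq ?_)
    rw [← WithZero.exp_add, Finsupp.sub_apply, add_sub_cancel]
  · change _ = x • a.1
    rw [← hbz, smul_add]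
    rfl

lemma mulW_isDivOf (hK : IsFunctionField k K) {x : K} (h0 : x ≠ 0)
    (hx : ∀ a ∈ adele k K, x • a ∈ adele k K) {ω : Module.Dual k (adele k K)} {C : Divisor k K}
    (hω : IsDivOf ω C) : IsDivOf (mulW x hx ω) (C + div k x) := by
  have hxL : x ∈ L (-div k x) := (mem_L_iff_ord h0).2 fun P => by simp [div_apply hK]
  have hxi : x⁻¹ ∈ L (div k x) := (mem_L_iff_ord (inv_ne_zero h0)).2 fun P => by simp [div_apply hK, ord_inv]
  intro E
  constructor
  · intro hE
    have h1 := mulW_mem_WD hxi (fun a ha => smul_mem_adele hK x⁻¹ ha) hE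
    have e : mulW x⁻¹ (fun a ha => smul_mem_adele hK x⁻¹ ha) (mulW x hx ω) = ω := by
      refine LinearMap.ext fun a => ?_
      rw [mulW_apply, mulW_apply]
      congr 1
      refine Subtype.ext ?_
      change x • x⁻¹ • a.1 = a.1
      rw [smul_smul, mul_inv_cancel₀ h0, one_smul]
    rw [e] at h1
    have h2 := (hω _).1 h1
    intro P
    have := h2 P
    simp only [Finsupp.sub_apply, Finsupp.add_apply] at this ⊢
    omega
  · intro hE
    have h1 := mulW_mem_WD hxL hx ((hω _).2 (le_refl C))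
    rw [sub_neg_eq_add] at h1
    exact WD_anti hE h1

/-- `x ↦ x ω`. -/
noncomputable def mulWLin (hK : IsFunctionField k K) (ω : Module.Dual k (adele k K)) :
    K →ₗ[k] Module.Dual k (adele k K) where
  toFun x := mulW x (fun _ ha => smul_mem_adele hK x ha) ω
  map_add' x y := by
    refine LinearMap.ext fun a => ?_
    rw [LinearMap.add_apply, mulW_apply, mulW_apply, mulW_apply, ← map_add]
    congr 1
    exact Subtype.ext (add_smul x y a.1)
  map_smul' c x := by
    refine LinearMap.ext fun a => ?_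
    rw [RingHom.id_apply, LinearMap.smul_apply, mulW_apply, mulW_apply, ← map_smul]
    congr 1
    exact Subtype.ext (smul_assoc c x a.1)

lemma mulWLin_injective (hK : IsFunctionField k K) {ω : Module.Dual k (adele k K)} (h0 : ω ≠ 0) :
    Function.Injective (mulWLin hK ω) := by
  rw [injective_iff_map_eq_zero]
  intro x hx
  by_contra hx0
  refine h0 (LinearMap.ext fun a => ?_)
  have h := LinearMap.congr_fun hx ⟨x⁻¹ • a.1, smul_mem_adele hK _ a.2⟩
  have e : (⟨x • x⁻¹ • a.1, smul_mem_adele hK x (smul_mem_adele hK _ a.2)⟩ : adele k K) = a :=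
    Subtype.ext (show x • x⁻¹ • a.1 = a.1 by rw [smul_smul, mul_inv_cancel₀ hx0, one_smul])
  rw [LinearMap.zero_apply]
  exact (congrArg ω e).symm.trans h

lemma finrank_map_mulW (hK : IsFunctionField k K) {ω : Module.Dual k (adele k K)} (h0 : ω ≠ 0) (D : Divisor k K) :
    Module.finrank k ((L D).map (mulWLin hK ω)) = ell D :=
  (Submodule.equivMapOfInjective _ (mulWLin_injective hK h0) _).finrank_eq.symm

lemma map_mulW_le (hK : IsFunctionField k K) {ω : Module.Dual k (adele k K)} {C : Divisor k K}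
    (hω : ω ∈ WD C) (D : Divisor k K) : (L D).map (mulWLin hK ω) ≤ WD (C - D) := by
  rintro _ ⟨x, hx, rfl⟩
  exact mulW_mem_WD hx (fun a ha => smul_mem_adele hK x ha) hω

lemma ell_eq_zero_of_deg_neg (hK : IsFunctionField k K) {D : Divisor k K} (h : D.deg < 0) : ell D = 0 := by
  haveI := finite_L hK D
  rw [ell, Submodule.finrank_eq_zero, eq_bot_iff]
  intro z hz
  rw [Submodule.mem_bot]
  by_contra hz0
  have h1 := deg_nonneg (le_add_div_of_mem_L hK hz0 hz)
  rw [deg_add, deg_div hK] at h1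
  omega

lemma exists_mulW_eq (hK : IsFunctionField k K) {ω₁ ω₂ : Module.Dual k (adele k K)} (h₁ : IsWeil ω₁)
    (h0 : ω₁ ≠ 0) (h₂ : IsWeil ω₂) : ∃ x : K, mulWLin hK ω₁ x = ω₂ := by
  classical
  rcases eq_or_ne ω₂ 0 with rfl | h0'
  · exact ⟨0, map_zero _⟩
  obtain ⟨C₁, hC₁⟩ := h₁
  obtain ⟨C₂, hC₂⟩ := h₂
  obtain ⟨⟨P, -⟩, N, hN⟩ : (∃ P : Place k K, True) ∧ ∃ N : ℤ, ∀ D : Divisor k K, N ≤ D.deg → defect D = genus k K := by
    obtain ⟨⟨x, hx, -⟩, -⟩ := id hK
    exact ⟨⟨(exists_zero hK hx).choose, trivial⟩, exists_riemann_bound hK⟩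
  set n : ℕ := (N - C₁.deg).toNat + (N - C₂.deg).toNat + (3 * genus k K + C₁.deg.natAbs + C₂.deg.natAbs + 3)
  set B : Divisor k K := Finsupp.single P (n : ℤ) with hB
  have hP := deg_pos hK P
  have hBdeg : B.deg = n * P.deg := deg_single P n
  have hn : (n : ℤ) ≤ B.deg := by rw [hBdeg]; exact le_mul_of_one_le_right (by positivity) (by omega)
  let U₁ := (L (C₁ + B)).map (mulWLin hK ω₁)
  let U₂ := (L (C₂ + B)).map (mulWLin hK ω₂)
  have hU₁ : U₁ ≤ WD (-B) := by simpa [U₁] using map_mulW_le hK hC₁ (C₁ + B)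
  have hU₂ : U₂ ≤ WD (-B) := by simpa [U₂] using map_mulW_le hK hC₂ (C₂ + B)
  obtain ⟨hf, hW⟩ := finrank_WD hK (-B)
  have hellB : ell (-B) = 0 := ell_eq_zero_of_deg_neg hK (by rw [deg_neg]; omega)
  have e1 := hN (C₁ + B) (by rw [deg_add]; omega)
  have e2 := hN (C₂ + B) (by rw [deg_add]; omega)
  simp only [defect, deg_add] at e1 e2
  rw [defect, deg_neg, hellB] at hW
  obtain ⟨u, hu⟩ : ∃ u, u ≠ 0 ∧ u ∈ U₁ ⊓ U₂ := by
    haveI := hf
    haveI : FiniteDimensional k U₁ := Submodule.finiteDimensional_of_le hU₁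
    haveI : FiniteDimensional k U₂ := Submodule.finiteDimensional_of_le hU₂
    by_contra hne
    push Not at hne
    have hb : U₁ ⊓ U₂ = ⊥ := by
      rw [eq_bot_iff]; intro u hu; rw [Submodule.mem_bot]; by_contra h; exact hne u h hu
    have h1 := Submodule.finrank_sup_add_finrank_inf_eq U₁ U₂
    rw [hb, finrank_bot] at h1
    have h2 := Submodule.finrank_mono (sup_le hU₁ hU₂)
    simp only [U₁, U₂, finrank_map_mulW hK h0, finrank_map_mulW hK h0'] at h1 h2
    omega
  obtain ⟨hu0, ⟨x, -, hx⟩, ⟨y, -, hy⟩⟩ := hu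
  have hy0 : y ≠ 0 := fun h => hu0 (by rw [← hy, h, map_zero])
  refine ⟨x * y⁻¹, LinearMap.ext fun a => ?_⟩
  have h := LinearMap.congr_fun (hx.trans hy.symm) ⟨y⁻¹ • a.1, smul_mem_adele hK _ a.2⟩
  change ω₁ _ = ω₂ _ at h
  change ω₁ _ = ω₂ a
  refine (congrArg ω₁ (Subtype.ext ?_)).trans (h.trans (congrArg ω₂ (Subtype.ext ?_)))
  · exact mul_smul x y⁻¹ a.1
  · change y • y⁻¹ • a.1 = a.1
    rw [smul_smul, mul_inv_cancel₀ hy0, one_smul]

/-- Duality: `W(D) = L(C - D) ω`. -/
lemma map_L_eq_WD (hK : IsFunctionField k K) {ω : Module.Dual k (adele k K)} {C : Divisor k K}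
    (h0 : ω ≠ 0) (hω : IsDivOf ω C) (D : Divisor k K) : (L (C - D)).map (mulWLin hK ω) = WD D := by
  refine le_antisymm (by simpa using map_mulW_le hK ((hω C).2 le_rfl) (C - D)) fun ω' hω' => ?_
  rcases eq_or_ne ω' 0 with rfl | h0'
  · exact Submodule.zero_mem _
  obtain ⟨x, hx⟩ := exists_mulW_eq hK ⟨C, (hω C).2 le_rfl⟩ h0 ⟨D, hω'⟩
  have hx0 : x ≠ 0 := fun h => h0' (by rw [← hx, h, map_zero])
  refine ⟨x, (mem_L_iff_ord hx0).2 fun P => ?_, hx⟩
  have := ((mulW_isDivOf hK hx0 (fun a ha => smul_mem_adele hK x ha) hω) D).1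
    (show mulWLin hK ω x ∈ WD D from hx.symm ▸ hω') P
  simp only [Finsupp.add_apply, div_apply hK, Finsupp.sub_apply] at this ⊢
  omega

lemma riemann_roch (hK : IsFunctionField k K) {C : Divisor k K} (hC : IsCanonical k K C) (D : Divisor k K) :
    (ell D : ℤ) = D.deg + 1 - genus k K + ell (C - D) := by
  obtain ⟨ω, h0, hω⟩ := hC
  obtain ⟨hf, hr⟩ := finrank_WD hK D
  rw [← map_L_eq_WD hK h0 hω, finrank_map_mulW hK h0, defect] at hr
  omega

lemma exists_canonical (hK : IsFunctionField k K) : ∃ C : Divisor k K, IsCanonical k K C := by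
  classical
  obtain ⟨⟨x, hx, -⟩, -⟩ := id hK
  obtain ⟨P, -⟩ := exists_zero hK hx
  obtain ⟨N, hN⟩ := exists_riemann_bound hK
  set D : Divisor k K := -Finsupp.single P 2 with hD
  obtain ⟨hf, hr⟩ := finrank_WD hK D
  have hP := deg_pos hK P
  have hell : ell D = 0 := ell_eq_zero_of_deg_neg hK (by rw [hD, deg_neg, deg_single]; omega)
  rw [defect, hell, hD, deg_neg, deg_single] at hr
  obtain ⟨ω, hω, h0⟩ := Submodule.exists_mem_ne_zero_of_ne_bot (p := WD D) fun h => by
    rw [← hD, h, finrank_bot] at hr; omega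
  obtain ⟨C, hC⟩ := exists_isDivOf hK ⟨D, hω⟩ h0
  exact ⟨C, ω, h0, hC⟩

lemma canonical_deg (hK : IsFunctionField k K) {C : Divisor k K} (hC : IsCanonical k K C) :
    ell C = genus k K ∧ C.deg = 2 * genus k K - 2 := by
  have h1 := riemann_roch hK hC 0
  rw [deg_zero, ell_zero hK, sub_zero] at h1
  have h2 := riemann_roch hK hC C
  rw [sub_self, ell_zero hK] at h2
  omega

lemma ell_of_deg_large (hK : IsFunctionField k K) {D : Divisor k K} (h : 2 * (genus k K : ℤ) - 1 ≤ D.deg) :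
    (ell D : ℤ) = D.deg + 1 - genus k K := by
  obtain ⟨C, hC⟩ := exists_canonical hK
  have h1 := riemann_roch hK hC D
  rw [ell_eq_zero_of_deg_neg hK (D := C - D) (by rw [deg_sub, (canonical_deg hK hC).2]; omega)] at h1
  omega

end adele

end Groth.Agent.FF
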