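import Groth.Agent.FF.GenusZero

/-! Orders at a place, Clifford's inequality and gaps. -/

namespace Groth.Agent.FF

open FunFld
open scoped WithZero Pointwise

variable {k K : Type*} [Field k] [IsAlgClosed k] [Field K] [Algebra k K]

/-- A finite dimensional subspace of some `L D` has a family of pairwise distinct orders at `P`. -/
lemma exists_ord_family (hK : IsFunctionField k K) {W : Submodule k K} {D : Divisor k K} (hW : W ≤ L D)
    (P : Place k K) :
    ∃ p : Fin (Module.finrank k W) → K, (∀ i, p i ∈ W ∧ p i ≠ 0) ∧ Function.Injective fun i => P.ord (p i) := by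
  classical
  haveI := finite_of_le_L hK hW
  obtain ⟨m, a, p, hm, hli, hp, hinj, -⟩ := exists_adapted (D.deg + 1).toNat
    (fun n : ℕ => L (D - Finsupp.single P (n : ℤ))) W inferInstance
    (fun n => by simpa using finrank_inf_single_step hK W D P n)
    (fun a b h => L_mono (sub_le_sub_left (Finsupp.single_mono (by omega)) D)) (by simpa using hW)
    (Submodule.finrank_eq_zero.1 (by
      haveI := finite_vd hK W D P ((D.deg + 1).toNat : ℤ)
      exact vd_eq_zero hK P (by omega)))
  subst hm
  refine ⟨p, fun i => ⟨(hp i).1, hli.ne_zero i⟩, fun i j h => hinj ?_⟩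
  have key : ∀ i, P.ord (p i) = (a i : ℤ) - D P := fun i => by
    obtain ⟨-, ho⟩ := ord_eq_of_not_mem_L (P := P) (hp i).2.1 (by
      rw [sub_sub, ← Finsupp.single_add]; exact_mod_cast (hp i).2.2)
    rw [ho, Finsupp.sub_apply, Finsupp.single_eq_same]; ring
  have h' : P.ord (p i) = P.ord (p j) := h
  rw [key, key] at h'
  omega

/-- Hopf's lemma. -/
lemma finrank_mul_ge (hK : IsFunctionField k K) {A B : Submodule k K} {D E G : Divisor k K} (hA : A ≤ L D) (hB : B ≤ L E)
    (hA0 : 0 < Module.finrank k A) (hB0 : 0 < Module.finrank k B)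
    (hmul : ∀ a ∈ A, ∀ b ∈ B, a * b ∈ L G) :
    Module.finrank k A + Module.finrank k B ≤ ell G + 1 := by
  classical
  obtain ⟨P, -⟩ := exists_zero hK (id hK).1.choose_spec.1
  obtain ⟨p, hp, hpi⟩ := exists_ord_family hK hA P
  obtain ⟨q, hq, hqi⟩ := exists_ord_family hK hB P
  haveI : Nonempty (Fin (Module.finrank k A)) := ⟨⟨0, hA0⟩⟩
  haveI : Nonempty (Fin (Module.finrank k B)) := ⟨⟨0, hB0⟩⟩
  let SA := Finset.univ.image fun i => P.ord (p i)
  let SB := Finset.univ.image fun i => P.ord (q i)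
  have hex : ∀ s : (SA + SB : Finset ℤ), ∃ x, x ≠ 0 ∧ x ∈ L G ∧ P.ord x = (s : ℤ) := fun s => by
    obtain ⟨a, ha, b, hb, hab⟩ := Finset.mem_add.1 s.2
    obtain ⟨i, -, rfl⟩ := Finset.mem_image.1 ha
    obtain ⟨j, -, rfl⟩ := Finset.mem_image.1 hb
    exact ⟨p i * q j, mul_ne_zero (hp i).2 (hq j).2, hmul _ (hp i).1 _ (hq j).1,
      by rw [ord_mul P (hp i).2 (hq j).2]; exact hab⟩
  choose x hx0 hxG hxo using hex
  haveI := finite_L hK G
  have hli : LinearIndependent k (fun s => (⟨x s, hxG s⟩ : L G)) :=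
    LinearIndependent.of_comp (L G).subtype (linearIndependent_of_ord P _ hx0 fun s t h => by
      apply Subtype.ext; simpa [hxo] using h)
  have h1 := hli.fintype_card_le_finrank
  rw [Fintype.card_coe] at h1
  have h2 := cauchy_davenport_add_of_linearOrder_isCancelAdd (s := SA) (t := SB) (Finset.univ_nonempty.image _) (Finset.univ_nonempty.image _)
  rw [Finset.card_image_of_injective _ hpi, Finset.card_image_of_injective _ hqi, Finset.card_univ, Finset.card_univ,
    Fintype.card_fin, Fintype.card_fin] at h2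
  simp only [ell]
  omega

/-- Clifford's inequality. -/
lemma clifford (hK : IsFunctionField k K) {D : Divisor k K} (h0 : 0 ≤ D.deg) (h : D.deg ≤ 2 * (genus k K : ℤ)) :
    2 * (ell D : ℤ) ≤ D.deg + 2 := by
  obtain ⟨C, hC⟩ := exists_canonical hK
  have hrr := riemann_roch hK hC D
  rcases Nat.eq_zero_or_pos (ell (C - D)) with hz | hz
  · omega
  rcases Nat.eq_zero_or_pos (ell D) with hz' | hz'
  · omega
  have := finrank_mul_ge hK (A := L D) (B := L (C - D)) (G := C) le_rfl le_rfl hz' hz
    fun a ha b hb => by simpa using mul_mem_L ha hb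
  have := (canonical_deg hK hC).1
  simp only [ell] at *
  omega

omit [IsAlgClosed k] in
/-- `n` is a gap at `P`. -/
lemma gap_iff (hK : IsFunctionField k K) (P : Place k K) (n : ℤ) :
    L (Finsupp.single P n : Divisor k K) = L (Finsupp.single P (n - 1)) ↔
      ¬ ∃ x, x ≠ 0 ∧ x ∈ L (Finsupp.single P n : Divisor k K) ∧ P.ord x = -n := by
  classical
  constructor
  · rintro h ⟨x, h0, hx, ho⟩
    rw [h] at hx
    have := (mem_L_iff_ord h0).1 hx P
    rw [Finsupp.single_eq_same] at this
    omega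
  · intro h
    refine le_antisymm (fun x hx => ?_) (L_mono (Finsupp.single_mono (by omega)))
    by_contra hx'
    obtain ⟨h0, ho⟩ := ord_eq_of_not_mem_L (P := P) hx (by rwa [← Finsupp.single_sub])
    exact h ⟨x, h0, hx, by simpa using ho⟩

omit [IsAlgClosed k] in
lemma nongap_add (hK : IsFunctionField k K) (P : Place k K) {m n : ℤ}
    (hm : L (Finsupp.single P m : Divisor k K) ≠ L (Finsupp.single P (m - 1)))
    (hn : L (Finsupp.single P n : Divisor k K) ≠ L (Finsupp.single P (n - 1))) :
    L (Finsupp.single P (m + n) : Divisor k K) ≠ L (Finsupp.single P (m + n - 1)) := by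
  rw [Ne, gap_iff hK, not_not] at hm hn ⊢
  obtain ⟨x, hx0, hx, hxo⟩ := hm
  obtain ⟨y, hy0, hy, hyo⟩ := hn
  refine ⟨x * y, mul_ne_zero hx0 hy0, ?_, by rw [ord_mul P hx0 hy0]; omega⟩
  rw [Finsupp.single_add]; exact mul_mem_L hx hy

/-- The composite of a place with an automorphism. -/
def comapPlace (σ : K ≃ₐ[k] K) (P : Place k K) : Place k K :=
  ⟨P.1.comap (σ : K →+* K), fun c => by
    change P.1 (σ (algebraMap k K c)) ≤ 1
    rw [σ.commutes]; exact P.2.1 c, fun z => by
    obtain ⟨x, hx⟩ := P.2.2 z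
    exact ⟨σ.symm x, by change P.1 (σ (σ.symm x)) = z; rw [σ.apply_symm_apply, hx]⟩⟩

omit [IsAlgClosed k] in
@[simp] lemma comapPlace_apply (σ : K ≃ₐ[k] K) (P : Place k K) (x : K) : (comapPlace σ P).1 x = P.1 (σ x) := rfl

lemma infinite_places (hK : IsFunctionField k K) : Infinite (Place k K) := by
  haveI : Infinite k := IsAlgClosed.instInfinite
  obtain ⟨⟨x, hx, -⟩, -⟩ := id hK
  have htr : ∀ c : k, Transcendental k (x - algebraMap k K c) := fun c h =>
    hx (by simpa using h.add (isAlgebraic_algebraMap c))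
  choose Z hZ using fun c => exists_zero hK (htr c)
  refine Infinite.of_injective Z fun a b hab => ?_
  by_contra hne
  have h1 := hZ a
  have h2 := hZ b
  rw [← hab] at h2
  have h3 := ((Z a).1.map_sub _ _).trans_lt (max_lt h2 h1)
  rw [sub_sub_sub_cancel_left, ← map_sub, v_algebraMap (Z a) (sub_ne_zero.2 hne)] at h3
  exact lt_irrefl _ h3

end Groth.Agent.FF
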