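import Groth.Agent.FF.Misc
import Groth.Prelude.Def_W4bk4goldsch45

/-! Function fields over an algebraically closed constant field. -/

namespace Groth.Agent.FF

open FunFld
open scoped WithZero IntermediateField

variable {k K : Type*} [Field k] [Field K] [Algebra k K]

section AlgClosed

variable [IsAlgClosed k]

omit [Algebra k K] in
lemma bijective_of_finite (F : Type*) [Field F] [Algebra k F] (h : FiniteDimensional k F) :
    Function.Bijective (algebraMap k F) :=
  haveI := h
  IsAlgClosed.algebraMap_bijective_of_isIntegral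

lemma residue_bijective (hK : IsFunctionField k K) (P : Place k K) :
    Function.Bijective (algebraMap k (IsLocalRing.ResidueField P.O)) := by
  exact bijective_of_finite (IsLocalRing.ResidueField P.O) (finite_residue hK P)

lemma deg_eq_one (hK : IsFunctionField k K) (P : Place k K) : P.deg = 1 := by
  have e := (LinearEquiv.ofBijective (Algebra.linearMap k (IsLocalRing.ResidueField P.O))
    (residue_bijective hK P)).finrank_eq
  rw [Module.finrank_self] at e
  exact e.symm

lemma deg_single_ac (hK : IsFunctionField k K) (P : Place k K) (n : ℤ) :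
    Divisor.deg (Finsupp.single P n : Divisor k K) = n := by
  rw [deg_single, deg_eq_one hK P]; simp

lemma deg_sub_single (hK : IsFunctionField k K) (D : Divisor k K) (P : Place k K) (n : ℤ) :
    (D - Finsupp.single P n).deg = D.deg - n := by rw [deg_sub, deg_single_ac hK]

/-- An element integral at `P` is congruent to a constant modulo the maximal ideal. -/
lemma exists_const (hK : IsFunctionField k K) (P : Place k K) {z : K} (hz : P.1 z ≤ 1) :
    ∃ c : k, P.1 (z - algebraMap k K c) < 1 := by
  obtain ⟨c, hc⟩ := (residue_bijective hK P).2 (IsLocalRing.residue P.O ⟨z, hz⟩)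
  refine ⟨c, ?_⟩
  have h : IsLocalRing.residue P.O (⟨z, hz⟩ - algebraMap k P.O c) = 0 := by
    rw [map_sub, ← hc]; exact sub_self _
  exact (residue_eq_zero_iff _).1 h

/-- A condition at one place cuts the dimension by at most one. -/
lemma finrank_inf_step (hK : IsFunctionField k K) {W : Submodule k K} {E : Divisor k K} (hW : W ≤ L E)
    (P : Place k K) :
    Module.finrank k W ≤ Module.finrank k ↥(W ⊓ L (E - Finsupp.single P 1)) + 1 := by
  classical
  haveI := finite_L hK E
  haveI : FiniteDimensional k W := Submodule.finiteDimensional_of_le hW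
  by_cases hle : W ≤ L (E - Finsupp.single P 1)
  · rw [inf_eq_left.2 hle]; omega
  obtain ⟨x, hx, hx'⟩ := SetLike.not_le_iff_exists.1 hle
  obtain ⟨hx0, hxo⟩ := ord_eq_of_not_mem_L (hW hx) hx'
  have hsup : W ≤ (W ⊓ L (E - Finsupp.single P 1)) ⊔ Submodule.span k {x} := by
    intro y hy
    have hyx : P.1 (y / x) ≤ 1 := by
      rw [map_div₀, div_le_one₀ (zero_lt_iff.2 ((Valuation.ne_zero_iff _).2 hx0)), v_eq_exp P hx0, hxo, neg_neg]
      exact hW hy P
    obtain ⟨c, hc⟩ := exists_const hK P hyx
    have hmem : y - c • x ∈ W ⊓ L (E - Finsupp.single P 1) := by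
      refine ⟨W.sub_mem hy (W.smul_mem c hx), fun Q => ?_⟩
      rcases eq_or_ne Q P with rfl | hQ
      · have e : y - c • x = (y / x - algebraMap k K c) * x := by rw [Algebra.smul_def]; field_simp
        rw [e, map_mul, v_eq_exp Q hx0, hxo, neg_neg, Finsupp.sub_apply, Finsupp.single_eq_same]
        by_cases h0 : y / x - algebraMap k K c = 0
        · simp [h0]
        · rw [v_eq_exp Q h0, ← WithZero.exp_add, WithZero.exp_le_exp]
          have := (v_lt_one_iff Q h0).1 hc
          omega
      · rw [Finsupp.sub_apply, Finsupp.single_eq_of_ne hQ, sub_zero]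
        exact hW (W.sub_mem hy (W.smul_mem c hx)) Q
    rw [← sub_add_cancel y (c • x)]
    exact Submodule.add_mem_sup hmem (Submodule.smul_mem _ c (Submodule.mem_span_singleton_self x))
  haveI : FiniteDimensional k ↥(W ⊓ L (E - Finsupp.single P 1)) := Submodule.finiteDimensional_of_le inf_le_left
  have h1 := Submodule.finrank_mono hsup
  have h2 := Submodule.finrank_add_le_finrank_add_finrank (W ⊓ L (E - Finsupp.single P 1)) (Submodule.span k {x})
  have h3 := (finrank_span_le_card (R := k) ({x} : Set K)).trans_eq (by simp : ({x} : Set K).toFinset.card = 1)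
  omega

lemma finrank_inf_single_step (hK : IsFunctionField k K) (W : Submodule k K) (D : Divisor k K) (P : Place k K)
    (n : ℤ) :
    Module.finrank k ↥(W ⊓ L (D - Finsupp.single P n)) ≤
      Module.finrank k ↥(W ⊓ L (D - Finsupp.single P (n + 1))) + 1 := by
  have h := finrank_inf_step hK (W := W ⊓ L (D - Finsupp.single P n)) (E := D - Finsupp.single P n) inf_le_right P
  rw [inf_assoc, sub_sub, ← Finsupp.single_add,
    inf_eq_right.2 (L_mono (sub_le_sub_left (Finsupp.single_mono (by omega : n ≤ n + 1)) D))] at h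
  exact h

lemma exists_place_ne (hK : IsFunctionField k K) (P : Place k K) : ∃ Q : Place k K, Q ≠ P := by
  obtain ⟨⟨x, hx, -⟩, -⟩ := id hK
  obtain ⟨A, hA⟩ := exists_zero hK hx
  obtain ⟨B, hB⟩ := exists_zero hK (x := x⁻¹) fun h => hx (by simpa using h.inv)
  by_cases h : A = P
  · refine ⟨B, fun hBP => ?_⟩
    rw [hBP, map_inv₀] at hB; rw [h] at hA
    exact absurd hB (not_lt.2 ((one_le_inv₀ (zero_lt_iff.2 ((Valuation.ne_zero_iff _).2 (fun h0 => hx (h0 ▸ isAlgebraic_zero) : x ≠ 0)))).2 hA.le))
  · exact ⟨A, h⟩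

end AlgClosed

section MapDiv

lemma mapDiv_apply_inf (hK : IsFunctionField k K) {ι : Type*} [Fintype ι] [Nonempty ι] (φ : ι → K) (P : Place k K) :
    mapDiv k φ P = -Finset.univ.inf' Finset.univ_nonempty (fun i => P.ord (φ i)) := by
  classical
  rw [mapDiv, dif_pos]
  · rfl
  · refine (Set.finite_iUnion fun i => finite_support hK (φ i)).subset fun Q hQ => ?_
    obtain ⟨i, -, hi⟩ := Finset.exists_mem_eq_inf' Finset.univ_nonempty (fun i => Q.ord (φ i))
    refine Set.mem_iUnion.2 ⟨i, ?_⟩
    simp only [Function.mem_support, hi, ne_eq, neg_eq_zero] at hQ ⊢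
    exact hQ

lemma exists_max (P : Place k K) {ι : Type*} [Finite ι] [Nonempty ι] (φ : ι → K) :
    ∃ j, ∀ i, P.1 (φ i) ≤ P.1 (φ j) :=
  Finite.exists_max fun i => P.1 (φ i)

lemma mapDiv_apply_of_max (hK : IsFunctionField k K) {ι : Type*} [Fintype ι] [Nonempty ι] {φ : ι → K}
    (h0 : ∀ i, φ i ≠ 0) {P : Place k K} {j : ι} (hj : ∀ i, P.1 (φ i) ≤ P.1 (φ j)) :
    mapDiv k φ P = -P.ord (φ j) := by
  rw [mapDiv_apply_inf hK]
  congr 1
  refine le_antisymm (Finset.inf'_le _ (Finset.mem_univ j)) (Finset.le_inf' _ _ fun i _ => ?_)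
  have := hj i
  rw [v_eq_exp P (h0 i), v_eq_exp P (h0 j), WithZero.exp_le_exp] at this
  omega

lemma exp_mapDiv (hK : IsFunctionField k K) {ι : Type*} [Fintype ι] [Nonempty ι] {φ : ι → K}
    (h0 : ∀ i, φ i ≠ 0) {P : Place k K} {j : ι} (hj : ∀ i, P.1 (φ i) ≤ P.1 (φ j)) :
    WithZero.exp (mapDiv k φ P) = P.1 (φ j) := by
  rw [mapDiv_apply_of_max hK h0 hj, v_eq_exp P (h0 j)]

lemma span_le_L_mapDiv (hK : IsFunctionField k K) {ι : Type*} [Fintype ι] [Nonempty ι] {φ : ι → K}
    (h0 : ∀ i, φ i ≠ 0) : Submodule.span k (Set.range φ) ≤ L (mapDiv k φ) := by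
  rw [Submodule.span_le]
  rintro _ ⟨i, rfl⟩ P
  obtain ⟨j, hj⟩ := exists_max P φ
  rw [exp_mapDiv hK h0 hj]
  exact hj i

end MapDiv

end Groth.Agent.FF
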