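import Groth.Agent.FF.Ext
import Groth.Agent.FF.AlgClosed

/-! The conorm of divisors in a finite extension. -/

set_option linter.style.haveILetI false

namespace Groth.Agent.FF

open FunFld
open scoped WithZero IntermediateField

variable {k K K' : Type*} [Field k] [Field K] [Field K'] [Algebra k K] [Algebra K K'] [Algebra k K']
  [IsScalarTower k K K'] [FiniteDimensional K K'] (hK : IsFunctionField k K)

include hK

lemma conorm_add (D E : Divisor k K) : conorm K' (D + E) = conorm K' D + conorm K' E := by
  classical
  rw [conorm, conorm, conorm]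
  exact Finsupp.sum_add_index' (fun P => zero_smul ℤ _) (fun P a b => add_smul a b _)

lemma conorm_apply (D : Divisor k K) {Q : Place k K'} {P : Place k K} (h : IsOver Q P) :
    conorm K' D Q = ramIdx Q P * D P := by
  classical
  rw [conorm, Finsupp.sum_apply]
  rw [Finsupp.sum, Finset.sum_eq_single P]
  · rw [dif_pos (finite_over_and_sum hK P).1, Finsupp.smul_apply, Finsupp.finsetSum_apply,
      Finset.sum_eq_single Q]
    · simp [mul_comm]
    · intro Q₂ _ hne; simp [Finsupp.single_eq_of_ne (Ne.symm hne)]
    · intro hQ; exact absurd ((Set.Finite.mem_toFinset (finite_over_and_sum hK P).1).2 (show Q ∈ {Q : Place k K' | IsOver Q P} from h)) hQ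
  · intro P₂ _ hne
    rw [dif_pos (finite_over_and_sum hK P₂).1, Finsupp.smul_apply, Finsupp.finsetSum_apply,
      Finset.sum_eq_zero, smul_zero]
    intro Q₂ hQ₂
    rw [Set.Finite.mem_toFinset] at hQ₂
    have hne' : Q₂ ≠ Q := fun e => hne (place_below_unique (e ▸ hQ₂) h)
    simp [Finsupp.single_eq_of_ne (Ne.symm hne')]
  · intro hP
    rw [Finsupp.notMem_support_iff] at hP
    simp [hP]

lemma finite_support_ext (z : K') : (Function.support fun Q : Place k K' => Q.ord z).Finite := by
  haveI := finite_constField (K' := K') hK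
  have h := finite_support (isFunctionField_constField (K' := K') hK) z
  exact (h.preimage (placeEquiv k K' (algebraicClosure k K')).injective.injOn).subset fun Q hQ => hQ

lemma div_apply_ext (z : K') (Q : Place k K') : div k z Q = Q.ord z := by
  classical
  rw [div, dif_pos (finite_support_ext hK z)]
  rfl

lemma div_eq_conorm (x : K) : div k (algebraMap K K' x) = conorm K' (div k x) := by
  ext Q
  obtain ⟨P, hP⟩ := exists_isOver hK Q
  rw [div_apply_ext hK, conorm_apply hK _ hP, div_apply hK, ord_of_isOverWith (isOverWith_ramIdx hP)]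

lemma deg_conorm (D : Divisor k K) : (conorm K' D).deg = Module.finrank K K' * D.deg := by
  classical
  induction D using Finsupp.induction_linear with
  | zero => simp [conorm, Divisor.deg]
  | add D E hD hE => rw [conorm_add hK, deg_add, deg_add, hD, hE, mul_add]
  | single P n =>
    rw [deg_single]
    obtain ⟨hfin, hsum⟩ := finite_over_and_sum (K' := K') hK P
    have h := hsum hfin.toFinset fun Q => hfin.mem_toFinset
    rw [conorm, Finsupp.sum_single_index (by simp), dif_pos hfin, deg_smul]
    have e : ∀ S : Finset (Place k K'), Divisor.deg (∑ Q ∈ S, (ramIdx Q P : ℤ) • Finsupp.single Q 1) =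
        ∑ Q ∈ S, (ramIdx Q P : ℤ) * Q.deg := by
      intro S
      induction S using Finset.induction with
      | empty => simp [Divisor.deg]
      | insert Q S hQ ih => rw [Finset.sum_insert hQ, Finset.sum_insert hQ, deg_add, ih, deg_smul, deg_single, one_mul]
    rw [e]
    have h' : (∑ Q ∈ hfin.toFinset, (ramIdx Q P : ℤ) * Q.deg) = (Module.finrank K K' * P.deg : ℕ) := by
      rw [← h]; push_cast; rfl
    rw [h']; push_cast; ring

lemma mapDiv_eq_conorm {ι : Type*} [Fintype ι] [Nonempty ι] (φ : ι → K)
    (hK' : IsFunctionField k K') :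
    mapDiv k (fun i => algebraMap K K' (φ i)) = conorm K' (mapDiv k φ) := by
  ext Q
  obtain ⟨P, hP⟩ := exists_isOver hK Q
  rw [conorm_apply hK _ hP, mapDiv_apply_inf hK', mapDiv_apply_inf hK, mul_neg, neg_inj]
  simp only [ord_of_isOverWith (isOverWith_ramIdx hP)]
  have hmono : Monotone fun n : ℤ => (ramIdx Q P : ℤ) * n := fun a b h =>
    mul_le_mul_of_nonneg_left h (Int.natCast_nonneg _)
  exact (Finset.apply_inf'_eq_inf'_comp Finset.univ_nonempty (g := fun n : ℤ => (ramIdx Q P : ℤ) * n)
    (fun a b => hmono.map_min)).symm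

end Groth.Agent.FF
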