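import Groth.Agent.FF.RR

/-! Consequences of Riemann-Roch: effective divisors of small degree, exact orders, strong approximation. -/

namespace Groth.Agent.FF

open FunFld
open scoped WithZero IntermediateField

variable {k K : Type*} [Field k] [Field K] [Algebra k K]

lemma eq_zero_of_nonneg_of_deg (hK : IsFunctionField k K) {E : Divisor k K} (h : 0 ≤ E) (hd : E.deg ≤ 0) :
    E = 0 := by
  classical
  by_contra hne
  obtain ⟨P, hP⟩ := Finsupp.ne_iff.1 hne
  have hP' : (1 : ℤ) ≤ E P := by
    have := h P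
    simp only [Finsupp.coe_zero, Pi.zero_apply] at this hP
    omega
  have hle : Finsupp.single P 1 ≤ E := fun Q => by
    rcases eq_or_ne Q P with rfl | hQ
    · simpa using hP'
    · simpa [Finsupp.single_eq_of_ne hQ] using h Q
  have := deg_mono hle
  rw [deg_single] at this
  have := deg_pos hK P
  omega

lemma exists_eq_single_of_deg_one (hK : IsFunctionField k K) {E : Divisor k K} (h : 0 ≤ E) (hd : E.deg = 1) :
    ∃ P : Place k K, P.deg = 1 ∧ E = Finsupp.single P 1 := by
  classical
  have hne : E ≠ 0 := fun h0 => by rw [h0, deg_zero] at hd; exact absurd hd (by norm_num)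
  obtain ⟨P, hP⟩ := Finsupp.ne_iff.1 hne
  have hP' : (1 : ℤ) ≤ E P := by
    have := h P
    simp only [Finsupp.coe_zero, Pi.zero_apply] at this hP
    omega
  have hle : 0 ≤ E - Finsupp.single P 1 := fun Q => by
    rcases eq_or_ne Q P with rfl | hQ
    · simpa using hP'
    · simpa [Finsupp.single_eq_of_ne hQ] using h Q
  have h1 := deg_nonneg hle
  rw [deg_sub, deg_single, hd] at h1
  have h2 := deg_pos hK P
  have h3 : P.deg = 1 := by omega
  refine ⟨P, h3, sub_eq_zero.1 (eq_zero_of_nonneg_of_deg hK hle ?_)⟩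
  rw [deg_sub, deg_single, hd, h3]; norm_num

/-- An element of `L D` not in `L (D - P)` has order exactly `-D P` at `P`. -/
lemma ord_eq_of_not_mem_L {D : Divisor k K} {P : Place k K} {x : K} (hx : x ∈ L D)
    (hx' : x ∉ L (D - Finsupp.single P 1)) : x ≠ 0 ∧ P.ord x = -D P := by
  classical
  have h0 : x ≠ 0 := fun h => hx' (h ▸ Submodule.zero_mem _)
  refine ⟨h0, ?_⟩
  have h1 := (mem_L_iff_ord h0).1 hx P
  by_contra hne
  refine hx' ((mem_L_iff_ord h0).2 fun Q => ?_)
  rcases eq_or_ne Q P with rfl | hQ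
  · simp only [Finsupp.sub_apply, Finsupp.single_eq_same]; omega
  · simpa [Finsupp.single_eq_of_ne hQ] using (mem_L_iff_ord h0).1 hx Q

lemma exists_mem_L_ord {D : Divisor k K} {P : Place k K} (h : ell (D - Finsupp.single P 1) < ell D) :
    ∃ x : K, x ≠ 0 ∧ x ∈ L D ∧ P.ord x = -D P := by
  by_cases hle : L D ≤ L (D - Finsupp.single P 1)
  · exact absurd (congrArg (fun M : Submodule k K => Module.finrank k M)
      (le_antisymm hle (L_mono (sub_le_self D (Finsupp.single_nonneg.2 zero_le_one)))))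
      (by simp only [ell] at h; omega)
  · obtain ⟨x, hx, hx'⟩ := SetLike.not_le_iff_exists.1 hle
    obtain ⟨h0, ho⟩ := ord_eq_of_not_mem_L hx hx'
    exact ⟨x, h0, hx, ho⟩

/-- Nonzero elements of pairwise distinct orders at a place are linearly independent. -/
lemma linearIndependent_of_ord {ι : Type*} (P : Place k K) (f : ι → K) (h0 : ∀ i, f i ≠ 0)
    (hinj : Function.Injective fun i => P.ord (f i)) : LinearIndependent k f := by
  classical
  rw [linearIndependent_iff']
  intro s c hs i hi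
  by_contra hci
  obtain ⟨j, hj, hmin⟩ := (s.filter fun i => c i ≠ 0).exists_min_image (fun i => P.ord (f i))
    ⟨i, Finset.mem_filter.2 ⟨hi, hci⟩⟩
  obtain ⟨hjs, hjc⟩ := Finset.mem_filter.1 hj
  have hv : P.1 (c j • f j) = P.1 (f j) := by
    rw [Algebra.smul_def, map_mul, v_algebraMap P hjc, one_mul]
  have hlt : P.1 (∑ i ∈ s.erase j, c i • f i) < P.1 (c j • f j) := by
    refine Valuation.map_sum_lt _ (by rw [hv]; exact (Valuation.ne_zero_iff _).2 (h0 j)) fun l hl => ?_
    obtain ⟨hlj, hls⟩ := Finset.mem_erase.1 hl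
    rw [hv]
    rcases eq_or_ne (c l) 0 with hcl | hcl
    · simp only [hcl, zero_smul, map_zero]; exact zero_lt_iff.2 ((Valuation.ne_zero_iff _).2 (h0 j))
    · refine (v_smul_le P _ _).trans_lt ?_
      rw [v_eq_exp P (h0 l), v_eq_exp P (h0 j), WithZero.exp_lt_exp]
      have := hmin l (Finset.mem_filter.2 ⟨hls, hcl⟩)
      have : P.ord (f l) ≠ P.ord (f j) := fun e => hlj (hinj e)
      omega
  have := Valuation.map_add_eq_of_lt_left _ hlt
  rw [Finset.add_sum_erase _ (fun i => c i • f i) hjs, hs, map_zero, hv] at this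
  exact (Valuation.ne_zero_iff _).2 (h0 j) this.symm

/-- Strong approximation: prescribed approximations on a finite set, integral elsewhere off `Pinf`. -/
lemma strong_approx (hK : IsFunctionField k K) (Pinf : Place k K) (S : Finset (Place k K)) (hS : Pinf ∉ S)
    (x : Place k K → K) (m : Place k K → ℤ) :
    ∃ y : K, (∀ Q ∈ S, Q.1 (y - x Q) ≤ WithZero.exp (m Q)) ∧ ∀ Q, Q ≠ Pinf → Q ∉ S → Q.1 y ≤ 1 := by
  classical
  obtain ⟨N, hN⟩ := exists_riemann_bound hK
  let M : Divisor k K := ∑ Q ∈ S, Finsupp.single Q (m Q)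
  set D : Divisor k K := Finsupp.single Pinf (((N - M.deg).natAbs : ℕ) : ℤ) + M with hD
  have hMP : ∀ Q ∈ S, M Q = m Q := fun Q hQ => by
    simp only [M, Finsupp.finsetSum_apply]
    rw [Finset.sum_eq_single Q (fun j _ hj => Finsupp.single_eq_of_ne (Ne.symm hj)) (fun h => absurd hQ h),
      Finsupp.single_eq_same]
  have hMQ : ∀ Q ∉ S, M Q = 0 := fun Q hQ => by
    simp only [M, Finsupp.finsetSum_apply]
    exact Finset.sum_eq_zero fun j hj => Finsupp.single_eq_of_ne fun h => hQ (h ▸ hj)
  have hdeg : N ≤ D.deg := by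
    rw [hD, deg_add, deg_single]
    have h1 := deg_pos hK Pinf
    have h2 : ((N - M.deg).natAbs : ℤ) ≤ (N - M.deg).natAbs * Pinf.deg :=
      le_mul_of_one_le_right (by positivity) (by omega)
    omega
  let a : Place k K → K := fun Q => if Q ∈ S then x Q else 0
  have ha : a ∈ adele k K := by
    rw [mem_adele]
    refine S.finite_toSet.subset fun Q hQ => ?_
    by_contra h
    exact hQ (by change Q.1 (a Q) ≤ 1; rw [show a Q = 0 from if_neg h, map_zero]; exact zero_le)
  obtain ⟨b, hb, _, ⟨y, rfl⟩, hby⟩ := Submodule.mem_sup.1 (adele_le_of_defect hK (hN D hdeg) ha)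
  have hkey : ∀ Q, Q.1 (a Q - y) ≤ WithZero.exp (D Q) := fun Q => by
    have e : a Q - y = b Q := by
      rw [← hby]
      change b Q + y - y = b Q
      ring
    rw [e]; exact hb Q
  refine ⟨y, fun Q hQ => ?_, fun Q hQ hQS => ?_⟩
  · have h1 := hkey Q
    rw [show a Q = x Q from if_pos hQ, hD, Finsupp.add_apply,
      Finsupp.single_eq_of_ne (a := Pinf) (a' := Q) (fun h => hS (h.symm ▸ hQ)), hMP Q hQ, zero_add, ← Valuation.map_neg, neg_sub] at h1
    exact h1
  · have h1 := hkey Q
    rw [show a Q = 0 from if_neg hQS, zero_sub, Valuation.map_neg, hD, Finsupp.add_apply,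
      Finsupp.single_eq_of_ne hQ, hMQ Q hQS, zero_add, WithZero.exp_zero] at h1
    exact h1

end Groth.Agent.FF
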