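import Mathlib
import Groth.Agent.FF.Misc
import Groth.Prelude.Def_W4bk4goldsch45

/-! Finite constant fields: finiteness, counting of effective divisors, the class group. -/

set_option linter.style.haveILetI false

namespace Groth.Agent.FF

open FunFld
open scoped WithZero IntermediateField

variable {k K : Type*} [Field k] [Field K] [Algebra k K]

attribute [local instance high] FunFld.Place.algRes

/-- The residue map as a map of `k`-algebras. -/
noncomputable def resHom (P : Place k K) : P.O →ₐ[k] IsLocalRing.ResidueField P.O :=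
  { IsLocalRing.residue P.O with commutes' := fun _ => rfl }

@[simp] lemma resHom_apply (P : Place k K) (z : P.O) : resHom P z = IsLocalRing.residue P.O z := rfl

/-- The inclusion of the valuation ring as a map of `k`-algebras. -/
def incHom (P : Place k K) : P.O →ₐ[k] K :=
  { P.O.subtype with commutes' := fun _ => rfl }

@[simp] lemma incHom_apply (P : Place k K) (z : P.O) : incHom P z = (z : K) := rfl

lemma aeval_mem_O (P : Place k K) {x : K} (hx : P.1 x ≤ 1) (p : Polynomial k) :
    P.1 (Polynomial.aeval x p) ≤ 1 := by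
  rw [show x = incHom P ⟨x, hx⟩ from rfl, Polynomial.aeval_algHom_apply]
  exact (Polynomial.aeval (⟨x, hx⟩ : P.O) p).2

lemma aeval_lt_one_iff (P : Place k K) {x : K} (hx : P.1 x ≤ 1) (p : Polynomial k) :
    P.1 (Polynomial.aeval x p) < 1 ↔
      Polynomial.aeval (IsLocalRing.residue P.O ⟨x, hx⟩) p = 0 := by
  rw [← resHom_apply, Polynomial.aeval_algHom_apply, resHom_apply, residue_eq_zero_iff]
  have e : Polynomial.aeval x p = incHom P (Polynomial.aeval (⟨x, hx⟩ : P.O) p) :=
    Polynomial.aeval_algHom_apply (incHom P) (⟨x, hx⟩ : P.O) p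
  rw [e]
  rfl

lemma degHom_apply (D : Divisor k K) : degHom k K D = D.deg := by
  simp only [degHom, Finsupp.liftAddHom_apply, AddMonoidHom.coe_mulRight, Divisor.deg]

section

variable (hK : IsFunctionField k K)
include hK

lemma mem_prinDivs_iff {D : Divisor k K} : D ∈ prinDivs k K ↔ ∃ z : K, z ≠ 0 ∧ div k z = D := by
  constructor
  · intro h
    induction h using AddSubgroup.closure_induction with
    | mem y hy =>
      obtain ⟨z, rfl⟩ := hy
      rcases eq_or_ne z 0 with rfl | hz
      · exact ⟨1, one_ne_zero, by rw [div_zero' hK, ← map_one (algebraMap k K), div_algebraMap hK]⟩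
      · exact ⟨z, hz, rfl⟩
    | zero => exact ⟨1, one_ne_zero, by rw [← map_one (algebraMap k K), div_algebraMap hK]⟩
    | add a b _ _ ha hb =>
      obtain ⟨z, hz, rfl⟩ := ha
      obtain ⟨w, hw, rfl⟩ := hb
      exact ⟨z * w, mul_ne_zero hz hw, Groth.Agent.FF.div_mul hK hz hw⟩
    | neg a _ ha =>
      obtain ⟨z, hz, rfl⟩ := ha
      exact ⟨z⁻¹, inv_ne_zero hz, Groth.Agent.FF.div_inv hK z⟩
  · rintro ⟨z, -, rfl⟩
    exact AddSubgroup.subset_closure ⟨z, rfl⟩

lemma deg_eq_zero_of_mem_prinDivs {D : Divisor k K} (h : D ∈ prinDivs k K) : D.deg = 0 := by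
  obtain ⟨z, -, rfl⟩ := (mem_prinDivs_iff hK).1 h
  exact deg_div hK z

lemma ell_congr {D E : Divisor k K} (h : E - D ∈ prinDivs k K) : ell D = ell E := by
  obtain ⟨z, hz, he⟩ := (mem_prinDivs_iff hK).1 h
  rw [show E = D + div k z by rw [he]; abel, ell_add_div hK D hz]

variable [Finite k]

lemma finite_places_deg_le (d : ℕ) : {P : Place k K | P.deg ≤ d}.Finite := by
  classical
  obtain ⟨⟨x, hx, -⟩, -⟩ := id hK
  have hpol : {p : Polynomial k | p.natDegree ≤ d}.Finite := by
    haveI : Finite (Polynomial.degreeLT k (d + 1)) :=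
      Finite.of_equiv _ (Polynomial.degreeLTEquiv k (d + 1)).toEquiv.symm
    refine (Set.toFinite (Polynomial.degreeLT k (d + 1) : Set (Polynomial k))).subset fun p hp => ?_
    rw [SetLike.mem_coe, Polynomial.mem_degreeLT]
    exact Polynomial.degree_le_natDegree.trans_lt
      (WithBot.coe_lt_coe.2 (Nat.lt_succ_of_le hp))
  refine ((finite_support hK x).union (hpol.biUnion fun p _ => finite_support hK (Polynomial.aeval x p))).subset
    fun P hP => ?_
  by_contra hne
  simp only [Set.mem_union, Function.mem_support, Set.mem_iUnion, ne_eq, not_or, not_not,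
    not_exists, Set.mem_ofPred_eq] at hne
  obtain ⟨h1, h2⟩ := hne
  have hx0 : x ≠ 0 := fun h => hx (h ▸ isAlgebraic_zero)
  have hxO : P.1 x ≤ 1 := (v_le_one_iff P hx0).2 h1.ge
  haveI : @Module.Finite k (IsLocalRing.ResidueField P.O) _ _ Algebra.toModule := finite_residue hK P
  set ξ := IsLocalRing.residue P.O ⟨x, hxO⟩
  have hd : (minpoly k ξ).natDegree ≤ d := (minpoly.natDegree_le ξ).trans hP
  have h3 := (aeval_lt_one_iff P hxO (minpoly k ξ)).2 (minpoly.aeval k ξ)
  have hne0 : Polynomial.aeval x (minpoly k ξ) ≠ 0 :=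
    fun h => minpoly.ne_zero (Algebra.IsIntegral.isIntegral ξ) (transcendental_iff.1 hx _ h)
  rw [v_lt_one_iff P hne0] at h3
  exact h3.ne' (h2 _ hd)

lemma finite_effDiv (n : ℤ) : Finite {D : Divisor k K // 0 ≤ D ∧ D.deg = n} := by
  classical
  set S := (finite_places_deg_le hK n.toNat).toFinset
  have hb : ∀ D : Divisor k K, 0 ≤ D → D.deg = n → ∀ P, 0 < D P → P ∈ S ∧ D P ≤ n := by
    intro D hD hn P hP
    have hle : Finsupp.single P (D P) ≤ D := fun R => by
      rcases eq_or_ne R P with rfl | hR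
      · simp
      · simpa [Finsupp.single_eq_of_ne hR] using hD R
    have h1 := deg_mono hle
    rw [deg_single, hn] at h1
    have hpos : (1 : ℤ) ≤ P.deg := by exact_mod_cast deg_pos hK P
    have h2 : D P ≤ n := le_trans (le_mul_of_one_le_right hP.le hpos) h1
    have h3 : (P.deg : ℤ) ≤ n := le_trans (le_mul_of_one_le_left (by omega) hP) h1
    refine ⟨(finite_places_deg_le hK n.toNat).mem_toFinset.2 ?_, h2⟩
    change P.deg ≤ n.toNat
    omega
  refine Finite.of_injective
    (fun D P => ⟨(D.1 P.1).toNat, Nat.lt_succ_of_le ?_⟩ :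
      {D : Divisor k K // 0 ≤ D ∧ D.deg = n} → (P : S) → Fin (n.toNat + 1)) ?_
  · rcases eq_or_lt_of_le (D.2.1 P.1) with h | h
    · rw [← h]; simp
    · exact Int.toNat_le_toNat (hb D.1 D.2.1 D.2.2 P.1 h).2
  · intro D E h
    refine Subtype.ext (Finsupp.ext fun P => ?_)
    have hD := D.2.1 P
    have hE := E.2.1 P
    rw [Finsupp.zero_apply] at hD hE
    by_cases hP : P ∈ S
    · have := congrArg Fin.val (congrFun h ⟨P, hP⟩)
      simp only at this
      omega
    · have h1 : ¬ 0 < D.1 P := fun hh => hP (hb D.1 D.2.1 D.2.2 P hh).1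
      have h2 : ¬ 0 < E.1 P := fun hh => hP (hb E.1 E.2.1 E.2.2 P hh).1
      omega

/-- The number of effective divisors in a class. -/
lemma card_effDiv_in_class (E : Divisor k K) :
    Finite {D : Divisor k K // 0 ≤ D ∧ D - E ∈ prinDivs k K} ∧
    (Nat.card k - 1) * Nat.card {D : Divisor k K // 0 ≤ D ∧ D - E ∈ prinDivs k K} + 1 =
      Nat.card k ^ ell E := by
  classical
  haveI := finite_effDiv hK E.deg
  let T := {D : Divisor k K // 0 ≤ D ∧ D - E ∈ prinDivs k K}
  haveI hT : Finite T := by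
    refine Finite.of_injective (fun D => (⟨D.1, D.2.1, ?_⟩ : {D : Divisor k K // 0 ≤ D ∧ D.deg = E.deg})) ?_
    · have := deg_eq_zero_of_mem_prinDivs hK D.2.2
      rw [deg_sub] at this
      omega
    · intro D D' h
      exact Subtype.ext (congrArg (fun u => u.1) h :)
  haveI := finite_L hK E
  have hmem : ∀ z : K, z ≠ 0 → (z ∈ L E ↔ 0 ≤ E + div k z) := fun z hz => by
    rw [mem_L_iff_ord hz]
    refine forall_congr' fun P => ?_
    rw [Finsupp.zero_apply, Finsupp.add_apply, div_apply hK, add_comm]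
  have hz : ∀ D : T, ∃ z : K, z ≠ 0 ∧ div k z = D.1 - E := fun D => (mem_prinDivs_iff hK).1 D.2.2
  choose z hz0 hzd using hz
  have hzL : ∀ (D : T) (c : kˣ), (c : k) • z D ∈ L E := fun D c =>
    Submodule.smul_mem _ _ ((hmem _ (hz0 D)).2 (by rw [hzd]; simpa using D.2.1))
  let f : T × kˣ → {w : L E // w ≠ 0} := fun p =>
    ⟨⟨(p.2 : k) • z p.1, hzL p.1 p.2⟩, fun h => by
      have := congrArg Subtype.val h
      simp [hz0 p.1] at this⟩
  have hdiv : ∀ (c : k) (w : K), c ≠ 0 → w ≠ 0 → div k (c • w) = div k w := fun c w hc hw => by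
    rw [Algebra.smul_def, Groth.Agent.FF.div_mul hK (by simpa using hc) hw, div_algebraMap hK, zero_add]
  have hf : Function.Bijective f := by
    constructor
    · rintro ⟨D, c⟩ ⟨D', c'⟩ h
      have h' : (c : k) • z D = (c' : k) • z D' := congrArg (fun u => (u.1.1 : K)) h
      have hD : D = D' := by
        have := congrArg (div k) h'
        rw [hdiv _ _ c.ne_zero (hz0 D), hdiv _ _ c'.ne_zero (hz0 D'), hzd, hzd] at this
        exact Subtype.ext (sub_left_inj.1 this)
      subst hD
      rw [← sub_eq_zero, ← sub_smul, smul_eq_zero] at h'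
      exact Prod.ext rfl (Units.ext (sub_eq_zero.1 (h'.resolve_right (hz0 D))))
    · rintro ⟨⟨w, hw⟩, hw0⟩
      have hw0' : w ≠ 0 := fun h => hw0 (Subtype.ext h)
      let D : T := ⟨E + div k w, (hmem w hw0').1 hw, by
        rw [add_sub_cancel_left]; exact (mem_prinDivs_iff hK).2 ⟨w, hw0', rfl⟩⟩
      have hq : w / z D ∈ L (0 : Divisor k K) := by
        rw [mem_L_iff_ord (div_ne_zero hw0' (hz0 D))]
        intro P
        rw [div_eq_mul_inv, ord_mul P hw0' (inv_ne_zero (hz0 D)), ord_inv, ← div_apply hK, ← div_apply hK, hzd]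
        simp [D]
      rw [L_zero hK] at hq
      obtain ⟨c, hc⟩ := Submodule.mem_one.1 hq
      have hc0 : c ≠ 0 := fun h => div_ne_zero hw0' (hz0 D) (by rw [← hc, h, map_zero])
      refine ⟨⟨D, Units.mk0 c hc0⟩, Subtype.ext (Subtype.ext ?_)⟩
      change c • z D = w
      rw [Algebra.smul_def, hc, div_mul_cancel₀ _ (hz0 D)]
  haveI : Finite (L E) := Module.finite_of_finite k
  have h1 := Nat.card_eq_of_bijective f hf
  rw [Nat.card_prod, Nat.card_units] at h1
  have h2 : Nat.card {w : L E // w ≠ 0} + 1 = Nat.card k ^ ell E := by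
    rw [← Module.natCard_eq_pow_finrank (K := k) (V := L E) |>.trans (by rfl : _ = Nat.card k ^ ell E),
      ← Nat.card_congr (Equiv.optionSubtypeNe (0 : L E)), Finite.card_option]
  exact ⟨hT, by rw [mul_comm, h1, h2]⟩

end

section classes

variable (k K) in
/-- Degree zero divisor classes. -/
abbrev Cl0 : Type _ := (degHom k K).ker ⧸ (prinDivs k K).addSubgroupOf (degHom k K).ker

/-- A representative of a class. -/
noncomputable def rep (c : Cl0 k K) : Divisor k K := (Quotient.out c).1

lemma deg_rep (c : Cl0 k K) : (rep c).deg = 0 := by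
  rw [← degHom_apply]; exact (Quotient.out c).2

lemma rep_eq_iff (c : Cl0 k K) (D : (degHom k K).ker) :
    (QuotientAddGroup.mk D : Cl0 k K) = c ↔ (D : Divisor k K) - rep c ∈ prinDivs k K := by
  conv_lhs => rw [← QuotientAddGroup.out_eq' c]
  rw [eq_comm, QuotientAddGroup.eq, AddSubgroup.mem_addSubgroupOf]
  simp [rep, sub_eq_neg_add]

variable (hK : IsFunctionField k K)
include hK

/-- Effective divisors of degree `n` by classes. -/
noncomputable def effEquiv {n : ℤ} (D₁ : Divisor k K) (h₁ : D₁.deg = n) :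
    {D : Divisor k K // 0 ≤ D ∧ D.deg = n} ≃
      Σ c : Cl0 k K, {D : Divisor k K // 0 ≤ D ∧ D - (rep c + D₁) ∈ prinDivs k K} where
  toFun D := ⟨QuotientAddGroup.mk ⟨D.1 - D₁, by
      rw [AddMonoidHom.mem_ker, degHom_apply, deg_sub, D.2.2, h₁, sub_self]⟩, D.1, D.2.1, by
      rw [add_comm, ← sub_sub]
      exact (rep_eq_iff _ ⟨D.1 - D₁, _⟩).1 rfl⟩
  invFun p := ⟨p.2.1, p.2.2.1, by
      have := deg_eq_zero_of_mem_prinDivs hK p.2.2.2
      rw [deg_sub, deg_add, deg_rep] at this
      linarith⟩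
  left_inv D := rfl
  right_inv p := by
    obtain ⟨c, D, hD, hp⟩ := p
    refine Sigma.subtype_ext ?_ rfl
    rw [rep_eq_iff]
    change D - D₁ - rep c ∈ prinDivs k K
    rw [sub_sub, add_comm]
    exact hp

variable [Finite k]

lemma finite_Cl0 : Finite (Cl0 k K) := by
  classical
  obtain ⟨⟨x, hx, -⟩, -⟩ := id hK
  obtain ⟨P, -⟩ := exists_zero hK hx
  set D₁ : Divisor k K := Finsupp.single P ((genus k K : ℤ) + 1)
  have hd : (genus k K : ℤ) ≤ D₁.deg := by
    have : (1 : ℤ) ≤ P.deg := by exact_mod_cast deg_pos hK P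
    rw [deg_single]
    nlinarith [Int.natCast_nonneg (genus k K)]
  haveI := finite_effDiv hK D₁.deg
  have hne : ∀ c : Cl0 k K, Nonempty {D : Divisor k K // 0 ≤ D ∧ D - (rep c + D₁) ∈ prinDivs k K} := by
    intro c
    have hl : 0 < ell (rep c + D₁) := by
      have := (genus_spec hK).1 (rep c + D₁)
      simp only [defect, deg_add, deg_rep] at this
      omega
    obtain ⟨z, hz0, hz⟩ := exists_ne_zero_of_ell_pos hl
    refine ⟨⟨rep c + D₁ + div k z, ?_, ?_⟩⟩
    · intro R
      have := (mem_L_iff_ord hz0).1 hz R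
      rw [Finsupp.add_apply, Finsupp.zero_apply, div_apply hK]
      omega
    · rw [add_sub_cancel_left]; exact (mem_prinDivs_iff hK).2 ⟨z, hz0, rfl⟩
  refine Finite.of_surjective (fun D => (effEquiv hK D₁ rfl D).1) fun c =>
    ⟨(effEquiv hK D₁ rfl).symm ⟨c, (hne c).some⟩, ?_⟩
  exact congrArg Sigma.fst ((effEquiv hK D₁ rfl).apply_symm_apply _)

lemma classNum_pos : 0 < classNum k K :=
  haveI := finite_Cl0 hK
  Nat.card_pos

/-- `(q - 1) a(n) + h = ∑ q ^ ℓ`. -/
lemma card_effDiv_eq {n : ℤ} (D₁ : Divisor k K) (h₁ : D₁.deg = n) [Fintype (Cl0 k K)] :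
    (Nat.card k - 1) * Nat.card {D : Divisor k K // 0 ≤ D ∧ D.deg = n} + classNum k K =
      ∑ c : Cl0 k K, Nat.card k ^ ell (rep c + D₁) := by
  haveI := fun c : Cl0 k K => (card_effDiv_in_class hK (rep c + D₁)).1
  rw [Nat.card_congr (effEquiv hK D₁ h₁), Nat.card_sigma, Finset.mul_sum,
    show classNum k K = ∑ _c : Cl0 k K, 1 by simp [classNum, Nat.card_eq_fintype_card],
    ← Finset.sum_add_distrib]
  exact Finset.sum_congr rfl fun c _ => (card_effDiv_in_class hK (rep c + D₁)).2

end classes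

end Groth.Agent.FF
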