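import Mathlib
import Groth.Agent.FF.Conorm
import Groth.Agent.FF.Count

/-! Constant field extensions by a separable element: the places above a given place. -/

set_option linter.style.haveILetI false

namespace Groth.Agent.FF

open FunFld
open scoped WithZero IntermediateField

attribute [local instance high] FunFld.Place.algRes
attribute [-instance] IsLocalRing.instModuleResidueFieldOfAlgebra

variable {k K k' K' : Type*} [Field k] [Field K] [Field k'] [Field K'] [Algebra k K] [Algebra K K'] [Algebra k K']
  [IsScalarTower k K K'] [Algebra k k'] [Algebra k' K'] [IsScalarTower k k' K'] [FiniteDimensional k k']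

omit [Algebra K K'] [Algebra k K'] in
/-- An irreducible polynomial over `k` stays irreducible over `K`. -/
lemma irreducible_map_const (hK : IsFunctionField k K) {f : Polynomial k} (hf : f.Monic) (hi : Irreducible f) :
    Irreducible (f.map (algebraMap k K)) := by
  have hlift : ∀ g : Polynomial K, g.Monic → g ∣ f.map (algebraMap k K) →
      ∃ g₀ : Polynomial k, g₀.map (algebraMap k K) = g := fun g hg hdvd => by
    have h := integralClosure.mem_lifts_of_monic_of_dvd_map K hf hg hdvd
    rw [Polynomial.lifts_iff_coeff_lifts] at h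
    have h2 : g ∈ Polynomial.lifts (algebraMap k K) := by
      rw [Polynomial.lifts_iff_coeff_lifts]
      intro n
      obtain ⟨a, ha⟩ := h n
      exact ha ▸ hK.2 (a : K) a.2.isAlgebraic
    exact (Polynomial.mem_lifts g).1 h2
  have hm := hf.map (algebraMap k K)
  rw [hm.irreducible_iff_natDegree]
  refine ⟨fun h => ?_, fun g g' hg hg' hgg => ?_⟩
  · have := congrArg Polynomial.natDegree h
    rw [Polynomial.natDegree_map, Polynomial.natDegree_one] at this
    exact hi.natDegree_pos.ne' this
  · obtain ⟨g₀, rfl⟩ := hlift g hg ⟨g', hgg.symm⟩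
    obtain ⟨g₁, rfl⟩ := hlift g' hg' ⟨_, by rw [mul_comm, hgg]⟩
    rw [← Polynomial.map_mul] at hgg
    have h3 := Polynomial.map_injective _ (algebraMap k K).injective hgg
    rcases hi.isUnit_or_isUnit h3.symm with h | h
    · exact Or.inl (by rw [Polynomial.natDegree_map]; exact Polynomial.natDegree_eq_zero_of_isUnit h)
    · exact Or.inr (by rw [Polynomial.natDegree_map]; exact Polynomial.natDegree_eq_zero_of_isUnit h)

omit [IsScalarTower k k' K'] [FiniteDimensional k k'] [Algebra k' K'] in
lemma minpoly_const (hK : IsFunctionField k K) {β : K'} (hβ : IsIntegral k β) :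
    minpoly K β = (minpoly k β).map (algebraMap k K) := by
  refine (minpoly.eq_of_irreducible_of_monic
    (irreducible_map_const hK (minpoly.monic hβ) (minpoly.irreducible hβ)) ?_ ((minpoly.monic hβ).map _)).symm
  rw [Polynomial.aeval_map_algebraMap, minpoly.aeval]

/-- A constant extension of full degree is a function field over the new constants. -/
lemma isFunctionField_of_finrank [Algebra.IsSeparable k (algebraicClosure k K')] [FiniteDimensional K K']
    (hK : IsFunctionField k K)
    (hrank : Module.finrank K K' ≤ Module.finrank k k') : IsFunctionField k' K' := by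
  haveI := finite_constField (K' := K') hK
  set k1 := algebraicClosure k K'
  set R := (IsScalarTower.toAlgHom k k' K').fieldRange
  have hR : R ≤ k1 := by
    rintro _ ⟨c, rfl⟩
    exact mem_algebraicClosure_iff.2 ((Algebra.IsAlgebraic.isAlgebraic (R := k) c).algebraMap)
  obtain ⟨β, hβ⟩ := Field.exists_primitive_element k k1
  have hβi : IsIntegral k (β : K') := mem_algebraicClosure_iff'.1 β.2
  have h1 : Module.finrank k k1 ≤ Module.finrank K K' := by
    rw [← IntermediateField.finrank_top', ← hβ, IntermediateField.adjoin.finrank (Algebra.IsIntegral.isIntegral β),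
      ← minpoly.algebraMap_eq (algebraMap k1 K').injective β,
      ← Polynomial.natDegree_map (p := minpoly k (algebraMap k1 K' β)) (algebraMap k K),
      show algebraMap k1 K' β = (β : K') from rfl, ← minpoly_const hK hβi]
    exact minpoly.natDegree_le _
  have h2 : Module.finrank k R = Module.finrank k k' :=
    (AlgEquiv.ofInjectiveField (IsScalarTower.toAlgHom k k' K')).toLinearEquiv.finrank_eq.symm
  have heq : R = k1 := IntermediateField.eq_of_le_of_finrank_le hR (by omega)
  obtain ⟨⟨x, hx, -⟩, -⟩ := id hK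
  set x' := algebraMap K K' x
  haveI := (finrank_adjoin_map (K' := K') hK hx).1
  refine ⟨⟨x', (transcendental_algebraMap hK hx).extendScalars k', ?_⟩, fun y hy => ?_⟩
  · set E := IntermediateField.adjoin k' ({x'} : Set K')
    have hle : k⟮x'⟯ ≤ E.restrictScalars k := by
      rw [IntermediateField.adjoin_simple_le_iff]
      exact IntermediateField.mem_adjoin_simple_self _ x'
    letI : Algebra k⟮x'⟯ E := (IntermediateField.inclusion hle).toRingHom.toAlgebra
    haveI : IsScalarTower k⟮x'⟯ E K' := IsScalarTower.of_algebraMap_eq fun _ => rfl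
    exact Module.Finite.of_restrictScalars_finite k⟮x'⟯ E K'
  · have h3 : y ∈ R := heq ▸ mem_algebraicClosure_iff.2 (hy.restrictScalars k)
    exact h3

section res

variable {Q : Place k K'} {P : Place k K}

omit [IsScalarTower k K K'] [Algebra k k'] [Algebra k' K'] [IsScalarTower k k' K'] [FiniteDimensional k k'] in
lemma mem_O_of_isOver (hQ : IsOver Q P) (z : P.O) : Q.1 (algebraMap K K' z) ≤ 1 :=
  (le_one_iff_of_isOver hQ _).2 z.2

/-- The inclusion of valuation rings. -/
def incOver (hQ : IsOver Q P) : P.O →+* Q.O :=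
  ((algebraMap K K').comp P.O.subtype).codRestrict Q.O (mem_O_of_isOver hQ)

/-- The inclusion of residue fields. -/
noncomputable def resOver (hQ : IsOver Q P) :
    IsLocalRing.ResidueField P.O →+* IsLocalRing.ResidueField Q.O :=
  Ideal.Quotient.lift _ ((IsLocalRing.residue Q.O).comp (incOver hQ)) fun z hz => by
    have hz' : P.1 z.1 < 1 := (residue_eq_zero_iff z).1 ((IsLocalRing.residue_eq_zero_iff z).2 hz)
    rw [RingHom.comp_apply, residue_eq_zero_iff]
    change Q.1 (algebraMap K K' z.1) < 1
    obtain ⟨e, he⟩ := hQ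
    rw [he]
    exact pow_lt_one₀ zero_le hz' (pos_of_isOverWith he).ne'

omit [IsScalarTower k K K'] [Algebra k k'] [Algebra k' K'] [IsScalarTower k k' K'] [FiniteDimensional k k'] in
lemma resOver_residue (hQ : IsOver Q P) (z : P.O) :
    resOver hQ (IsLocalRing.residue P.O z) = IsLocalRing.residue Q.O (incOver hQ z) := rfl

omit [Algebra k k'] [Algebra k' K'] [IsScalarTower k k' K'] [FiniteDimensional k k'] in
lemma resOver_algebraMap (hQ : IsOver Q P) (c : k) :
    resOver hQ (algebraMap k _ c) = algebraMap k (IsLocalRing.ResidueField Q.O) c := by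
  change resOver hQ (IsLocalRing.residue P.O (algebraMap k P.O c)) = IsLocalRing.residue Q.O (algebraMap k Q.O c)
  rw [resOver_residue]
  exact congrArg (IsLocalRing.residue Q.O) (Subtype.ext (IsScalarTower.algebraMap_apply k K K' c).symm)

end res

/-- The new constant as an element of the valuation ring. -/
def cst (Q : Place k K') (c : k') : Q.O :=
  ⟨algebraMap k' K' c, v_le_one_of_isAlgebraic Q ((Algebra.IsAlgebraic.isAlgebraic (R := k) c).algebraMap)⟩

variable (hK : IsFunctionField k K) (hK' : IsFunctionField k' K') [FiniteDimensional K K']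
  {α : k'} (hα : Module.finrank K K' = (minpoly k α).natDegree)

include hK hK'

lemma deg_pos_ext (Q : Place k K') : 0 < Q.deg := by
  rw [deg_placeEquiv (k' := k') Q]
  exact Nat.mul_pos Module.finrank_pos (deg_pos hK' _)

lemma exists_place_of_factor (P : Place k K) {h : Polynomial (IsLocalRing.ResidueField P.O)}
    (hh : Irreducible h) (hdvd : h ∣ (minpoly k α).map (algebraMap k _)) :
    ∃ Q : Place k K', ∃ hQ : IsOver Q P,
      h.eval₂ (resOver hQ) (IsLocalRing.residue Q.O (cst Q α)) = 0 := by
  classical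
  have hαi : IsIntegral k α := Algebra.IsIntegral.isIntegral α
  set α' := algebraMap k' K' α
  let ι : P.O →+* K' := (algebraMap K K').comp P.O.subtype
  let Φ : Polynomial P.O →+* K' := Polynomial.eval₂RingHom ι α'
  let π : Polynomial P.O →+* AdjoinRoot h :=
    (AdjoinRoot.mk h).comp (Polynomial.mapRingHom (IsLocalRing.residue P.O))
  set fO := (minpoly k α).map (algebraMap k P.O) with hfO
  have hker : ∀ g, Φ g = 0 → π g = 0 := by
    intro g hg
    have h0 : Polynomial.aeval α' (g.map P.O.subtype) = 0 := by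
      rw [Polynomial.aeval_def, Polynomial.eval₂_map]; exact hg
    have h1 := minpoly.dvd K α' h0
    rw [minpoly_const hK hαi.algebraMap, minpoly.algebraMap_eq (algebraMap k' K').injective] at h1
    have h2 : fO.map P.O.subtype = (minpoly k α).map (algebraMap k K) := by
      rw [hfO, Polynomial.map_map]; rfl
    rw [← h2] at h1
    obtain ⟨q, rfl⟩ := (Polynomial.map_dvd_map _ Subtype.val_injective ((minpoly.monic hαi).map _)).1 h1
    rw [map_mul]
    have : π fO = 0 := by
      change AdjoinRoot.mk h (fO.map _) = 0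
      rw [AdjoinRoot.mk_eq_zero, hfO, Polynomial.map_map]
      exact hdvd
    rw [this, zero_mul]
  let A : Subring K' := Φ.range
  let I : Ideal A := (RingHom.ker π).map Φ.rangeRestrict
  have hI : I ≠ ⊤ := by
    intro hI
    have h1 : (RingHom.ker π).map Φ.rangeRestrict = ⊤ := hI
    have h2 := congrArg (Ideal.comap Φ.rangeRestrict) h1
    rw [Ideal.comap_map_of_surjective _ Φ.rangeRestrict_surjective, Ideal.comap_top, sup_eq_left.2] at h2
    · haveI : Fact (Irreducible h) := ⟨hh⟩
      exact one_ne_zero (α := AdjoinRoot h) (by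
        rw [← map_one π, ← RingHom.mem_ker, h2]; trivial)
    · intro g hg
      exact hker g (congrArg Subtype.val (Ideal.mem_bot.1 (Ideal.mem_comap.1 hg)))
  obtain ⟨V, hAV, hIV⟩ := I.image_subset_nonunits_valuationSubring hI
  have hmemI : ∀ g, π g = 0 → Φ g ∈ V.nonunits := fun g hg =>
    hIV ⟨Φ.rangeRestrict g, Ideal.mem_map_of_mem _ hg, rfl⟩
  have hOV : ∀ x : P.O, algebraMap K K' x ∈ V := fun x => hAV ⟨Polynomial.C x, by simp [Φ, ι]⟩
  have hkV : Set.range (algebraMap k' K') ⊆ V := by
    rintro _ ⟨c, rfl⟩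
    letI : Algebra k V := ((algebraMap k K').codRestrict V.toSubring fun a => by
      rw [IsScalarTower.algebraMap_apply k K K']; exact hOV (algebraMap k P.O a)).toAlgebra
    haveI : IsScalarTower k V K' := IsScalarTower.of_algebraMap_eq fun _ => rfl
    have h1 : IsIntegral V (algebraMap k' K' c) :=
      ((Algebra.IsIntegral.isIntegral (R := k) c).algebraMap).tower_top
    obtain ⟨y, hy⟩ := IsIntegrallyClosed.isIntegral_iff.1 h1
    rw [← hy]
    exact y.2
  have hnu : ∀ y : K', y ∈ V.nonunits → y ≠ 0 → y⁻¹ ∉ V := fun y hy hy0 hyi => by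
    rw [ValuationSubring.mem_nonunits_iff] at hy
    have := (ValuationSubring.valuation_le_one_iff V _).2 hyi
    rw [map_inv₀] at this
    exact absurd this (not_le.2 ((one_lt_inv₀ (zero_lt_iff.2 ((Valuation.ne_zero_iff _).2 hy0))).2 hy))
  have hV : V ≠ ⊤ := by
    obtain ⟨t, ht, hto⟩ := exists_ord_eq P 1
    have htO : P.1 t ≤ 1 := (v_le_one_iff P ht).2 (by omega)
    have hπ : π (Polynomial.C ⟨t, htO⟩) = 0 := by
      have : IsLocalRing.residue P.O ⟨t, htO⟩ = 0 :=
        (residue_eq_zero_iff _).2 ((v_lt_one_iff P ht).2 (by omega))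
      simp [π, this]
    intro hV
    exact hnu _ (hmemI _ hπ) (by simpa [Φ, ι] using ht) (hV ▸ trivial)
  obtain ⟨Q1, hQ1⟩ := exists_place_of_valuationSubring hK' V hkV hV
  let Q : Place k K' := downPlace Q1
  obtain ⟨P2, hP2⟩ := exists_isOver hK Q
  obtain rfl : P = P2 := place_eq_of_le P fun x hx =>
    (le_one_iff_of_isOver hP2 x).1 ((hQ1 _).1 (hOV ⟨x, hx⟩))
  refine ⟨Q, hP2, ?_⟩
  obtain ⟨hO, rfl⟩ := Polynomial.map_surjective _ IsLocalRing.residue_surjective h
  rw [Polynomial.eval₂_map, show (resOver hP2).comp (IsLocalRing.residue P.O) =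
    (IsLocalRing.residue Q.O).comp (incOver hP2) from rfl, ← Polynomial.hom_eval₂, residue_eq_zero_iff]
  have hΦ : ((Polynomial.eval₂ (incOver hP2) (cst Q α) hO : Q.O) : K') = Φ hO :=
    Polynomial.hom_eval₂ hO (incOver hP2) Q.O.subtype (cst Q α)
  rw [hΦ]
  have hm := hmemI hO (by simp [π])
  rcases eq_or_ne (Φ hO) 0 with h0 | h0
  · rw [h0, map_zero]; exact zero_lt_one
  · by_contra hlt
    refine hnu _ hm h0 ((hQ1 _).2 ?_)
    rw [map_inv₀]
    exact inv_le_one_of_one_le₀ (not_lt.1 hlt)

lemma deg_mul_le_of_root (P : Place k K) (Q : Place k K') (hQ : IsOver Q P)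
    {h : Polynomial (IsLocalRing.ResidueField P.O)} (hh : Irreducible h)
    {β : IsLocalRing.ResidueField Q.O} (hβ : h.eval₂ (resOver hQ) β = 0) :
    P.deg * h.natDegree ≤ Q.deg := by
  haveI : Fact (Irreducible h) := ⟨hh⟩
  haveI : @Module.Finite k (IsLocalRing.ResidueField Q.O) _ _ Algebra.toModule :=
    Module.finite_of_finrank_pos (deg_pos_ext hK hK' Q)
  let φ : AdjoinRoot h →ₐ[k] IsLocalRing.ResidueField Q.O :=
    { AdjoinRoot.lift (resOver hQ) β hβ with
      commutes' := fun c => by
        change AdjoinRoot.lift (resOver hQ) β hβ (algebraMap k (AdjoinRoot h) c) = _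
        rw [show algebraMap k (AdjoinRoot h) c = AdjoinRoot.of h (algebraMap k _ c) from rfl,
          AdjoinRoot.lift_of, resOver_algebraMap] }
  haveI : IsScalarTower k (IsLocalRing.ResidueField P.O) (AdjoinRoot h) :=
    IsScalarTower.of_algebraMap_eq fun _ => rfl
  have h1 : Module.finrank k (AdjoinRoot h) = P.deg * h.natDegree := by
    rw [← Module.finrank_mul_finrank k (IsLocalRing.ResidueField P.O) (AdjoinRoot h),
      (AdjoinRoot.powerBasis hh.ne_zero).finrank]
    rfl
  rw [← h1]
  change _ ≤ @Module.finrank k (IsLocalRing.ResidueField Q.O) _ _ Algebra.toModule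
  exact LinearMap.finrank_le_finrank_of_injective (f := φ.toLinearMap) φ.toRingHom.injective

open scoped Classical in
include hα in
/-- The places above `P` correspond to the irreducible factors of the minimal polynomial. -/
lemma places_over_const (hsep : (minpoly k α).Separable) (P : Place k K) :
    let F := (UniqueFactorizationMonoid.normalizedFactors
      ((minpoly k α).map (algebraMap k (IsLocalRing.ResidueField P.O)))).toFinset
    (∑ h ∈ F, h.natDegree = (minpoly k α).natDegree) ∧
    ∃ e : F ≃ {Q : Place k K' // IsOver Q P}, ∀ h, IsOverWith (e h).1 P 1 ∧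
      (e h).1.deg = P.deg * h.1.natDegree ∧
      h.1.eval₂ (resOver (e h).2) (IsLocalRing.residue (e h).1.O (cst (e h).1 α)) = 0 := by
  intro F
  set fb := (minpoly k α).map (algebraMap k (IsLocalRing.ResidueField P.O)) with hfb
  have hαi : IsIntegral k α := Algebra.IsIntegral.isIntegral α
  have hm : fb.Monic := (minpoly.monic hαi).map _
  have hF : ∀ h ∈ F, Irreducible h ∧ h.Monic ∧ h ∣ fb := fun h hh => by
    rw [Multiset.mem_toFinset] at hh
    refine ⟨UniqueFactorizationMonoid.irreducible_of_normalized_factor h hh, ?_,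
      UniqueFactorizationMonoid.dvd_of_mem_normalizedFactors hh⟩
    rw [← UniqueFactorizationMonoid.normalize_normalized_factor h hh]
    exact Polynomial.monic_normalize (UniqueFactorizationMonoid.irreducible_of_normalized_factor h hh).ne_zero
  have hnd := (UniqueFactorizationMonoid.squarefree_iff_nodup_normalizedFactors hm.ne_zero).1
    (hsep.map).squarefree
  have hsum : ∑ h ∈ F, h.natDegree = (minpoly k α).natDegree := by
    have h1 : (UniqueFactorizationMonoid.normalizedFactors fb).prod = fb := by
      rw [UniqueFactorizationMonoid.prod_normalizedFactors_eq hm.ne_zero]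
      exact hm.normalize_eq_self
    rw [← Polynomial.natDegree_map (p := minpoly k α) (algebraMap k (IsLocalRing.ResidueField P.O)), ← hfb]
    conv_rhs => rw [← h1]
    rw [Polynomial.natDegree_multiset_prod _ (UniqueFactorizationMonoid.zero_notMem_normalizedFactors _)]
    rw [Finset.sum, Multiset.toFinset_val, hnd.dedup]
  refine ⟨hsum, ?_⟩
  choose g hg hroot using fun h : F =>
    exists_place_of_factor hK hK' P (hF h.1 h.2).1 (hF h.1 h.2).2.2
  have hinj : Function.Injective g := by
    intro a b hab
    by_contra hne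
    have hcop : IsCoprime a.1 b.1 := by
      rw [(hF a.1 a.2).1.coprime_iff_not_dvd]
      intro hd
      exact hne (Subtype.ext (Polynomial.eq_of_monic_of_associated (hF a.1 a.2).2.1 (hF b.1 b.2).2.1
        ((hF a.1 a.2).1.associated_of_dvd (hF b.1 b.2).1 hd)))
    obtain ⟨u, v, huv⟩ := hcop
    have key : ∀ (Q : Place k K') (hQa : IsOver Q P) (hQb : IsOver Q P),
        a.1.eval₂ (resOver hQa) (IsLocalRing.residue Q.O (cst Q α)) = 0 →
        b.1.eval₂ (resOver hQb) (IsLocalRing.residue Q.O (cst Q α)) = 0 → False := by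
      intro Q hQa hQb ha hb
      have := congrArg (Polynomial.eval₂ (resOver hQa) (IsLocalRing.residue Q.O (cst Q α))) huv
      rw [Polynomial.eval₂_add, Polynomial.eval₂_mul, Polynomial.eval₂_mul, ha, hb,
        Polynomial.eval₂_one] at this
      simp at this
    have hb := hroot b
    revert hb
    generalize hg b = hgb
    revert hgb
    rw [← hab]
    intro hgb hb
    exact key _ (hg a) hgb (hroot a) hb
  obtain ⟨hfin, hsumQ⟩ := finite_over_and_sum (K' := K') hK P
  set S := hfin.toFinset
  have hS := hsumQ S fun Q => hfin.mem_toFinset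
  rw [hα] at hS
  set T := (Finset.univ : Finset F).image g
  have hTS : T ⊆ S := fun Q hQ => by
    obtain ⟨h, -, rfl⟩ := Finset.mem_image.1 hQ
    exact hfin.mem_toFinset.2 (hg h)
  have hlow : ∀ h : F, P.deg * h.1.natDegree ≤ (g h).deg := fun h =>
    deg_mul_le_of_root hK hK' P (g h) (hg h) (hF h.1 h.2).1 (hroot h)
  have hpos : ∀ Q ∈ S, 0 < ramIdx Q P * Q.deg := fun Q hQ =>
    Nat.mul_pos (pos_of_isOverWith (isOverWith_ramIdx (hfin.mem_toFinset.1 hQ))) (deg_pos_ext hK hK' Q)
  have hT : ∑ Q ∈ T, ramIdx Q P * Q.deg = ∑ h : F, ramIdx (g h) P * (g h).deg :=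
    Finset.sum_image fun a _ b _ hab => hinj hab
  have hchain : ∀ h : F, P.deg * h.1.natDegree ≤ ramIdx (g h) P * (g h).deg := fun h =>
    (hlow h).trans (Nat.le_mul_of_pos_left _ (pos_of_isOverWith (isOverWith_ramIdx (hg h))))
  have hsum' : ∑ h : F, P.deg * h.1.natDegree = (minpoly k α).natDegree * P.deg := by
    rw [← Finset.mul_sum, Finset.sum_coe_sort F (fun h => h.natDegree), hsum, mul_comm]
  have hTS' : T = S := by
    by_contra hne
    obtain ⟨Q, hQS, hQT⟩ := Finset.exists_of_ssubset (hTS.ssubset_of_ne hne)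
    have h1 : ∑ Q ∈ T, ramIdx Q P * Q.deg < ∑ Q ∈ S, ramIdx Q P * Q.deg :=
      Finset.sum_lt_sum_of_subset hTS hQS hQT (hpos Q hQS) fun _ _ _ => Nat.zero_le _
    have h2 : ∑ h : F, P.deg * h.1.natDegree ≤ ∑ h : F, ramIdx (g h) P * (g h).deg :=
      Finset.sum_le_sum fun h _ => hchain h
    omega
  have heq := (Finset.sum_eq_sum_iff_of_le fun h _ => hchain h).1
    (show ∑ h : F, P.deg * h.1.natDegree = ∑ h : F, ramIdx (g h) P * (g h).deg by
      rw [hsum', ← hT, hTS', hS])
  refine ⟨Equiv.ofBijective (fun h => ⟨g h, hg h⟩)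
    ⟨fun a b hab => hinj (congrArg Subtype.val hab), fun Q => ?_⟩, fun h => ?_⟩
  · have : Q.1 ∈ T := hTS' ▸ hfin.mem_toFinset.2 Q.2
    obtain ⟨h, -, hh⟩ := Finset.mem_image.1 this
    exact ⟨h, Subtype.ext hh⟩
  · have he := heq h (Finset.mem_univ _)
    have h1 := hlow h
    have h2 := pos_of_isOverWith (isOverWith_ramIdx (hg h))
    have h3 : ramIdx (g h) P = 1 := by
      have h4 := deg_pos_ext hK hK' (g h)
      nlinarith
    refine ⟨?_, ?_, hroot h⟩
    · have h5 := isOverWith_ramIdx (hg h)
      rwa [h3] at h5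
    · change (g h).deg = _
      rw [h3, one_mul] at he
      exact he.symm

end Groth.Agent.FF

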