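import Mathlib
import Groth.Agent.FF.ConstExt

/-! Schmidt's theorem: over a finite constant field there is a divisor of degree one. -/

set_option linter.style.haveILetI false

namespace Groth.Agent.FF

open FunFld
open scoped WithZero IntermediateField

attribute [local instance high] FunFld.Place.algRes
attribute [-instance] IsLocalRing.instModuleResidueFieldOfAlgebra

/-- The degree of an irreducible factor over a bigger finite field. -/
lemma natDegree_factor {k F : Type*} [Field k] [Finite k] [Field F] [Algebra k F] [FiniteDimensional k F]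
    {f : Polynomial k} (hf : Irreducible f) {h : Polynomial F} (hh : Irreducible h)
    (hdvd : h ∣ f.map (algebraMap k F)) :
    h.natDegree * Nat.gcd f.natDegree (Module.finrank k F) = f.natDegree := by
  haveI : Finite F := Module.finite_of_finite k
  haveI : Fact (Irreducible h) := ⟨hh⟩
  set r := f.natDegree
  set m := Module.finrank k F
  have hm : 0 < m := Module.finrank_pos
  have hr : 0 < r := hf.natDegree_pos
  haveI : FiniteDimensional F (AdjoinRoot h) := (AdjoinRoot.powerBasis hh.ne_zero).finite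
  haveI : IsScalarTower k F (AdjoinRoot h) := IsScalarTower.of_algebraMap_eq fun _ => rfl
  haveI : FiniteDimensional k (AdjoinRoot h) := Module.Finite.trans F (AdjoinRoot h)
  have h1 : Module.finrank k (AdjoinRoot h) = m * h.natDegree := by
    rw [← Module.finrank_mul_finrank k F (AdjoinRoot h), (AdjoinRoot.powerBasis hh.ne_zero).finrank]
    rfl
  have hroot : Polynomial.aeval (AdjoinRoot.root h) f = 0 := by
    obtain ⟨q, hq⟩ := hdvd
    rw [← Polynomial.aeval_map_algebraMap F, hq, map_mul, AdjoinRoot.aeval_eq, AdjoinRoot.mk_self,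
      zero_mul]
  have h2 : r ∣ m * h.natDegree := by
    rw [← h1]
    have h3 := minpoly.degree_dvd (K := k) (x := AdjoinRoot.root h) (L := AdjoinRoot h) (Algebra.IsIntegral.isIntegral _)
    have h4 : (minpoly k (AdjoinRoot.root h)).natDegree = r := by
      refine Polynomial.natDegree_eq_of_degree_eq (Polynomial.degree_eq_degree_of_associated ?_)
      exact (minpoly.irreducible (Algebra.IsIntegral.isIntegral _)).associated_of_dvd hf (minpoly.dvd k _ hroot)
    rwa [h4] at h3
  obtain ⟨g, hgd⟩ : ∃ g, g = Nat.gcd r m := ⟨_, rfl⟩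
  rw [← hgd]
  have hg : 0 < g := hgd ▸ Nat.gcd_pos_of_pos_left _ hr
  obtain ⟨a, ha⟩ : g ∣ r := hgd ▸ Nat.gcd_dvd_left r m
  obtain ⟨b, hb⟩ : g ∣ m := hgd ▸ Nat.gcd_dvd_right r m
  have h5 : h.natDegree ∣ a := by
    refine (Irreducible.natDegree_dvd_of_dvd_X_pow_card_pow_sub_X hh ?_)
    rw [Module.natCard_eq_pow_finrank (K := k) (V := F), ← pow_mul]
    refine hdvd.trans ?_
    have h6 : f ∣ Polynomial.X ^ (Nat.card k) ^ (m * a) - Polynomial.X :=
      hf.natDegree_dvd_iff_dvd_X_pow_card_pow_sub_X.1 ⟨b, by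
        change m * a = r * b
        calc m * a = (g * b) * a := by rw [← hb]
          _ = (g * a) * b := by ring
          _ = r * b := by rw [← ha]⟩
    simpa using Polynomial.map_dvd (algebraMap k F) h6
  have h7 : a ∣ h.natDegree := by
    have hco : Nat.Coprime a b := by
      have := Nat.gcd_mul_left g a b
      rw [← ha, ← hb, ← hgd] at this
      exact Nat.eq_of_mul_eq_mul_left hg (by rw [mul_one]; exact this.symm)
    refine hco.dvd_of_dvd_mul_left ?_
    rw [ha, hb, mul_assoc] at h2
    exact Nat.dvd_of_mul_dvd_mul_left hg h2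
  rw [Nat.dvd_antisymm h5 h7, mul_comm]
  exact ha.symm

variable {k K : Type*} [Field k] [Field K] [Algebra k K]

section lower

variable (hK : IsFunctionField k K) [Finite k]
include hK

lemma le_card_effDiv {N : ℕ} (D : Divisor k K) (hD : D.deg = N) (hN : 2 * genus k K ≤ N) :
    Nat.card k ^ N ≤ Nat.card {D : Divisor k K // 0 ≤ D ∧ D.deg = (N : ℤ)} * Nat.card k ^ genus k K := by
  classical
  haveI := finite_Cl0 hK
  letI := Fintype.ofFinite (Cl0 k K)
  have h := card_effDiv_eq hK D hD
  have hell : ∀ c : Cl0 k K, ell (rep c + D) = N + 1 - genus k K := fun c => by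
    have hd : (rep c + D).deg = N := by rw [deg_add, deg_rep, hD, zero_add]
    have := ell_of_deg_large hK (D := rep c + D) (by omega)
    omega
  simp only [hell, Finset.sum_const, smul_eq_mul, Finset.card_univ] at h
  rw [show Fintype.card (Cl0 k K) = classNum k K from (Nat.card_eq_fintype_card).symm] at h
  have hh := classNum_pos hK
  have hq : 1 < Nat.card k := Finite.one_lt_card
  obtain ⟨j, hj⟩ : ∃ j, N = genus k K + j := ⟨N - genus k K, by omega⟩
  rw [show N + 1 - genus k K = j + 1 by omega, pow_succ] at h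
  subst hj
  rw [pow_add, mul_comm _ (Nat.card k ^ genus k K)]
  refine Nat.mul_le_mul_left _ ?_
  set q := Nat.card k
  set A := Nat.card {D : Divisor k K // 0 ≤ D ∧ D.deg = ((genus k K + j : ℕ) : ℤ)}
  set hcl := classNum k K
  have hpow : 1 ≤ q ^ j := Nat.one_le_pow _ _ (by omega)
  obtain ⟨q', hq'⟩ : ∃ q', q = q' + 1 := ⟨q - 1, by omega⟩
  rw [hq', Nat.add_sub_cancel] at h
  rw [hq'] at hpow ⊢
  by_contra hlt
  push Not at hlt
  have h1 : q' * A + q' ≤ q' * (q' + 1) ^ j := by
    rw [← Nat.mul_succ]; exact Nat.mul_le_mul_left _ hlt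
  nlinarith [Nat.mul_le_mul hh (Nat.le_refl ((q' + 1) ^ j))]

lemma card_effDiv_le {N : ℕ} (D : Divisor k K) (hD : D.deg = N) (hN : 2 * genus k K ≤ N) :
    Nat.card {D : Divisor k K // 0 ≤ D ∧ D.deg = (N : ℤ)} ≤ classNum k K * Nat.card k ^ (N + 1) := by
  classical
  haveI := finite_Cl0 hK
  letI := Fintype.ofFinite (Cl0 k K)
  have h := card_effDiv_eq hK D hD
  have hq : 1 < Nat.card k := Finite.one_lt_card
  have hell : ∀ c : Cl0 k K, ell (rep c + D) ≤ N + 1 := fun c => by
    have hd : (rep c + D).deg = N := by rw [deg_add, deg_rep, hD, zero_add]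
    have := ell_of_deg_large hK (D := rep c + D) (by omega)
    omega
  have h1 : ∑ c : Cl0 k K, Nat.card k ^ ell (rep c + D) ≤ classNum k K * Nat.card k ^ (N + 1) := by
    refine (Finset.sum_le_card_nsmul _ _ _ fun c _ => Nat.pow_le_pow_right (by omega) (hell c)).trans ?_
    rw [smul_eq_mul, Finset.card_univ, show Fintype.card (Cl0 k K) = classNum k K from (Nat.card_eq_fintype_card).symm]
  refine le_trans ?_ h1
  rw [← h]
  exact le_trans (Nat.le_mul_of_pos_left _ (by omega)) (Nat.le_add_right _ _)

/-- Schmidt's theorem. -/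
theorem exists_deg_eq_one : ∃ D : Divisor k K, D.deg = 1 := by
  classical
  obtain ⟨δ, hδ⟩ := Int.subgroup_cyclic (degHom k K).range
  rw [← AddSubgroup.zmultiples_eq_closure] at hδ
  obtain ⟨d, hd⟩ : ∃ d, d = δ.natAbs := ⟨_, rfl⟩
  have hdvd : ∀ D : Divisor k K, (d : ℤ) ∣ D.deg := fun D => by
    have : D.deg ∈ (degHom k K).range := ⟨D, degHom_apply D⟩
    rw [hδ, Int.mem_zmultiples_iff] at this
    rw [hd, Int.natAbs_dvd]
    exact this
  obtain ⟨D₁, hD₁⟩ : ∃ D : Divisor k K, D.deg = d := by
    have : (d : ℤ) ∈ (degHom k K).range := by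
      rw [hδ, Int.mem_zmultiples_iff, hd]
      exact Int.dvd_natAbs.2 dvd_rfl
    obtain ⟨D, hD⟩ := this
    exact ⟨D, by rw [← degHom_apply, hD]⟩
  have hPd : ∀ P : Place k K, d ∣ P.deg := fun P => by
    have := hdvd (Finsupp.single P 1)
    rw [deg_single, one_mul, Int.natCast_dvd_natCast] at this
    exact this
  obtain ⟨⟨x, hx, -⟩, -⟩ := id hK
  obtain ⟨P₀, -⟩ := exists_zero hK hx
  have hd0 : 0 < d := Nat.pos_of_dvd_of_pos (hPd P₀) (deg_pos hK P₀)
  refine ⟨D₁, ?_⟩
  rw [hD₁]
  by_contra hd1
  have hd2 : 2 ≤ d := by omega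
  -- the extension of constants of degree `d`
  obtain ⟨p, hp⟩ := CharP.exists k
  haveI : Fact p.Prime := ⟨CharP.char_is_prime k p⟩
  haveI : NeZero d := ⟨hd0.ne'⟩
  obtain ⟨γ, hγ⟩ := Field.exists_primitive_element k (FiniteField.Extension k p d)
  have hγi : IsIntegral k γ := Algebra.IsIntegral.isIntegral γ
  set f := minpoly k γ with hf
  have hfd : f.natDegree = d := by
    rw [hf, ← IntermediateField.adjoin.finrank hγi, hγ, IntermediateField.finrank_top',
      FiniteField.finrank_extension]
  have hfi : Irreducible f := minpoly.irreducible hγi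
  have hfm : f.Monic := minpoly.monic hγi
  haveI : Fact (Irreducible f) := ⟨hfi⟩
  set fK := f.map (algebraMap k K)
  have hfKi : Irreducible fK := irreducible_map_const hK hfm hfi
  haveI : Fact (Irreducible fK) := ⟨hfKi⟩
  let k' := AdjoinRoot f
  let K' := AdjoinRoot fK
  haveI : IsScalarTower k K K' := IsScalarTower.of_algebraMap_eq fun _ => rfl
  let ι : k' →ₐ[k] K' := AdjoinRoot.liftAlgHom f (Algebra.ofId k K') (AdjoinRoot.root fK) (by
    have h0 : Polynomial.aeval (AdjoinRoot.root fK) f = 0 := by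
      rw [← Polynomial.aeval_map_algebraMap K, AdjoinRoot.aeval_eq, AdjoinRoot.mk_self]
    exact h0)
  letI : Algebra k' K' := ι.toRingHom.toAlgebra
  haveI : IsScalarTower k k' K' := IsScalarTower.of_algebraMap_eq fun c => (ι.commutes c).symm
  haveI : FiniteDimensional k k' := (AdjoinRoot.powerBasis hfi.ne_zero).finite
  haveI : FiniteDimensional K K' := (AdjoinRoot.powerBasis hfKi.ne_zero).finite
  haveI : Finite k' := Module.finite_of_finite k
  set α : k' := AdjoinRoot.root f
  have hα1 : minpoly k α = f := by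
    rw [AdjoinRoot.minpoly_root hfi.ne_zero, hfm.leadingCoeff]; simp
  have hk' : Module.finrank k k' = d := by
    rw [(AdjoinRoot.powerBasis hfi.ne_zero).finrank]; exact hfd
  have hK'd : Module.finrank K K' = d := by
    rw [(AdjoinRoot.powerBasis hfKi.ne_zero).finrank]
    exact (Polynomial.natDegree_map _).trans hfd
  have hK' : IsFunctionField k' K' := isFunctionField_of_finrank hK (by rw [hK'd, hk'])
  have hα : Module.finrank K K' = (minpoly k α).natDegree := by rw [hK'd, hα1, hfd]
  have hsep : (minpoly k α).Separable := PerfectField.separable_of_irreducible (by rw [hα1]; exact hfi)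
  -- two places over every place
  have htwo : ∀ P : Place k K, ∃ Q : Fin 2 → Place k' K', Function.Injective Q ∧
      ∀ j, IsOver (downPlace (k := k) (Q j)) P ∧ d * (Q j).deg = P.deg := by
    intro P
    haveI : @Module.Finite k (IsLocalRing.ResidueField P.O) _ _ Algebra.toModule := finite_residue hK P
    have key := places_over_const hK hK' hα hsep P
    simp only at key
    revert key
    generalize hF : (UniqueFactorizationMonoid.normalizedFactors
      ((minpoly k α).map (algebraMap k (IsLocalRing.ResidueField P.O)))).toFinset = F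
    rintro ⟨hsum, e, he⟩
    have h1 : ∀ h ∈ F, h.natDegree = 1 := fun h hh => by
      rw [← hF, Multiset.mem_toFinset] at hh
      have := natDegree_factor (k := k) (by rw [hα1]; exact hfi : Irreducible (minpoly k α))
        (UniqueFactorizationMonoid.irreducible_of_normalized_factor h hh)
        (UniqueFactorizationMonoid.dvd_of_mem_normalizedFactors hh)
      rw [hα1, hfd, show Module.finrank k (IsLocalRing.ResidueField P.O) = P.deg from rfl,
        Nat.gcd_eq_left (hPd P)] at this
      exact Nat.eq_of_mul_eq_mul_right hd0 (by rw [this, one_mul])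
    have hcard : F.card = d := by
      rw [Finset.sum_congr rfl h1, Finset.sum_const, smul_eq_mul, mul_one, hα1, hfd] at hsum
      exact hsum
    have hc : Fintype.card (Fin 2) ≤ Fintype.card F := by simp [hcard, hd2]
    obtain ⟨emb⟩ := Function.Embedding.nonempty_of_card_le hc
    refine ⟨fun j => placeEquiv k K' k' (e (emb j)).1, fun a b hab => ?_, fun j => ⟨(e (emb j)).2, ?_⟩⟩
    · exact emb.injective (e.injective (Subtype.ext ((placeEquiv k K' k').injective hab)))
    · have h2 := deg_placeEquiv (k' := k') (e (emb j)).1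
      rw [(he (emb j)).2.1, h1 _ (emb j).2, mul_one, hk'] at h2
      exact h2.symm
  choose σ hσi hσ using htwo
  have hσP : ∀ P P₂ i j, σ P i = σ P₂ j → P = P₂ ∧ i = j := fun P P₂ i j h => by
    have h3 : P = P₂ := place_below_unique (hσ P i).1 (h ▸ (hσ P₂ j).1)
    subst h3
    exact ⟨rfl, hσi P h⟩
  have hinj : ∀ j, Function.Injective fun P => σ P j := fun j P P₂ h => (hσP P P₂ j j h).1
  -- pairs of divisors inject
  have hdeg : ∀ (D : Divisor k K) j, (d : ℤ) * Divisor.deg (D.mapDomain fun P => σ P j) = D.deg := by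
    intro D j
    induction D using Finsupp.induction_linear with
    | zero => simp [Divisor.deg]
    | add D E hD hE => rw [Finsupp.mapDomain_add, deg_add, deg_add, mul_add, hD, hE]
    | single P n =>
      rw [Finsupp.mapDomain_single, deg_single, deg_single, ← (hσ P j).2]
      push_cast; ring
  set M := 2 * genus k K with hM
  set q := Nat.card k
  set g' := genus k' K'
  set X := classNum k' K' * q ^ d * q ^ (2 * genus k K) + 2 * g'
  set n := 2 * M + X
  have hDN : ∀ i : ℕ, ((i : ℤ) • D₁).deg = ((i * d : ℕ) : ℤ) := fun i => by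
    rw [deg_smul, hD₁]; push_cast; ring
  obtain ⟨E, hE⟩ : ∃ E : Divisor k' K', E.deg = n := ⟨(((n : ℤ) • D₁).mapDomain fun P => σ P 0), by
    have := hdeg ((n : ℤ) • D₁) 0
    rw [hDN, Nat.cast_mul, mul_comm (n : ℤ)] at this
    exact mul_left_cancel₀ (by exact_mod_cast hd0.ne') this⟩
  have hupper := card_effDiv_le hK' E hE (by omega)
  let A := fun N : ℕ => {D : Divisor k K // 0 ≤ D ∧ D.deg = (N : ℤ)}
  let T := Σ m : Fin (X + 1), A ((M + m.1) * d) × A ((M + (X - m.1)) * d)
  haveI : ∀ N, Finite (A N) := fun N => finite_effDiv hK (N : ℤ)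
  haveI := finite_effDiv hK' (n : ℤ)
  let Φ : T → {D : Divisor k' K' // 0 ≤ D ∧ D.deg = (n : ℤ)} := fun t =>
    ⟨(t.2.1.1.mapDomain fun P => σ P 0) + (t.2.2.1.mapDomain fun P => σ P 1), by
      have nn : ∀ (D : Divisor k K) j, 0 ≤ D → 0 ≤ D.mapDomain fun P => σ P j := by
        intro D j hD Q
        rw [Finsupp.zero_apply]
        by_cases hQ : Q ∈ Set.range fun P => σ P j
        · obtain ⟨P, rfl⟩ := hQ
          rw [Finsupp.mapDomain_apply (hinj j)]
          exact hD P
        · rw [Finsupp.mapDomain_notin_range _ _ hQ]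
      refine ⟨add_nonneg (nn _ 0 t.2.1.2.1) (nn _ 1 t.2.2.2.1), ?_⟩
      refine mul_left_cancel₀ (show (d : ℤ) ≠ 0 by exact_mod_cast hd0.ne') ?_
      rw [deg_add, mul_add, hdeg, hdeg, t.2.1.2.2, t.2.2.2.2]
      have hm : t.1.1 ≤ X := Nat.lt_succ_iff.1 t.1.2
      push_cast [n, Nat.cast_sub hm]
      ring⟩
  have hΦ : Function.Injective Φ := by
    rintro ⟨m, ⟨a, ha, ha'⟩, ⟨b, hb, hb'⟩⟩ ⟨m₂, ⟨a₂, ha₂, ha₂'⟩, ⟨b₂, hb₂, hb₂'⟩⟩ h
    have h' := congrArg Subtype.val h
    simp only [Φ] at h'
    have hev : ∀ (D : Divisor k K) P i j, i ≠ j → (D.mapDomain fun P => σ P i) (σ P j) = 0 := by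
      intro D P i j hij
      refine Finsupp.mapDomain_notin_range _ _ ?_
      rintro ⟨P₂, h2⟩
      exact hij (hσP _ _ _ _ h2).2
    have haa : a = a₂ := Finsupp.ext fun P => by
      have := DFunLike.congr_fun h' (σ P 0)
      simp only [Finsupp.add_apply, Finsupp.mapDomain_apply (hinj 0), hev _ P 1 0 (by simp), add_zero] at this
      exact this
    have hbb : b = b₂ := Finsupp.ext fun P => by
      have := DFunLike.congr_fun h' (σ P 1)
      simp only [Finsupp.add_apply, Finsupp.mapDomain_apply (hinj 1), hev _ P 0 1 (by simp), zero_add] at this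
      exact this
    subst haa hbb
    have : m = m₂ := by
      rw [ha'] at ha₂'
      have := Nat.eq_of_mul_eq_mul_right hd0 (Int.natCast_inj.1 ha₂')
      exact Fin.ext (by omega)
    subst this
    rfl
  have hlower : (X + 1) * q ^ (n * d) ≤ Nat.card T * q ^ (2 * genus k K) := by
    rw [Nat.card_sigma, Finset.sum_mul]
    calc (X + 1) * q ^ (n * d) = ∑ _m : Fin (X + 1), q ^ (n * d) := by simp
      _ ≤ _ := Finset.sum_le_sum fun m _ => ?_
    have hm := m.2
    have h1 := le_card_effDiv hK ((M + m.1 : ℕ) • D₁ : Divisor k K) (N := (M + m.1) * d) (by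
      rw [← natCast_zsmul, hDN]) (by nlinarith)
    have h2 := le_card_effDiv hK ((M + (X - m.1) : ℕ) • D₁ : Divisor k K) (N := (M + (X - m.1)) * d) (by
      rw [← natCast_zsmul, hDN]) (by nlinarith)
    rw [Nat.card_prod, two_mul, pow_add]
    calc q ^ (n * d) = q ^ ((M + m.1) * d) * q ^ ((M + (X - m.1)) * d) := by
          rw [← pow_add, ← add_mul]; congr 2; omega
      _ ≤ _ := Nat.mul_le_mul h1 h2
      _ = _ := by simp only [A]; ring
  have hcard := Nat.card_le_card_of_injective Φ hΦ
  rw [Module.natCard_eq_pow_finrank (K := k) (V := k'), hk', ← pow_mul] at hupper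
  have hq : 1 < q := Finite.one_lt_card
  have h3 := hlower.trans (Nat.mul_le_mul_right _ (hcard.trans hupper))
  rw [show classNum k' K' * q ^ (d * (n + 1)) * q ^ (2 * genus k K) =
    (classNum k' K' * q ^ d * q ^ (2 * genus k K)) * q ^ (n * d) by rw [Nat.mul_succ, pow_add, mul_comm d n]; ring] at h3
  have h4 := Nat.le_of_mul_le_mul_right h3 (pow_pos (by omega) _)
  omega

end lower

end Groth.Agent.FF
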