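import Mathlib
import Groth.Agent.FF.Schmidt

/-! The zeta numerator of a function field over a finite field: rationality, functional equation. -/

set_option linter.style.haveILetI false

namespace Groth.Agent.FF

open FunFld
open scoped WithZero IntermediateField

variable {k K : Type*} [Field k] [Field K] [Algebra k K]

open scoped Classical in
/-- `∑ q ^ ℓ` over the classes of degree `n`. -/
noncomputable def classSum (D₁ : Divisor k K) (n : ℤ) : ℚ :=
  if h : Finite (Cl0 k K) then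
    haveI := Fintype.ofFinite (Cl0 k K)
    ∑ c : Cl0 k K, (Nat.card k : ℚ) ^ ell (rep c + n • D₁)
  else 0

/-- The numerator as a polynomial. -/
noncomputable def numerPoly (k K : Type*) [Field k] [Field K] [Algebra k K] : Polynomial ℤ :=
  (numerZ k K).trunc (2 * genus k K + 1)

variable [Finite k]

/-- The coefficients `a(n)` extended by zero. -/
noncomputable def aZ (k K : Type*) [Field k] [Field K] [Algebra k K] (n : ℤ) : ℚ :=
  if n < 0 then 0 else (effDivCount k K n.toNat : ℚ)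

variable (hK : IsFunctionField k K) {D₁ : Divisor k K} (h₁ : D₁.deg = 1)
include hK h₁

omit [Finite k] in
lemma deg_rep_add (c : Cl0 k K) (n : ℤ) : (rep c + n • D₁).deg = n := by
  rw [deg_add, deg_rep, deg_smul, h₁, zero_add, mul_one]

omit h₁ in
lemma classSum_eq [Fintype (Cl0 k K)] (n : ℤ) :
    classSum D₁ n = ∑ c : Cl0 k K, (Nat.card k : ℚ) ^ ell (rep c + n • D₁) := by
  rw [classSum, dif_pos (finite_Cl0 hK)]
  convert rfl

lemma classSum_large {n : ℤ} (hn : 2 * (genus k K : ℤ) - 1 ≤ n) :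
    classSum D₁ n = classNum k K * (Nat.card k : ℚ) ^ (n + 1 - genus k K) := by
  haveI := finite_Cl0 hK
  letI := Fintype.ofFinite (Cl0 k K)
  have e : (classNum k K : ℚ) = ∑ _c : Cl0 k K, (1 : ℚ) := by simp [classNum, Nat.card_eq_fintype_card]
  rw [classSum_eq hK, e, Finset.sum_mul]
  refine Finset.sum_congr rfl fun c _ => ?_
  rw [one_mul]
  have hd := deg_rep_add hK h₁ c n
  have := ell_of_deg_large hK (D := rep c + n • D₁) (by omega)
  rw [hd] at this
  rw [← zpow_natCast, this]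

lemma classSum_neg {n : ℤ} (hn : n < 0) : classSum D₁ n = classNum k K := by
  haveI := finite_Cl0 hK
  letI := Fintype.ofFinite (Cl0 k K)
  rw [classSum_eq hK]
  have h0 : ∀ c : Cl0 k K, ell (rep c + n • D₁) = 0 := fun c =>
    ell_eq_zero_of_deg_neg hK (by rw [deg_rep_add hK h₁]; exact hn)
  simp [h0, classNum, Nat.card_eq_fintype_card]

lemma aZ_eq (n : ℤ) : ((Nat.card k : ℚ) - 1) * aZ k K n = classSum D₁ n - classNum k K := by
  rcases lt_or_ge n 0 with hn | hn
  · rw [classSum_neg hK h₁ hn, sub_self, aZ, if_pos hn, mul_zero]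
  obtain ⟨m, rfl⟩ := Int.eq_ofNat_of_zero_le hn
  haveI := finite_Cl0 hK
  letI := Fintype.ofFinite (Cl0 k K)
  have h := card_effDiv_eq hK ((m : ℤ) • D₁) (n := (m : ℤ)) (by rw [deg_smul, h₁, mul_one])
  have h' := congrArg (Nat.cast (R := ℚ)) h
  rw [Nat.cast_add, Nat.cast_mul, Nat.cast_sub Finite.one_lt_card.le, Nat.cast_sum] at h'
  simp only [Nat.cast_pow, Nat.cast_one] at h'
  rw [classSum_eq hK, ← h', aZ, if_neg (by omega), Int.toNat_natCast]
  simp [effDivCount]

/-- Riemann–Roch in the class sums. -/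
lemma classSum_reflect (n : ℤ) :
    classSum D₁ n = (Nat.card k : ℚ) ^ (n + 1 - genus k K) * classSum D₁ (2 * genus k K - 2 - n) := by
  classical
  haveI := finite_Cl0 hK
  letI := Fintype.ofFinite (Cl0 k K)
  obtain ⟨C, hC⟩ := exists_canonical hK
  have hCd := (canonical_deg hK hC).2
  have hw : C - (2 * (genus k K : ℤ) - 2) • D₁ ∈ (degHom k K).ker := by
    rw [AddMonoidHom.mem_ker, degHom_apply, deg_sub, deg_smul, h₁, hCd]; ring
  let w : Cl0 k K := QuotientAddGroup.mk ⟨_, hw⟩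
  have key : ∀ c : Cl0 k K, ell (C - (rep c + n • D₁)) = ell (rep (w - c) + (2 * (genus k K : ℤ) - 2 - n) • D₁) := by
    intro c
    refine (ell_congr hK ?_).symm
    have h2 : (QuotientAddGroup.mk (⟨_, hw⟩ - Quotient.out c : (degHom k K).ker) : Cl0 k K) = w - c := by
      rw [QuotientAddGroup.mk_sub, QuotientAddGroup.out_eq']
    rw [rep_eq_iff] at h2
    convert h2 using 1
    simp only [AddSubgroup.coe_sub, rep]
    rw [sub_smul]
    abel
  rw [classSum_eq hK, classSum_eq hK, Finset.mul_sum, ← (Equiv.subLeft w).sum_comp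
    (fun c => (Nat.card k : ℚ) ^ (n + 1 - (genus k K : ℤ)) * _)]
  refine Finset.sum_congr rfl fun c _ => ?_
  have h := riemann_roch hK hC (rep c + n • D₁)
  rw [deg_rep_add hK h₁, key c] at h
  simp only [Equiv.subLeft_apply]
  rw [← zpow_natCast, h, zpow_add₀ (by exact_mod_cast Nat.card_pos.ne'), zpow_natCast]

omit hK h₁ in
lemma coeff_numerZ (i : ℕ) :
    ((PowerSeries.coeff i (numerZ k K) : ℤ) : ℚ) =
      aZ k K i - ((Nat.card k : ℚ) + 1) * aZ k K ((i : ℤ) - 1) + (Nat.card k : ℚ) * aZ k K ((i : ℤ) - 2) := by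
  have e : numerZ k K = zetaZ k K - PowerSeries.C ((Nat.card k : ℤ) + 1) * (PowerSeries.X ^ 1 * zetaZ k K) +
      PowerSeries.C (Nat.card k : ℤ) * (PowerSeries.X ^ 2 * zetaZ k K) := by
    rw [numerZ, map_add, map_one]; ring
  have ha : ∀ j : ℕ, j ≤ i → ((effDivCount k K (i - j) : ℤ) : ℚ) = aZ k K ((i : ℤ) - j) := fun j hj => by
    rw [aZ, if_neg (by omega), show ((i : ℤ) - j).toNat = i - j by omega]
    norm_cast
  have hz : ∀ j : ℕ, ¬ j ≤ i → aZ k K ((i : ℤ) - j) = 0 := fun j hj => by rw [aZ, if_pos (by omega)]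
  have hX : ∀ j : ℕ, ((PowerSeries.coeff i (PowerSeries.X ^ j * zetaZ k K) : ℤ) : ℚ) = aZ k K ((i : ℤ) - j) := by
    intro j
    rw [PowerSeries.coeff_X_pow_mul']
    split_ifs with h
    · rw [zetaZ, PowerSeries.coeff_mk, ha j h]
    · rw [hz j h, Int.cast_zero]
  rw [e, map_add, map_sub, PowerSeries.coeff_C_mul, PowerSeries.coeff_C_mul]
  push_cast
  rw [hX, hX]
  have h0 := hX 0
  simp only [pow_zero, one_mul, Nat.cast_zero, sub_zero] at h0
  rw [h0]
  push_cast
  ring

lemma coeff_numerZ_eq (i : ℕ) :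
    ((Nat.card k : ℚ) - 1) * ((PowerSeries.coeff i (numerZ k K) : ℤ) : ℚ) =
      classSum D₁ i - ((Nat.card k : ℚ) + 1) * classSum D₁ ((i : ℤ) - 1) +
        (Nat.card k : ℚ) * classSum D₁ ((i : ℤ) - 2) := by
  have e1 := aZ_eq hK h₁ (i : ℤ)
  have e2 := aZ_eq hK h₁ ((i : ℤ) - 1)
  have e3 := aZ_eq hK h₁ ((i : ℤ) - 2)
  rw [coeff_numerZ]
  linear_combination e1 - ((Nat.card k : ℚ) + 1) * e2 + (Nat.card k : ℚ) * e3

lemma numerZ_coeff_eq_zero {i : ℕ} (hi : 2 * genus k K < i) : PowerSeries.coeff i (numerZ k K) = 0 := by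
  have h := coeff_numerZ_eq hK h₁ i
  rw [classSum_large hK h₁ (by omega), classSum_large hK h₁ (by omega), classSum_large hK h₁ (by omega)] at h
  have hq : (Nat.card k : ℚ) ≠ 0 := by exact_mod_cast Nat.card_pos.ne'
  rw [show (i : ℤ) + 1 - genus k K = ((i : ℤ) - 2 + 1 - genus k K) + 2 by ring,
    show (i : ℤ) - 1 + 1 - genus k K = ((i : ℤ) - 2 + 1 - genus k K) + 1 by ring, zpow_add₀ hq,
    zpow_add₀ hq] at h
  have hq1 : (Nat.card k : ℚ) - 1 ≠ 0 := by
    rw [sub_ne_zero]; exact_mod_cast (Finite.one_lt_card (α := k)).ne'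
  have : ((Nat.card k : ℚ) - 1) * ((PowerSeries.coeff i (numerZ k K) : ℤ) : ℚ) = 0 := by
    rw [h]; norm_num [zpow_one]; ring
  exact_mod_cast (mul_eq_zero.1 this).resolve_left hq1

lemma numerZ_coeff_reflect {i : ℕ} (hi : i ≤ 2 * genus k K) :
    ((PowerSeries.coeff (2 * genus k K - i) (numerZ k K) : ℤ) : ℚ) =
      (Nat.card k : ℚ) ^ ((genus k K : ℤ) - i) * ((PowerSeries.coeff i (numerZ k K) : ℤ) : ℚ) := by
  have hq : (Nat.card k : ℚ) ≠ 0 := by exact_mod_cast Nat.card_pos.ne'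
  have hq1 : (Nat.card k : ℚ) - 1 ≠ 0 := by
    rw [sub_ne_zero]; exact_mod_cast (Finite.one_lt_card (α := k)).ne'
  have h := coeff_numerZ_eq hK h₁ i
  have h' := coeff_numerZ_eq hK h₁ (2 * genus k K - i)
  rw [Nat.cast_sub hi, Nat.cast_mul, Nat.cast_ofNat] at h'
  set g : ℤ := (genus k K : ℤ)
  rw [classSum_reflect hK h₁ (2 * g - i), classSum_reflect hK h₁ (2 * g - i - 1),
    classSum_reflect hK h₁ (2 * g - i - 2), show 2 * g - 2 - (2 * g - i) = (i : ℤ) - 2 by ring,
    show 2 * g - 2 - (2 * g - i - 1) = (i : ℤ) - 1 by ring,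
    show 2 * g - 2 - (2 * g - i - 2) = (i : ℤ) by ring,
    show 2 * g - i + 1 - g = (g - i) + 1 by ring, show 2 * g - i - 1 + 1 - g = g - i by ring,
    show 2 * g - i - 2 + 1 - g = (g - i) + (-1) by ring, zpow_add₀ hq, zpow_add₀ hq, zpow_one, zpow_neg_one] at h'
  refine mul_left_cancel₀ hq1 ?_
  rw [h', mul_left_comm ((Nat.card k : ℚ) - 1), h]
  field_simp
  ring

lemma numerZ_coeff_zero : PowerSeries.coeff 0 (numerZ k K) = 1 := by
  classical
  have h := coeff_numerZ (k := k) (K := K) 0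
  have hneg : ∀ n : ℤ, n < 0 → aZ k K n = 0 := fun n hn => by rw [aZ, if_pos hn]
  simp only [Nat.cast_zero] at h
  rw [hneg ((0 : ℤ) - 1) (by norm_num), hneg ((0 : ℤ) - 2) (by norm_num), aZ, if_neg (lt_irrefl _)] at h
  have h1 : effDivCount k K 0 = 1 := by
    rw [effDivCount, Nat.card_eq_one_iff_unique]
    refine ⟨⟨fun a b => Subtype.ext ?_⟩, ⟨0, le_rfl, deg_zero⟩⟩
    rw [eq_zero_of_nonneg_of_deg hK a.2.1 (by rw [a.2.2]; rfl),
      eq_zero_of_nonneg_of_deg hK b.2.1 (by rw [b.2.2]; rfl)]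
  rw [Int.toNat_zero, h1] at h
  simpa using h

lemma sum_coeff_numerZ :
    ∑ i ∈ Finset.range (2 * genus k K + 1), PowerSeries.coeff i (numerZ k K) = (classNum k K : ℤ) := by
  have hq1 : (Nat.card k : ℚ) - 1 ≠ 0 := by
    rw [sub_ne_zero]; exact_mod_cast (Finite.one_lt_card (α := k)).ne'
  have htel : ∀ N : ℕ, ((Nat.card k : ℚ) - 1) *
      ((∑ i ∈ Finset.range N, PowerSeries.coeff i (numerZ k K) : ℤ) : ℚ) =
      (classSum D₁ ((N : ℤ) - 1) - (Nat.card k : ℚ) * classSum D₁ ((N : ℤ) - 2)) -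
        (classSum D₁ (-1) - (Nat.card k : ℚ) * classSum D₁ (-2)) := by
    intro N
    induction N with
    | zero => simp
    | succ N ih =>
      rw [Finset.sum_range_succ, Int.cast_add, mul_add, ih, coeff_numerZ_eq hK h₁ N]
      push_cast
      ring_nf
  have h := htel (2 * genus k K + 1)
  rw [classSum_large hK h₁ (by push_cast; omega), classSum_large hK h₁ (by push_cast; omega),
    classSum_neg hK h₁ (by norm_num), classSum_neg hK h₁ (by norm_num)] at h
  have hq : (Nat.card k : ℚ) ≠ 0 := by exact_mod_cast Nat.card_pos.ne'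
  have h2 : ((Nat.card k : ℚ) - 1) *
      ((∑ i ∈ Finset.range (2 * genus k K + 1), PowerSeries.coeff i (numerZ k K) : ℤ) : ℚ) =
      ((Nat.card k : ℚ) - 1) * (classNum k K : ℚ) := by
    rw [h]
    push_cast
    rw [show (2 * (genus k K : ℤ) + 1 - 1 + 1 - genus k K) = (genus k K : ℤ) + 1 by ring,
      show (2 * (genus k K : ℤ) + 1 - 2 + 1 - genus k K) = (genus k K : ℤ) by ring, zpow_add₀ hq, zpow_one]
    ring
  exact_mod_cast mul_left_cancel₀ hq1 h2

lemma coe_numerPoly : ((numerPoly k K : Polynomial ℤ) : PowerSeries ℤ) = numerZ k K := by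
  ext i
  rw [Polynomial.coeff_coe, numerPoly, PowerSeries.coeff_trunc]
  split_ifs with h
  · rfl
  · exact (numerZ_coeff_eq_zero hK h₁ (by omega)).symm

end Groth.Agent.FF
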