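import Mathlib
import Groth.Agent.FF.Zeta
import Groth.Agent.FF.Clifford

/-! Bombieri's upper bound for the number of rational places over a field with `s ^ 2` elements. -/

set_option linter.style.haveILetI false

namespace Groth.Agent.FF

open FunFld
open scoped WithZero IntermediateField

attribute [local instance high] FunFld.Place.algRes
attribute [-instance] IsLocalRing.instModuleResidueFieldOfAlgebra

variable {k K : Type*} [Field k] [Field K] [Algebra k K] (hK : IsFunctionField k K)
include hK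

/-- Residue fields at places of degree one over a finite field: `x ^ q = x`. -/
lemma residue_pow_card [Finite k] {Q : Place k K} (hQ : Q.deg = 1) (x : IsLocalRing.ResidueField Q.O) :
    x ^ Nat.card k = x := by
  haveI : @Module.Finite k (IsLocalRing.ResidueField Q.O) _ _ Algebra.toModule := finite_residue hK Q
  haveI : Finite (IsLocalRing.ResidueField Q.O) := Module.finite_of_finite k
  letI := Fintype.ofFinite (IsLocalRing.ResidueField Q.O)
  have h : Nat.card (IsLocalRing.ResidueField Q.O) = Nat.card k := by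
    rw [Module.natCard_eq_pow_finrank (K := k) (V := IsLocalRing.ResidueField Q.O),
      show Module.finrank k (IsLocalRing.ResidueField Q.O) = Q.deg from rfl, hQ, pow_one]
  rw [← h, Nat.card_eq_fintype_card]
  exact FiniteField.pow_card x

lemma pow_mem_L {D : Divisor k K} {x : K} (hx : x ∈ L D) (n : ℕ) : x ^ n ∈ L ((n : ℤ) • D) := by
  induction n with
  | zero => simpa using one_mem_L (k := k) (K := K) (D := 0) le_rfl
  | succ n ih =>
    rw [pow_succ, Nat.cast_succ, add_smul, one_smul]
    exact mul_mem_L ih hx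

open scoped Classical in
/-- Elements with distinct pole orders. -/
lemma exists_pole_family (P : Place k K) (hP : P.deg = 1) (m : ℕ) :
    ∃ (J : Finset ℕ) (u : J → K), ell (Finsupp.single P (m : ℤ) : Divisor k K) ≤ J.card ∧
      ∀ i : J, (i : ℕ) ≤ m ∧ u i ≠ 0 ∧ u i ∈ L (Finsupp.single P (m : ℤ) : Divisor k K) ∧ P.ord (u i) = -(i : ℕ) := by
  set J := (Finset.range (m + 1)).filter fun i : ℕ =>
    ∃ x : K, x ≠ 0 ∧ x ∈ L (Finsupp.single P (i : ℤ) : Divisor k K) ∧ P.ord x = -(i : ℤ)
  have hJ : ∀ i : J, (i : ℕ) ≤ m ∧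
      ∃ x : K, x ≠ 0 ∧ x ∈ L (Finsupp.single P ((i : ℕ) : ℤ) : Divisor k K) ∧ P.ord x = -((i : ℕ) : ℤ) := fun i => by
    have := Finset.mem_filter.1 i.2
    exact ⟨Nat.lt_succ_iff.1 (Finset.mem_range.1 this.1), this.2⟩
  choose him x hx0 hxL hxo using hJ
  refine ⟨J, x, ?_, fun i => ⟨him i, hx0 i,
    L_mono (Finsupp.single_le_single.2 (by exact_mod_cast him i)) (hxL i), hxo i⟩⟩
  have key : ∀ n : ℕ, ell (Finsupp.single P (n : ℤ) : Divisor k K) ≤
      ((Finset.range (n + 1)).filter fun i : ℕ =>
        ∃ x : K, x ≠ 0 ∧ x ∈ L (Finsupp.single P (i : ℤ) : Divisor k K) ∧ P.ord x = -(i : ℤ)).card := by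
    intro n
    induction n with
    | zero =>
      rw [Nat.cast_zero, Finsupp.single_zero, ell_zero hK]
      refine Finset.card_pos.2 ⟨0, Finset.mem_filter.2 ⟨by simp, 1, one_ne_zero, ?_, by simp [ord_one]⟩⟩
      simpa using one_mem_L (k := k) (K := K) (D := 0) le_rfl
    | succ n ih =>
      rw [Finset.range_add_one (n := n + 1), Finset.filter_insert]
      have hstep := ell_sub_le hK (D₁ := (Finsupp.single P (n : ℤ) : Divisor k K))
        (D₂ := (Finsupp.single P ((n + 1 : ℕ) : ℤ) : Divisor k K)) (Finsupp.single_le_single.2 (by omega))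
      rw [deg_single, deg_single, hP] at hstep
      split_ifs with h
      · rw [Finset.card_insert_of_notMem (by simp)]
        push_cast at hstep ⊢
        omega
      · refine le_trans (le_of_not_gt fun hlt => h ?_) ih
        have e : (Finsupp.single P ((n + 1 : ℕ) : ℤ) : Divisor k K) - Finsupp.single P 1 = Finsupp.single P (n : ℤ) := by
          rw [← Finsupp.single_sub]; push_cast; simp
        obtain ⟨y, hy0, hy, hyo⟩ := exists_mem_L_ord (P := P) (D := (Finsupp.single P ((n + 1 : ℕ) : ℤ) : Divisor k K))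
          (by rw [e]; exact hlt)
        exact ⟨y, hy0, hy, by rw [hyo, Finsupp.single_eq_same]⟩
  exact key m

/-- Bombieri's bound. -/
theorem bombieri [Finite k] {s : ℕ} (hq : Nat.card k = s ^ 2) (hs : (genus k K + 1) ^ 2 < s) :
    Nat.card {P : Place k K // P.deg = 1} ≤ s ^ 2 + 1 + (2 * genus k K + 1) * s := by
  classical
  set g := genus k K with hg
  have hfin : {P : Place k K | P.deg = 1}.Finite :=
    (finite_places_deg_le hK 1).subset fun P (hP : P.deg = 1) => hP.le
  haveI : Finite {P : Place k K // P.deg = 1} := hfin.to_subtype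
  rcases isEmpty_or_nonempty {P : Place k K // P.deg = 1} with h | ⟨⟨P, hP⟩⟩
  · simp
  -- the characteristic
  obtain ⟨p, hp⟩ := CharP.exists k
  haveI : Fact p.Prime := ⟨CharP.char_is_prime k p⟩
  haveI : CharP K p := charP_of_injective_algebraMap (algebraMap k K).injective p
  obtain ⟨a, ha⟩ : ∃ a, s = p ^ a := by
    letI := Fintype.ofFinite k
    obtain ⟨n, -, hn⟩ := FiniteField.card k p
    have : s ∣ p ^ (n : ℕ) := by
      rw [← hn, ← Nat.card_eq_fintype_card, hq, pow_two]; exact dvd_mul_right _ _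
    obtain ⟨a, -, ha⟩ := (Nat.dvd_prime_pow Fact.out).1 this
    exact ⟨a, ha⟩
  have hs1 : 1 ≤ s := by omega
  set m := s - 1 with hm
  set r := s + 2 * g with hr
  obtain ⟨J, u, hJ, hu⟩ := exists_pole_family hK P hP m
  set Dm : Divisor k K := Finsupp.single P (m : ℤ)
  set Dr : Divisor k K := Finsupp.single P (r : ℤ)
  set T : Divisor k K := (s : ℤ) • Dm + Dr
  haveI := finite_L hK Dr
  haveI := finite_L hK T
  -- the linear map
  have hmem : ∀ (i : J) (z : L Dr), u i ^ s * (z : K) ∈ L T := fun i z =>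
    mul_mem_L (pow_mem_L hK (hu i).2.2.1 s) z.2
  let Θ : (J → L Dr) →ₗ[k] L T :=
    { toFun := fun z => ⟨∑ i, u i ^ s * (z i : K), Submodule.sum_mem _ fun i _ => hmem i (z i)⟩
      map_add' := fun z w => Subtype.ext (by simp [mul_add, Finset.sum_add_distrib])
      map_smul' := fun c z => Subtype.ext (by simp [Algebra.smul_def, Finset.mul_sum, mul_left_comm]) }
  have hdim : Module.finrank k (L T) < Module.finrank k (J → L Dr) := by
    rw [Module.finrank_pi_fintype]
    simp only [Finset.sum_const, Finset.card_univ, Fintype.card_coe, smul_eq_mul]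
    change ell T < J.card * ell Dr
    have h1 : (ell T : ℤ) = (s : ℤ) * m + r + 1 - g := by
      have hd : T.deg = (s : ℤ) * m + r := by rw [deg_add, deg_smul, deg_single, deg_single, hP]; push_cast; ring
      rw [ell_of_deg_large hK (by rw [hd]; nlinarith), hd]
    have h2 : (ell Dr : ℤ) = r + 1 - g := by
      have hd : Dr.deg = r := by rw [deg_single, hP]; push_cast; ring
      rw [ell_of_deg_large hK (by rw [hd]; omega), hd]
    have h3 : (s : ℤ) - g ≤ J.card := by
      have hd : Dm.deg = m := by rw [deg_single, hP]; push_cast; ring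
      have := (genus_spec hK).1 Dm
      simp only [defect, hd] at this
      have h4 : ((ell Dm : ℕ) : ℤ) ≤ J.card := by exact_mod_cast hJ
      omega
    have hms : (m : ℤ) = s - 1 := by omega
    have hrs : (r : ℤ) = s + 2 * g := by omega
    have hs' : ((g : ℤ) + 1) ^ 2 < s := by exact_mod_cast hs
    zify
    rw [h1, h2, hms, hrs]
    nlinarith [mul_le_mul_of_nonneg_right h3 (show (0 : ℤ) ≤ s + g + 1 by positivity)]
  obtain ⟨z, hz, hz0⟩ := Submodule.exists_mem_ne_zero_of_ne_bot (LinearMap.ker_ne_bot_of_finrank_lt (f := Θ) hdim)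
  have hΘ : ∑ i, u i ^ s * (z i : K) = 0 := congrArg Subtype.val (LinearMap.mem_ker.1 hz)
  set f := ∑ i, u i * (z i : K) ^ s with hf
  have hf0 : f ≠ 0 := by
    let J' := {i : J // (z i : K) ≠ 0}
    have hord : ∀ i : J', P.ord (u i.1 * (z i.1 : K) ^ s) = -((i.1 : ℕ) : ℤ) + (s : ℤ) * P.ord (z i.1 : K) := fun i => by
      rw [ord_mul P (hu i.1).2.1 (pow_ne_zero _ i.2), ord_pow, (hu i.1).2.2.2]
    have hli := linearIndependent_of_ord (k := k) P (fun i : J' => u i.1 * (z i.1 : K) ^ s)
      (fun i => mul_ne_zero (hu i.1).2.1 (pow_ne_zero _ i.2)) (fun i j hij => by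
        simp only [hord] at hij
        have hi : ((i.1 : ℕ) : ℤ) < s := by have := (hu i.1).1; omega
        have hj : ((j.1 : ℕ) : ℤ) < s := by have := (hu j.1).1; omega
        have hi0 : (0 : ℤ) ≤ ((i.1 : ℕ) : ℤ) := Int.natCast_nonneg _
        have hj0 : (0 : ℤ) ≤ ((j.1 : ℕ) : ℤ) := Int.natCast_nonneg _
        have h1 : ((i.1 : ℕ) : ℤ) - (j.1 : ℕ) = (s : ℤ) * (P.ord (z i.1 : K) - P.ord (z j.1 : K)) := by linarith
        have h2 : P.ord (z i.1 : K) - P.ord (z j.1 : K) = 0 := by
          by_contra hne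
          rcases lt_or_gt_of_ne hne with hh | hh
          · nlinarith [mul_le_mul_of_nonneg_left (Int.le_sub_one_of_lt hh) (Int.natCast_nonneg s)]
          · nlinarith [mul_le_mul_of_nonneg_left (Int.add_one_le_iff.2 hh) (Int.natCast_nonneg s)]
        rw [h2, mul_zero] at h1
        exact Subtype.ext (Subtype.ext (by omega)))
    obtain ⟨i₀, hi₀⟩ : ∃ i, (z i : K) ≠ 0 := by
      by_contra h
      push Not at h
      exact hz0 (funext fun i => Subtype.ext (h i))
    intro h
    have hsum : ∑ i : J', (1 : k) • (u i.1 * (z i.1 : K) ^ s) = 0 := by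
      simp only [one_smul]
      rw [← Finset.sum_subtype (Finset.univ.filter fun i : J => (z i : K) ≠ 0) (by simp)
        (fun i : J => u i * (z i : K) ^ s), Finset.sum_filter_of_ne, ← hf, h]
      intro i _ hne hzi
      exact hne (by rw [hzi, zero_pow (by omega), mul_zero])
    exact one_ne_zero (Fintype.linearIndependent_iff.1 hli _ hsum ⟨i₀, hi₀⟩)
  -- zeros and pole
  set S := hfin.toFinset.erase P with hS
  have hzero : ∀ Q ∈ S, Q.1 f < 1 := by
    intro Q hQ
    obtain ⟨hQP, hQ1⟩ := Finset.mem_erase.1 hQ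
    rw [Set.Finite.mem_toFinset] at hQ1
    have hint : ∀ n : ℕ, ∀ y ∈ L (Finsupp.single P (n : ℤ) : Divisor k K), Q.1 y ≤ 1 := fun n y hy => by
      have := hy Q
      rwa [Finsupp.single_eq_of_ne hQP, WithZero.exp_zero] at this
    let u' : J → Q.O := fun i => ⟨u i, hint m _ (hu i).2.2.1⟩
    let z' : J → Q.O := fun i => ⟨(z i : K), hint r _ (z i).2⟩
    let f' : Q.O := ∑ i, u' i * z' i ^ s
    have ef : (f' : K) = f := by
      simp only [f', hf, AddSubmonoidClass.coe_finsetSum, MulMemClass.coe_mul, SubmonoidClass.coe_pow]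
      rfl
    have eθ : ∑ i, u' i ^ s * z' i = 0 := Subtype.ext (by
      simp only [AddSubmonoidClass.coe_finsetSum, MulMemClass.coe_mul, SubmonoidClass.coe_pow]
      exact hΘ)
    haveI : CharP (IsLocalRing.ResidueField Q.O) p := charP_of_injective_algebraMap (algebraMap k _).injective p
    have h1 : IsLocalRing.residue Q.O f' ^ s = 0 := by
      have h2 := congrArg (IsLocalRing.residue Q.O) eθ
      rw [map_sum, map_zero] at h2
      rw [map_sum, ha, sum_pow_char_pow, ← h2]
      refine Finset.sum_congr rfl fun i _ => ?_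
      rw [← ha, map_mul, map_mul, map_pow, map_pow, mul_pow, ← pow_mul, ← pow_two, ← hq, residue_pow_card hK hQ1]
    have h3 := pow_eq_zero_iff (n := s) (by omega) |>.1 h1
    rw [residue_eq_zero_iff, ef] at h3
    exact h3
  have hpole : f ∈ L (Finsupp.single P ((m + r * s : ℕ) : ℤ) : Divisor k K) := by
    refine Submodule.sum_mem _ fun i _ => ?_
    have e : (Finsupp.single P ((m + r * s : ℕ) : ℤ) : Divisor k K) = Dm + (s : ℤ) • Dr := by
      rw [Finsupp.smul_single, ← Finsupp.single_add]; congr 1; push_cast [smul_eq_mul]; ring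
    rw [e]
    exact mul_mem_L (hu i).2.2.1 (pow_mem_L hK (z i).2 s)
  set E : Divisor k K := Finsupp.single P ((m + r * s : ℕ) : ℤ) - ∑ Q ∈ S, Finsupp.single Q 1
  have hE : f ∈ L E := by
    rw [mem_L_iff_ord hf0]
    intro R
    have h1 := (mem_L_iff_ord hf0).1 hpole R
    simp only [E, Finsupp.sub_apply, Finsupp.finsetSum_apply]
    by_cases hR : R ∈ S
    · have h2 := (v_lt_one_iff R hf0).1 (hzero R hR)
      rw [Finsupp.single_eq_of_ne (Finset.mem_erase.1 hR).1, Finset.sum_eq_single R
        (fun b _ hb => Finsupp.single_eq_of_ne (Ne.symm hb)) (fun h => absurd hR h), Finsupp.single_eq_same]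
      omega
    · rw [Finset.sum_eq_zero fun b hb => Finsupp.single_eq_of_ne fun h : R = b => hR (h ▸ hb)]
      omega
  have hdeg : 0 ≤ E.deg := by
    by_contra hlt
    have h1 := ell_eq_zero_of_deg_neg hK (not_le.1 hlt)
    haveI := finite_L hK E
    have h2 : L E ≠ ⊥ := (Submodule.ne_bot_iff _).2 ⟨f, hE, hf0⟩
    exact h2 (Submodule.finrank_eq_zero.1 h1)
  have hsum : ∀ T' : Finset (Place k K), (∀ Q ∈ T', Q.deg = 1) →
      Divisor.deg (∑ Q ∈ T', Finsupp.single Q (1 : ℤ)) = T'.card := by
    intro T'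
    induction T' using Finset.induction with
    | empty => simp [Divisor.deg]
    | insert Q T' hQ ih =>
      intro h
      rw [Finset.sum_insert hQ, deg_add, deg_single, h Q (Finset.mem_insert_self _ _),
        ih fun R hR => h R (Finset.mem_insert_of_mem hR), Finset.card_insert_of_notMem hQ]
      push_cast; ring
  have hS1 : ∀ Q ∈ S, Q.deg = 1 := fun Q hQ => hfin.mem_toFinset.1 (Finset.mem_of_mem_erase hQ)
  rw [deg_sub, deg_single, hP, hsum S hS1, Finset.card_erase_of_mem (hfin.mem_toFinset.2 hP)] at hdeg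
  have hN : Nat.card {P : Place k K // P.deg = 1} = hfin.toFinset.card := by
    rw [← Set.ncard_eq_toFinset_card _ hfin, ← Nat.card_coe_set_eq]; rfl
  rw [hN]
  rw [Nat.cast_sub (Finset.card_pos.2 ⟨P, hfin.mem_toFinset.2 hP⟩)] at hdeg
  push_cast at hdeg
  have hms : (m : ℤ) = s - 1 := by omega
  have hrs : (r : ℤ) = s + 2 * g := by omega
  rw [hms, hrs] at hdeg
  generalize hfin.toFinset.card = N₀ at hdeg ⊢
  zify
  nlinarith

end Groth.Agent.FF
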