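import Mathlib
import Groth.Agent.FF.ConstExt

/-! Separable constant extensions: the field of constants and the integral closure of a valuation ring. -/

set_option linter.style.haveILetI false

namespace Groth.Agent.FF

open FunFld
open scoped WithZero IntermediateField

attribute [local instance high] FunFld.Place.algRes
attribute [-instance] IsLocalRing.instModuleResidueFieldOfAlgebra

variable {k K k' K' : Type*} [Field k] [Field K] [Field k'] [Field K'] [Algebra k K] [Algebra K K'] [Algebra k K']
  [IsScalarTower k K K'] [Algebra k k'] [Algebra k' K'] [IsScalarTower k k' K'] [FiniteDimensional k k']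
  [FiniteDimensional K K'] (hK : IsFunctionField k K) {α : k'}
  (hα : Module.finrank K K' = (minpoly k α).natDegree) (hsep : (minpoly k α).Separable)

include hK hα

lemma adjoin_const_eq_top : IntermediateField.adjoin K {algebraMap k' K' α} = ⊤ := by
  have hi : IsIntegral k α := Algebra.IsIntegral.isIntegral α
  apply IntermediateField.eq_of_le_of_finrank_eq le_top
  rw [IntermediateField.adjoin.finrank (IsIntegral.of_finite K _), minpoly_const hK hi.algebraMap,
    Polynomial.natDegree_map, minpoly.algebraMap_eq (algebraMap k' K').injective, IntermediateField.finrank_top', hα]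

include hsep

lemma isSeparable_const : Algebra.IsSeparable k (algebraicClosure k K') := by
  have hi : IsIntegral k α := Algebra.IsIntegral.isIntegral α
  have h1 : IsSeparable K (algebraMap k' K' α) := by
    rw [IsSeparable, minpoly_const hK hi.algebraMap, minpoly.algebraMap_eq (algebraMap k' K').injective]
    exact hsep.map
  haveI : Algebra.IsSeparable K K' := by
    have := (IntermediateField.isSeparable_adjoin_simple_iff_isSeparable (F := K) (E := K')).2 h1
    rw [adjoin_const_eq_top hK hα] at this
    exact Algebra.IsSeparable.of_algHom _ _ (IntermediateField.topEquiv (F := K) (E := K')).symm.toAlgHom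
  refine ⟨fun y => ?_⟩
  have h2 : IsSeparable K (y : K') := Algebra.IsSeparable.isSeparable K _
  have hy : IsIntegral k (y : K') := mem_algebraicClosure_iff'.1 y.2
  rw [IsSeparable, minpoly_const hK hy, Polynomial.separable_map] at h2
  rw [IsSeparable, ← minpoly.algebraMap_eq (algebraMap (algebraicClosure k K') K').injective]
  exact h2

omit hsep in
variable (hK' : IsFunctionField k' K') in
include hK' hsep in
/-- An element integral at every place above `P` has coordinates in the valuation ring. -/
lemma exists_coeff_of_forall_le (P : Place k K) {z : K'}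
    (hz : ∀ Q : Place k K', IsOver Q P → Q.1 z ≤ 1) :
    ∃ g : Polynomial P.O, Polynomial.eval₂ ((algebraMap K K').comp P.O.subtype) (algebraMap k' K' α) g = z := by
  classical
  have hi : IsIntegral k α := Algebra.IsIntegral.isIntegral α
  set α' := algebraMap k' K' α
  set n := (minpoly k α).natDegree
  have hn : 0 < n := minpoly.natDegree_pos hi
  have hm' : minpoly K α' = (minpoly k α).map (algebraMap k K) := by
    rw [minpoly_const hK hi.algebraMap, minpoly.algebraMap_eq (algebraMap k' K').injective]
  obtain ⟨G, hGd, hG⟩ : ∃ G : Polynomial K, G.natDegree < n ∧ Polynomial.aeval α' G = z := by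
    have hmem : z ∈ Algebra.adjoin K {α'} := by
      rw [← IntermediateField.adjoin_simple_toSubalgebra_of_isAlgebraic (Algebra.IsAlgebraic.isAlgebraic α'),
        adjoin_const_eq_top hK hα]
      trivial
    rw [Algebra.adjoin_singleton_eq_range_aeval] at hmem
    obtain ⟨G, rfl⟩ := hmem
    have hmon : (minpoly K α').Monic := minpoly.monic (IsIntegral.of_finite K _)
    refine ⟨G %ₘ minpoly K α', ?_, ?_⟩
    · refine (Polynomial.natDegree_modByMonic_lt _ hmon (minpoly.ne_one K α')).trans_eq ?_
      rw [hm', Polynomial.natDegree_map]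
    · change Polynomial.aeval α' (G %ₘ _) = Polynomial.aeval α' G
      conv_rhs => rw [← Polynomial.modByMonic_add_div G (minpoly K α')]
      simp [minpoly.aeval]
  by_cases hall : ∀ i, P.1 (G.coeff i) ≤ 1
  · refine ⟨G.toSubring P.O.toSubring (fun c hc => ?_), ?_⟩
    · obtain ⟨i, -, rfl⟩ := Polynomial.mem_coeffs_iff.1 (Finset.mem_coe.1 hc)
      exact hall i
    · rw [← hG, Polynomial.aeval_def, ← Polynomial.eval₂_map]
      congr 1
      refine Polynomial.ext fun i => ?_
      rw [Polynomial.coeff_map]
      exact Polynomial.coeff_toSubring _ _ _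
  exfalso
  push Not at hall
  obtain ⟨i₀, hi₀⟩ := hall
  obtain ⟨j, hjn, hj⟩ := (Finset.range n).exists_max_image (fun i => P.1 (G.coeff i)) ⟨0, Finset.mem_range.2 hn⟩
  have hj1 : 1 < P.1 (G.coeff j) := by
    have : i₀ < n := by
      by_contra h
      rw [Polynomial.coeff_eq_zero_of_natDegree_lt (hGd.trans_le (not_lt.1 h)), map_zero] at hi₀
      exact not_lt_zero' hi₀
    exact hi₀.trans_le (hj i₀ (Finset.mem_range.2 this))
  have hc0 : G.coeff j ≠ 0 := fun h => by rw [h, map_zero] at hj1; exact not_lt_zero' hj1
  have hle : ∀ i, P.1 (G.coeff i / G.coeff j) ≤ 1 := fun i => by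
    rw [map_div₀]
    refine div_le_one_of_le₀ ?_ zero_le
    by_cases hin : i < n
    · exact hj i (Finset.mem_range.2 hin)
    · rw [Polynomial.coeff_eq_zero_of_natDegree_lt (hGd.trans_le (not_lt.1 hin)), map_zero]; exact zero_le
  let H : Polynomial P.O := ∑ i ∈ Finset.range n, Polynomial.C ⟨G.coeff i / G.coeff j, hle i⟩ * Polynomial.X ^ i
  set Hb := H.map (IsLocalRing.residue P.O)
  have hHd : Hb.degree < n := by
    refine lt_of_le_of_lt Polynomial.degree_map_le ?_
    exact Polynomial.degree_sum_fin_lt (fun i : Fin n => (⟨G.coeff i / G.coeff j, hle i⟩ : P.O)) |>.trans_le'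
      (le_of_eq (by simp only [H]; rw [Finset.sum_range]))
  have hHne : Hb ≠ 0 := by
    intro h
    have h1 : Hb.coeff j = 0 := by rw [h, Polynomial.coeff_zero]
    have h2 : H.coeff j = 1 := by
      simp only [H, Polynomial.finsetSum_coeff, Polynomial.coeff_C_mul_X_pow]
      rw [Finset.sum_ite_eq, if_pos hjn]
      exact Subtype.ext (div_self hc0)
    rw [Polynomial.coeff_map, h2, map_one] at h1
    exact one_ne_zero h1
  have heval : Polynomial.eval₂ ((algebraMap K K').comp P.O.subtype) α' H =
      z / algebraMap K K' (G.coeff j) := by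
    rw [← hG, Polynomial.aeval_eq_sum_range' hGd]
    simp only [H, Polynomial.eval₂_finsetSum, Polynomial.eval₂_mul, Polynomial.eval₂_C, Polynomial.eval₂_X_pow,
      RingHom.comp_apply, Algebra.smul_def, Finset.sum_div]
    refine Finset.sum_congr rfl fun i _ => ?_
    change algebraMap K K' (G.coeff i / G.coeff j) * _ = _
    rw [map_div₀]; ring
  have key := places_over_const hK hK' hα hsep P
  simp only at key
  revert key
  generalize hF : (UniqueFactorizationMonoid.normalizedFactors
    ((minpoly k α).map (algebraMap k (IsLocalRing.ResidueField P.O)))).toFinset = F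
  rintro ⟨hsum, e, he⟩
  have hdvd : ∀ h : F, h.1 ∣ Hb := by
    intro h
    obtain ⟨h1, -, h3⟩ := he h
    have hirr : Irreducible h.1 := by
      exact UniqueFactorizationMonoid.irreducible_of_normalized_factor _
        (Multiset.mem_toFinset.1 ((Finset.ext_iff.1 hF _).2 h.2))
    set Q := (e h).1
    have hroot : Hb.eval₂ (resOver (e h).2) (IsLocalRing.residue Q.O (cst Q α)) = 0 := by
      rw [Polynomial.eval₂_map, show (resOver (e h).2).comp (IsLocalRing.residue P.O) =
        (IsLocalRing.residue Q.O).comp (incOver (e h).2) from rfl, ← Polynomial.hom_eval₂, residue_eq_zero_iff]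
      rw [show ((Polynomial.eval₂ (incOver (e h).2) (cst Q α) H : Q.O) : K') =
        Polynomial.eval₂ ((algebraMap K K').comp P.O.subtype) α' H from
          Polynomial.hom_eval₂ H (incOver (e h).2) Q.O.subtype (cst Q α), heval, map_div₀]
      have hQj : 1 < Q.1 (algebraMap K K' (G.coeff j)) := by rw [h1 (G.coeff j), pow_one]; exact hj1
      exact (div_lt_one₀ (zero_lt_one.trans hQj)).2 ((hz Q (e h).2).trans_lt hQj)
    by_contra hnd
    obtain ⟨u, v, huv⟩ := hirr.coprime_iff_not_dvd.2 hnd
    have := congrArg (Polynomial.eval₂ (resOver (e h).2) (IsLocalRing.residue Q.O (cst Q α))) huv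
    rw [Polynomial.eval₂_add, Polynomial.eval₂_mul, Polynomial.eval₂_mul, h3, hroot, Polynomial.eval₂_one] at this
    simp at this
  have hall : (F.prod fun h => h) ∣ Hb := by
    refine Finset.prod_dvd_of_coprime (fun x hx y hy hxy => ?_) (fun h hh => hdvd ⟨h, hh⟩)
    rw [Finset.mem_coe, ← hF, Multiset.mem_toFinset] at hx hy
    refine (UniqueFactorizationMonoid.irreducible_of_normalized_factor _ hx).coprime_iff_not_dvd.2 fun hd => hxy ?_
    have hxy' := (UniqueFactorizationMonoid.irreducible_of_normalized_factor _ hx).associated_of_dvd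
      (UniqueFactorizationMonoid.irreducible_of_normalized_factor _ hy) hd
    rw [← UniqueFactorizationMonoid.normalize_normalized_factor x hx,
      ← UniqueFactorizationMonoid.normalize_normalized_factor y hy]
    exact normalize_eq_normalize_iff_associated.2 hxy'
  have := Polynomial.natDegree_le_of_dvd hall hHne
  rw [Polynomial.natDegree_prod _ _ (fun h hh => by
    rw [← hF, Multiset.mem_toFinset] at hh
    exact (UniqueFactorizationMonoid.irreducible_of_normalized_factor _ hh).ne_zero), hsum] at this
  rw [Polynomial.degree_eq_natDegree hHne, Nat.cast_lt] at hHd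
  omega

end Groth.Agent.FF
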