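import Mathlib
import Groth.Agent.FF.Zeta

/-! Point counts and the logarithmic derivative of the zeta series; constant extensions. -/

set_option linter.style.haveILetI false

namespace Groth.Agent.FF

open FunFld
open scoped WithZero IntermediateField

attribute [local instance high] FunFld.Place.algRes
attribute [-instance] IsLocalRing.instModuleResidueFieldOfAlgebra

/-- `S` is the logarithmic derivative of `G`, times `X`. -/
def LogDer {R : Type*} [CommRing R] (G S : PowerSeries R) : Prop :=
  PowerSeries.X * PowerSeries.derivative R G = S * G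

lemma LogDer.mul {R : Type*} [CommRing R] {G H S T : PowerSeries R} (hG : LogDer G S) (hH : LogDer H T) :
    LogDer (G * H) (S + T) := by
  unfold LogDer at *
  rw [Derivation.leibniz, smul_eq_mul, smul_eq_mul]
  linear_combination G * hH + H * hG

/-- The series `∑_{m ≥ 1} f m X ^ m`. -/
noncomputable def posSeries {R : Type*} [CommRing R] (f : ℕ → R) : PowerSeries R :=
  PowerSeries.mk fun m => if m = 0 then 0 else f m

lemma coeff_posSeries {R : Type*} [CommRing R] (f : ℕ → R) (m : ℕ) :
    PowerSeries.coeff m (posSeries f) = if m = 0 then 0 else f m := PowerSeries.coeff_mk _ _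

lemma logDer_linear {R : Type*} [CommRing R] (a : R) :
    LogDer (1 - PowerSeries.C a * PowerSeries.X) (posSeries fun m => -a ^ m) := by
  unfold LogDer
  rw [map_sub, Derivation.map_one_eq_zero, Derivation.leibniz, PowerSeries.derivative_C,
    PowerSeries.derivative_X, smul_zero, add_zero, smul_eq_mul, mul_one, zero_sub]
  ext n
  rw [mul_sub, mul_one, map_sub, ← mul_assoc, mul_comm (posSeries _) (PowerSeries.C a), mul_assoc,
    PowerSeries.coeff_C_mul, mul_neg, map_neg, mul_comm PowerSeries.X (PowerSeries.C a), PowerSeries.coeff_C_mul]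
  rcases n with _ | _ | n
  · simp [coeff_posSeries]
  · simp [coeff_posSeries]
  · rw [PowerSeries.coeff_succ_mul_X, coeff_posSeries, coeff_posSeries, if_neg (by omega), if_neg (by omega),
      PowerSeries.coeff_X, if_neg (by omega)]
    ring

lemma logDer_one {R : Type*} [CommRing R] : LogDer (1 : PowerSeries R) 0 := by
  simp [LogDer]

lemma logDer_prod {R : Type*} [CommRing R] {ι : Type*} (s : Finset ι) (a : ι → R) :
    LogDer (∏ i ∈ s, (1 - PowerSeries.C (a i) * PowerSeries.X)) (∑ i ∈ s, posSeries fun m => -a i ^ m) := by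
  classical
  induction s using Finset.induction with
  | empty => simpa using logDer_one (R := R)
  | insert i s hi ih => rw [Finset.prod_insert hi, Finset.sum_insert hi]; exact (logDer_linear (a i)).mul ih

/-- A series with constant term one is determined by its logarithmic derivative. -/
lemma eq_of_logDer {G H S : PowerSeries ℂ} (hG : LogDer G S) (hH : LogDer H S)
    (hS : PowerSeries.coeff 0 S = 0) (h0 : PowerSeries.coeff 0 G = PowerSeries.coeff 0 H) : G = H := by
  ext n
  induction n using Nat.strong_induction_on with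
  | _ n ih =>
    rcases n with _ | n
    · exact h0
    have eG := congrArg (PowerSeries.coeff (n + 1)) hG
    have eH := congrArg (PowerSeries.coeff (n + 1)) hH
    rw [mul_comm, PowerSeries.coeff_succ_mul_X, PowerSeries.coeff_derivative, PowerSeries.coeff_mul] at eG eH
    have hs : ∑ p ∈ Finset.HasAntidiagonal.antidiagonal (n + 1), PowerSeries.coeff p.1 S * PowerSeries.coeff p.2 G =
        ∑ p ∈ Finset.HasAntidiagonal.antidiagonal (n + 1), PowerSeries.coeff p.1 S * PowerSeries.coeff p.2 H := by
      refine Finset.sum_congr rfl fun p hp => ?_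
      rw [Finset.HasAntidiagonal.mem_antidiagonal] at hp
      rcases Nat.eq_zero_or_pos p.1 with h | h
      · rw [h, hS, zero_mul, zero_mul]
      · rw [ih p.2 (by omega)]
    rw [hs, ← eH] at eG
    exact mul_right_cancel₀ (by exact_mod_cast Nat.succ_ne_zero n) eG

variable {k K : Type*} [Field k] [Field K] [Algebra k K]

variable (k K) in
/-- The number of points over the extension of degree `m`. -/
noncomputable def nPts (m : ℕ) : ℕ := ∑ᶠ P ∈ {P : Place k K | P.deg ∣ m}, P.deg

section

variable (hK : IsFunctionField k K) [Finite k]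
include hK

lemma nPts_eq_sum {m : ℕ} (hm : 0 < m) {T : Finset (Place k K)} (hT : ∀ P, P.deg ∣ m → P ∈ T) :
    nPts k K m = ∑ P ∈ T with P.deg ∣ m, P.deg := by
  rw [nPts]
  refine finsum_mem_eq_sum_of_inter_support_eq _ ?_
  ext P
  simp only [Set.mem_inter_iff, Set.mem_ofPred_eq, Finset.coe_filter, Function.mem_support]
  exact ⟨fun h => ⟨⟨hT P h.1, h.1⟩, h.2⟩, fun h => ⟨h.1.2, h.2⟩⟩

/-- `n a(n) = ∑ N_m a(n - m)`. -/
lemma euler_identity (n : ℕ) :
    n * effDivCount k K n = ∑ m ∈ Finset.Icc 1 n, nPts k K m * effDivCount k K (n - m) := by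
  classical
  haveI := finite_effDiv hK (n : ℤ)
  set E := {D : Divisor k K // 0 ≤ D ∧ D.deg = (n : ℤ)}
  letI := Fintype.ofFinite E
  set S := (finite_places_deg_le hK n).toFinset with hS
  have hmemS : ∀ P, P ∈ S ↔ P.deg ≤ n := fun P => (finite_places_deg_le hK n).mem_toFinset
  have hsingle : ∀ (D : E) P, D.1 P * P.deg ≤ n := fun D P => by
    have hle : Finsupp.single P (D.1 P) ≤ D.1 := fun R => by
      rcases eq_or_ne R P with rfl | hR
      · simp
      · simpa [Finsupp.single_eq_of_ne hR] using D.2.1 R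
    have := deg_mono hle
    rwa [deg_single, D.2.2] at this
  have hD : ∀ D : E, (n : ℤ) = ∑ P ∈ S, D.1 P * P.deg := fun D => by
    refine D.2.2.symm.trans (Finsupp.sum_of_support_subset _ (fun P hP => (hmemS P).2 ?_) _ (fun _ _ => zero_mul _))
    rw [Finsupp.mem_support_iff] at hP
    have h1 := hsingle D P
    have h2 : (1 : ℤ) ≤ D.1 P := by
      have h3 : (0 : ℤ) ≤ D.1 P := D.2.1 P
      omega
    have h4 := le_mul_of_one_le_left (Int.natCast_nonneg P.deg) h2
    omega
  have hj : ∀ (D : E) P, P ∈ S → (D.1 P).toNat = ((Finset.Icc 1 n).filter fun j : ℕ => (j : ℤ) ≤ D.1 P).card := by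
    intro D P _
    have h1 := hsingle D P
    have hd : (1 : ℤ) ≤ P.deg := by exact_mod_cast deg_pos hK P
    have h3 : (0 : ℤ) ≤ D.1 P := D.2.1 P
    have h4 := le_mul_of_one_le_right h3 hd
    have : (Finset.Icc 1 n).filter (fun j : ℕ => (j : ℤ) ≤ D.1 P) = Finset.Icc 1 (D.1 P).toNat := by
      ext j; simp only [Finset.mem_filter, Finset.mem_Icc]; omega
    rw [this, Nat.card_Icc]
    omega
  have hcount : ∀ P ∈ S, ∀ j ∈ Finset.Icc 1 n,
      ((Finset.univ : Finset E).filter fun D : E => (j : ℤ) ≤ D.1 P).card =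
        if j * P.deg ≤ n then effDivCount k K (n - j * P.deg) else 0 := by
    intro P _ j _
    split_ifs with h
    · haveI := finite_effDiv hK ((n - j * P.deg : ℕ) : ℤ)
      rw [effDivCount, ← Fintype.card_subtype, ← Nat.card_eq_fintype_card]
      refine Nat.card_congr
        { toFun := fun D => ⟨D.1.1 - Finsupp.single P (j : ℤ), fun R => ?_, by
            rw [deg_sub, deg_single, D.1.2.2, Nat.cast_sub h, Nat.cast_mul]⟩
          invFun := fun D => ⟨⟨D.1 + Finsupp.single P (j : ℤ),
            add_nonneg D.2.1 (Finsupp.single_nonneg.2 (Int.natCast_nonneg _)), by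
            rw [deg_add, deg_single, D.2.2, Nat.cast_sub h, Nat.cast_mul]; ring⟩, by
            have := D.2.1 P
            simp only [Finsupp.zero_apply] at this
            simp; omega⟩
          left_inv := fun D => Subtype.ext (Subtype.ext (sub_add_cancel _ _))
          right_inv := fun D => Subtype.ext (add_sub_cancel_right _ _) }
      rw [Finsupp.zero_apply, Finsupp.sub_apply]
      rcases eq_or_ne R P with rfl | hR
      · rw [Finsupp.single_eq_same]; exact sub_nonneg.2 D.2
      · rw [Finsupp.single_eq_of_ne hR, sub_zero]; exact D.1.2.1 R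
    · rw [Finset.card_eq_zero, Finset.filter_eq_empty_iff]
      intro D _ hle
      have h1 := hsingle D P
      have h2 := mul_le_mul_of_nonneg_right hle (Int.natCast_nonneg P.deg)
      apply h
      exact_mod_cast h2.trans h1
  have step1 : n * effDivCount k K n = ∑ D : E, ∑ P ∈ S, (D.1 P).toNat * P.deg := by
    have : ∀ D : E, ∑ P ∈ S, (D.1 P).toNat * P.deg = n := fun D => by
      have := hD D
      zify
      refine (Finset.sum_congr rfl fun P _ => ?_).trans this.symm
      rw [Int.toNat_of_nonneg (D.2.1 P)]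
    simp only [this, Finset.sum_const, Finset.card_univ, smul_eq_mul, effDivCount]
    rw [Nat.card_eq_fintype_card, mul_comm]
  rw [step1, Finset.sum_comm]
  have step2 : ∀ P ∈ S, ∑ D : E, (D.1 P).toNat * P.deg =
      ∑ m ∈ Finset.Icc 1 n, if P.deg ∣ m then P.deg * effDivCount k K (n - m) else 0 := by
    intro P hP
    have hd : 0 < P.deg := deg_pos hK P
    rw [Finset.sum_congr rfl fun D _ => by rw [hj D P hP, Finset.card_filter, Finset.sum_mul], Finset.sum_comm,
      Finset.sum_congr rfl fun j hjm => by rw [← Finset.sum_mul, ← Finset.card_filter, hcount P hP j hjm, ite_mul, zero_mul],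
      ← Finset.sum_filter, ← Finset.sum_filter]
    refine Finset.sum_nbij' (fun j => j * P.deg) (fun m => m / P.deg) ?_ ?_ ?_ ?_ ?_
    · intro j hj
      simp only [Finset.mem_filter, Finset.mem_Icc] at hj ⊢
      exact ⟨⟨Nat.mul_pos (by omega) hd, hj.2⟩, dvd_mul_left _ _⟩
    · intro m hm
      simp only [Finset.mem_filter, Finset.mem_Icc] at hm ⊢
      obtain ⟨⟨h1, h2⟩, ⟨c, rfl⟩⟩ := hm
      rw [Nat.mul_div_cancel_left _ hd, mul_comm c]
      refine ⟨⟨Nat.pos_of_mul_pos_left h1, (Nat.le_mul_of_pos_left c hd).trans h2⟩, h2⟩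
    · intro j _; exact Nat.mul_div_cancel _ hd
    · intro m hm
      rw [Finset.mem_filter] at hm
      exact Nat.div_mul_cancel hm.2
    · intro j _; exact mul_comm _ _
  rw [Finset.sum_congr rfl step2, Finset.sum_comm]
  refine Finset.sum_congr rfl fun m hm => ?_
  rw [Finset.mem_Icc] at hm
  rw [nPts_eq_sum hK (by omega) (T := S) fun P hP => (hmemS P).2 ((Nat.le_of_dvd (by omega) hP).trans hm.2),
    Finset.sum_mul, Finset.sum_filter]

lemma logDer_zeta :
    LogDer (PowerSeries.map (Int.castRingHom ℂ) (zetaZ k K)) (posSeries fun m => (nPts k K m : ℂ)) := by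
  unfold LogDer
  have hz : ∀ j, PowerSeries.coeff j (PowerSeries.map (Int.castRingHom ℂ) (zetaZ k K)) = (effDivCount k K j : ℂ) := by
    intro j; simp [zetaZ]
  ext n
  rcases n with _ | n
  · have h0 : PowerSeries.constantCoeff (posSeries fun m => (nPts k K m : ℂ)) = 0 := by
      rw [← PowerSeries.coeff_zero_eq_constantCoeff_apply, coeff_posSeries, if_pos rfl]
    simp [h0]
  rw [mul_comm, PowerSeries.coeff_succ_mul_X, PowerSeries.coeff_derivative, PowerSeries.coeff_mul,
    Finset.Nat.sum_antidiagonal_eq_sum_range_succ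
      (fun i j => PowerSeries.coeff i (posSeries fun m => (nPts k K m : ℂ)) * PowerSeries.coeff j _) (n + 1), hz]
  have h := congrArg (Nat.cast (R := ℂ)) (euler_identity hK (n + 1))
  push_cast at h
  rw [mul_comm] at h
  rw [h, Finset.range_eq_Ico, Finset.sum_eq_sum_Ico_succ_bot (Nat.succ_pos _)]
  rw [coeff_posSeries, if_pos rfl, zero_mul, zero_add, ← Finset.Ico_succ_right_eq_Icc]
  refine Finset.sum_congr rfl fun m hm => ?_
  rw [Finset.mem_Ico] at hm
  rw [coeff_posSeries, if_neg (by omega), hz]

lemma logDer_numer :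
    LogDer (PowerSeries.map (Int.castRingHom ℂ) (numerZ k K))
      ((posSeries fun m => -(1 : ℂ) ^ m) + (posSeries fun m => -(Nat.card k : ℂ) ^ m) +
        posSeries fun m => (nPts k K m : ℂ)) := by
  rw [numerZ, map_mul, map_mul]
  refine ((?_ : LogDer _ _).mul ?_).mul (logDer_zeta hK)
  · simpa using logDer_linear (1 : ℂ)
  · simpa using logDer_linear (Nat.card k : ℂ)

lemma nPts_eq_of_roots {ι : Type*} [Fintype ι] (α : ι → ℂ)
    (hα : PowerSeries.map (Int.castRingHom ℂ) (numerZ k K) =
      ((∏ i, (1 - Polynomial.C (α i) * Polynomial.X) : Polynomial ℂ) : PowerSeries ℂ)) {m : ℕ} (hm : 0 < m) :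
    (nPts k K m : ℂ) = 1 + (Nat.card k : ℂ) ^ m - ∑ i, α i ^ m := by
  have e1 := logDer_numer hK
  have hcoe : ((∏ i, (1 - Polynomial.C (α i) * Polynomial.X) : Polynomial ℂ) : PowerSeries ℂ) =
      ∏ i, (1 - PowerSeries.C (α i) * PowerSeries.X) := by
    rw [← Polynomial.coeToPowerSeries.ringHom_apply, map_prod]
    simp
  rw [hα, hcoe] at e1
  have e2 := logDer_prod Finset.univ α
  have hne : (∏ i, (1 - PowerSeries.C (α i) * PowerSeries.X) : PowerSeries ℂ) ≠ 0 := by
    intro h
    have := congrArg PowerSeries.constantCoeff h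
    simp at this
  have h := congrArg (PowerSeries.coeff m) (mul_right_cancel₀ hne (e1.symm.trans e2))
  simp only [map_add, map_sum, coeff_posSeries, if_neg hm.ne', one_pow, Finset.sum_neg_distrib] at h
  linear_combination h

end

section ext

variable {k' K' : Type*} [Field k'] [Field K'] [Algebra k k'] [Algebra K K'] [Algebra k' K'] [Algebra k K']
  [IsScalarTower k K K'] [IsScalarTower k k' K'] [Finite k] [FiniteDimensional k k'] [FiniteDimensional K K']
  (hK : IsFunctionField k K) (hK' : IsFunctionField k' K') (hr : Module.finrank K K' = Module.finrank k k')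
include hK hK' hr

lemma nPts_constExt {s : ℕ} (hs : 0 < s) : nPts k' K' s = nPts k K (Module.finrank k k' * s) := by
  classical
  haveI : Finite k' := Module.finite_of_finite k
  set r := Module.finrank k k'
  have hr0 : 0 < r := Module.finrank_pos
  obtain ⟨α, hαtop⟩ := Field.exists_primitive_element k k'
  have hdeg : (minpoly k α).natDegree = r := by
    rw [← IntermediateField.adjoin.finrank (Algebra.IsIntegral.isIntegral α), hαtop, IntermediateField.finrank_top']
  have hα : Module.finrank K K' = (minpoly k α).natDegree := by rw [hr, hdeg]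
  have hirr := minpoly.irreducible (A := k) (Algebra.IsIntegral.isIntegral α)
  have hsep : (minpoly k α).Separable := PerfectField.separable_of_irreducible hirr
  -- the degree of a place upstairs
  have hiff : ∀ (P : Place k K) (Q : Place k K'), IsOver Q P →
      IsOverWith Q P 1 ∧ ((placeEquiv k K' k' Q).deg ∣ s ↔ P.deg ∣ r * s) := by
    intro P Q hQ
    haveI : @Module.Finite k (IsLocalRing.ResidueField P.O) _ _ Algebra.toModule := finite_residue hK P
    have key := places_over_const hK hK' hα hsep P
    simp only at key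
    revert key
    generalize hF : (UniqueFactorizationMonoid.normalizedFactors
      ((minpoly k α).map (algebraMap k (IsLocalRing.ResidueField P.O)))).toFinset = F
    rintro ⟨-, e, he⟩
    obtain ⟨⟨h, hh⟩, heh⟩ := e.surjective ⟨Q, hQ⟩
    have hQe : (e ⟨h, hh⟩).1 = Q := congrArg Subtype.val heh
    obtain ⟨h1, h2, -⟩ := he ⟨h, hh⟩
    rw [hQe] at h1 h2
    refine ⟨h1, ?_⟩
    rw [← hF, Multiset.mem_toFinset] at hh
    have hfac := natDegree_factor (k := k) hirr (UniqueFactorizationMonoid.irreducible_of_normalized_factor h hh)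
      (UniqueFactorizationMonoid.dvd_of_mem_normalizedFactors hh)
    rw [hdeg, show Module.finrank k (IsLocalRing.ResidueField P.O) = P.deg from rfl] at hfac
    rw [deg_placeEquiv (k' := k')] at h2
    set d := (placeEquiv k K' k' Q).deg
    set g := Nat.gcd r P.deg
    have hg : 0 < g := Nat.gcd_pos_of_pos_left _ hr0
    have hdg : d * g = P.deg := Nat.eq_of_mul_eq_mul_left hr0 (by
      calc r * (d * g) = (P.deg * h.natDegree) * g := by rw [← mul_assoc, h2]
        _ = r * P.deg := by rw [mul_assoc, hfac, mul_comm])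
    constructor
    · intro hd
      rw [← hdg]
      exact (Nat.mul_dvd_mul hd (Nat.gcd_dvd_left r P.deg)).trans (by rw [mul_comm])
    · intro hd
      have h3 : P.deg ∣ g * s := by
        rw [← Nat.gcd_mul_right]
        exact Nat.dvd_gcd hd (dvd_mul_right _ _)
      rw [← hdg, mul_comm g s] at h3
      exact Nat.dvd_of_mul_dvd_mul_right hg h3
  -- group the places upstairs
  set T := (finite_places_deg_le hK (r * s)).toFinset.filter fun P => P.deg ∣ r * s
  have hT : ∀ P : Place k K, P ∈ T ↔ P.deg ∣ r * s := fun P => by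
    simp only [T, Finset.mem_filter, Set.Finite.mem_toFinset, Set.mem_ofPred_eq, and_iff_right_iff_imp]
    exact Nat.le_of_dvd (Nat.mul_pos hr0 hs)
  have hfib : ∀ P : Place k K, {Q : Place k K' | IsOver Q P}.Finite := fun P => (finite_over_and_sum hK P).1
  set U := T.biUnion fun P => (hfib P).toFinset.map (placeEquiv k K' k').toEmbedding
  have hU : ∀ Q' : Place k' K', Q'.deg ∣ s → Q' ∈ U := fun Q' hQ' => by
    obtain ⟨Q, rfl⟩ := (placeEquiv k K' k').surjective Q'
    obtain ⟨P, hP⟩ := exists_isOver hK Q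
    exact Finset.mem_biUnion.2 ⟨P, (hT P).2 ((hiff P Q hP).2.1 hQ'),
      Finset.mem_map.2 ⟨Q, (hfib P).mem_toFinset.2 hP, rfl⟩⟩
  have hUd : ∀ Q' ∈ U, Q'.deg ∣ s := fun Q' hQ' => by
    obtain ⟨P, hP, hQ⟩ := Finset.mem_biUnion.1 hQ'
    obtain ⟨Q, hQ2, rfl⟩ := Finset.mem_map.1 hQ
    exact (hiff P Q ((hfib P).mem_toFinset.1 hQ2)).2.2 ((hT P).1 hP)
  rw [nPts_eq_sum hK' hs hU, Finset.filter_true_of_mem hUd,
    nPts_eq_sum hK (Nat.mul_pos hr0 hs) (T := T) (fun P hP => (hT P).2 hP),
    Finset.filter_true_of_mem fun P hP => (hT P).1 hP, Finset.sum_biUnion]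
  · refine Finset.sum_congr rfl fun P _ => ?_
    rw [Finset.sum_map]
    have hsum := (finite_over_and_sum (K' := K') hK P).2 (hfib P).toFinset fun Q => (hfib P).mem_toFinset
    refine Nat.eq_of_mul_eq_mul_left hr0 ?_
    rw [Finset.mul_sum, ← hr, ← hsum]
    refine Finset.sum_congr rfl fun Q hQ => ?_
    rw [ramIdx_eq (hiff P Q ((hfib P).mem_toFinset.1 hQ)).1, one_mul, deg_placeEquiv (k' := k') Q, hr]
    rfl
  · intro P _ P₂ _ hne
    rw [Function.onFun, Finset.disjoint_left]
    intro Q' hQ hQ2
    obtain ⟨Q, hQ3, rfl⟩ := Finset.mem_map.1 hQ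
    obtain ⟨Q4, hQ4, heq⟩ := Finset.mem_map.1 hQ2
    rw [(placeEquiv k K' k').injective heq] at hQ4
    exact hne (place_below_unique ((hfib P).mem_toFinset.1 hQ3) ((hfib P₂).mem_toFinset.1 hQ4))

end ext

end Groth.Agent.FF
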