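import Mathlib

/-! Monic polynomials whose roots are stable under `x ↦ q / x`: a paired enumeration of the roots. -/

namespace Groth.Agent.FF

open Polynomial

/-- `x ^ n R(q / x)` is a polynomial in `x`. -/
lemma exists_recip (R : ℂ[X]) {n : ℕ} (hn : R.natDegree ≤ n) (q : ℂ) :
    ∃ T : ℂ[X], ∀ x : ℂ, x ≠ 0 → T.eval x = x ^ n * R.eval (q / x) := by
  refine ⟨∑ i ∈ Finset.range (n + 1), C (R.coeff i * q ^ i) * X ^ (n - i), fun x hx => ?_⟩
  rw [eval_finsetSum, eval_eq_sum_range' (Nat.lt_succ_of_le hn), Finset.mul_sum]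
  refine Finset.sum_congr rfl fun i hi => ?_
  have hi' : i ≤ n := Nat.lt_succ_iff.1 (Finset.mem_range.1 hi)
  rw [eval_mul, eval_C, eval_pow, eval_X, div_pow, ← Nat.sub_add_cancel hi', pow_add, Nat.add_sub_cancel]
  field_simp

lemma recip_extend (R : ℂ[X]) {n : ℕ} (hn : R.natDegree ≤ n) (q c : ℂ) {S : Set ℂ} (hS : S.Finite)
    (h : ∀ x : ℂ, x ≠ 0 → x ∉ S → x ^ n * R.eval (q / x) = c * R.eval x) :
    ∀ x : ℂ, x ≠ 0 → x ^ n * R.eval (q / x) = c * R.eval x := by
  obtain ⟨T, hT⟩ := exists_recip R hn q
  have hTc : T = C c * R := by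
    refine eq_of_infinite_eval_eq _ _ (((hS.insert 0).infinite_compl).mono fun x hx => ?_)
    simp only [Set.mem_compl_iff, Set.mem_insert_iff, not_or] at hx
    change T.eval x = (C c * R).eval x
    rw [hT x hx.1, h x hx.1 hx.2, eval_mul, eval_C]
  intro x hx
  rw [← hT x hx, hTc, eval_mul, eval_C]

/-- A paired enumeration of the roots. -/
theorem exists_paired_roots (q : ℂ) (hq : q ≠ 0) : ∀ (g : ℕ) (R : ℂ[X]), R.Monic → R.natDegree = 2 * g →
    R.eval 0 ≠ 0 → (∀ x : ℂ, x ≠ 0 → x ^ (2 * g) * R.eval (q / x) = q ^ g * R.eval x) →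
    ∃ α : Fin (2 * g) → ℂ, R = ∏ i, (X - C (α i)) ∧ ∀ i, α i * α (Fin.rev i) = q := by
  intro g
  induction g with
  | zero =>
    intro R hm hd _ _
    exact ⟨Fin.elim0, by simpa using hm.natDegree_eq_zero.1 (by simpa using hd), fun i => i.elim0⟩
  | succ g ih =>
    intro R hm hd h0 hR
    obtain ⟨a, ha⟩ := IsAlgClosed.exists_root R (by
      rw [degree_eq_natDegree hm.ne_zero, hd]
      exact_mod_cast (by omega : 2 * (g + 1) ≠ 0))
    have ha0 : a ≠ 0 := fun h => h0 (by
      have h' : R.eval a = 0 := ha
      rw [h] at h'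
      exact h')
    set b := q / a with hb
    have hab : a * b = q := by rw [hb, mul_div_cancel₀ _ ha0]
    obtain ⟨R', hR'⟩ := dvd_iff_isRoot.2 ha
    have hm' : R'.Monic := by
      refine (monic_X_sub_C a).of_mul_monic_left ?_
      rw [← hR']; exact hm
    have hd' : R'.natDegree = 2 * g + 1 := by
      have := congrArg natDegree hR'
      rw [(monic_X_sub_C a).natDegree_mul hm', natDegree_X_sub_C, hd] at this
      omega
    have hb' : R'.eval b = 0 := by
      rcases eq_or_ne b a with hba | hba
      · rw [hba]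
        have hsq : a * a = q := by rw [← hab, hba]
        have key : ∀ x : ℂ, x ≠ 0 → x ≠ a →
            x ^ (2 * g + 1) * R'.eval (q / x) = -(q ^ (g + 1) / a) * R'.eval x := by
          intro x hx hxa
          have h := hR x hx
          simp only [hR', eval_mul, eval_sub, eval_X, eval_C] at h
          rw [show 2 * (g + 1) = (2 * g + 1) + 1 by ring, pow_succ] at h
          have hne : x - a ≠ 0 := sub_ne_zero.2 hxa
          have e : x * (q / x - a) = -a * (x - a) := by rw [← hsq]; field_simp; ring
          have h2 : (-a) * (x - a) * (x ^ (2 * g + 1) * R'.eval (q / x)) =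
              (x - a) * (q ^ (g + 1) * R'.eval x) := by
            rw [← e]; linear_combination h
          have h3 : -a * (x ^ (2 * g + 1) * R'.eval (q / x)) = q ^ (g + 1) * R'.eval x :=
            mul_left_cancel₀ hne (by linear_combination h2)
          rw [neg_mul, div_mul_eq_mul_div, ← h3]
          field_simp
        have h1 := recip_extend R' (by omega) q (-(q ^ (g + 1) / a)) (Set.finite_singleton a)
          (fun x hx hxa => key x hx hxa) a ha0
        rw [show q / a = a by rw [← hsq]; field_simp] at h1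
        have h2 : a ^ (2 * g + 1) = q ^ (g + 1) / a := by
          rw [← hsq, eq_div_iff ha0]; ring
        rw [← h2] at h1
        have h3 : (2 * a ^ (2 * g + 1)) * R'.eval a = 0 := by linear_combination h1
        exact (mul_eq_zero.1 h3).resolve_left (mul_ne_zero two_ne_zero (pow_ne_zero _ ha0))
      · have h := hR a ha0
        rw [ha.eq_zero, mul_zero, ← hb] at h
        have h' : R.eval b = 0 := (mul_eq_zero.1 h).resolve_left (pow_ne_zero _ ha0)
        rw [hR', eval_mul, eval_sub, eval_X, eval_C] at h'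
        exact (mul_eq_zero.1 h').resolve_left (sub_ne_zero.2 hba)
    obtain ⟨R1, hR1⟩ := dvd_iff_isRoot.2 hb'
    have hm1 : R1.Monic := by
      refine (monic_X_sub_C b).of_mul_monic_left ?_
      rw [← hR1]; exact hm'
    have hd1 : R1.natDegree = 2 * g := by
      have := congrArg natDegree hR1
      rw [(monic_X_sub_C b).natDegree_mul hm1, natDegree_X_sub_C, hd'] at this
      omega
    have hfac : R = (X - C a) * ((X - C b) * R1) := by rw [hR', hR1]
    have h01 : R1.eval 0 ≠ 0 := fun h => h0 (by rw [hfac]; simp [h])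
    have hrec : ∀ x : ℂ, x ≠ 0 → x ^ (2 * g) * R1.eval (q / x) = q ^ g * R1.eval x := by
      refine recip_extend R1 hd1.le q (q ^ g) (Set.toFinite {a, b}) fun x hx hxS => ?_
      simp only [Set.mem_insert_iff, Set.mem_singleton_iff, not_or] at hxS
      have h := hR x hx
      simp only [hfac, eval_mul, eval_sub, eval_X, eval_C] at h
      have e : x ^ 2 * ((q / x - a) * (q / x - b)) = q * ((x - a) * (x - b)) := by
        rw [← hab]; field_simp; ring
      refine mul_left_cancel₀ (mul_ne_zero hq (mul_ne_zero (sub_ne_zero.2 hxS.1) (sub_ne_zero.2 hxS.2))) ?_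
      linear_combination h - (x ^ (2 * g) * R1.eval (q / x)) * e
    obtain ⟨α, hα, hpair⟩ := ih R1 hm1 hd1 h01 hrec
    refine ⟨Fin.cons a (Fin.snoc α b), ?_, ?_⟩
    · rw [hfac, hα]
      erw [Fin.prod_univ_succ, Fin.prod_univ_castSucc]
      simp only [Fin.cons_zero, Fin.cons_succ, Fin.snoc_castSucc, Fin.snoc_last]
      exact congrArg ((X - C a) * ·) (mul_comm _ _)
    · intro i
      induction i using Fin.cases with
      | zero =>
        rw [Fin.rev_zero, ← Fin.succ_last, Fin.cons_zero, Fin.cons_succ, Fin.snoc_last]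
        exact hab
      | succ i =>
        rw [Fin.rev_succ, Fin.cons_succ]
        induction i using Fin.lastCases with
        | last =>
          rw [Fin.rev_last, Fin.castSucc_zero, Fin.cons_zero, Fin.snoc_last, mul_comm]
          exact hab
        | cast i =>
          rw [Fin.rev_castSucc, ← Fin.succ_castSucc, Fin.cons_succ, Fin.snoc_castSucc, Fin.snoc_castSucc]
          exact hpair i

end Groth.Agent.FF
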