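import Mathlib
import Groth.Agent.FF.PointCount
import Groth.Agent.FF.ConstInt
import Groth.Agent.FF.Bombieri
import Groth.Agent.S11040
import Groth.Agent.S11061

/-! Galois action on places, twisted forms over finite fields. -/

set_option linter.style.haveILetI false

namespace Groth.Agent.FF

open FunFld
open scoped WithZero IntermediateField

attribute [local instance high] FunFld.Place.algRes
attribute [-instance] IsLocalRing.instModuleResidueFieldOfAlgebra

section galois

variable {k K M : Type*} [Field k] [Field K] [Field M] [Algebra k K] [Algebra K M] [Algebra k M]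

lemma comapPlace_mul (σ τ : M ≃ₐ[k] M) (Q : Place k M) :
    comapPlace (σ * τ) Q = comapPlace τ (comapPlace σ Q) := Subtype.ext (Valuation.ext fun _ => rfl)

lemma comapPlace_one (Q : Place k M) : comapPlace (1 : M ≃ₐ[k] M) Q = Q := Subtype.ext (Valuation.ext fun _ => rfl)

lemma comapPlace_inv {σ : M ≃ₐ[k] M} {Q Q' : Place k M} (h : comapPlace σ Q = Q') : comapPlace σ⁻¹ Q' = Q := by
  rw [← h, ← comapPlace_mul, mul_inv_cancel, comapPlace_one]

lemma isOverWith_comap {Q : Place k M} {P : Place k K} {e : ℕ} (h : IsOverWith Q P e) {σ : M ≃ₐ[k] M}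
    (hσ : ∀ a : K, σ (algebraMap K M a) = algebraMap K M a) : IsOverWith (comapPlace σ Q) P e := fun a => by
  rw [comapPlace_apply, hσ, h]

lemma deg_comapPlace (σ : M ≃ₐ[k] M) (Q : Place k M) : (comapPlace σ Q).deg = Q.deg := by
  let e : (comapPlace σ Q).O ≃+* Q.O :=
    { toFun := fun z => ⟨σ z.1, z.2⟩
      invFun := fun z => ⟨σ.symm z.1, by
        change Q.1 (σ (σ.symm z.1)) ≤ 1
        rw [σ.apply_symm_apply]; exact z.2⟩
      left_inv := fun z => Subtype.ext (σ.symm_apply_apply _)
      right_inv := fun z => Subtype.ext (σ.apply_symm_apply _)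
      map_mul' := fun a b => Subtype.ext (map_mul σ _ _)
      map_add' := fun a b => Subtype.ext (map_add σ _ _) }
  exact Algebra.finrank_eq_of_equiv_equiv (RingEquiv.refl k) (IsLocalRing.ResidueField.mapEquiv e)
    (RingHom.ext fun c => by
      exact congrArg (IsLocalRing.residue Q.O) (Subtype.ext (σ.commutes c).symm))

variable [IsScalarTower k K M] [FiniteDimensional K M] [IsGalois K M]

/-- The Galois group is transitive on the places above a place. -/
lemma exists_comap_eq {P : Place k K} {Q₁ Q₂ : Place k M} (h1 : IsOver Q₁ P) (h2 : IsOver Q₂ P) :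
    ∃ σ : M ≃ₐ[K] M, comapPlace (σ.restrictScalars k) Q₁ = Q₂ := by
  classical
  by_contra hne
  push Not at hne
  set O₁ := (Finset.univ : Finset (M ≃ₐ[K] M)).image fun σ => comapPlace (σ.restrictScalars k) Q₁
  set O₂ := (Finset.univ : Finset (M ≃ₐ[K] M)).image fun σ => comapPlace (σ.restrictScalars k) Q₂
  have hdisj : ∀ R, R ∈ O₂ → R ∉ O₁ := by
    intro R hR2 hR1
    obtain ⟨σ, -, hσ⟩ := Finset.mem_image.1 hR1
    obtain ⟨ρ, -, hρ⟩ := Finset.mem_image.1 hR2
    refine hne (σ * ρ⁻¹) ?_
    rw [show (σ * ρ⁻¹).restrictScalars k = σ.restrictScalars k * (ρ.restrictScalars k)⁻¹ from rfl,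
      comapPlace_mul, hσ]
    exact comapPlace_inv hρ
  obtain ⟨z, hz⟩ := approx (O₁ ∪ O₂) (fun R => if R ∈ O₁ then 1 else 0) (fun _ => -1)
  have hlt : WithZero.exp (-1 : ℤ) < 1 := by rw [← WithZero.exp_zero, WithZero.exp_lt_exp]; omega
  have ha : ∀ σ : M ≃ₐ[K] M, Q₁.1 (σ z) = 1 := fun σ => by
    have hm : comapPlace (σ.restrictScalars k) Q₁ ∈ O₁ := Finset.mem_image_of_mem _ (Finset.mem_univ σ)
    have := hz _ (Finset.mem_union_left _ hm)
    rw [if_pos hm] at this
    have h3 : Q₁.1 (σ (z - 1)) < 1 := this.trans_lt hlt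
    rw [map_sub, map_one] at h3
    have h4 := Valuation.map_one_add_of_lt _ h3
    rwa [add_sub_cancel] at h4
  have hb : ∀ σ : M ≃ₐ[K] M, Q₂.1 (σ z) < 1 := fun σ => by
    have hm : comapPlace (σ.restrictScalars k) Q₂ ∈ O₂ := Finset.mem_image_of_mem _ (Finset.mem_univ σ)
    have := hz _ (Finset.mem_union_right _ hm)
    rw [if_neg (hdisj _ hm), sub_zero] at this
    exact this.trans_lt hlt
  obtain ⟨e₁, he₁⟩ := h1
  obtain ⟨e₂, he₂⟩ := h2
  have e : algebraMap K M (Algebra.norm K z) = ∏ σ : M ≃ₐ[K] M, σ z := Algebra.norm_eq_prod_automorphisms K z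
  have hn1 : Q₁.1 (algebraMap K M (Algebra.norm K z)) = 1 := by
    rw [e, map_prod]; exact Finset.prod_eq_one fun σ _ => ha σ
  have hn2 : Q₂.1 (algebraMap K M (Algebra.norm K z)) < 1 := by
    rw [e, map_prod, ← Finset.mul_prod_erase _ _ (Finset.mem_univ (1 : M ≃ₐ[K] M))]
    exact mul_lt_one_of_nonneg_of_lt_one_left zero_le (hb 1) (Finset.prod_le_one' fun σ _ => (hb σ).le)
  rw [he₁, pow_eq_one_iff, or_iff_left (pos_of_isOverWith he₁).ne'] at hn1
  rw [he₂, hn1, one_pow] at hn2
  exact lt_irrefl _ hn2

end galois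

section frob

variable {k : Type*} [Field k] [Finite k]

lemma mem_range_of_pow_card {k' : Type*} [Field k'] [Algebra k k'] {c : k'} (h : c ^ Nat.card k = c) :
    c ∈ Set.range (algebraMap k k') := by
  classical
  letI := Fintype.ofFinite k
  have hq : 1 < Fintype.card k := Fintype.one_lt_card
  rw [Nat.card_eq_fintype_card] at h
  set p : Polynomial k' := Polynomial.X ^ Fintype.card k - Polynomial.X
  have hp : p ≠ 0 := FiniteField.X_pow_card_sub_X_ne_zero k' hq
  have hsub : (Finset.univ.image (algebraMap k k')) ⊆ p.roots.toFinset := fun a ha => by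
    obtain ⟨b, -, rfl⟩ := Finset.mem_image.1 ha
    rw [Multiset.mem_toFinset, Polynomial.mem_roots hp]
    simp [p, ← map_pow, FiniteField.pow_card]
  have hc : p.roots.toFinset.card ≤ (Finset.univ.image (algebraMap k k')).card := by
    rw [Finset.card_image_of_injective _ (algebraMap k k').injective, Finset.card_univ]
    exact (Multiset.toFinset_card_le _).trans ((Polynomial.card_roots' p).trans_eq
      (FiniteField.X_pow_card_sub_X_natDegree_eq k' hq))
  have : c ∈ Finset.univ.image (algebraMap k k') := by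
    rw [Finset.eq_of_subset_of_card_le hsub hc, Multiset.mem_toFinset, Polynomial.mem_roots hp]
    simp [p, h]
  obtain ⟨b, -, rfl⟩ := Finset.mem_image.1 this
  exact ⟨b, rfl⟩

end frob

section genus

universe u₁ u₂

variable {k : Type u₁} {K : Type u₂} [Field k] [Finite k] [Field K] [Algebra k K]

/-- The genus is invariant under extensions of the finite constant field. -/
lemma genus_constExt {k' : Type*} {K' : Type*} [Field k'] [Field K'] [Algebra k k'] [Algebra K K'] [Algebra k' K']
    [Algebra k K'] [IsScalarTower k K K'] [IsScalarTower k k' K'] [FiniteDimensional k k'] [FiniteDimensional K K']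
    (hK : IsFunctionField k K) (hK' : IsFunctionField k' K') (hr : Module.finrank K K' = Module.finrank k k') :
    genus k' K' = genus k K := by
  classical
  haveI : Finite k' := Module.finite_of_finite k
  obtain ⟨γ, hγ⟩ := Field.exists_primitive_element k k'
  have hα : Module.finrank K K' = (minpoly k γ).natDegree := by
    rw [hr, ← IntermediateField.adjoin.finrank (Algebra.IsIntegral.isIntegral γ), hγ, IntermediateField.finrank_top']
  have htop : Algebra.adjoin K (Set.range (algebraMap k' K')) = ⊤ := by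
    rw [eq_top_iff]
    intro z _
    have hz : z ∈ Algebra.adjoin K {algebraMap k' K' γ} := by
      rw [← IntermediateField.adjoin_simple_toSubalgebra_of_isAlgebraic (Algebra.IsAlgebraic.isAlgebraic _),
        adjoin_const_eq_top hK hα]
      trivial
    exact Algebra.adjoin_mono (R := K) (Set.singleton_subset_iff.2 (Set.mem_range_self γ)) hz
  obtain ⟨α, -, hα', hpair⟩ := Groth.Agent.S11040.result k K hK
  have h := Groth.Agent.S11061.result k K k' K' hK hK'
    ⟨fun c => by rw [← IsScalarTower.algebraMap_apply k K K', ← IsScalarTower.algebraMap_apply k k' K'],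
      htop, hr⟩ α hα'
  set r := Module.finrank k k'
  set R : Polynomial ℂ := ∏ i, (1 - Polynomial.C (α i ^ r) * Polynomial.X)
  have hα0 : ∀ i, α i ^ r ≠ 0 := fun i => pow_ne_zero _ fun h0 => by
    have := hpair i
    rw [h0, zero_mul] at this
    exact Nat.card_pos.ne' (Nat.cast_eq_zero.1 this.symm)
  have hd1 : ∀ i, (1 - Polynomial.C (α i ^ r) * Polynomial.X : Polynomial ℂ).natDegree = 1 := fun i => by
    rw [← map_one Polynomial.C, sub_eq_neg_add, ← neg_mul, ← map_neg, Polynomial.natDegree_linear (neg_ne_zero.2 (hα0 i))]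
  have hRd : R.natDegree = 2 * genus k K := by
    rw [Polynomial.natDegree_prod _ _ (fun i _ h => by have := hd1 i; rw [h, Polynomial.natDegree_zero] at this; exact zero_ne_one this), Finset.sum_congr rfl fun i _ => hd1 i]
    simp
  obtain ⟨D, hD⟩ := exists_deg_eq_one hK'
  have hco : ∀ j, R.coeff j = ((PowerSeries.coeff j (numerZ k' K') : ℤ) : ℂ) := fun j => by
    rw [← Polynomial.coeff_coe, ← h, PowerSeries.coeff_map]; rfl
  have h1 : R.natDegree ≤ 2 * genus k' K' := by
    rw [Polynomial.natDegree_le_iff_coeff_eq_zero]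
    intro j hj
    rw [hco, numerZ_coeff_eq_zero hK' hD hj, Int.cast_zero]
  have h2 : 2 * genus k' K' ≤ R.natDegree := by
    refine Polynomial.le_natDegree_of_ne_zero ?_
    rw [hco, Int.cast_ne_zero]
    intro h0
    have := numerZ_coeff_reflect hK' hD (i := 0) (Nat.zero_le _)
    rw [Nat.sub_zero, h0, numerZ_coeff_zero hK' hD, Int.cast_zero, Int.cast_one, mul_one] at this
    exact zpow_ne_zero _ (Nat.cast_ne_zero.2 Nat.card_pos.ne') this.symm
  omega

end genus

section twist

variable {k k' M : Type*} [Field k] [Finite k] [Field k'] [Field M] [Algebra k M] [Algebra k k'] [Algebra k' M]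
  [IsScalarTower k k' M] [FiniteDimensional k k']

/-- The number of rational places of the twisted form: fixed places of degree `[k' : k]`. -/
noncomputable def fixedCount (d : ℕ) (γ : M ≃ₐ[k] M) : ℕ :=
  Nat.card {Q : Place k M // Q.deg = d ∧ comapPlace γ Q = Q}

variable (hM : IsFunctionField k' M) {γ : M ≃ₐ[k] M}
  (hγd : γ ^ Module.finrank k k' = 1)
  (hγ : ∀ c : k', γ (algebraMap k' M c) = algebraMap k' M (c ^ Nat.card k))

include hγ in
lemma pow_apply_const (i : ℕ) (c : k') : (γ ^ i) (algebraMap k' M c) = algebraMap k' M (c ^ Nat.card k ^ i) := by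
  induction i generalizing c with
  | zero => simp
  | succ i ih =>
    rw [pow_succ', AlgEquiv.mul_apply, ih, hγ, pow_succ, pow_mul]

include hγd hγ in
lemma orderOf_twist : orderOf γ = Module.finrank k k' := by
  classical
  haveI : Finite k' := Module.finite_of_finite k
  letI := Fintype.ofFinite k'
  refine Nat.le_antisymm (Nat.le_of_dvd Module.finrank_pos (orderOf_dvd_of_pow_eq_one hγd)) ?_
  set i := orderOf γ
  have hi : 0 < i := orderOf_pos_iff.2 (isOfFinOrder_iff_pow_eq_one.2 ⟨_, Module.finrank_pos, hγd⟩)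
  have h : ∀ c : k', c ^ Nat.card k ^ i = c := fun c => by
    have := pow_apply_const hγ i c
    rw [pow_orderOf_eq_one] at this
    exact (algebraMap k' M).injective this.symm
  have hq : 1 < Nat.card k := Finite.one_lt_card
  have hq' : 1 < Nat.card k ^ i := Nat.one_lt_pow hi.ne' hq
  have hp := FiniteField.X_pow_card_sub_X_ne_zero k' hq'
  have hsub : (Finset.univ : Finset k') ⊆ (Polynomial.X ^ Nat.card k ^ i - Polynomial.X : Polynomial k').roots.toFinset :=
    fun c _ => by
      rw [Multiset.mem_toFinset, Polynomial.mem_roots hp]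
      simp [h c]
  have hc := (Finset.card_le_card hsub).trans ((Multiset.toFinset_card_le _).trans
    ((Polynomial.card_roots' _).trans_eq (FiniteField.X_pow_card_sub_X_natDegree_eq k' hq')))
  rw [Finset.card_univ, ← Nat.card_eq_fintype_card, Module.natCard_eq_pow_finrank (K := k) (V := k')] at hc
  exact (Nat.pow_le_pow_iff_right hq).1 hc

include hM hγd hγ in
/-- The fixed field of a twist. -/
lemma exists_fixed_field :
    ∃ F : IntermediateField k M, IsFunctionField k F ∧ FiniteDimensional F M ∧
      Module.finrank F M = Module.finrank k k' ∧ (∀ x : M, x ∈ F ↔ γ x = x) ∧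
      ∀ (R : Place k F) (Q₁ Q₂ : Place k M), IsOver Q₁ R → IsOver Q₂ R → ∃ i : ℕ, comapPlace (γ ^ i) Q₁ = Q₂ := by
  classical
  haveI : Finite k' := Module.finite_of_finite k
  let H : Subgroup (M ≃ₐ[k] M) := Subgroup.zpowers γ
  have hfo : IsOfFinOrder γ := isOfFinOrder_iff_pow_eq_one.2 ⟨_, Module.finrank_pos, hγd⟩
  haveI : Finite H := (IsOfFinOrder.finite_zpowers hfo).to_subtype
  letI := Fintype.ofFinite H
  set F : IntermediateField k M := FixedPoints.intermediateField (F := k) H
  haveI : FiniteDimensional F M := inferInstanceAs (FiniteDimensional (FixedPoints.subfield H M) M)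
  haveI : IsGalois F M := inferInstanceAs (IsGalois (FixedPoints.subfield H M) M)
  have hmem : ∀ x : M, x ∈ F ↔ γ x = x := fun x => by
    refine ⟨fun h => h ⟨γ, Subgroup.mem_zpowers γ⟩, fun h => ?_⟩
    have hall : ∀ i : ℕ, (γ ^ i) x = x := by
      intro i
      induction i with
      | zero => rfl
      | succ i ih => rw [pow_succ, AlgEquiv.mul_apply, h, ih]
    rintro ⟨g, hg⟩
    rw [hfo.mem_zpowers_iff_mem_range_orderOf, Finset.mem_image] at hg
    obtain ⟨i, -, rfl⟩ := hg
    exact hall i
  have hrank : Module.finrank F M = Module.finrank k k' := by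
    rw [← orderOf_twist hγd hγ, ← Nat.card_zpowers]
    exact (FixedPoints.finrank_eq_card H M).trans Nat.card_eq_fintype_card.symm
  refine ⟨F, ⟨?_, fun y hy => ?_⟩, inferInstance, hrank, hmem, ?_⟩
  · have hFtr : ∃ x : F, Transcendental k x := by
      by_contra hall
      have : ∀ x : F, IsAlgebraic k x := fun x => by_contra fun h => hall ⟨x, h⟩
      haveI : Algebra.IsAlgebraic k F := ⟨this⟩
      haveI : Algebra.IsAlgebraic k M := Algebra.IsAlgebraic.trans k F M
      obtain ⟨⟨x, hx, -⟩, -⟩ := hM
      exact hx ((Algebra.IsAlgebraic.isAlgebraic (R := k) x).extendScalars (algebraMap k k').injective)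
    obtain ⟨x, hx⟩ := hFtr
    have hxM : Transcendental k (x : M) := fun h => hx ((isAlgebraic_algebraMap_iff (algebraMap F M).injective).1 h)
    haveI := finiteDimensional_adjoin hM (x := (x : M)) (hxM.extendScalars k')
    have hfd : FiniteDimensional k⟮(x : M)⟯ M := by
      have e := finrank_adjoin_const (k' := k') hxM
      refine Module.finite_of_finrank_pos ?_
      rw [← e]
      exact Nat.mul_pos Module.finrank_pos Module.finrank_pos
    refine ⟨x, hx, ?_⟩
    have hmap : (k⟮x⟯).map F.val = k⟮(x : M)⟯ := by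
      rw [IntermediateField.adjoin_map, Set.image_singleton]; rfl
    let e : k⟮x⟯ ≃+* k⟮(x : M)⟯ := (((k⟮x⟯).equivMap F.val).trans (IntermediateField.equivOfEq hmap)).toRingEquiv
    haveI : FiniteDimensional k⟮x⟯ M :=
      Module.Finite.of_equiv_equiv e.symm (RingEquiv.refl M) (RingHom.ext fun z => by
        obtain ⟨w, rfl⟩ := e.surjective z
        rw [RingHom.comp_apply, RingHom.comp_apply]
        change algebraMap k⟮x⟯ M (e.symm (e w)) = _
        rw [e.symm_apply_apply]; rfl)
    exact FiniteDimensional.left k⟮x⟯ F M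
  · have hy' : IsAlgebraic k (y : M) := hy.algebraMap
    obtain ⟨c, hc⟩ := hM.2 _ (hy'.extendScalars (algebraMap k k').injective)
    have hfix := (hmem _).1 y.2
    rw [← hc, hγ] at hfix
    obtain ⟨b, rfl⟩ := mem_range_of_pow_card ((algebraMap k' M).injective hfix)
    exact ⟨b, Subtype.ext (by rw [← hc, ← IsScalarTower.algebraMap_apply]; rfl)⟩
  · intro R Q₁ Q₂ h₁ h₂
    obtain ⟨σ, hσ⟩ := exists_comap_eq h₁ h₂
    obtain ⟨g, hg⟩ := (FixedPoints.toAlgHom_bijective H M).2
      ({ (σ : M →+* M) with commutes' := fun r => σ.commutes r } : M →ₐ[FixedPoints.subfield H M] M)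
    obtain ⟨⟨g', hg'⟩, rfl⟩ : ∃ g₀ : H, g₀ = g := ⟨g, rfl⟩
    have hg'' := hg'
    rw [hfo.mem_zpowers_iff_mem_range_orderOf, Finset.mem_image] at hg''
    obtain ⟨i, -, rfl⟩ := hg''
    refine ⟨i, ?_⟩
    rw [← hσ]
    congr 1
    exact AlgEquiv.ext fun z => DFunLike.congr_fun hg z

include hM hγd hγ in
/-- Bombieri's bound for a twist and the places it counts. -/
lemma fixedCount_eq :
    ∃ F : IntermediateField k M, IsFunctionField k F ∧ genus k F = genus k' M ∧
      fixedCount (Module.finrank k k') γ = Nat.card {R : Place k F // R.deg = 1} ∧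
      (∀ Q : Place k M, comapPlace γ Q = Q → (placeEquiv k M k' Q).deg ∣ Module.finrank k k' →
        Q.deg = Module.finrank k k') := by
  classical
  obtain ⟨F, hF, hfd, hrank, hmem, htrans⟩ := exists_fixed_field hM hγd hγ
  haveI := hfd
  haveI : Finite k' := Module.finite_of_finite k
  set d := Module.finrank k k'
  obtain ⟨α, hαtop⟩ := Field.exists_primitive_element k k'
  have hdeg : (minpoly k α).natDegree = d := by
    rw [← IntermediateField.adjoin.finrank (Algebra.IsIntegral.isIntegral α), hαtop, IntermediateField.finrank_top']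
  have hα : Module.finrank F M = (minpoly k α).natDegree := by rw [hrank, hdeg]
  have hirr := minpoly.irreducible (A := k) (Algebra.IsIntegral.isIntegral α)
  have hsep : (minpoly k α).Separable := PerfectField.separable_of_irreducible hirr
  have hfix : ∀ Q : Place k M, comapPlace γ Q = Q → ∀ i : ℕ, comapPlace (γ ^ i) Q = Q := by
    intro Q hQ i
    induction i with
    | zero => exact comapPlace_one Q
    | succ i ih => rw [pow_succ, comapPlace_mul, ih, hQ]
  have hover : ∀ (Q : Place k M) (R : Place k F), IsOver Q R → IsOver (comapPlace γ Q) R := fun Q R h => by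
    obtain ⟨e, he⟩ := h
    exact ⟨e, isOverWith_comap he fun a => (hmem _).1 a.2⟩
  -- the places above a place of `F`
  have hR : ∀ R : Place k F, ∃ m : ℕ, m * Nat.gcd d R.deg = d ∧
      (∀ Q : Place k M, IsOver Q R → Q.deg = R.deg * m) ∧
      (m = d ↔ ∀ Q Q' : Place k M, IsOver Q R → IsOver Q' R → Q = Q') := by
    intro R
    haveI : @Module.Finite k (IsLocalRing.ResidueField R.O) _ _ Algebra.toModule := finite_residue hF R
    have key := places_over_const hF hM hα hsep R
    simp only at key
    revert key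
    generalize hFs : (UniqueFactorizationMonoid.normalizedFactors
      ((minpoly k α).map (algebraMap k (IsLocalRing.ResidueField R.O)))).toFinset = Fs
    rintro ⟨hsum, e, he⟩
    have hd : ∀ h ∈ Fs, h.natDegree * Nat.gcd d R.deg = d := fun h hh => by
      rw [← hFs, Multiset.mem_toFinset] at hh
      have := natDegree_factor (k := k) hirr (UniqueFactorizationMonoid.irreducible_of_normalized_factor h hh)
        (UniqueFactorizationMonoid.dvd_of_mem_normalizedFactors hh)
      rwa [hdeg] at this
    obtain ⟨Q₀, hQ₀⟩ := exists_over (K' := M) hF R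
    obtain ⟨h₀, -⟩ := e.surjective ⟨Q₀, hQ₀⟩
    have hg : 0 < Nat.gcd d R.deg := Nat.gcd_pos_of_pos_left _ Module.finrank_pos
    have hall : ∀ h ∈ Fs, h.natDegree = h₀.1.natDegree := fun h hh =>
      Nat.eq_of_mul_eq_mul_right hg ((hd h hh).trans (hd _ h₀.2).symm)
    refine ⟨h₀.1.natDegree, hd _ h₀.2, fun Q hQ => ?_, ?_⟩
    · obtain ⟨h, hh⟩ := e.surjective ⟨Q, hQ⟩
      have := (he h).2.1
      rw [hh, hall _ h.2] at this
      exact this
    · rw [Finset.sum_congr rfl hall, Finset.sum_const, smul_eq_mul, hdeg] at hsum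
      have hm0 : 0 < h₀.1.natDegree := Nat.pos_of_ne_zero fun h => by
        rw [h, mul_zero] at hsum; exact (Module.finrank_pos (R := k) (M := k')).ne' hsum.symm
      constructor
      · intro hm Q Q' hQ hQ'
        have hc : Fs.card = 1 := by
          rw [hm] at hsum
          exact Nat.eq_of_mul_eq_mul_right Module.finrank_pos (by rw [one_mul]; exact hsum)
        have : e.symm ⟨Q, hQ⟩ = e.symm ⟨Q', hQ'⟩ :=
          Subtype.ext (Finset.card_le_one.1 hc.le _ (e.symm _).2 _ (e.symm _).2)
        exact congrArg Subtype.val (e.symm.injective this)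
      · intro huniq
        have hc : Fs.card ≤ 1 := Finset.card_le_one.2 fun a ha b hb =>
          congrArg Subtype.val (e.injective (Subtype.ext (huniq _ _ (e ⟨a, ha⟩).2 (e ⟨b, hb⟩).2)))
        have : Fs.card = 1 := le_antisymm hc (Finset.card_pos.2 ⟨_, h₀.2⟩)
        rwa [this, one_mul] at hsum
  refine ⟨F, hF, (genus_constExt hF hM hrank).symm, ?_, ?_⟩
  · refine (Nat.card_eq_of_bijective
      (fun Q : {Q : Place k M // Q.deg = d ∧ comapPlace γ Q = Q} =>
        (⟨(exists_isOver hF Q.1).choose, ?_⟩ : {R : Place k F // R.deg = 1})) ⟨?_, ?_⟩)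
    · have hQR := (exists_isOver hF Q.1).choose_spec
      obtain ⟨m, hm, hm2, hm3⟩ := hR (exists_isOver hF Q.1).choose
      have : m = d := hm3.2 fun Q₁ Q₂ h₁ h₂ => by
        obtain ⟨i, hi⟩ := htrans _ _ _ hQR h₁
        obtain ⟨j, hj⟩ := htrans _ _ _ hQR h₂
        rw [hfix _ Q.2.2] at hi hj
        exact hi.symm.trans hj
      have h4 := hm2 _ hQR
      rw [Q.2.1, this] at h4
      exact (Nat.eq_of_mul_eq_mul_right Module.finrank_pos (by rw [one_mul]; exact h4)).symm
    · intro Q Q' h
      have h' : (exists_isOver hF Q.1).choose = (exists_isOver hF Q'.1).choose := congrArg Subtype.val h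
      obtain ⟨i, hi⟩ := htrans _ _ _ (exists_isOver hF Q.1).choose_spec (h' ▸ (exists_isOver hF Q'.1).choose_spec)
      rw [hfix _ Q.2.2] at hi
      exact Subtype.ext hi
    · rintro ⟨R, hR1⟩
      obtain ⟨Q, hQ⟩ := exists_over (K' := M) hF R
      obtain ⟨m, hm, hm2, hm3⟩ := hR R
      rw [hR1, Nat.gcd_one_right, mul_one] at hm
      have hfixQ : comapPlace γ Q = Q := hm3.1 hm _ _ (hover Q R hQ) hQ
      refine ⟨⟨Q, by rw [hm2 Q hQ, hR1, one_mul, hm], hfixQ⟩, Subtype.ext ?_⟩
      exact place_below_unique (exists_isOver hF Q).choose_spec hQ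
  · intro Q hQ hdvd
    obtain ⟨R, hQR⟩ := exists_isOver hF Q
    obtain ⟨m, hm, hm2, hm3⟩ := hR R
    have hmd : m = d := hm3.2 fun Q₁ Q₂ h₁ h₂ => by
      obtain ⟨i, hi⟩ := htrans _ _ _ hQR h₁
      obtain ⟨j, hj⟩ := htrans _ _ _ hQR h₂
      rw [hfix _ hQ] at hi hj
      exact hi.symm.trans hj
    rw [hmd] at hm
    have hg : Nat.gcd d R.deg = 1 := Nat.eq_of_mul_eq_mul_left Module.finrank_pos (by rw [mul_one]; exact hm)
    have h4 := hm2 Q hQR
    rw [hmd, deg_placeEquiv (k' := k'), mul_comm R.deg] at h4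
    have h5 := Nat.eq_of_mul_eq_mul_left Module.finrank_pos h4
    rw [h5] at hdvd
    have : R.deg = 1 := Nat.eq_one_of_dvd_coprimes hg hdvd dvd_rfl
    rw [hm2 Q hQR, this, one_mul, hmd]

end twist

section sum

variable {k k' K M : Type*} [Field k] [Finite k] [Field k'] [Field K] [Field M] [Algebra k K] [Algebra K M]
  [Algebra k M] [IsScalarTower k K M] [Algebra k k'] [Algebra k' M] [IsScalarTower k k' M] [FiniteDimensional k k']
  [FiniteDimensional K M] [IsGalois K M]

variable (k k' K M) in
/-- Automorphisms fixing `K` and the constants. -/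
def constStab : Subgroup (M ≃ₐ[k] M) where
  carrier := {σ | (∀ a : K, σ (algebraMap K M a) = algebraMap K M a) ∧
    ∀ c : k', σ (algebraMap k' M c) = algebraMap k' M c}
  mul_mem' {a b} ha hb := ⟨fun x => by rw [AlgEquiv.mul_apply, hb.1, ha.1],
    fun c => by rw [AlgEquiv.mul_apply, hb.2, ha.2]⟩
  one_mem' := ⟨fun _ => rfl, fun _ => rfl⟩
  inv_mem' {a} ha := ⟨fun x => a.injective (by rw [← AlgEquiv.mul_apply, mul_inv_cancel, ha.1]; rfl),
    fun c => a.injective (by rw [← AlgEquiv.mul_apply, mul_inv_cancel, ha.2]; rfl)⟩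

/-- The twisting identity. -/
theorem sum_fixedCount (hK : IsFunctionField k K) (hM : IsFunctionField k' M) [Fintype (constStab k k' K M)]
    (τ : M ≃ₐ[k] M) (hτK : ∀ a : K, τ (algebraMap K M a) = algebraMap K M a)
    (hτ : ∀ c : k', τ (algebraMap k' M c) = algebraMap k' M (c ^ Nat.card k))
    (hdvd : Fintype.card (constStab k k' K M) ∣ Module.finrank k k')
    (hord : ∀ σ : constStab k k' K M, ((σ : M ≃ₐ[k] M) * τ) ^ Module.finrank k k' = 1) :
    ∑ σ : constStab k k' K M, fixedCount (Module.finrank k k') ((σ : M ≃ₐ[k] M) * τ) =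
      Fintype.card (constStab k k' K M) * Nat.card {P : Place k K // P.deg = 1} := by
  classical
  haveI : Finite k' := Module.finite_of_finite k
  set d := Module.finrank k k'
  let G := constStab k k' K M
  obtain ⟨α, hαtop⟩ := Field.exists_primitive_element k k'
  have hαi : IsIntegral k α := Algebra.IsIntegral.isIntegral α
  have hdeg : (minpoly k α).natDegree = d := by
    rw [← IntermediateField.adjoin.finrank hαi, hαtop, IntermediateField.finrank_top']
  have hirr := minpoly.irreducible (A := k) hαi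
  have hsep : (minpoly k α).Separable := PerfectField.separable_of_irreducible hirr
  -- the field `K k'`
  set α' := algebraMap k' M α
  set K2 : IntermediateField K M := K⟮α'⟯
  have hk'mem : ∀ c : k', algebraMap k' M c ∈ K2 := by
    intro c
    have hc : c ∈ Algebra.adjoin k {α} := by
      rw [← IntermediateField.adjoin_simple_toSubalgebra_of_isAlgebraic hαi.isAlgebraic, hαtop]; trivial
    rw [Algebra.adjoin_singleton_eq_range_aeval] at hc
    obtain ⟨p, rfl⟩ := hc
    change algebraMap k' M (Polynomial.aeval α p) ∈ K2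
    rw [← Polynomial.aeval_algebraMap_apply, ← Polynomial.aeval_map_algebraMap K]
    exact IntermediateField.algebra_adjoin_le_adjoin K _ (Polynomial.aeval_mem_adjoin_singleton _ _)
  letI : Algebra k' K2 := ((algebraMap k' M).codRestrict K2 hk'mem).toAlgebra
  haveI : IsScalarTower k k' K2 := IsScalarTower.of_algebraMap_eq fun c => Subtype.ext (by
    change algebraMap k M c = algebraMap k' M (algebraMap k k' c)
    exact IsScalarTower.algebraMap_apply k k' M c)
  haveI : IsScalarTower k' K2 M := IsScalarTower.of_algebraMap_eq fun _ => rfl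
  haveI : IsScalarTower k K2 M := IsScalarTower.of_algebraMap_eq fun c => rfl
  have hK2rank : Module.finrank K K2 = d := by
    rw [IntermediateField.adjoin.finrank (IsIntegral.of_finite K _), minpoly_const hK hαi.algebraMap,
      Polynomial.natDegree_map, minpoly.algebraMap_eq (algebraMap k' M).injective, hdeg]
  have hK2 : IsFunctionField k' K2 := isFunctionField_of_finrank hK hK2rank.le
  have hα2 : Module.finrank K K2 = (minpoly k α).natDegree := by rw [hK2rank, hdeg]
  have hGmem : ∀ g : M ≃ₐ[K2] M, g.restrictScalars k ∈ G := fun g =>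
    ⟨fun a => by
      rw [IsScalarTower.algebraMap_apply K K2 M]
      exact g.commutes _, fun c => g.commutes (algebraMap k' K2 c)⟩
  have hGlift : ∀ σ ∈ G, ∀ z ∈ K2, σ z = z := by
    intro σ hσ z hz
    induction hz using IntermediateField.adjoin_induction with
    | mem y hy => rw [Set.mem_singleton_iff.1 hy]; exact hσ.2 α
    | algebraMap y => exact hσ.1 y
    | add a b _ _ ha hb => rw [map_add, ha, hb]
    | inv a _ ha => rw [map_inv₀, ha]
    | mul a b _ _ ha hb => rw [map_mul, ha, hb]
  have hGcard : Fintype.card G = Module.finrank K2 M := by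
    haveI : IsGalois K2 M := IsGalois.tower_top_of_isGalois K K2 M
    rw [← IsGalois.card_aut_eq_finrank K2 M, Nat.card_eq_fintype_card]
    refine (Fintype.card_congr
      { toFun := fun g => ⟨g.restrictScalars k, hGmem g⟩
        invFun := fun σ => AlgEquiv.ofRingEquiv (f := (σ.1 : M ≃+* M)) fun a => hGlift σ.1 σ.2 a.1 a.2
        left_inv := fun g => AlgEquiv.ext fun _ => rfl
        right_inv := fun σ => Subtype.ext (AlgEquiv.ext fun _ => rfl) }).symm
  -- transitivity and degrees over a rational place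
  have hfib : ∀ P : Place k K, P.deg = 1 →
      (∀ Q Q' : Place k M, IsOver Q P → IsOver Q' P → ∃ σ : G, comapPlace (σ : M ≃ₐ[k] M) Q = Q') ∧
      ∀ Q : Place k M, IsOver Q P → (placeEquiv k M k' Q).deg ∣ Fintype.card G := by
    intro P hP
    haveI : @Module.Finite k (IsLocalRing.ResidueField P.O) _ _ Algebra.toModule := finite_residue hK P
    have key := places_over_const hK hK2 hα2 hsep P
    simp only at key
    revert key
    generalize hFs : (UniqueFactorizationMonoid.normalizedFactors
      ((minpoly k α).map (algebraMap k (IsLocalRing.ResidueField P.O)))).toFinset = Fs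
    rintro ⟨hsum, e, he⟩
    have hd : ∀ h ∈ Fs, h.natDegree = d := fun h hh => by
      rw [← hFs, Multiset.mem_toFinset] at hh
      have := natDegree_factor (k := k) hirr (UniqueFactorizationMonoid.irreducible_of_normalized_factor h hh)
        (UniqueFactorizationMonoid.dvd_of_mem_normalizedFactors hh)
      rwa [hdeg, show Module.finrank k (IsLocalRing.ResidueField P.O) = P.deg from rfl, hP, Nat.gcd_one_right,
        mul_one] at this
    have hc : Fs.card = 1 := by
      rw [Finset.sum_congr rfl hd, Finset.sum_const, smul_eq_mul, hdeg] at hsum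
      exact Nat.eq_of_mul_eq_mul_right Module.finrank_pos (by rw [one_mul]; exact hsum)
    have hbelow : ∀ Q : Place k M, IsOver Q P →
        ∃ R : Place k' K2, IsOver (placeEquiv k M k' Q) R ∧ IsOver (downPlace (k := k) R) P ∧ R.deg = 1 := by
      intro Q hQ
      obtain ⟨R, e', he'⟩ := exists_isOver hK2 (placeEquiv k M k' Q)
      obtain ⟨P₂, e₂, he₂⟩ := exists_isOver hK (downPlace (k := k) R)
      have hcomp : IsOverWith Q P₂ (e₂ * e') := fun a => by
        rw [IsScalarTower.algebraMap_apply K K2 M, pow_mul, ← he₂ a]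
        exact he' _
      obtain rfl := place_below_unique ⟨_, hcomp⟩ hQ
      refine ⟨R, ⟨e', he'⟩, ⟨e₂, he₂⟩, ?_⟩
      obtain ⟨h, hh⟩ := e.surjective ⟨downPlace (k := k) R, e₂, he₂⟩
      have h1 := (he h).2.1
      rw [hh, hd _ h.2, hP, one_mul] at h1
      have h2 := deg_placeEquiv (k' := k') (downPlace (k := k) R)
      rw [show (placeEquiv k K2 k') (downPlace R) = R from rfl, h1] at h2
      exact (Nat.eq_of_mul_eq_mul_left (m := 1) Module.finrank_pos (by rw [mul_one]; exact h2)).symm
    have huniq : ∀ R R' : Place k' K2, IsOver (downPlace (k := k) R) P → IsOver (downPlace (k := k) R') P → R = R' := by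
      intro R R' hR hR'
      have : e.symm ⟨_, hR⟩ = e.symm ⟨_, hR'⟩ :=
        Subtype.ext (Finset.card_le_one.1 hc.le _ (e.symm _).2 _ (e.symm _).2)
      exact (placeEquiv k K2 k').symm.injective (congrArg Subtype.val (e.symm.injective this))
    haveI : IsGalois K2 M := IsGalois.tower_top_of_isGalois K K2 M
    constructor
    · intro Q Q' hQ hQ'
      obtain ⟨R, hR1, hR2, -⟩ := hbelow Q hQ
      obtain ⟨R', hR'1, hR'2, -⟩ := hbelow Q' hQ'
      obtain rfl := huniq R R' hR2 hR'2
      obtain ⟨g, hg⟩ := exists_comap_eq hR1 hR'1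
      exact ⟨⟨g.restrictScalars k, hGmem g⟩,
        (placeEquiv k M k').injective (Subtype.ext (congrArg (fun S : Place k' M => S.1) hg :))⟩
    · intro Q hQ
      obtain ⟨R, hR1, hR2, hR3⟩ := hbelow Q hQ
      obtain ⟨hfin, hs⟩ := finite_over_and_sum (K' := M) hK2 R
      have hsum2 := hs hfin.toFinset fun _ => hfin.mem_toFinset
      rw [hR3, mul_one, ← hGcard] at hsum2
      have hconst : ∀ S ∈ hfin.toFinset, ramIdx S R * S.deg =
          ramIdx (placeEquiv k M k' Q) R * (placeEquiv k M k' Q).deg := by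
        intro S hS
        obtain ⟨g, rfl⟩ := exists_comap_eq hR1 (hfin.mem_toFinset.1 hS)
        rw [deg_comapPlace, ramIdx_eq (isOverWith_comap (isOverWith_ramIdx hR1) fun a => g.commutes a)]
      rw [Finset.sum_congr rfl hconst, Finset.sum_const, smul_eq_mul, ← mul_assoc] at hsum2
      exact ⟨_, by rw [← hsum2, mul_comm]⟩
  -- fixed places lie over rational places
  have hover : ∀ (σ : G) (Q : Place k M), Q.deg = d → comapPlace ((σ : M ≃ₐ[k] M) * τ) Q = Q →
      ∀ P : Place k K, IsOver Q P → P.deg = 1 := by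
    intro σ Q hQd hQ P hP
    set γ := (σ : M ≃ₐ[k] M) * τ
    have hγ : ∀ c : k', γ (algebraMap k' M c) = algebraMap k' M (c ^ Nat.card k) := fun c => by
      rw [AlgEquiv.mul_apply, hτ, σ.2.2]
    have hγK : ∀ a : K, γ (algebraMap K M a) = algebraMap K M a := fun a => by
      rw [AlgEquiv.mul_apply, hτK, σ.2.1]
    have h1 : (placeEquiv k M k' Q).deg = 1 := by
      have := deg_placeEquiv (k' := k') Q
      rw [hQd] at this
      exact (Nat.eq_of_mul_eq_mul_left (m := 1) Module.finrank_pos (by rw [mul_one]; exact this)).symm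
    let Q' := placeEquiv k M k' Q
    haveI : @Module.Finite k' (IsLocalRing.ResidueField Q'.O) _ _ Algebra.toModule := finite_residue hM Q'
    have hsurj : Function.Surjective (algebraMap k' (IsLocalRing.ResidueField Q'.O)) := by
      intro x
      have hb : (⊥ : Subalgebra k' (IsLocalRing.ResidueField Q'.O)) = ⊤ := Subalgebra.bot_eq_top_of_finrank_eq_one h1
      exact Algebra.mem_bot.1 (hb ▸ Algebra.mem_top)
    have hP0 : Function.Surjective (algebraMap k (IsLocalRing.ResidueField P.O)) := by
      intro x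
      obtain ⟨z, rfl⟩ := IsLocalRing.residue_surjective x
      have hzQ : Q.1 (algebraMap K M z) ≤ 1 := mem_O_of_isOver hP z
      obtain ⟨c, hc⟩ := hsurj (IsLocalRing.residue Q'.O ⟨algebraMap K M z, hzQ⟩)
      have hc' : Q.1 (algebraMap K M z - algebraMap k' M c) < 1 := by
        have h0 : IsLocalRing.residue Q'.O (⟨algebraMap K M z, hzQ⟩ - algebraMap k' Q'.O c) = 0 := by
          rw [map_sub, ← hc]; exact sub_self _
        exact (residue_eq_zero_iff _).1 h0
      have hc'' : Q.1 (algebraMap K M z - algebraMap k' M (c ^ Nat.card k)) < 1 := by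
        rw [← hγ, ← hγK, ← map_sub]
        rw [← hQ] at hc'
        exact hc'
      have hdiff : Q.1 (algebraMap k' M (c ^ Nat.card k - c)) < 1 := by
        have := Valuation.map_sub_lt Q.1 hc' hc''
        rw [sub_sub_sub_cancel_left, ← map_sub] at this
        exact this
      have hcq : c ^ Nat.card k = c := by
        by_contra hne
        change Q'.1 (algebraMap k' M (c ^ Nat.card k - c)) < 1 at hdiff
        rw [v_algebraMap Q' (sub_ne_zero.2 hne)] at hdiff
        exact lt_irrefl _ hdiff
      obtain ⟨b, rfl⟩ := mem_range_of_pow_card hcq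
      refine ⟨b, ?_⟩
      symm
      change IsLocalRing.residue P.O z = IsLocalRing.residue P.O (algebraMap k P.O b)
      rw [← sub_eq_zero, ← map_sub, residue_eq_zero_iff]
      obtain ⟨e', he'⟩ := hP
      have h2 : Q.1 (algebraMap K M ((z : K) - algebraMap k K b)) < 1 := by
        rw [map_sub, ← IsScalarTower.algebraMap_apply, IsScalarTower.algebraMap_apply k k' M]
        exact hc'
      rw [he', pow_lt_one_iff (pos_of_isOverWith he').ne'] at h2
      exact h2
    haveI : @Module.Finite k (IsLocalRing.ResidueField P.O) _ _ Algebra.toModule := finite_residue hK P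
    have hle : Module.finrank k (IsLocalRing.ResidueField P.O) ≤ Module.finrank k k := by
      have : Function.Surjective (Algebra.linearMap k (IsLocalRing.ResidueField P.O)) := hP0
      exact LinearMap.finrank_le_finrank_of_surjective this
    rw [Module.finrank_self] at hle
    have := deg_pos hK P
    change 0 < Module.finrank k (IsLocalRing.ResidueField P.O) at this
    change Module.finrank k (IsLocalRing.ResidueField P.O) = 1
    omega
  -- count pairs
  have hfin1 : {P : Place k K | P.deg = 1}.Finite :=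
    (finite_places_deg_le hK 1).subset fun P (hP : P.deg = 1) => hP.le
  haveI : Finite {P : Place k K // P.deg = 1} := hfin1.to_subtype
  let Pairs := Σ σ : G, {Q : Place k M // Q.deg = d ∧ comapPlace ((σ : M ≃ₐ[k] M) * τ) Q = Q}
  let below : Pairs → {P : Place k K // P.deg = 1} := fun p =>
    ⟨(exists_isOver hK p.2.1).choose, hover p.1 p.2.1 p.2.2.1 p.2.2.2 _ (exists_isOver hK p.2.1).choose_spec⟩
  have hcard : ∀ P : {P : Place k K // P.deg = 1}, Nat.card {p : Pairs // below p = P} = Fintype.card G := by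
    rintro ⟨P, hP⟩
    obtain ⟨htr, hdeg'⟩ := hfib P hP
    obtain ⟨Q₀, hQ₀⟩ := exists_over (K' := M) hK P
    choose t ht using fun (Q : {Q : Place k M // IsOver Q P}) => htr Q.1 Q₀ Q.2 hQ₀
    have hτX : ∀ Q : Place k M, IsOver Q P → IsOver (comapPlace τ⁻¹ Q) P := fun Q ⟨e, he⟩ =>
      ⟨e, isOverWith_comap he fun a => τ.injective (by rw [← AlgEquiv.mul_apply, mul_inv_cancel, hτK]; rfl)⟩
    have hGX : ∀ (σ : G) (Q : Place k M), IsOver Q P → IsOver (comapPlace (σ : M ≃ₐ[k] M) Q) P :=
      fun σ Q ⟨e, he⟩ => ⟨e, isOverWith_comap he σ.2.1⟩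
    have hp : ∀ p : {p : Pairs // below p = ⟨P, hP⟩}, IsOver p.1.2.1 P := fun p => by
      have := congrArg Subtype.val p.2
      have e : (exists_isOver hK p.1.2.1).choose = P := this
      have h2 := (exists_isOver hK p.1.2.1).choose_spec
      rw [e] at h2
      exact h2
    let fwd : {p : Pairs // below p = ⟨P, hP⟩} → G := fun p => p.1.1 * t ⟨_, hτX _ (hp p)⟩
    have hfwd : ∀ p, comapPlace (fwd p : M ≃ₐ[k] M) p.1.2.1 = Q₀ := by
      intro p
      have h1 : comapPlace (p.1.1 : M ≃ₐ[k] M) p.1.2.1 = comapPlace τ⁻¹ p.1.2.1 := by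
        have := p.1.2.2.2
        rw [comapPlace_mul] at this
        exact (comapPlace_inv this).symm
      simp only [fwd, Subgroup.coe_mul, comapPlace_mul, h1]
      exact ht _
    rw [← Nat.card_eq_fintype_card]
    refine Nat.card_eq_of_bijective fwd ⟨?_, ?_⟩
    · intro p p' h
      have hQ : p.1.2.1 = p'.1.2.1 := by
        rw [← comapPlace_inv (hfwd p), ← comapPlace_inv (hfwd p'), h]
      obtain ⟨⟨σ, Q, hQp⟩, hb⟩ := p
      obtain ⟨⟨σ', Q', hQp'⟩, hb'⟩ := p'
      simp only at hQ
      subst hQ
      have : σ = σ' := mul_right_cancel h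
      subst this
      rfl
    · intro ρ
      set Q := comapPlace ((ρ : M ≃ₐ[k] M))⁻¹ Q₀
      have hQX : IsOver Q P := hGX ρ⁻¹ Q₀ hQ₀
      set σ : G := ρ * (t ⟨_, hτX Q hQX⟩)⁻¹
      have hρQ : comapPlace (ρ : M ≃ₐ[k] M) Q = Q₀ := by
        rw [← comapPlace_mul, inv_mul_cancel, comapPlace_one]
      have hfix : comapPlace ((σ : M ≃ₐ[k] M) * τ) Q = Q := by
        simp only [σ, Subgroup.coe_mul, Subgroup.coe_inv, comapPlace_mul, hρQ]
        rw [comapPlace_inv (ht ⟨_, hτX Q hQX⟩), ← comapPlace_mul, inv_mul_cancel, comapPlace_one]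
      obtain ⟨F, -, -, -, hF⟩ := fixedCount_eq (γ := (σ : M ≃ₐ[k] M) * τ) hM (hord σ) (fun c => by
        rw [AlgEquiv.mul_apply, hτ, σ.2.2])
      have hQd : Q.deg = d := hF Q hfix ((hdeg' Q hQX).trans hdvd)
      have hb : below ⟨σ, Q, hQd, hfix⟩ = ⟨P, hP⟩ :=
        Subtype.ext (place_below_unique (exists_isOver hK Q).choose_spec hQX)
      refine ⟨⟨⟨σ, Q, hQd, hfix⟩, hb⟩, ?_⟩
      simp only [fwd, σ, inv_mul_cancel_right]
  have hfinσ : ∀ σ : G, Finite {Q : Place k M // Q.deg = d ∧ comapPlace ((σ : M ≃ₐ[k] M) * τ) Q = Q} := fun σ => by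
    obtain ⟨F, hF, -, heq, -⟩ := fixedCount_eq (γ := (σ : M ≃ₐ[k] M) * τ) hM (hord σ) (fun c => by
      rw [AlgEquiv.mul_apply, hτ, σ.2.2])
    have hfinM : {Q : Place k' M | Q.deg = 1}.Finite :=
      (finite_places_deg_le hM 1).subset fun P (hP : P.deg = 1) => hP.le
    haveI := hfinM.to_subtype
    exact Finite.of_injective (fun Q => (⟨placeEquiv k M k' Q.1, by
      have := deg_placeEquiv (k' := k') Q.1
      rw [Q.2.1] at this
      exact (Nat.eq_of_mul_eq_mul_left (m := 1) Module.finrank_pos (by rw [mul_one]; exact this)).symm⟩ :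
        {Q : Place k' M | Q.deg = 1}))
      fun a b h => Subtype.ext ((placeEquiv k M k').injective (congrArg Subtype.val h))
  calc ∑ σ : G, fixedCount d ((σ : M ≃ₐ[k] M) * τ) = Nat.card Pairs := (Nat.card_sigma).symm
    _ = Nat.card (Σ P : {P : Place k K // P.deg = 1}, {p : Pairs // below p = P}) :=
        Nat.card_congr (Equiv.sigmaFiberEquiv below).symm
    _ = _ := by
        letI := Fintype.ofFinite {P : Place k K // P.deg = 1}
        rw [Nat.card_sigma, Finset.sum_congr rfl fun P _ => hcard P, Finset.sum_const, Finset.card_univ,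
          smul_eq_mul, Nat.card_eq_fintype_card (α := {P : Place k K // P.deg = 1}), mul_comm]

end sum

end Groth.Agent.FF
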