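import Mathlib
import Groth.Agent.FF.Twist

/-! Twisted point counts of a Galois covering over an extension of the constants. -/

set_option linter.style.haveILetI false

namespace Groth.Agent.FF

open FunFld
open scoped WithZero IntermediateField

lemma aeval_pow_card {k A : Type*} [Field k] [Finite k] [CommRing A] [Algebra k A] {x : A} {f : Polynomial k}
    (hx : Polynomial.aeval x f = 0) (j : ℕ) : Polynomial.aeval (x ^ Nat.card k ^ j) f = 0 := by
  letI := Fintype.ofFinite k
  induction j with
  | zero => simpa using hx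
  | succ j ih =>
    rw [pow_succ, pow_mul, ← Polynomial.expand_aeval, Nat.card_eq_fintype_card, FiniteField.expand_card, map_pow]
    rw [Nat.card_eq_fintype_card] at ih
    rw [ih, zero_pow Fintype.card_ne_zero]

lemma pow_card_pow {k k' : Type*} [Field k] [Finite k] [Field k'] [Algebra k k'] [FiniteDimensional k k'] (c : k')
    (i : ℕ) : c ^ Nat.card k ^ (Module.finrank k k' * i) = c := by
  haveI : Finite k' := Module.finite_of_finite k
  letI := Fintype.ofFinite k'
  rw [pow_mul, ← Module.natCard_eq_pow_finrank (K := k) (V := k'), Nat.card_eq_fintype_card]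
  exact FiniteField.pow_card_pow i c

universe u v

variable {k : Type u} {L : Type v} [Field k] [Finite k] [Field L] [Algebra k L]

/-- Twisted counts: bounded by Bombieri, summing to the point counts of every base. -/
theorem exists_twistCount (hL : IsFunctionField k L) {m n₀ s : ℕ} (hm : 0 < m) (hn : 0 < n₀)
    (hq : Nat.card k ^ m = s ^ 2) (hs : (genus k L + 1) ^ 2 < s) :
    ∃ c : (L ≃ₐ[k] L) → ℕ,
      (∀ ρ, ρ ^ n₀ = 1 → c ρ ≤ s ^ 2 + 1 + (2 * genus k L + 1) * s) ∧
      ∀ (B : IntermediateField k L) [FiniteDimensional B L] [IsGalois B L], IsFunctionField k B →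
        Module.finrank B L ∣ n₀ →
          ∑ ρ : L ≃ₐ[B] L, c (ρ.restrictScalars k) = Module.finrank B L * nPts k B m := by
  classical
  obtain ⟨p, hp⟩ := CharP.exists k
  haveI : Fact p.Prime := ⟨CharP.char_is_prime k p⟩
  haveI : NeZero (n₀ * m) := ⟨(Nat.mul_pos hn hm).ne'⟩
  haveI : NeZero m := ⟨hm.ne'⟩
  -- the new constants
  obtain ⟨γ, hγ⟩ := Field.exists_primitive_element k (FiniteField.Extension k p (n₀ * m))
  have hγi : IsIntegral k γ := Algebra.IsIntegral.isIntegral γ
  set f := minpoly k γ
  have hfd : f.natDegree = n₀ * m := by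
    rw [← IntermediateField.adjoin.finrank hγi, hγ, IntermediateField.finrank_top', FiniteField.finrank_extension]
  have hfi : Irreducible f := minpoly.irreducible hγi
  have hfm : f.Monic := minpoly.monic hγi
  haveI : Fact (Irreducible f) := ⟨hfi⟩
  set fL := f.map (algebraMap k L)
  have hfLi : Irreducible fL := irreducible_map_const hL hfm hfi
  haveI : Fact (Irreducible fL) := ⟨hfLi⟩
  let k' := AdjoinRoot f
  let M := AdjoinRoot fL
  haveI : IsScalarTower k L M := IsScalarTower.of_algebraMap_eq fun _ => rfl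
  set θ : M := AdjoinRoot.root fL
  have hθ : Polynomial.aeval θ f = 0 := by
    rw [← Polynomial.aeval_map_algebraMap L, AdjoinRoot.aeval_eq, AdjoinRoot.mk_self]
  let ι : k' →ₐ[k] M := AdjoinRoot.liftAlgHom f (Algebra.ofId k M) θ hθ
  letI : Algebra k' M := ι.toRingHom.toAlgebra
  haveI : IsScalarTower k k' M := IsScalarTower.of_algebraMap_eq fun c => (ι.commutes c).symm
  haveI : FiniteDimensional k k' := (AdjoinRoot.powerBasis hfi.ne_zero).finite
  haveI : FiniteDimensional L M := (AdjoinRoot.powerBasis hfLi.ne_zero).finite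
  haveI : Finite k' := Module.finite_of_finite k
  set α : k' := AdjoinRoot.root f
  have hαθ : algebraMap k' M α = θ := AdjoinRoot.liftAlgHom_root _ _ _ hθ
  have hk' : Module.finrank k k' = n₀ * m := by
    rw [(AdjoinRoot.powerBasis hfi.ne_zero).finrank]; exact hfd
  have hLM : Module.finrank L M = n₀ * m := by
    rw [(AdjoinRoot.powerBasis hfLi.ne_zero).finrank]
    exact (Polynomial.natDegree_map _).trans hfd
  have hM : IsFunctionField k' M := isFunctionField_of_finrank hL (by rw [hLM, hk'])
  have hgM : genus k' M = genus k L := genus_constExt hL hM (by rw [hLM, hk'])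
  -- the middle constants
  let km := FiniteField.Extension k p m
  haveI : Finite km := inferInstanceAs (Finite (FiniteField.Extension k p m))
  have hkm : Module.finrank k km = m := FiniteField.finrank_extension k p m
  obtain ⟨j⟩ : Nonempty (km →ₐ[k] k') := FiniteField.nonempty_algHom_of_finrank_dvd (by
    rw [hkm, hk']; exact dvd_mul_left _ _)
  letI : Algebra km k' := j.toRingHom.toAlgebra
  letI : Algebra km M := ((algebraMap k' M).comp j.toRingHom).toAlgebra
  haveI : IsScalarTower k km k' := IsScalarTower.of_algebraMap_eq fun c => (j.commutes c).symm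
  haveI : IsScalarTower km k' M := IsScalarTower.of_algebraMap_eq fun _ => rfl
  haveI : IsScalarTower k km M := IsScalarTower.of_algebraMap_eq fun c => by
    rw [IsScalarTower.algebraMap_apply k k' M, IsScalarTower.algebraMap_apply k km k']; rfl
  haveI : FiniteDimensional km k' := Module.Finite.of_restrictScalars_finite k km k'
  have hkmk' : Module.finrank km k' = n₀ := by
    have := Module.finrank_mul_finrank k km k'
    rw [hkm, hk', mul_comm n₀] at this
    exact Nat.eq_of_mul_eq_mul_left hm this
  have hqm : Nat.card km = Nat.card k ^ m := by rw [Module.natCard_eq_pow_finrank (K := k) (V := km), hkm]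
  -- homomorphisms out of `M`
  have homExt : ∀ φ ψ : M →+* M, (∀ l : L, φ (algebraMap L M l) = ψ (algebraMap L M l)) → φ θ = ψ θ → φ = ψ := by
    intro φ ψ h1 h2
    refine RingHom.ext fun z => ?_
    obtain ⟨P, rfl⟩ := AdjoinRoot.mk_surjective z
    have : φ.comp (AdjoinRoot.mk fL) = ψ.comp (AdjoinRoot.mk fL) :=
      Polynomial.ringHom_ext (fun l => h1 l) h2
    exact DFunLike.congr_fun this P
  have hroot : ∀ ρ : L ≃ₐ[k] L, fL.eval₂ ((algebraMap L M).comp (ρ : L →+* L)) θ = 0 := fun ρ => by
    rw [Polynomial.eval₂_map, show ((algebraMap L M).comp (ρ : L →+* L)).comp (algebraMap k L) = algebraMap k M from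
      RingHom.ext fun c => by
        change algebraMap L M (ρ (algebraMap k L c)) = _
        rw [ρ.commutes, ← IsScalarTower.algebraMap_apply]]
    exact hθ
  let extHom : (L ≃ₐ[k] L) → M →+* M := fun ρ => AdjoinRoot.lift ((algebraMap L M).comp (ρ : L →+* L)) θ (hroot ρ)
  have hext_of : ∀ ρ l, extHom ρ (algebraMap L M l) = algebraMap L M (ρ l) := fun ρ l => AdjoinRoot.lift_of _
  have hext_root : ∀ ρ, extHom ρ θ = θ := fun ρ => AdjoinRoot.lift_root _
  have hext_mul : ∀ ρ ρ', extHom (ρ * ρ') = (extHom ρ).comp (extHom ρ') := fun ρ ρ' =>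
    homExt _ _ (fun l => by rw [RingHom.comp_apply, hext_of, hext_of, hext_of]; rfl)
      (by rw [RingHom.comp_apply, hext_root, hext_root, hext_root])
  have hext_one : extHom 1 = RingHom.id M :=
    homExt _ _ (fun l => by rw [hext_of]; rfl) (by rw [hext_root]; rfl)
  have hext_const : ∀ ρ (x : k'), extHom ρ (algebraMap k' M x) = algebraMap k' M x := by
    intro ρ x
    obtain ⟨P, rfl⟩ := AdjoinRoot.mk_surjective x
    rw [← AdjoinRoot.aeval_eq, ← Polynomial.aeval_algebraMap_apply, hαθ, Polynomial.aeval_def,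
      Polynomial.hom_eval₂, hext_root]
    congr 1
    refine RingHom.ext fun c => ?_
    rw [RingHom.comp_apply, IsScalarTower.algebraMap_apply k L M, hext_of, ρ.commutes]
  let ext : (L ≃ₐ[k] L) →* (M ≃ₐ[km] M) :=
    { toFun := fun ρ =>
        AlgEquiv.ofRingEquiv (f := RingEquiv.ofRingHom (extHom ρ) (extHom ρ⁻¹)
          (by rw [← hext_mul, mul_inv_cancel, hext_one]) (by rw [← hext_mul, inv_mul_cancel, hext_one]))
          (fun c => hext_const ρ (j c))
      map_one' := AlgEquiv.ext fun z => DFunLike.congr_fun hext_one z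
      map_mul' := fun ρ ρ' => AlgEquiv.ext fun z => DFunLike.congr_fun (hext_mul ρ ρ') z }
  have hext_apply : ∀ ρ z, ext ρ z = extHom ρ z := fun _ _ => rfl
  -- the Frobenius
  have hθQ : fL.eval₂ (algebraMap L M) (θ ^ Nat.card k ^ m) = 0 := by
    rw [← Polynomial.aeval_def, Polynomial.aeval_map_algebraMap]
    exact aeval_pow_card hθ m
  let τh : M →ₐ[L] M := AdjoinRoot.liftAlgHom fL (Algebra.ofId L M) (θ ^ Nat.card k ^ m) hθQ
  have hτk' : ∀ x : k', τh (algebraMap k' M x) = algebraMap k' M (x ^ Nat.card km) := by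
    intro x
    obtain ⟨P, rfl⟩ := AdjoinRoot.mk_surjective x
    rw [← AdjoinRoot.aeval_eq, ← Polynomial.aeval_algebraMap_apply, hαθ, map_pow, ← Polynomial.aeval_algebraMap_apply,
      hαθ, ← AlgHom.restrictScalars_apply k τh, ← Polynomial.aeval_algHom_apply]
    rw [show (τh.restrictScalars k) θ = θ ^ Nat.card k ^ m from AdjoinRoot.liftAlgHom_root fL (Algebra.ofId L M) _ hθQ, hqm]
    clear hqm
    induction P using Polynomial.induction_on' with
    | add P Q hP hQ =>
      obtain ⟨pp, hpp⟩ := CharP.exists k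
      haveI : Fact pp.Prime := ⟨CharP.char_is_prime k pp⟩
      haveI : CharP M pp := charP_of_injective_algebraMap (algebraMap k M).injective pp
      letI := Fintype.ofFinite k
      obtain ⟨e, -, he⟩ := FiniteField.card k pp
      rw [map_add, map_add, hP, hQ, Nat.card_eq_fintype_card, he, ← pow_mul, add_pow_char_pow]
    | monomial i a =>
      rw [Polynomial.aeval_monomial, Polynomial.aeval_monomial, mul_pow, ← map_pow, pow_right_comm]
      congr 2
      letI := Fintype.ofFinite k
      rw [Nat.card_eq_fintype_card, FiniteField.pow_card_pow]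
  let τ : M ≃ₐ[km] M := AlgEquiv.ofRingEquiv
    (f := (AlgEquiv.ofBijective τh (Algebra.IsAlgebraic.algHom_bijective τh)).toRingEquiv) (fun c => by
    change τh (algebraMap k' M (j c)) = algebraMap k' M (j c)
    rw [hτk']
    congr 1
    rw [← map_pow]
    congr 1
    have := pow_card_pow (k := km) (k' := km) c 1
    simpa [Module.finrank_self] using this)
  have hτ_apply : ∀ z, τ z = τh z := fun _ => rfl
  have hτL : ∀ l, τ (algebraMap L M l) = algebraMap L M l := fun l => τh.commutes l
  have hτpow : ∀ (i : ℕ), (∀ l, (τ ^ i) (algebraMap L M l) = algebraMap L M l) ∧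
      ∀ x : k', (τ ^ i) (algebraMap k' M x) = algebraMap k' M (x ^ Nat.card km ^ i) := by
    intro i
    refine ⟨?_, fun x => pow_apply_const (γ := τ) (fun c => hτk' c) i x⟩
    induction i with
    | zero => exact fun _ => rfl
    | succ i ih => intro l; rw [pow_succ, AlgEquiv.mul_apply, hτL, ih]
  have hτn : τ ^ n₀ = 1 := by
    refine AlgEquiv.ext fun z => ?_
    refine DFunLike.congr_fun (homExt ((τ ^ n₀ : M ≃ₐ[km] M) : M →+* M) (RingHom.id M) (hτpow n₀).1 ?_) z
    change (τ ^ n₀) θ = θ
    rw [← hαθ, (hτpow n₀).2]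
    congr 1
    have := pow_card_pow (k := km) α 1
    rwa [hkmk', mul_one] at this
  have hcomm : ∀ ρ, Commute (ext ρ) τ := fun ρ => by
    refine AlgEquiv.ext fun z => ?_
    refine DFunLike.congr_fun (homExt ((ext ρ * τ : M ≃ₐ[km] M) : M →+* M) ((τ * ext ρ : M ≃ₐ[km] M) : M →+* M)
      (fun l => ?_) ?_) z
    · change ext ρ (τ (algebraMap L M l)) = τ (ext ρ (algebraMap L M l))
      rw [hτL, hext_apply, hext_of, hτL]
    · change ext ρ (τ θ) = τ (ext ρ θ)
      rw [hext_apply, hext_apply, hext_root, hτ_apply]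
      rw [show τh θ = θ ^ Nat.card k ^ m from AdjoinRoot.liftAlgHom_root fL (Algebra.ofId L M) _ hθQ, map_pow, hext_root]
  have hord : ∀ ρ, ρ ^ n₀ = 1 → (ext ρ * τ) ^ n₀ = 1 := fun ρ hρ => by
    rw [(hcomm ρ).mul_pow, hτn, mul_one, ← map_pow, hρ, map_one]
  have hfrob : ∀ ρ (x : k'), (ext ρ * τ) (algebraMap k' M x) = algebraMap k' M (x ^ Nat.card km) := fun ρ x => by
    rw [AlgEquiv.mul_apply, hτ_apply, hτk', hext_apply, hext_const]
  refine ⟨fun ρ => fixedCount n₀ (ext ρ * τ), fun ρ hρ => ?_, ?_⟩
  · obtain ⟨F, hF, hgF, heq, -⟩ := fixedCount_eq (k := km) hM (γ := ext ρ * τ) (by rw [hkmk']; exact hord ρ hρ) (hfrob ρ)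
    rw [hkmk'] at heq
    change fixedCount n₀ (ext ρ * τ) ≤ _
    rw [heq]
    have := bombieri hF (s := s) (by rw [hqm, hq]) (by rw [hgF, hgM]; exact hs)
    rwa [hgF, hgM] at this
  intro B _ _ hB hdvd
  set nB := Module.finrank B L with hnB
  obtain ⟨β, hβ⟩ := Field.exists_primitive_element k km
  have hβi : IsIntegral k β := Algebra.IsIntegral.isIntegral β
  set β' : M := algebraMap km M β
  haveI : FiniteDimensional B M := Module.Finite.trans L M
  haveI : IsScalarTower k B M := IsScalarTower.of_algebraMap_eq fun c => by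
    rw [IsScalarTower.algebraMap_apply k L M, IsScalarTower.algebraMap_apply B L M]; rfl
  set Bm : IntermediateField B M := (B : IntermediateField k L)⟮β'⟯
  have hkmmem : ∀ c : km, algebraMap km M c ∈ Bm := by
    intro c
    have hc : c ∈ Algebra.adjoin k {β} := by
      rw [← IntermediateField.adjoin_simple_toSubalgebra_of_isAlgebraic hβi.isAlgebraic, hβ]; trivial
    rw [Algebra.adjoin_singleton_eq_range_aeval] at hc
    obtain ⟨P, rfl⟩ := hc
    change algebraMap km M (Polynomial.aeval β P) ∈ Bm
    rw [← Polynomial.aeval_algebraMap_apply, ← Polynomial.aeval_map_algebraMap B]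
    exact IntermediateField.algebra_adjoin_le_adjoin B _ (Polynomial.aeval_mem_adjoin_singleton _ _)
  letI : Algebra km Bm := ((algebraMap km M).codRestrict Bm hkmmem).toAlgebra
  haveI : IsScalarTower k km Bm := IsScalarTower.of_algebraMap_eq fun c => Subtype.ext (by
    change algebraMap k M c = algebraMap km M (algebraMap k km c)
    exact IsScalarTower.algebraMap_apply k km M c)
  haveI : IsScalarTower km Bm M := IsScalarTower.of_algebraMap_eq fun _ => rfl
  have hBm : Module.finrank B Bm = m := by
    rw [IntermediateField.adjoin.finrank (IsIntegral.of_finite B _), minpoly_const hB hβi.algebraMap,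
      Polynomial.natDegree_map, minpoly.algebraMap_eq (algebraMap km M).injective,
      ← IntermediateField.adjoin.finrank hβi, hβ, IntermediateField.finrank_top', hkm]
  have hBmM : Module.finrank Bm M = nB * n₀ := by
    have h1 := Module.finrank_mul_finrank B Bm M
    rw [hBm, ← Module.finrank_mul_finrank B L M, hLM, ← hnB, ← mul_assoc, mul_comm] at h1
    exact Nat.eq_of_mul_eq_mul_right hm h1
  have hFBm : IsFunctionField km Bm := isFunctionField_of_finrank hB (by rw [hBm, hkm])
  rw [show nPts k B m = nPts km Bm 1 by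
    rw [nPts_constExt hB hFBm (by rw [hBm, hkm]) one_pos, hkm, mul_one]]
  -- elements of the Galois group over `Bm`
  have hfix : ∀ (γ' : M ≃ₐ[km] M), (∀ b : B, γ' (algebraMap B M b) = algebraMap B M b) →
      ∀ z : Bm, γ' (z : M) = z := by
    intro γ' hb z
    obtain ⟨z, hz⟩ := z
    induction hz using IntermediateField.adjoin_induction with
    | mem y hy => obtain rfl : y = β' := hy; exact γ'.commutes β
    | algebraMap y => exact hb y
    | add a b _ _ ha hb => rw [map_add, ha, hb]
    | inv a _ ha => rw [map_inv₀, ha]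
    | mul a b _ _ ha hb => rw [map_mul, ha, hb]
  have hextB : ∀ (ρ : L ≃ₐ[B] L) (b : B), ext (ρ.restrictScalars k) (algebraMap B M b) = algebraMap B M b := fun ρ b => by
    rw [IsScalarTower.algebraMap_apply B L M, hext_apply, hext_of]
    exact congrArg (algebraMap L M) (ρ.commutes b)
  have hτB : ∀ (i : ℕ) (b : B), (τ ^ i) (algebraMap B M b) = algebraMap B M b := fun i b => by
    rw [IsScalarTower.algebraMap_apply B L M]; exact (hτpow i).1 _
  let Ψ : (L ≃ₐ[B] L) × Fin n₀ → (M ≃ₐ[Bm] M) := fun p =>
    AlgEquiv.ofRingEquiv (f := (ext (p.1.restrictScalars k) * τ ^ (p.2 : ℕ)).toRingEquiv)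
      fun z => hfix _ (fun b => by rw [AlgEquiv.mul_apply, hτB, hextB]) z
  have hΨ : ∀ p z, Ψ p z = ext (p.1.restrictScalars k) ((τ ^ (p.2 : ℕ)) z) := fun _ _ => rfl
  have hΨi : Function.Injective Ψ := by
    rintro ⟨ρ, i⟩ ⟨ρ', i'⟩ h
    have h1 : ρ = ρ' := AlgEquiv.ext fun l => by
      have := DFunLike.congr_fun h (algebraMap L M l)
      rw [hΨ, hΨ, (hτpow _).1, (hτpow _).1, hext_apply, hext_apply, hext_of, hext_of] at this
      exact (algebraMap L M).injective this
    subst h1
    have h2 : τ ^ (i : ℕ) = τ ^ (i' : ℕ) := AlgEquiv.ext fun z => by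
      have := DFunLike.congr_fun h z
      rw [hΨ, hΨ] at this
      exact (ext (ρ.restrictScalars k)).injective this
    have hor : orderOf τ = n₀ := by
      rw [← hkmk']
      exact orderOf_twist (γ := τ) (by rw [hkmk']; exact hτn) (fun c => hτk' c)
    have h3 := pow_injOn_Iio_orderOf (x := τ) (by rw [hor]; exact i.2) (by rw [hor]; exact i'.2) h2
    exact Prod.ext rfl (Fin.ext h3)
  haveI : FiniteDimensional Bm M := Module.Finite.right B Bm M
  have hcardle : Nat.card (M ≃ₐ[Bm] M) ≤ nB * n₀ := by
    rw [Nat.card_eq_fintype_card, ← hBmM]; exact AlgEquiv.card_le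
  have hcardge : nB * n₀ ≤ Nat.card (M ≃ₐ[Bm] M) := by
    refine le_trans (le_of_eq ?_) (Nat.card_le_card_of_injective Ψ hΨi)
    rw [Nat.card_prod, IsGalois.card_aut_eq_finrank, Nat.card_eq_fintype_card, Fintype.card_fin]
  haveI : IsGalois Bm M := IsGalois.of_card_aut_eq_finrank _ _ (by rw [hBmM]; omega)
  have hΨs : Function.Surjective Ψ :=
    ((Nat.bijective_iff_injective_and_card Ψ).2 ⟨hΨi, by
      rw [Nat.card_prod, IsGalois.card_aut_eq_finrank, Nat.card_eq_fintype_card (α := Fin n₀), Fintype.card_fin]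
      exact le_antisymm hcardge hcardle⟩).2
  -- identify the stabiliser
  let Φ : (L ≃ₐ[B] L) → constStab km k' Bm M := fun ρ => ⟨ext (ρ.restrictScalars k),
    fun z => hfix _ (hextB ρ) z, fun c => hext_const _ c⟩
  have hΦ : Function.Bijective Φ := by
    constructor
    · intro ρ ρ' h
      refine AlgEquiv.ext fun l => (algebraMap L M).injective ?_
      have := DFunLike.congr_fun (congrArg Subtype.val h) (algebraMap L M l)
      simp only [Φ, hext_apply, hext_of] at this
      exact this
    · rintro ⟨σ, hσ1, hσ2⟩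
      obtain ⟨⟨ρ, i⟩, hp⟩ := hΨs (AlgEquiv.ofRingEquiv (f := σ.toRingEquiv) hσ1)
      have hi : (i : ℕ) = 0 := by
        have h1 : τ ^ (i : ℕ) = τ ^ 0 := by
          refine AlgEquiv.ext fun z => DFunLike.congr_fun
            (homExt ((τ ^ (i : ℕ) : M ≃ₐ[km] M) : M →+* M) ((τ ^ 0 : M ≃ₐ[km] M) : M →+* M)
              (fun l => ((hτpow _).1 l).trans ((hτpow 0).1 l).symm) ?_) z
          have := DFunLike.congr_fun hp θ
          change (τ ^ (i : ℕ)) θ = θ
          apply (ext (ρ.restrictScalars k)).injective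
          rw [hext_apply _ θ, hext_root, ← hΨ ⟨ρ, i⟩ θ, this]
          change σ θ = θ
          rw [← hαθ]; exact hσ2 α
        have hor : orderOf τ = n₀ := by
          rw [← hkmk']
          exact orderOf_twist (γ := τ) (by rw [hkmk']; exact hτn) (fun c => hτk' c)
        exact pow_injOn_Iio_orderOf (x := τ) (by rw [hor]; exact i.2) (by rw [hor]; exact hn) h1
      refine ⟨ρ, Subtype.ext (AlgEquiv.ext fun z => ?_)⟩
      have := DFunLike.congr_fun hp z
      rw [hΨ] at this
      simp only [hi, pow_zero, AlgEquiv.one_apply] at this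
      exact this
  haveI : Finite (constStab km k' Bm M) := Finite.of_surjective Φ hΦ.2
  letI := Fintype.ofFinite (constStab km k' Bm M)
  have hcardS : Fintype.card (constStab km k' Bm M) = nB := by
    rw [← Fintype.card_congr (Equiv.ofBijective Φ hΦ), ← Nat.card_eq_fintype_card, IsGalois.card_aut_eq_finrank]
  have key := sum_fixedCount (k := km) (k' := k') (K := Bm) (M := M) hFBm hM τ
    (fun z => hfix τ (fun b => by simpa using hτB 1 b) z) (fun c => hτk' c)
    (by rw [hcardS, hkmk']; exact hdvd)
    (fun σ => by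
      obtain ⟨ρ, rfl⟩ := hΦ.2 σ
      rw [hkmk']
      refine hord _ ?_
      have h1 : ρ ^ n₀ = 1 := by
        obtain ⟨e, he⟩ := hdvd
        have : ρ ^ Nat.card (L ≃ₐ[B] L) = 1 := pow_card_eq_one'
        rw [IsGalois.card_aut_eq_finrank, ← hnB] at this
        rw [he, pow_mul, this, one_pow]
      refine AlgEquiv.ext fun l => ?_
      have h2 : ∀ i : ℕ, ((ρ.restrictScalars k) ^ i) l = (ρ ^ i) l := by
        intro i
        induction i generalizing l with
        | zero => rfl
        | succ i ih => rw [pow_succ, pow_succ, AlgEquiv.mul_apply, AlgEquiv.mul_apply, ih]; rfl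
      rw [h2, h1]; rfl)
  rw [hkmk', hcardS] at key
  have : Nat.card {P : Place km Bm // P.deg = 1} = nPts km Bm 1 := by
    have hfin : {P : Place km Bm | P.deg = 1}.Finite :=
      (finite_places_deg_le hFBm 1).subset fun P (hP : P.deg = 1) => hP.le
    rw [nPts_eq_sum hFBm one_pos (T := hfin.toFinset) (fun P hP => hfin.mem_toFinset.2 (Nat.dvd_one.1 hP)),
      Finset.filter_true_of_mem (fun P hP => Nat.dvd_one.2 (hfin.mem_toFinset.1 hP)),
      Finset.sum_congr rfl (fun P hP => hfin.mem_toFinset.1 hP), Finset.sum_const, smul_eq_mul, mul_one,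
      ← Set.ncard_eq_toFinset_card _ hfin, ← Nat.card_coe_set_eq]
    rfl
  rw [← this, ← key, ← (Equiv.ofBijective Φ hΦ).sum_comp]
  rfl

end Groth.Agent.FF
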