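import Mathlib
import Groth.Agent.FF.TwistBound

/-! The Riemann hypothesis for function fields of one variable over finite fields. -/

set_option linter.style.haveILetI false

namespace Groth.Agent.FF

open FunFld
open scoped WithZero IntermediateField

/-- Bounded power sums force the terms into the unit disc. -/
lemma norm_le_one_of_powerSum_bounded {ι : Type*} [Fintype ι] (β : ι → ℂ) (C : ℝ) (N : ℕ)
    (h : ∀ j ≥ N, ‖∑ i, β i ^ j‖ ≤ C) : ∀ i, ‖β i‖ ≤ 1 := by
  classical
  by_contra hne
  push Not at hne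
  obtain ⟨i₀, hi₀⟩ := hne
  let v : ι → ℂ := fun i => if β i = 0 then 1 else β i / (‖β i‖ : ℂ)
  have hv : ∀ i, ‖v i‖ = 1 := fun i => by
    simp only [v]; split_ifs with h0
    · simp
    · rw [norm_div, Complex.norm_real, norm_norm, div_self (norm_ne_zero_iff.2 h0)]
  have hβv : ∀ i n, 0 < n → β i ^ n = (‖β i‖ ^ n : ℝ) * v i ^ n := fun i n hn => by
    simp only [v]; split_ifs with h0
    · simp [h0, zero_pow hn.ne']
    · rw [Complex.ofReal_pow, ← mul_pow, mul_div_cancel₀ _ (by exact_mod_cast norm_ne_zero_iff.2 h0)]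
  obtain ⟨w, -, φ, hφ, hlim⟩ := (isCompact_closedBall (0 : ι → ℂ) 1).tendsto_subseq
    (x := fun j i => v i ^ j) (fun j => by
      rw [Metric.mem_closedBall, dist_zero_right, pi_norm_le_iff_of_nonneg zero_le_one]
      intro i; simp [norm_pow, hv])
  obtain ⟨a, ha⟩ := Metric.tendsto_atTop.1 hlim (1 / 4) (by norm_num)
  obtain ⟨n₀, hn₀⟩ := pow_unbounded_of_one_lt (2 * C) hi₀
  set b := φ a + N + n₀ + 1 + a
  have hb : φ a + N + n₀ + 1 ≤ φ b := le_trans (by omega) hφ.le_apply
  set n := φ b - φ a with hn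
  have hnN : N ≤ n ∧ n₀ ≤ n ∧ 0 < n := by omega
  have hclose : ∀ i, (1 / 2 : ℝ) ≤ (v i ^ n).re := fun i => by
    have h1 := ha a le_rfl
    have h2 := ha b (by omega)
    have h3 : dist (v i ^ φ b) (v i ^ φ a) < 1 / 2 :=
      calc dist (v i ^ φ b) (v i ^ φ a) ≤ dist (fun i => v i ^ φ b) (fun i => v i ^ φ a) :=
            dist_le_pi_dist (fun i => v i ^ φ b) (fun i => v i ^ φ a) i
        _ ≤ dist (fun i => v i ^ φ b) w + dist (fun i => v i ^ φ a) w := dist_triangle_right _ _ _
        _ < 1 / 4 + 1 / 4 := add_lt_add h2 h1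
        _ = 1 / 2 := by norm_num
    have h4 : ‖v i ^ n - 1‖ < 1 / 2 := by
      have e : v i ^ φ b - v i ^ φ a = v i ^ φ a * (v i ^ n - 1) := by
        rw [mul_sub, mul_one, ← pow_add, hn, Nat.add_sub_cancel' (by omega)]
      rwa [dist_eq_norm, e, norm_mul, norm_pow, hv, one_pow, one_mul] at h3
    have h5 := Complex.abs_re_le_norm (v i ^ n - 1)
    rw [Complex.sub_re, Complex.one_re, abs_le] at h5
    linarith [h5.1]
  have hsum : ‖β i₀‖ ^ n / 2 ≤ (∑ i, β i ^ n).re := by
    rw [Complex.re_sum]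
    refine le_trans ?_ (Finset.single_le_sum (fun i _ => ?_) (Finset.mem_univ i₀))
    · rw [hβv _ _ hnN.2.2, Complex.re_ofReal_mul]
      nlinarith [hclose i₀, pow_nonneg (norm_nonneg (β i₀)) n]
    · rw [hβv _ _ hnN.2.2, Complex.re_ofReal_mul]
      exact mul_nonneg (by positivity) (by linarith [hclose i])
  have h6 : ‖β i₀‖ ^ n₀ ≤ ‖β i₀‖ ^ n := pow_le_pow_right₀ hi₀.le hnN.2.1
  have h7 := (Complex.re_le_norm (∑ i, β i ^ n)).trans (h n hnN.1)
  linarith

universe u v

variable {k : Type u} {K : Type v} [Field k] [Field K] [Algebra k K]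

/-- An intermediate field of finite index is a function field. -/
lemma isFunctionField_intermediate (hK : IsFunctionField k K) (B : IntermediateField k K) [FiniteDimensional B K] :
    IsFunctionField k B := by
  obtain ⟨⟨x, hx, -⟩, hcl⟩ := id hK
  have hB : ∃ y : B, Transcendental k y := by
    by_contra hall
    haveI : Algebra.IsAlgebraic k B := ⟨fun y => by_contra fun h => hall ⟨y, h⟩⟩
    haveI : Algebra.IsAlgebraic k K := Algebra.IsAlgebraic.trans k B K
    exact hx (Algebra.IsAlgebraic.isAlgebraic x)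
  obtain ⟨y, hy⟩ := hB
  refine ⟨⟨y, hy, ?_⟩, fun z hz => ?_⟩
  · have hyK : Transcendental k (y : K) := fun h => hy ((isAlgebraic_algebraMap_iff (algebraMap B K).injective).1 h)
    haveI := finiteDimensional_adjoin hK hyK
    have hmap : (k⟮y⟯).map B.val = k⟮(y : K)⟯ := by
      rw [IntermediateField.adjoin_map, Set.image_singleton]; rfl
    let e : k⟮y⟯ ≃+* k⟮(y : K)⟯ := (((k⟮y⟯).equivMap B.val).trans (IntermediateField.equivOfEq hmap)).toRingEquiv
    haveI : FiniteDimensional k⟮y⟯ K :=
      Module.Finite.of_equiv_equiv e.symm (RingEquiv.refl K) (RingHom.ext fun z => by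
        obtain ⟨w, rfl⟩ := e.surjective z
        rw [RingHom.comp_apply, RingHom.comp_apply]
        change algebraMap k⟮y⟯ K (e.symm (e w)) = _
        rw [e.symm_apply_apply]; rfl)
    exact FiniteDimensional.left k⟮y⟯ B K
  · obtain ⟨c, hc⟩ := hcl (z : K) hz.algebraMap
    exact ⟨c, Subtype.ext hc⟩

/-- Rational function fields have genus zero. -/
lemma genus_eq_zero_of_finrank_one (hK : IsFunctionField k K) {x : K} (hx : Transcendental k x)
    (h : Module.finrank k⟮x⟯ K = 1) : genus k K = 0 := by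
  classical
  have hx0 : x ≠ 0 := fun h0 => hx (h0 ▸ isAlgebraic_zero)
  set g := genus k K
  set l := 2 * g with hl
  set D := (l : ℤ) • zeros (k := k) x⁻¹
  haveI := finite_L hK D
  have hd : D.deg = l := by
    have hxi : Transcendental k x⁻¹ := fun h0 => hx (by simpa using h0.inv)
    rw [deg_smul, deg_zeros hK hxi, adjoin_inv, h]; simp
  have hpow : ∀ i : Fin (l + 1), x ^ (i : ℕ) ∈ L D := fun i => by
    refine L_mono ?_ (mem_L_zeros_inv hK hx0 i)
    exact smul_le_smul_of_nonneg_right (by have := i.2; omega) (zeros_nonneg _)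
  have hli : LinearIndependent k fun i : Fin (l + 1) => (⟨x ^ (i : ℕ), hpow i⟩ : L D) := by
    refine LinearIndependent.of_comp (L D).subtype ?_
    rw [Fintype.linearIndependent_iff]
    intro c hc i
    have h0 : Polynomial.aeval x (∑ j : Fin (l + 1), Polynomial.C (c j) * Polynomial.X ^ (j : ℕ)) = 0 := by
      rw [map_sum, ← hc]
      refine Finset.sum_congr rfl fun j _ => ?_
      rw [map_mul, Polynomial.aeval_C, map_pow, Polynomial.aeval_X, Function.comp_apply, Algebra.smul_def]; rfl
    have := congrArg (fun p => Polynomial.coeff p (i : ℕ)) (transcendental_iff.1 hx _ h0)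
    simp only [Polynomial.finsetSum_coeff, Polynomial.coeff_C_mul_X_pow, Polynomial.coeff_zero] at this
    rw [Finset.sum_eq_single i (fun j _ hj => if_neg fun e => hj (Fin.ext e.symm)) (by simp), if_pos rfl] at this
    exact this
  have h1 := hli.fintype_card_le_finrank
  rw [Fintype.card_fin] at h1
  have h2 := ell_of_deg_large hK (D := D) (by rw [hd]; omega)
  rw [hd] at h2
  change l + 1 ≤ ell D at h1
  omega

/-- The key estimate on power sums along a sequence of exponents. -/
theorem powerSum_bound [Finite k] (hK : IsFunctionField k K) (α : Fin (2 * genus k K) → ℂ)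
    (hα : PowerSeries.map (Int.castRingHom ℂ) (numerZ k K) =
      ((∏ i, (1 - Polynomial.C (α i) * Polynomial.X) : Polynomial ℂ) : PowerSeries ℂ)) :
    ∃ (r : ℕ) (C : ℝ) (N : ℕ), 0 < r ∧ ∀ j ≥ N, ‖∑ i, α i ^ (2 * r * j)‖ ≤ C * (Nat.card k : ℝ) ^ (r * j) := by
  classical
  -- a separating element
  haveI : Algebra.EssFiniteType k K := by
    obtain ⟨⟨x₀, -, hfd⟩, -⟩ := id hK
    haveI := hfd
    haveI : Algebra.EssFiniteType k k⟮x₀⟯ :=
      IntermediateField.essFiniteType_iff.2 (IntermediateField.fg_adjoin_of_finite (Set.finite_singleton _))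
    haveI : Algebra.EssFiniteType k⟮x₀⟯ K := inferInstance
    exact Algebra.EssFiniteType.comp k k⟮x₀⟯ K
  obtain ⟨st, hst, hsep⟩ := exists_isTranscendenceBasis_and_isSeparable_of_perfectField k K
  obtain ⟨x, hx, hsepx⟩ : ∃ x : K, Transcendental k x ∧ Algebra.IsSeparable k⟮x⟯ K := by
    obtain ⟨⟨x₀, hx₀, hfd⟩, -⟩ := id hK
    haveI := hfd
    have hb : IsTranscendenceBasis k (fun _ : Fin 1 => x₀) := by
      have h1 : AlgebraicIndependent k (fun _ : Fin 1 => x₀) := algebraicIndependent_unique_type_iff.2 hx₀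
      rw [h1.isTranscendenceBasis_iff_isAlgebraic, ← IntermediateField.isAlgebraic_adjoin_iff_top,
        show IntermediateField.adjoin k (Set.range fun _ : Fin 1 => x₀) = k⟮x₀⟯ by simp]
      exact Algebra.IsAlgebraic.of_finite _ _
    have hc := hb.lift_cardinalMk_eq hst
    simp only [Cardinal.mk_fintype, Cardinal.lift_natCast, Nat.cast_inj, Fintype.card_fin, Fintype.card_coe] at hc
    obtain ⟨x, rfl⟩ := Finset.card_eq_one.1 hc.symm
    refine ⟨x, hst.1.transcendental ⟨x, Finset.mem_singleton_self x⟩, ?_⟩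
    rwa [Finset.coe_singleton] at hsep
  haveI := finiteDimensional_adjoin hK hx
  haveI := hsepx
  -- the Galois closure
  let Lc := IntermediateField.normalClosure k⟮x⟯ K (AlgebraicClosure K)
  haveI : Normal k⟮x⟯ (AlgebraicClosure K) := by
    haveI : Algebra.IsAlgebraic k⟮x⟯ K := Algebra.IsAlgebraic.of_finite _ _
    haveI : Algebra.IsAlgebraic k⟮x⟯ (AlgebraicClosure K) := Algebra.IsAlgebraic.trans k⟮x⟯ K (AlgebraicClosure K)
    haveI : IsAlgClosure k⟮x⟯ (AlgebraicClosure K) := ⟨inferInstance, inferInstance⟩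
    exact IsAlgClosure.normal _ _
  haveI : Algebra.IsSeparable k⟮x⟯ Lc := by
    refine (le_separableClosure_iff _ _ _).1 ?_
    refine normalClosure_le_iff.2 fun φ => ?_
    rintro _ ⟨a, rfl⟩
    rw [mem_separableClosure_iff]
    exact IsSeparable.map φ φ.injective (Algebra.IsSeparable.isSeparable k⟮x⟯ a)
  haveI : IsGalois k⟮x⟯ Lc := ⟨⟩
  haveI : FiniteDimensional k⟮x⟯ Lc := inferInstance
  haveI : IsScalarTower k K Lc := IsScalarTower.of_algebraMap_eq fun c => Subtype.ext (by
    change algebraMap k (AlgebraicClosure K) c = algebraMap K (AlgebraicClosure K) (algebraMap k K c)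
    exact IsScalarTower.algebraMap_apply k K _ c)
  haveI : FiniteDimensional K Lc := Module.Finite.right k⟮x⟯ K Lc
  haveI := finite_constField (K' := Lc) hK
  have hL := isFunctionField_constField (K' := Lc) hK
  set k1 := algebraicClosure k Lc
  haveI : Finite k1 := Module.finite_of_finite k
  set r := Module.finrank k k1
  have hr : 0 < r := Module.finrank_pos
  set x' : Lc := algebraMap K Lc x
  have hx' : Transcendental k1 x' := (transcendental_algebraMap hK hx).algebraicClosure
  -- the rational field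
  let E : IntermediateField k1 Lc := IntermediateField.adjoin k1 {x'}
  have hxE : ∀ z : k⟮x⟯, algebraMap k⟮x⟯ Lc z ∈ E := by
    intro z
    obtain ⟨z, hz⟩ := z
    obtain ⟨P, Q, rfl⟩ := (IntermediateField.mem_adjoin_simple_iff k z).1 hz
    change algebraMap K Lc (Polynomial.aeval x P / Polynomial.aeval x Q) ∈ E
    rw [map_div₀, ← Polynomial.aeval_algebraMap_apply, ← Polynomial.aeval_algebraMap_apply]
    have : ∀ P : Polynomial k, Polynomial.aeval x' P ∈ E := fun P => by
      rw [← Polynomial.aeval_map_algebraMap k1]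
      exact IntermediateField.algebra_adjoin_le_adjoin k1 _ (Polynomial.aeval_mem_adjoin_singleton _ _)
    exact div_mem (this P) (this Q)
  letI : Algebra k⟮x⟯ E := ((algebraMap k⟮x⟯ Lc).codRestrict E hxE).toAlgebra
  haveI : IsScalarTower k⟮x⟯ E Lc := IsScalarTower.of_algebraMap_eq fun _ => rfl
  haveI : IsGalois E Lc := IsGalois.tower_top_of_isGalois k⟮x⟯ E Lc
  haveI : FiniteDimensional E Lc := Module.Finite.right k⟮x⟯ E Lc
  have hE : IsFunctionField k1 E := isFunctionField_intermediate hL E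
  have hEg : genus k1 E = 0 := by
    set xE : E := ⟨x', IntermediateField.mem_adjoin_simple_self k1 x'⟩
    have hxE' : Transcendental k1 xE := fun h => hx' (h.algebraMap)
    refine genus_eq_zero_of_finrank_one hE hxE' ?_
    have htop : k1⟮xE⟯ = ⊤ := by
      apply IntermediateField.map_injective E.val
      rw [IntermediateField.adjoin_map, Set.image_singleton, ← AlgHom.fieldRange_eq_map, IntermediateField.fieldRange_val]
      rfl
    rw [htop]
    exact IntermediateField.finrank_top
  -- the copy of `K`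
  obtain ⟨γ, hγ⟩ := Field.exists_primitive_element k k1
  have hγi : IsIntegral k γ := Algebra.IsIntegral.isIntegral γ
  let BK : IntermediateField K Lc := K⟮(γ : Lc)⟯
  have hk1mem : ∀ c : k1, algebraMap k1 Lc c ∈ BK := by
    intro c
    have hc : c ∈ Algebra.adjoin k {γ} := by
      rw [← IntermediateField.adjoin_simple_toSubalgebra_of_isAlgebraic hγi.isAlgebraic, hγ]; trivial
    rw [Algebra.adjoin_singleton_eq_range_aeval] at hc
    obtain ⟨P, rfl⟩ := hc
    change algebraMap k1 Lc (Polynomial.aeval γ P) ∈ BK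
    rw [← Polynomial.aeval_algebraMap_apply, ← Polynomial.aeval_map_algebraMap K]
    exact IntermediateField.algebra_adjoin_le_adjoin K _ (Polynomial.aeval_mem_adjoin_singleton _ _)
  let B : IntermediateField k1 Lc := BK.toSubfield.toIntermediateField hk1mem
  have hKB : ∀ a : K, algebraMap K Lc a ∈ B := fun a => BK.algebraMap_mem a
  letI : Algebra K B := ((algebraMap K Lc).codRestrict B hKB).toAlgebra
  haveI : IsScalarTower K B Lc := IsScalarTower.of_algebraMap_eq fun _ => rfl
  letI : Algebra k⟮x⟯ B := ((algebraMap K B).comp (algebraMap k⟮x⟯ K)).toAlgebra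
  have hT : IsScalarTower k⟮x⟯ B Lc := IsScalarTower.of_algebraMap_eq fun z => by
    rw [IsScalarTower.algebraMap_apply k⟮x⟯ K Lc]; rfl
  haveI : IsGalois B Lc := @IsGalois.tower_top_of_isGalois k⟮x⟯ B Lc _ _ _ _ _ _ hT _
  haveI : FiniteDimensional B Lc := @Module.Finite.right k⟮x⟯ B Lc _ _ _ _ _ _ hT _
  haveI : FiniteDimensional K B := FiniteDimensional.left K B Lc
  haveI : IsScalarTower k K B := IsScalarTower.of_algebraMap_eq fun c => Subtype.ext (by
    change algebraMap k Lc c = algebraMap K Lc (algebraMap k K c)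
    exact IsScalarTower.algebraMap_apply k K Lc c)
  have hB : IsFunctionField k1 B := isFunctionField_intermediate hL B
  have hKBr : Module.finrank K B = r := by
    rw [LinearEquiv.finrank_eq (R := K)
      ({ toFun := fun z => (⟨z.1, z.2⟩ : BK)
         invFun := fun z => ⟨z.1, z.2⟩
         map_add' := fun _ _ => rfl
         map_smul' := fun a z => Subtype.ext (Algebra.smul_def a z.1).symm
         left_inv := fun _ => rfl
         right_inv := fun _ => rfl } : B ≃ₗ[K] BK)]
    rw [IntermediateField.adjoin.finrank (IsIntegral.of_finite K _),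
      show (γ : Lc) = algebraMap k1 Lc γ from rfl, minpoly_const hK hγi.algebraMap,
      Polynomial.natDegree_map, minpoly.algebraMap_eq (algebraMap k1 Lc).injective,
      ← IntermediateField.adjoin.finrank hγi, hγ, IntermediateField.finrank_top']
  have hxB : x' ∈ B := hKB x
  have hEB : E ≤ B := IntermediateField.adjoin_simple_le_iff.2 hxB
  -- constants
  set g := genus k1 Lc
  set nE := Module.finrank E Lc
  set nB := Module.finrank B Lc
  set q := Nat.card k
  have hq1 : 1 < q := Finite.one_lt_card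
  have hk1card : Nat.card k1 = q ^ r := Module.natCard_eq_pow_finrank
  refine ⟨r, (nE : ℝ) * (2 * g + 1), (g + 1) ^ 2 + 1, hr, fun j hj => ?_⟩
  set s := q ^ (r * j) with hs
  have hjpos : 0 < 2 * j := by omega
  have hsg : (g + 1) ^ 2 < s := by
    have h1 : j ≤ r * j := Nat.le_mul_of_pos_left j hr
    have h2 : r * j < q ^ (r * j) := Nat.lt_pow_self hq1
    omega
  have hsq : Nat.card k1 ^ (2 * j) = s ^ 2 := by
    rw [hk1card, hs, ← pow_mul, ← pow_mul]; congr 1; ring
  have hnE : 0 < nE := Module.finrank_pos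
  obtain ⟨c, hcU, hc⟩ := exists_twistCount hL hjpos hnE hsq hsg
  have hEN : nPts k1 E (2 * j) = s ^ 2 + 1 := by
    obtain ⟨α0, -, hα0, -⟩ := Groth.Agent.S11040.result k1 E hE
    haveI : IsEmpty (Fin (2 * genus k1 E)) := by rw [hEg, mul_zero]; infer_instance
    have h := nPts_eq_of_roots hE α0 hα0 hjpos
    rw [Finset.univ_eq_empty, Finset.sum_empty, sub_zero] at h
    have h' : ((nPts k1 E (2 * j) : ℕ) : ℂ) = ((s ^ 2 + 1 : ℕ) : ℂ) := by
      rw [h, ← hsq]; push_cast; ring
    exact_mod_cast h'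
  -- the Galois group over `B` inside the one over `E`
  let emb : (Lc ≃ₐ[B] Lc) →* (Lc ≃ₐ[E] Lc) :=
    { toFun := fun ρ => AlgEquiv.ofRingEquiv (f := ρ.toRingEquiv) fun z => ρ.commutes ⟨z.1, hEB z.2⟩
      map_one' := rfl
      map_mul' := fun _ _ => rfl }
  have hembi : Function.Injective emb := fun a b h => AlgEquiv.ext fun z => DFunLike.congr_fun h z
  have hdvd : nB ∣ nE := by
    have := Subgroup.card_dvd_of_injective emb hembi
    rwa [IsGalois.card_aut_eq_finrank, IsGalois.card_aut_eq_finrank] at this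
  have hpow : ∀ ρ : Lc ≃ₐ[E] Lc, (ρ.restrictScalars k1) ^ nE = 1 := fun ρ => by
    have h1 : ρ ^ nE = 1 := by
      have h := pow_card_eq_one' (G := Lc ≃ₐ[E] Lc) (x := ρ)
      rwa [IsGalois.card_aut_eq_finrank] at h
    have h2 : ∀ (i : ℕ) (z : Lc), ((ρ.restrictScalars k1) ^ i) z = (ρ ^ i) z := by
      intro i
      induction i with
      | zero => exact fun _ => rfl
      | succ i ih => intro z; rw [pow_succ, pow_succ, AlgEquiv.mul_apply, AlgEquiv.mul_apply, ih]; rfl
    exact AlgEquiv.ext fun z => by rw [h2, h1]; rfl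
  set U := s ^ 2 + 1 + (2 * g + 1) * s with hU
  have hEsum := hc E hE dvd_rfl
  rw [hEN] at hEsum
  have hcardE : Fintype.card (Lc ≃ₐ[E] Lc) = nE := by rw [← Nat.card_eq_fintype_card, IsGalois.card_aut_eq_finrank]
  have hlow : ∀ ρ : Lc ≃ₐ[E] Lc, nE * (s ^ 2 + 1) ≤ c (ρ.restrictScalars k1) + (nE - 1) * U := fun ρ => by
    rw [← hEsum, ← Finset.add_sum_erase _ _ (Finset.mem_univ ρ)]
    refine Nat.add_le_add_left ((Finset.sum_le_card_nsmul _ _ U fun ρ' _ => hcU _ (hpow ρ')).trans_eq ?_) _
    rw [Finset.card_erase_of_mem (Finset.mem_univ ρ), Finset.card_univ, hcardE, smul_eq_mul]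
  have hBsum := hc B hB hdvd
  have hres : ∀ ρ : Lc ≃ₐ[B] Lc, ρ.restrictScalars k1 = (emb ρ).restrictScalars k1 := fun ρ => rfl
  have hcardB : Fintype.card (Lc ≃ₐ[B] Lc) = nB := by rw [← Nat.card_eq_fintype_card, IsGalois.card_aut_eq_finrank]
  have hnB : 0 < nB := Module.finrank_pos
  have hup : nPts k1 B (2 * j) ≤ U := by
    refine Nat.le_of_mul_le_mul_left ?_ hnB
    rw [← hBsum]
    refine (Finset.sum_le_card_nsmul _ _ U fun ρ _ => by rw [hres]; exact hcU _ (hpow _)).trans_eq ?_
    rw [Finset.card_univ, hcardB, smul_eq_mul]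
  have hdown : nE * (s ^ 2 + 1) ≤ nPts k1 B (2 * j) + (nE - 1) * U := by
    refine Nat.le_of_mul_le_mul_left ?_ hnB
    rw [mul_add nB, ← hBsum, ← hcardB, ← Finset.card_univ, ← smul_eq_mul, ← smul_eq_mul (a := Finset.card _),
      ← Finset.sum_const, ← Finset.sum_const, ← Finset.sum_add_distrib]
    exact Finset.sum_le_sum fun ρ _ => by rw [hres]; exact hlow _
  -- translate
  have hBK : nPts k1 B (2 * j) = nPts k K (r * (2 * j)) := by
    haveI : IsScalarTower k k1 B := IsScalarTower.of_algebraMap_eq fun c => Subtype.ext (IsScalarTower.algebraMap_apply k k1 Lc c)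
    exact nPts_constExt hK hB hKBr hjpos
  have hsum := nPts_eq_of_roots hK α hα (Nat.mul_pos hr hjpos)
  rw [← hBK] at hsum
  have e : (∑ i, α i ^ (2 * r * j)) = (((s : ℝ) ^ 2 + 1 - (nPts k1 B (2 * j) : ℝ) : ℝ) : ℂ) := by
    rw [show 2 * r * j = r * (2 * j) by ring]
    push_cast
    rw [hsum, hs, show r * (2 * j) = r * j * 2 by ring, pow_mul]
    push_cast
    ring
  rw [e, Complex.norm_real, Real.norm_eq_abs, abs_le,
    show ((Nat.card k : ℕ) : ℝ) ^ (r * j) = (s : ℝ) by rw [hs]; push_cast; rfl]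
  have hup' : (nPts k1 B (2 * j) : ℝ) ≤ (s : ℝ) ^ 2 + 1 + (2 * g + 1) * s := by exact_mod_cast hup
  have hdown' : (nE : ℝ) * ((s : ℝ) ^ 2 + 1) ≤
      (nPts k1 B (2 * j) : ℝ) + ((nE : ℝ) - 1) * ((s : ℝ) ^ 2 + 1 + (2 * g + 1) * s) := by
    have := (Nat.cast_le (α := ℝ)).2 hdown
    simp only [U] at this
    push_cast [Nat.cast_sub (show 1 ≤ nE from hnE)] at this
    exact this
  have hne1 : (1 : ℝ) ≤ nE := by exact_mod_cast hnE
  have hpos : (0 : ℝ) ≤ (2 * g + 1) * s := by positivity
  constructor <;> nlinarith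

/-- The reciprocal roots have absolute value `√q`. -/
theorem norm_sq_root [Finite k] (hK : IsFunctionField k K) (α : Fin (2 * genus k K) → ℂ)
    (hα : PowerSeries.map (Int.castRingHom ℂ) (numerZ k K) =
      ((∏ i, (1 - Polynomial.C (α i) * Polynomial.X) : Polynomial ℂ) : PowerSeries ℂ))
    (hpair : ∀ i, α i * α (Fin.rev i) = (Nat.card k : ℂ)) (i : Fin (2 * genus k K)) :
    ‖α i‖ ^ 2 = Nat.card k := by
  obtain ⟨r, C, N, hr, h⟩ := powerSum_bound hK α hα
  have hq : (0 : ℝ) < Nat.card k := by exact_mod_cast Nat.card_pos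
  have h1 := norm_le_one_of_powerSum_bounded (fun i => α i ^ (2 * r) / ((Nat.card k : ℂ) ^ r)) C N fun j hj => by
    have e : (∑ i, (α i ^ (2 * r) / (Nat.card k : ℂ) ^ r) ^ j) =
        (∑ i, α i ^ (2 * r * j)) / (Nat.card k : ℂ) ^ (r * j) := by
      rw [Finset.sum_div]
      exact Finset.sum_congr rfl fun i _ => by rw [_root_.div_pow, ← pow_mul, ← pow_mul]
    rw [e, norm_div, norm_pow, Complex.norm_natCast]
    rw [div_le_iff₀ (pow_pos hq _)]
    exact h j hj
  have hle : ∀ i, ‖α i‖ ^ 2 ≤ Nat.card k := fun i => by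
    have := h1 i
    rw [norm_div, norm_pow, norm_pow, Complex.norm_natCast, div_le_one (pow_pos hq _), pow_mul] at this
    exact le_of_pow_le_pow_left₀ hr.ne' hq.le this
  refine le_antisymm (hle i) ?_
  have h2 := congrArg (fun z : ℂ => ‖z‖ ^ 2) (hpair i)
  simp only [norm_mul, mul_pow, Complex.norm_natCast] at h2
  by_contra hlt
  push Not at hlt
  have h3 := hle (Fin.rev i)
  nlinarith [sq_nonneg ‖α i‖, sq_nonneg ‖α (Fin.rev i)‖, mul_le_mul_of_nonneg_left h3 (sq_nonneg ‖α i‖)]

end Groth.Agent.FF
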