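import Groth.Agent.FF.Divisors

/-! Finiteness of zeros and poles and the degree theorem for principal divisors. -/

set_option linter.style.haveILetI false

namespace Groth.Agent.FF

open FunFld
open scoped WithZero IntermediateField

variable {k K : Type*} [Field k] [Field K] [Algebra k K]

open scoped Classical in
/-- The zeros of `x` in a finite set, counted with multiplicity, are at most `[K : k(x)]`. -/
lemma sum_ord_le (hK : IsFunctionField k K) {x : K} (hx : Transcendental k x) (S : Finset (Place k K))
    (hS : ∀ P ∈ S, 0 ≤ P.ord x) :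
    ∑ P ∈ S, P.ord x * P.deg ≤ Module.finrank k⟮x⟯ K := by
  have hx0 : x ≠ 0 := fun h => hx (h ▸ isAlgebraic_zero)
  haveI := finiteDimensional_adjoin hK hx
  let D₁ : Divisor k K := -∑ P ∈ S, Finsupp.single P (P.ord x)
  have hD₁ : ∀ P, D₁ P = if P ∈ S then -P.ord x else 0 := by
    intro P
    simp only [D₁, Finsupp.neg_apply, Finsupp.finsetSum_apply, Finsupp.single_apply, Finset.sum_ite_eq']
    split_ifs <;> simp
  have h0 : D₁ ≤ 0 := fun P => by
    rw [hD₁]; split_ifs with h
    · simpa using hS P h
    · simp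
  obtain ⟨hf, hr⟩ := qt_AD hK h0
  let b := Module.finBasis k (Qt (AD D₁) (AD (0 : Divisor k K)))
  choose a ha using fun i => Submodule.Quotient.mk_surjective _ (b i)
  choose z hz using fun i => approx S (fun P => (a i).1 P) D₁
  have haP : ∀ i (P : Place k K), P.1 ((a i).1 P) ≤ 1 := fun i P => by simpa using (a i).2 P
  have hzR : ∀ i, z i ∈ valAlg (S : Set (Place k K)) := fun i P hP => by
    have h1 : P.1 (z i - (a i).1 P) ≤ 1 :=
      (hz i P hP).trans (by rw [← WithZero.exp_zero, WithZero.exp_le_exp]; simpa using h0 P)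
    calc P.1 (z i) = P.1 ((z i - (a i).1 P) + (a i).1 P) := by rw [sub_add_cancel]
      _ ≤ 1 := (P.1.map_add _ _).trans (max_le h1 (haP i P))
  have hxR : x ∈ valAlg (S : Set (Place k K)) := fun P hP => (v_le_one_iff P hx0).2 (hS P hP)
  have hli := linearIndependent_adjoin_of_mod _ hxR hx z hzR ?_
  · have h1 := hli.fintype_card_le_finrank
    rw [Fintype.card_fin] at h1
    have h2 : D₁.deg = -∑ P ∈ S, P.ord x * P.deg := by
      simp only [D₁, deg_neg]
      congr 1
      have : ∀ s : Finset (Place k K), Divisor.deg (∑ P ∈ s, Finsupp.single P (P.ord x)) = ∑ P ∈ s, P.ord x * P.deg := by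
        intro s
        induction s using Finset.induction_on with
        | empty => simp [deg_zero]
        | @insert P s hP ih => rw [Finset.sum_insert hP, Finset.sum_insert hP, deg_add, deg_single, ih]
      exact this S
    rw [deg_zero, h2] at hr
    omega
  · rintro c ⟨r, hr', hcr⟩
    have hmem : (∑ i, c i • (a i).1) ∈ AD D₁ := fun P => by
      simp only [Finset.sum_apply, Pi.smul_apply]
      by_cases hP : P ∈ S
      · have e : ∑ i, c i • (a i).1 P = x * r - ∑ i, c i • (z i - (a i).1 P) := by
          simp only [smul_sub, Finset.sum_sub_distrib, hcr]; ring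
        rw [e]
        refine (P.1.map_sub _ _).trans (max_le ?_ (P.1.map_sum_le fun i _ => (v_smul_le P _ _).trans (hz i P hP)))
        rw [map_mul, hD₁, if_pos hP, v_eq_exp P hx0]
        exact mul_le_of_le_one_right' (hr' P hP)
      · rw [hD₁, if_neg hP, WithZero.exp_zero]
        exact P.1.map_sum_le fun i _ => (v_smul_le P _ _).trans (haP i P)
    have h0' : ∑ i, c i • b i = 0 := by
      rw [show ∑ i, c i • b i = Submodule.mkQ _ (∑ i, c i • a i) by
        rw [map_sum]; exact Finset.sum_congr rfl fun i _ => by rw [map_smul, Submodule.mkQ_apply, ha],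
        Submodule.mkQ_apply, qt_mk_eq_zero]
      simpa using hmem
    funext i
    exact Fintype.linearIndependent_iff.1 b.linearIndependent c h0' i

lemma finite_zeros (hK : IsFunctionField k K) {x : K} (hx : Transcendental k x) :
    {P : Place k K | 0 < P.ord x}.Finite := by
  classical
  by_contra hinf
  obtain ⟨S, hS, hcard⟩ := Set.Infinite.exists_subset_card_eq hinf (Module.finrank k⟮x⟯ K + 1)
  have h := sum_ord_le hK hx S fun P hP => le_of_lt (hS hP)
  have h1 : (S.card : ℤ) ≤ ∑ P ∈ S, P.ord x * P.deg := by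
    rw [Finset.card_eq_sum_ones, Nat.cast_sum]
    refine Finset.sum_le_sum fun P hP => ?_
    have h1 : 0 < P.ord x := hS hP
    have h2 := deg_pos hK P
    have : (1 : ℤ) ≤ P.deg := by omega
    push_cast
    exact one_le_mul_of_one_le_of_one_le h1 this
  omega

lemma finite_support (hK : IsFunctionField k K) (x : K) :
    (Function.support fun P : Place k K => P.ord x).Finite := by
  by_cases hx : x ∈ Set.range (algebraMap k K)
  · obtain ⟨c, rfl⟩ := hx
    convert Set.finite_empty
    ext P; simp [ord_algebraMap]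
  have ht := transcendental_of_not_mem hK hx
  have ht' : Transcendental k x⁻¹ := transcendental_of_not_mem hK fun ⟨c, hc⟩ =>
    hx ⟨c⁻¹, by rw [map_inv₀, hc, inv_inv]⟩
  refine ((finite_zeros hK ht).union (finite_zeros hK ht')).subset fun P hP => ?_
  simp only [Function.mem_support] at hP
  simp only [Set.mem_union, Set.mem_setOf_eq, ord_inv]
  omega

lemma div_apply (hK : IsFunctionField k K) (x : K) (P : Place k K) : div k x P = P.ord x := by
  rw [FunFld.div, dif_pos (finite_support hK x)]; rfl

lemma div_zero' (hK : IsFunctionField k K) : div k (0 : K) = 0 := by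
  ext P; simp [div_apply hK, ord_zero]

lemma div_inv (hK : IsFunctionField k K) (x : K) : div k x⁻¹ = -div k x := by
  ext P; simp [div_apply hK, ord_inv]

lemma div_mul (hK : IsFunctionField k K) {x y : K} (hx : x ≠ 0) (hy : y ≠ 0) :
    div k (x * y) = div k x + div k y := by
  ext P; simp [div_apply hK, ord_mul P hx hy]

lemma div_pow (hK : IsFunctionField k K) (x : K) (n : ℕ) : div k (x ^ n) = (n : ℤ) • div k x := by
  ext P; simp [div_apply hK, ord_pow]

lemma div_algebraMap (hK : IsFunctionField k K) (c : k) : div k (algebraMap k K c) = 0 := by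
  ext P; simp [div_apply hK, ord_algebraMap]

open scoped Classical in
/-- The divisor of zeros. -/
noncomputable def zeros (x : K) : Divisor k K := div k x ⊔ 0

lemma zeros_nonneg (x : K) : 0 ≤ zeros (k := k) x := le_sup_right

lemma zeros_apply (hK : IsFunctionField k K) (x : K) (P : Place k K) :
    zeros (k := k) x P = max (P.ord x) 0 := by
  simp [zeros, div_apply hK]

lemma div_eq_zeros_sub (hK : IsFunctionField k K) (x : K) :
    div k x = zeros x - zeros x⁻¹ := by
  ext P
  simp only [Finsupp.coe_sub, Pi.sub_apply, zeros_apply hK, div_apply hK, ord_inv]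
  omega

lemma mem_L_zeros_inv (hK : IsFunctionField k K) {x : K} (hx : x ≠ 0) (n : ℕ) :
    x ^ n ∈ L ((n : ℤ) • zeros (k := k) x⁻¹) := by
  rw [mem_L_iff_ord (pow_ne_zero _ hx)]
  intro P
  simp only [Finsupp.smul_apply, zeros_apply hK, ord_inv, ord_pow, smul_eq_mul]
  have : (0 : ℤ) ≤ n * (P.ord x + max (-P.ord x) 0) := mul_nonneg (Int.natCast_nonneg _) (by omega)
  linarith

lemma mul_mem_L {D E : Divisor k K} {x y : K} (hx : x ∈ L D) (hy : y ∈ L E) : x * y ∈ L (D + E) :=
  fun P => by
    rw [map_mul, Finsupp.add_apply, WithZero.exp_add]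
    exact mul_le_mul' (hx P) (hy P)

lemma exists_bound (hK : IsFunctionField k K) {ι : Type*} [Fintype ι] (y : ι → K) :
    ∃ C : Divisor k K, 0 ≤ C ∧ ∀ i, y i ∈ L C := by
  classical
  refine ⟨∑ i, zeros (y i)⁻¹, Finset.sum_nonneg fun i _ => zeros_nonneg _, fun i => ?_⟩
  rcases eq_or_ne (y i) 0 with h | h
  · rw [h]; exact Submodule.zero_mem _
  · refine L_mono (Finset.single_le_sum (f := fun i => zeros (k := k) (y i)⁻¹)
      (fun i _ => zeros_nonneg _) (Finset.mem_univ i)) ?_
    simpa using mem_L_zeros_inv hK h 1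

/-- `n (l+1) ≤ ℓ(l B + C)` for the pole divisor `B` of `x` and some fixed `C`. -/
lemma exists_ell_lower (hK : IsFunctionField k K) {x : K} (hx : Transcendental k x) :
    ∃ C : Divisor k K, 0 ≤ C ∧ ∀ l : ℕ,
      (Module.finrank k⟮x⟯ K) * (l + 1) ≤ ell ((l : ℤ) • zeros (k := k) x⁻¹ + C) := by
  classical
  have hx0 : x ≠ 0 := fun h => hx (h ▸ isAlgebraic_zero)
  haveI := finiteDimensional_adjoin hK hx
  let b := Module.finBasis k⟮x⟯ K
  obtain ⟨C, hC0, hC⟩ := exists_bound hK b
  refine ⟨C, hC0, fun l => ?_⟩
  haveI := finite_L hK ((l : ℤ) • zeros (k := k) x⁻¹ + C)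
  let g : Fin (l + 1) → k⟮x⟯ := fun i => (IntermediateField.AdjoinSimple.gen k x) ^ (i : ℕ)
  have hg : LinearIndependent k g := by
    refine LinearIndependent.of_comp (IsScalarTower.toAlgHom k k⟮x⟯ K).toLinearMap ?_
    have := (Polynomial.basisMonomials k).linearIndependent.map'
      (Polynomial.aeval (R := k) x).toLinearMap (LinearMap.ker_eq_bot.2 (transcendental_iff_injective.1 hx))
    have h2 := this.comp (fun i : Fin (l + 1) => (i : ℕ)) Fin.val_injective
    have e : ((Polynomial.aeval x).toLinearMap ∘ Polynomial.basisMonomials k) ∘ (fun i : Fin (l + 1) => (i : ℕ)) =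
        (IsScalarTower.toAlgHom k k⟮x⟯ K).toLinearMap ∘ g := by
      funext i
      simp [g, Polynomial.coe_basisMonomials, Polynomial.aeval_monomial]
    exact e ▸ h2
  have hli := linearIndependent_smul hg b.linearIndependent
  have hmem : ∀ p : Fin (l + 1) × Fin (Module.finrank k⟮x⟯ K),
      g p.1 • b p.2 ∈ L ((l : ℤ) • zeros (k := k) x⁻¹ + C) := by
    rintro ⟨i, j⟩
    rw [IntermediateField.smul_def]
    refine mul_mem_L (L_mono ?_ (by simpa [g] using mem_L_zeros_inv (k := k) hK hx0 (i : ℕ))) (hC j)
    intro P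
    simp only [Finsupp.smul_apply, smul_eq_mul]
    refine mul_le_mul_of_nonneg_right ?_ (zeros_nonneg (k := k) x⁻¹ P)
    have := i.2; omega
  have h2 := (LinearIndependent.of_comp (Submodule.subtype _) (v := fun p => (⟨_, hmem p⟩ : L _)) hli).fintype_card_le_finrank
  simp only [Fintype.card_prod, Fintype.card_fin] at h2
  rw [ell, mul_comm]
  exact h2

lemma ell_zero_le (hK : IsFunctionField k K) : ell (0 : Divisor k K) ≤ 1 := by
  haveI := finite_L hK (0 : Divisor k K)
  haveI : FiniteDimensional k (1 : Submodule k K) := by rw [Submodule.one_eq_range]; infer_instance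
  refine (Submodule.finrank_mono (L_zero_le hK)).trans ?_
  rw [Submodule.one_eq_range]
  exact (LinearMap.finrank_range_le _).trans (by simp)

lemma one_mem_L {D : Divisor k K} (h : 0 ≤ D) : (1 : K) ∈ L D := fun P => by
  rw [map_one, ← WithZero.exp_zero, WithZero.exp_le_exp]; exact h P

lemma L_zero (hK : IsFunctionField k K) : L (0 : Divisor k K) = 1 :=
  le_antisymm (L_zero_le hK) (by
    rw [Submodule.one_eq_span, Submodule.span_singleton_le_iff_mem]
    exact one_mem_L le_rfl)

lemma ell_zero (hK : IsFunctionField k K) : ell (0 : Divisor k K) = 1 := by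
  refine le_antisymm (ell_zero_le hK) ?_
  haveI := finite_L hK (0 : Divisor k K)
  rw [ell, Nat.one_le_iff_ne_zero, Ne, Submodule.finrank_eq_zero]
  intro h
  have := one_mem_L (k := k) (K := K) (le_refl (0 : Divisor k K))
  rw [h, Submodule.mem_bot] at this
  exact one_ne_zero this

lemma ell_le_deg_add_one (hK : IsFunctionField k K) {D : Divisor k K} (h : 0 ≤ D) :
    (ell D : ℤ) ≤ D.deg + 1 := by
  have h1 := ell_sub_le hK h
  rw [deg_zero, ell_zero hK] at h1
  omega

/-- The degree theorem: `deg` of the zeros is `[K : k(x)]`. -/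
lemma deg_zeros (hK : IsFunctionField k K) {x : K} (hx : Transcendental k x) :
    (zeros (k := k) x).deg = Module.finrank k⟮x⟯ K := by
  classical
  refine le_antisymm ?_ ?_
  · have h := sum_ord_le hK hx (zeros (k := k) x).support fun P hP => by
      rw [Finsupp.mem_support_iff, zeros_apply hK] at hP; omega
    refine le_of_eq_of_le ?_ h
    refine Finset.sum_congr rfl fun P hP => ?_
    rw [Finsupp.mem_support_iff, zeros_apply hK] at hP
    change zeros (k := k) x P * _ = _
    rw [zeros_apply hK, max_eq_left (by omega)]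
  · have hx' : Transcendental k x⁻¹ := fun h => hx (by simpa using h.inv)
    obtain ⟨C, hC0, hC⟩ := exists_ell_lower hK hx'
    have e : k⟮x⁻¹⟯ = k⟮x⟯ := by
      refine le_antisymm (IntermediateField.adjoin_simple_le_iff.2 (inv_mem (IntermediateField.mem_adjoin_simple_self _ x)))
        (IntermediateField.adjoin_simple_le_iff.2 ?_)
      simpa using inv_mem (IntermediateField.mem_adjoin_simple_self k x⁻¹)
    rw [← e]
    have h1 : ∀ l : ℕ, (Module.finrank k⟮x⁻¹⟯ K : ℤ) * (l + 1) ≤ l * (zeros (k := k) x).deg + C.deg + 1 := by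
      intro l
      have hnn : (0 : Divisor k K) ≤ (l : ℤ) • zeros (k := k) (x⁻¹)⁻¹ + C :=
        add_nonneg (smul_nonneg (Int.natCast_nonneg l) (zeros_nonneg _)) hC0
      have h2 := ell_le_deg_add_one hK hnn
      rw [deg_add, deg_smul, inv_inv] at h2
      have h3 := hC l
      rw [inv_inv] at h3
      have h4 : ((Module.finrank k⟮x⁻¹⟯ K * (l + 1) : ℕ) : ℤ) ≤ (ell ((l : ℤ) • zeros (k := k) x + C) : ℕ) := by
        exact_mod_cast h3
      push_cast at h4
      linarith
    by_contra hlt
    push Not at hlt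
    have h5 := h1 (C.deg + 1).toNat
    have h6 : ((C.deg + 1).toNat : ℤ) = C.deg + 1 := Int.toNat_of_nonneg (by have := deg_nonneg hC0; omega)
    rw [h6] at h5
    have hC1 := deg_nonneg hC0
    have hd0 := deg_nonneg (zeros_nonneg (k := k) x)
    nlinarith [mul_le_mul_of_nonneg_left (Int.add_one_le_iff.2 hlt) (show (0 : ℤ) ≤ C.deg + 1 by omega)]

lemma adjoin_inv (x : K) : k⟮x⁻¹⟯ = k⟮x⟯ := by
  refine le_antisymm (IntermediateField.adjoin_simple_le_iff.2 (inv_mem (IntermediateField.mem_adjoin_simple_self _ x)))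
    (IntermediateField.adjoin_simple_le_iff.2 ?_)
  simpa using inv_mem (IntermediateField.mem_adjoin_simple_self k x⁻¹)

lemma deg_div (hK : IsFunctionField k K) (x : K) : (div k x).deg = 0 := by
  by_cases hx : x ∈ Set.range (algebraMap k K)
  · obtain ⟨c, rfl⟩ := hx
    rw [div_algebraMap hK, deg_zero]
  have ht := transcendental_of_not_mem hK hx
  have ht' : Transcendental k x⁻¹ := fun h => ht (by simpa using h.inv)
  rw [div_eq_zeros_sub hK, deg_sub, deg_zeros hK ht, deg_zeros hK ht', adjoin_inv, sub_self]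

end Groth.Agent.FF
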