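import Groth.Agent.FF.Places

/-! Divisors, repartition spaces and their relative dimensions, the degree theorem. -/

set_option linter.style.haveILetI false

namespace Groth.Agent.FF

open FunFld
open scoped WithZero IntermediateField

section quot

variable {k V W : Type*} [Field k] [AddCommGroup V] [Module k V] [AddCommGroup W] [Module k W]

/-- The quotient of two nested submodules. -/
abbrev Qt (A B : Submodule k V) := ↥B ⧸ Submodule.comap B.subtype A

/-- Short exact sequences of vector spaces: finiteness and dimension. -/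
lemma finrank_of_exact {U X Y : Type*} [AddCommGroup U] [Module k U] [AddCommGroup X] [Module k X]
    [AddCommGroup Y] [Module k Y] (f : U →ₗ[k] X) (g : X →ₗ[k] Y) (hf : Function.Injective f)
    (hg : Function.Surjective g) (he : Function.Exact f g) :
    (FiniteDimensional k X ↔ FiniteDimensional k U ∧ FiniteDimensional k Y) ∧
      (FiniteDimensional k X → Module.finrank k X = Module.finrank k U + Module.finrank k Y) := by
  refine ⟨⟨fun _ => ⟨FiniteDimensional.of_injective f hf, Module.Finite.of_surjective g hg⟩,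
    fun ⟨h1, h2⟩ => Module.Finite.of_exact he hg⟩, fun _ => ?_⟩
  have e2 : Module.finrank k (LinearMap.range g) = Module.finrank k Y := by
    rw [LinearMap.range_eq_top.2 hg, finrank_top]
  have e3 : Module.finrank k (LinearMap.ker g) = Module.finrank k U := by
    rw [he.linearMap_ker_eq, LinearMap.finrank_range_of_inj hf]
  have h := g.finrank_range_add_finrank_ker
  omega

/-- Inclusion induced maps on `Qt`. -/
def qtMap (f : V →ₗ[k] W) {A B : Submodule k V} {A' B' : Submodule k W} (hB : ∀ x ∈ B, f x ∈ B')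
    (hA : ∀ x ∈ A, f x ∈ A') : Qt A B →ₗ[k] Qt A' B' :=
  Submodule.mapQ _ _ (f.restrict hB) (fun x hx => hA x.1 hx)

lemma qtMap_mk (f : V →ₗ[k] W) {A B : Submodule k V} {A' B' : Submodule k W} (hB : ∀ x ∈ B, f x ∈ B')
    (hA : ∀ x ∈ A, f x ∈ A') (x : B) :
    qtMap f hB hA (Submodule.Quotient.mk x) = Submodule.Quotient.mk ⟨f x.1, hB x.1 x.2⟩ := rfl

lemma qt_mk_eq_zero {A B : Submodule k V} (x : B) :
    (Submodule.Quotient.mk x : Qt A B) = 0 ↔ x.1 ∈ A := by
  rw [Submodule.Quotient.mk_eq_zero]; rfl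

lemma qt_trans {A B C : Submodule k V} (hAB : A ≤ B) (hBC : B ≤ C) :
    (FiniteDimensional k (Qt A C) ↔ FiniteDimensional k (Qt A B) ∧ FiniteDimensional k (Qt B C)) ∧
      (FiniteDimensional k (Qt A C) →
        Module.finrank k (Qt A C) = Module.finrank k (Qt A B) + Module.finrank k (Qt B C)) := by
  refine finrank_of_exact (qtMap LinearMap.id (fun x hx => hBC hx) (fun x hx => hx))
    (qtMap LinearMap.id (fun x hx => hx) (fun x hx => hAB hx)) ?_ ?_ ?_
  · rw [injective_iff_map_eq_zero]
    intro q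
    obtain ⟨x, rfl⟩ := Submodule.Quotient.mk_surjective _ q
    rw [qtMap_mk, qt_mk_eq_zero, qt_mk_eq_zero]
    exact id
  · intro q
    obtain ⟨x, rfl⟩ := Submodule.Quotient.mk_surjective _ q
    exact ⟨Submodule.Quotient.mk x, by rw [qtMap_mk]; rfl⟩
  · intro q
    obtain ⟨x, rfl⟩ := Submodule.Quotient.mk_surjective _ q
    rw [qtMap_mk, qt_mk_eq_zero]
    constructor
    · exact fun h => ⟨Submodule.Quotient.mk ⟨x.1, h⟩, by rw [qtMap_mk]; rfl⟩
    · rintro ⟨q', hq'⟩
      obtain ⟨y, rfl⟩ := Submodule.Quotient.mk_surjective _ q'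
      rw [qtMap_mk] at hq'
      have h1 := (Submodule.Quotient.eq _).1 hq'
      have h2 : (y.1 - x.1) ∈ B := hAB h1
      simpa using B.sub_mem y.2 h2

lemma qt_self (A : Submodule k V) : FiniteDimensional k (Qt A A) ∧ Module.finrank k (Qt A A) = 0 := by
  haveI : Subsingleton (Qt A A) := Submodule.Quotient.subsingleton_iff.2 (Submodule.comap_subtype_self A)
  exact ⟨Module.Finite.of_finite, Module.finrank_zero_of_subsingleton⟩

end quot

variable {k K : Type*} [Field k] [Field K] [Algebra k K]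

section deg

lemma deg_add (D E : Divisor k K) : (D + E).deg = D.deg + E.deg :=
  Finsupp.sum_add_index' (fun _ => by simp) (fun _ _ _ => by ring)

lemma deg_zero : (0 : Divisor k K).deg = 0 := Finsupp.sum_zero_index

lemma deg_single (P : Place k K) (n : ℤ) : Divisor.deg (Finsupp.single P n) = n * P.deg :=
  Finsupp.sum_single_index (by simp)

lemma deg_neg (D : Divisor k K) : (-D).deg = -D.deg := by
  have h := deg_add D (-D)
  rw [add_neg_cancel, deg_zero] at h
  omega

lemma deg_sub (D E : Divisor k K) : (D - E).deg = D.deg - E.deg := by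
  rw [sub_eq_add_neg, deg_add, deg_neg]; ring

lemma deg_smul (n : ℤ) (D : Divisor k K) : (n • D).deg = n * D.deg := by
  induction n with
  | zero => simp [deg_zero]
  | succ i ih => rw [add_smul, one_smul, deg_add, ih]; ring
  | pred i ih => rw [sub_smul, one_smul, deg_sub, ih]; ring

lemma deg_nonneg {D : Divisor k K} (h : 0 ≤ D) : 0 ≤ D.deg :=
  Finset.sum_nonneg fun P _ => mul_nonneg (h P) (Int.natCast_nonneg _)

lemma deg_mono {D E : Divisor k K} (h : D ≤ E) : D.deg ≤ E.deg := by
  have h1 := deg_nonneg (D := E - D) (fun P => by simpa using h P)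
  rw [deg_sub] at h1
  omega

open scoped Classical in
/-- Induction upwards along divisors, one place at a time. -/
lemma divisor_le_induction (D₁ : Divisor k K) {motive : Divisor k K → Prop} (base : motive D₁)
    (step : ∀ D P, D₁ ≤ D → motive D → motive (D + Finsupp.single P 1)) :
    ∀ D, D₁ ≤ D → motive D := by
  suffices ∀ n : ℕ, ∀ D, D₁ ≤ D → ((D - D₁).sum fun _ a => a).toNat = n → motive D from
    fun D hD => this _ D hD rfl
  intro n
  induction n with
  | zero =>
    intro D hD hn
    have hnn : ∀ P, 0 ≤ (D - D₁) P := fun P => by simpa using hD P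
    have h0 : ((D - D₁).sum fun _ a => a) = 0 := by
      have := Finset.sum_nonneg (s := (D - D₁).support) (f := fun P => (D - D₁) P) fun P _ => hnn P
      simp only [Finsupp.sum] at hn ⊢
      omega
    have hE : D = D₁ := by
      ext P
      by_contra hne
      have hm : P ∈ (D - D₁).support := by simp [sub_eq_zero, hne]
      have := (Finset.sum_eq_zero_iff_of_nonneg fun P _ => hnn P).1 h0 P hm
      simp [sub_eq_zero, hne] at this
    exact hE ▸ base
  | succ n ih =>
    intro D hD hn
    have hne : D - D₁ ≠ 0 := fun h => by simp [h] at hn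
    obtain ⟨P, hP⟩ := Finsupp.support_nonempty_iff.2 hne
    have hPpos : 1 ≤ D P - D₁ P := by
      have h1 := hD P
      simp only [Finsupp.mem_support_iff, Finsupp.coe_sub, Pi.sub_apply] at hP
      omega
    have hD' : D₁ ≤ D - Finsupp.single P 1 := fun Q => by
      rcases eq_or_ne Q P with rfl | h
      · simp; omega
      · simpa [Finsupp.single_eq_of_ne h] using hD Q
    have := step _ P hD' (ih _ hD' ?_)
    · simpa using this
    · have e : D - Finsupp.single P 1 - D₁ = (D - D₁) + Finsupp.single P (-1) := by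
        ext Q; simp; ring
      rw [e, Finsupp.sum_add_index' (fun _ => rfl) (fun _ _ _ => rfl), Finsupp.sum_single_index rfl]
      omega

end deg

section AD

lemma mem_AD {D : Divisor k K} {a : Place k K → K} : a ∈ AD D ↔ ∀ P, P.1 (a P) ≤ WithZero.exp (D P) := Iff.rfl

lemma mem_L {D : Divisor k K} {x : K} : x ∈ L D ↔ ∀ P : Place k K, P.1 x ≤ WithZero.exp (D P) := Iff.rfl

lemma diag_mem_AD {D : Divisor k K} {x : K} : diag k K x ∈ AD D ↔ x ∈ L D := Iff.rfl

lemma diag_mem {D : Divisor k K} : ∀ x ∈ L D, diag k K x ∈ AD D := fun _ hx => hx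

lemma L_mono {D E : Divisor k K} (h : D ≤ E) : L D ≤ L E :=
  fun _ hx P => (hx P).trans (WithZero.exp_le_exp.2 (h P))

lemma AD_mono {D E : Divisor k K} (h : D ≤ E) : AD D ≤ AD E :=
  fun _ hx P => (hx P).trans (WithZero.exp_le_exp.2 (h P))

lemma mem_L_iff_ord {D : Divisor k K} {x : K} (hx : x ≠ 0) : x ∈ L D ↔ ∀ P : Place k K, 0 ≤ P.ord x + D P :=
  forall_congr' fun P => by rw [v_le_exp_iff P hx]; omega

/-- The coordinate at `P` scaled into the valuation ring, read in the residue field. -/
noncomputable def resMap (D : Divisor k K) (P : Place k K) (s : K) (hs : P.1 s = WithZero.exp (-D P)) :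
    AD D →ₗ[k] IsLocalRing.ResidueField P.O where
  toFun a := IsLocalRing.residue P.O ⟨s * a.1 P, by
    rw [Valuation.mem_valuationSubring_iff, map_mul, hs]
    calc WithZero.exp (-D P) * P.1 (a.1 P) ≤ WithZero.exp (-D P) * WithZero.exp (D P) :=
          mul_le_mul' le_rfl (a.2 P)
      _ = 1 := by rw [← WithZero.exp_add, neg_add_cancel, WithZero.exp_zero]⟩
  map_add' a b := by
    rw [← map_add]; congr 1
    exact Subtype.ext (mul_add s (a.1 P) (b.1 P))
  map_smul' c a := by
    rw [RingHom.id_apply]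
    change _ = IsLocalRing.residue P.O (algebraMap k P.O c) * IsLocalRing.residue P.O _
    refine Eq.trans (congrArg _ (Subtype.ext ?_)) (map_mul (IsLocalRing.residue P.O) _ _)
    change s * (c • a.1 P) = algebraMap k K c * (s * a.1 P)
    rw [Algebra.smul_def]; ring

lemma residue_eq_zero_iff {P : Place k K} (x : P.O) : IsLocalRing.residue P.O x = 0 ↔ P.1 x.1 < 1 := by
  rw [IsLocalRing.residue_eq_zero_iff, IsLocalRing.mem_maximalIdeal]
  constructor
  · intro h
    refine lt_of_le_of_ne x.2 fun h1 => h ?_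
    have hx : x.1 ≠ 0 := fun h0 => by simp [h0] at h1
    refine isUnit_iff_exists_inv.2 ⟨⟨x.1⁻¹, ?_⟩, Subtype.ext (mul_inv_cancel₀ hx)⟩
    rw [Valuation.mem_valuationSubring_iff, map_inv₀, h1, inv_one]
  · intro h hu
    obtain ⟨y, hy⟩ := isUnit_iff_exists_inv.1 hu
    have h1 : P.1 x.1 * P.1 y.1 = 1 := by
      rw [← map_mul]
      have hxy : x.1 * y.1 = 1 := congrArg Subtype.val hy
      rw [hxy, map_one]
    exact absurd h1 (ne_of_lt (lt_of_le_of_lt (mul_le_of_le_one_right' y.2) h))

/-- Residue fields are finite over `k`. -/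
lemma finite_residue (hK : IsFunctionField k K) (P : Place k K) :
    FiniteDimensional k (IsLocalRing.ResidueField P.O) := by
  classical
  obtain ⟨t, ht0, ht⟩ := exists_ord_eq P 1
  have htr : Transcendental k t := transcendental_of_not_mem hK (by
    rintro ⟨c, rfl⟩; simp [ord_algebraMap] at ht)
  haveI := finiteDimensional_adjoin hK htr
  refine Module.rank_lt_aleph0_iff.1
    ((rank_le (R := k) (n := Module.finrank k⟮t⟯ K) fun s hs => ?_).trans_lt Cardinal.natCast_lt_aleph0)
  choose z hz using fun q : s => IsLocalRing.residue_surjective (R := P.O) q.1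
  have htO : P.1 t ≤ 1 := (v_le_one_iff P ht0).2 (by omega)
  have hli := linearIndependent_adjoin_of_mod (valAlg {P}) (x := t) (by rintro Q rfl; exact htO) htr
    (fun q => (z q : K)) (fun q => by rintro Q rfl; exact (z q).2) ?_
  · simpa using hli.fintype_card_le_finrank
  · rintro c ⟨r, hr, hcr⟩
    have hr' : P.1 r ≤ 1 := hr P rfl
    have h1 : ∑ q, algebraMap k P.O (c q) * z q = (⟨t, htO⟩ : P.O) * ⟨r, hr'⟩ := by
      refine Subtype.ext ?_
      have hh : (P.O.subtype (∑ q, algebraMap k P.O (c q) * z q)) = ∑ q, c q • (z q : K) := by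
        rw [map_sum]
        exact Finset.sum_congr rfl fun q _ => (Algebra.smul_def (c q) (z q : K)).symm
      exact hh.trans hcr
    have h0 : IsLocalRing.residue P.O ⟨t, htO⟩ = 0 :=
      (residue_eq_zero_iff _).2 ((v_lt_one_iff P ht0).2 (by omega))
    have h2 : ∑ q, c q • (q : IsLocalRing.ResidueField P.O) = 0 := by
      have h3 := congrArg (IsLocalRing.residue P.O) h1
      rw [map_mul, h0, zero_mul, map_sum] at h3
      rw [← h3]
      refine Finset.sum_congr rfl fun q _ => ?_
      rw [map_mul, hz, Algebra.smul_def]; rfl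
    funext q
    exact Fintype.linearIndependent_iff.1 hs c h2 q

lemma deg_pos (hK : IsFunctionField k K) (P : Place k K) : 0 < P.deg := by
  haveI := finite_residue hK P
  exact Module.finrank_pos

open scoped Classical in
lemma qt_AD_step (hK : IsFunctionField k K) (D : Divisor k K) (P : Place k K) :
    FiniteDimensional k (Qt (AD D) (AD (D + Finsupp.single P 1))) ∧
      Module.finrank k (Qt (AD D) (AD (D + Finsupp.single P 1))) = P.deg := by
  set E := D + Finsupp.single P 1 with hE
  have hEP : E P = D P + 1 := by simp [hE]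
  obtain ⟨s, hs0, hs⟩ := exists_v_eq P (-(E P))
  have hker : Submodule.comap (AD E).subtype (AD D) = LinearMap.ker (resMap E P s hs) := by
    ext a
    rw [LinearMap.mem_ker]
    change a.1 ∈ AD D ↔ IsLocalRing.residue P.O _ = 0
    rw [residue_eq_zero_iff]
    have key : P.1 (s * a.1 P) < 1 ↔ P.1 (a.1 P) ≤ WithZero.exp (D P) := by
      rcases eq_or_ne (a.1 P) 0 with h | h
      · simp [h]
      · rw [v_lt_one_iff P (mul_ne_zero hs0 h), v_le_exp_iff P h, ord_mul P hs0 h,
          (ord_eq_iff P hs0 (n := E P)).2 hs, hEP]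
        omega
    refine Iff.trans ?_ key.symm
    refine ⟨fun h => h P, fun h Q => ?_⟩
    rcases eq_or_ne Q P with rfl | hQ
    · exact h
    · have h2 := a.2 Q
      simpa [hE, Finsupp.single_eq_of_ne hQ] using h2
  have hsurj : Function.Surjective (resMap E P s hs) := by
    intro q
    obtain ⟨y, rfl⟩ := IsLocalRing.residue_surjective q
    refine ⟨⟨Function.update 0 P (s⁻¹ * y.1), fun Q => ?_⟩, ?_⟩
    · rcases eq_or_ne Q P with rfl | hQ
      · rw [Function.update_self, map_mul, map_inv₀, hs, ← WithZero.exp_neg, neg_neg]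
        exact mul_le_of_le_one_right' y.2
      · simp [Function.update_of_ne hQ]
    · refine congrArg (IsLocalRing.residue P.O) (Subtype.ext ?_)
      change s * Function.update (0 : Place k K → K) P (s⁻¹ * y.1) P = y.1
      rw [Function.update_self, mul_inv_cancel_left₀ hs0]
  let e : Qt (AD D) (AD E) ≃ₗ[k] IsLocalRing.ResidueField P.O :=
    (Submodule.quotEquivOfEq _ _ hker).trans ((resMap E P s hs).quotKerEquivOfSurjective hsurj)
  haveI := finite_residue hK P
  exact ⟨e.symm.finiteDimensional, e.finrank_eq⟩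

/-- `dim AD D₂ / AD D₁ = deg D₂ - deg D₁`. -/
lemma qt_AD (hK : IsFunctionField k K) {D₁ D₂ : Divisor k K} (h : D₁ ≤ D₂) :
    FiniteDimensional k (Qt (AD D₁) (AD D₂)) ∧
      (Module.finrank k (Qt (AD D₁) (AD D₂)) : ℤ) = D₂.deg - D₁.deg := by
  refine divisor_le_induction D₁ (motive := fun D => FiniteDimensional k (Qt (AD D₁) (AD D)) ∧
    (Module.finrank k (Qt (AD D₁) (AD D)) : ℤ) = D.deg - D₁.deg) ?_ ?_ D₂ h
  · exact ⟨(qt_self _).1, by rw [(qt_self _).2]; simp⟩
  · intro D P hD ⟨hf, hr⟩
    obtain ⟨hf', hr'⟩ := qt_AD_step hK D P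
    obtain ⟨h1, h2⟩ := qt_trans (AD_mono hD) (AD_mono (E := D + Finsupp.single P 1) (by simp))
    refine ⟨h1.2 ⟨hf, hf'⟩, ?_⟩
    rw [h2 (h1.2 ⟨hf, hf'⟩), deg_add, deg_single]
    omega

lemma qtL_injective {D₁ D₂ : Divisor k K} :
    Function.Injective (qtMap (diag k K) (A := L D₁) (B := L D₂) (A' := AD D₁) (B' := AD D₂)
      diag_mem diag_mem) := by
  rw [injective_iff_map_eq_zero]
  intro q
  obtain ⟨x, rfl⟩ := Submodule.Quotient.mk_surjective _ q
  rw [qtMap_mk, qt_mk_eq_zero, qt_mk_eq_zero]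
  exact id

lemma L_zero_le (hK : IsFunctionField k K) : L (0 : Divisor k K) ≤ 1 := by
  intro x hx
  rw [Submodule.one_eq_range, LinearMap.mem_range]
  by_contra hne
  obtain ⟨P, hP⟩ := exists_zero hK (x := x⁻¹) (transcendental_of_not_mem hK (by
    rintro ⟨c, hc⟩
    exact hne ⟨c⁻¹, by rw [Algebra.linearMap_apply, map_inv₀, hc, inv_inv]⟩))
  have h1 : P.1 x ≤ 1 := by simpa using hx P
  rcases eq_or_ne x 0 with rfl | hx0
  · exact hne ⟨0, map_zero _⟩
  · rw [map_inv₀, inv_lt_one₀ (zero_lt_iff.2 ((map_ne_zero _).2 hx0))] at hP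
    exact not_le.2 hP h1

lemma finite_L (hK : IsFunctionField k K) (D : Divisor k K) : FiniteDimensional k (L D) := by
  let E : Divisor k K := D ⊔ 0
  haveI h1 : FiniteDimensional k (Qt (L (0 : Divisor k K)) (L E)) := by
    haveI := (qt_AD hK (D₁ := 0) (D₂ := E) le_sup_right).1
    exact FiniteDimensional.of_injective _ qtL_injective
  haveI h2 : FiniteDimensional k (L (0 : Divisor k K)) := by
    haveI : FiniteDimensional k (1 : Submodule k K) := by rw [Submodule.one_eq_range]; infer_instance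
    exact Submodule.finiteDimensional_of_le (L_zero_le hK)
  haveI : FiniteDimensional k (Submodule.comap (L E).subtype (L 0)) :=
    (Submodule.comapSubtypeEquivOfLe (L_mono (le_sup_right : (0 : Divisor k K) ≤ E))).symm.finiteDimensional
  haveI : FiniteDimensional k (L E) :=
    Module.Finite.of_submodule_quotient (Submodule.comap (L E).subtype (L (0 : Divisor k K)))
  exact Submodule.finiteDimensional_of_le (L_mono (le_sup_left : D ≤ E))

lemma ell_qt (hK : IsFunctionField k K) {D₁ D₂ : Divisor k K} (h : D₁ ≤ D₂) :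
    Module.finrank k (Qt (L D₁) (L D₂)) + ell D₁ = ell D₂ := by
  haveI := finite_L hK D₂
  have h1 := (Submodule.comap (L D₂).subtype (L D₁)).finrank_quotient_add_finrank
  have h2 := (Submodule.comapSubtypeEquivOfLe (L_mono h)).finrank_eq
  rw [ell, ell]
  change Module.finrank k (Qt (L D₁) (L D₂)) + _ = _ at h1
  omega

lemma ell_sub_le (hK : IsFunctionField k K) {D₁ D₂ : Divisor k K} (h : D₁ ≤ D₂) :
    (ell D₂ : ℤ) - ell D₁ ≤ D₂.deg - D₁.deg := by
  obtain ⟨hf, hr⟩ := qt_AD hK h
  have h1 := LinearMap.finrank_le_finrank_of_injective (qtL_injective (D₁ := D₁) (D₂ := D₂))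
  have h2 := ell_qt hK h
  omega

lemma ell_mono (hK : IsFunctionField k K) {D₁ D₂ : Divisor k K} (h : D₁ ≤ D₂) : ell D₁ ≤ ell D₂ := by
  have := ell_qt hK h; omega

/-- The sequence `L₂/L₁ → AD₂/AD₁ → (AD₂+K)/(AD₁+K)`. -/
lemma qt_ADK (hK : IsFunctionField k K) {D₁ D₂ : Divisor k K} (h : D₁ ≤ D₂) :
    FiniteDimensional k (Qt (AD D₁ ⊔ LinearMap.range (diag k K)) (AD D₂ ⊔ LinearMap.range (diag k K))) ∧
    (Module.finrank k (Qt (AD D₁ ⊔ LinearMap.range (diag k K)) (AD D₂ ⊔ LinearMap.range (diag k K))) : ℤ) =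
      (D₂.deg + 1 - ell D₂) - (D₁.deg + 1 - ell D₁) := by
  obtain ⟨hf, hr⟩ := qt_AD hK h
  let W := LinearMap.range (diag k K)
  let g : Qt (AD D₁) (AD D₂) →ₗ[k] Qt (AD D₁ ⊔ W) (AD D₂ ⊔ W) :=
    qtMap LinearMap.id (fun x hx => Submodule.mem_sup_left hx) (fun x hx => Submodule.mem_sup_left hx)
  have hg : Function.Surjective g := by
    intro q
    obtain ⟨⟨x, hx⟩, rfl⟩ := Submodule.Quotient.mk_surjective _ q
    obtain ⟨y, hy, w, hw, rfl⟩ := Submodule.mem_sup.1 hx
    refine ⟨Submodule.Quotient.mk ⟨y, hy⟩, ?_⟩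
    rw [qtMap_mk, Submodule.Quotient.eq]
    change y - (y + w) ∈ AD D₁ ⊔ W
    simpa using Submodule.mem_sup_right hw
  have he : Function.Exact (qtMap (diag k K) (A := L D₁) (B := L D₂) (A' := AD D₁) (B' := AD D₂)
      diag_mem diag_mem) g := by
    intro q
    obtain ⟨⟨x, hx⟩, rfl⟩ := Submodule.Quotient.mk_surjective _ q
    rw [qtMap_mk, qt_mk_eq_zero]
    constructor
    · intro hq
      obtain ⟨y, hy, w, ⟨z, hz⟩, hyw⟩ := Submodule.mem_sup.1 hq
      simp only [LinearMap.id_apply] at hyw
      have hz' : z ∈ L D₂ := by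
        rw [← diag_mem_AD, hz, show w = x - y by rw [← hyw]; abel]
        exact (AD D₂).sub_mem hx (AD_mono h hy)
      refine ⟨Submodule.Quotient.mk ⟨z, hz'⟩, ?_⟩
      rw [qtMap_mk, Submodule.Quotient.eq]
      change diag k K z - x ∈ AD D₁
      rw [hz, ← hyw]
      simpa using hy
    · rintro ⟨q', hq'⟩
      obtain ⟨z, rfl⟩ := Submodule.Quotient.mk_surjective _ q'
      rw [qtMap_mk, Submodule.Quotient.eq] at hq'
      have h3 : diag k K z.1 - x ∈ AD D₁ := hq'
      change x ∈ AD D₁ ⊔ W
      rw [show x = -(diag k K z.1 - x) + diag k K z.1 by abel]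
      exact Submodule.add_mem_sup (Submodule.neg_mem _ h3) (LinearMap.mem_range_self _ _)
  obtain ⟨h1, h2⟩ := finrank_of_exact _ g qtL_injective hg he
  haveI := hf
  have h3 := h2 hf
  have h4 := ell_qt hK h
  exact ⟨(h1.1 hf).2, by simp only [W] at h3; omega⟩

end AD

end Groth.Agent.FF
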