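import Mathlib
import Groth.Prelude.Def_LocRes

/-! Residues of Laurent series: exact and logarithmic differentials. -/

namespace Groth.Agent.FF

open LaurentSeries HahnSeries LocRes
open scoped WithZero

universe u

/-- The residue of `g^(n-1) g'` after a shift, over any commutative ring. -/
lemma coeff_pow_mul_derivative {R : Type u} [CommRing R] (g : PowerSeries R) (a n : ℕ) (hn : 0 < n) :
    PowerSeries.coeff (a * n) (PowerSeries.X * g ^ (n - 1) * PowerSeries.derivative R g) =
      (a : R) * PowerSeries.coeff (a * n) (g ^ n) := by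
  suffices H : ∀ g : PowerSeries (MvPolynomial ℕ ℤ),
      PowerSeries.coeff (a * n) (PowerSeries.X * g ^ (n - 1) * PowerSeries.derivative _ g) =
        (a : MvPolynomial ℕ ℤ) * PowerSeries.coeff (a * n) (g ^ n) by
    let φ : MvPolynomial ℕ ℤ →+* R := MvPolynomial.eval₂Hom (Int.castRingHom R) fun i => PowerSeries.coeff i g
    let G : PowerSeries (MvPolynomial ℕ ℤ) := PowerSeries.mk MvPolynomial.X
    have hG : PowerSeries.map φ G = g := by ext i; simp [G, φ]
    have hd : PowerSeries.map φ (PowerSeries.derivative _ G) = PowerSeries.derivative R g := by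
      ext i
      rw [PowerSeries.coeff_map, PowerSeries.coeff_derivative, PowerSeries.coeff_derivative, ← hG,
        PowerSeries.coeff_map, map_mul, map_add, map_natCast, map_one]
    have := congrArg φ (H G)
    rw [← PowerSeries.coeff_map, map_mul φ, map_natCast φ, ← PowerSeries.coeff_map] at this
    simp only [map_mul, map_pow, PowerSeries.map_X, hG, hd] at this
    exact this
  intro g
  have hn' : (n : MvPolynomial ℕ ℤ) ≠ 0 := Nat.cast_ne_zero.2 hn.ne'
  refine mul_left_cancel₀ hn' ?_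
  have h1 : (n : PowerSeries (MvPolynomial ℕ ℤ)) * (PowerSeries.X * g ^ (n - 1) * PowerSeries.derivative _ g) =
      PowerSeries.X * PowerSeries.derivative _ (g ^ n) := by
    rw [PowerSeries.derivative_pow]; ring
  have h2 := congrArg (PowerSeries.coeff (a * n)) h1
  rw [← map_natCast (PowerSeries.C (R := MvPolynomial ℕ ℤ)), PowerSeries.coeff_C_mul] at h2
  rw [h2]
  rcases Nat.eq_zero_or_pos a with rfl | ha
  · simp
  · obtain ⟨m, hm⟩ : ∃ m, a * n = m + 1 := ⟨a * n - 1, (Nat.succ_pred_eq_of_pos (Nat.mul_pos ha hn)).symm⟩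
    rw [hm, PowerSeries.coeff_succ_X_mul, PowerSeries.coeff_derivative, ← mul_assoc, ← Nat.cast_mul,
      mul_comm n a, hm]
    push_cast
    ring

variable {F : Type u} [Field F]

lemma v_le_iff {f : F⸨X⸩} {n : ℤ} : Valued.v f ≤ WithZero.exp (-n) ↔ ∀ m < n, f.coeff m = 0 :=
  LaurentSeries.valuation_le_iff_coeff_lt_eq_zero F

lemma v_le_one_iff_coeff {f : F⸨X⸩} : Valued.v f ≤ 1 ↔ ∀ m < 0, f.coeff m = 0 := by
  rw [← v_le_iff (n := 0)]; simp

lemma v_lt_one_iff_coeff {f : F⸨X⸩} : Valued.v f < 1 ↔ ∀ m ≤ 0, f.coeff m = 0 := by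
  rw [← WithZero.exp_zero, show (0 : ℤ) = -1 + 1 from rfl, WithZero.exp_add,
    WithZero.lt_mul_exp_iff_le WithZero.exp_ne_zero, v_le_iff]
  exact forall_congr' fun m => by constructor <;> intro h hm <;> exact h (by omega)

/-- The derivative of a monomial. -/
lemma D_single (o : ℤ) (r : F) : LocRes.D F (single o r) = single (o - 1) (o • r) := by
  have := derivative_single_mul F o r (1 : F⸨X⸩)
  rwa [mul_one, show LaurentSeries.derivative F (1 : F⸨X⸩) = 0 from (LocRes.D F).map_one_eq_zero,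
    mul_zero, zero_add, mul_one] at this

/-- A nonzero series is a monomial times a unit power series. -/
lemma exists_eq_single_mul {f : F⸨X⸩} (hf : f ≠ 0) :
    ∃ u : PowerSeries F, PowerSeries.constantCoeff u ≠ 0 ∧ f = single f.order (1 : F) * (u : F⸨X⸩) ∧
      Valued.v f = WithZero.exp (-f.order) := by
  have hu : PowerSeries.constantCoeff (powerSeriesPart f) ≠ 0 := by
    rw [← PowerSeries.coeff_zero_eq_constantCoeff_apply, LaurentSeries.powerSeriesPart_coeff]
    simpa using coeff_order_eq_zero.not.2 hf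
  refine ⟨powerSeriesPart f, hu, (single_order_mul_powerSeriesPart f).symm, ?_⟩
  conv_lhs => rw [← single_order_mul_powerSeriesPart f]
  rw [map_mul, LaurentSeries.valuation_single_zpow]
  have h1 : Valued.v ((powerSeriesPart f : PowerSeries F) : F⸨X⸩) = 1 := by
    refine le_antisymm ((LaurentSeries.val_le_one_iff_eq_coe F _).2 ⟨_, rfl⟩) (not_lt.1 fun h => hu ?_)
    rw [← PowerSeries.coeff_zero_eq_constantCoeff_apply]
    have := v_lt_one_iff_coeff.1 h 0 le_rfl
    rwa [PowerSeries.coeff_coe, if_neg (lt_irrefl 0)] at this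
  rw [h1, mul_one]

/-- The residue of a logarithmic derivative is the order. -/
lemma res_dlog {f : F⸨X⸩} (hf : f ≠ 0) : (f⁻¹ * LocRes.D F f).coeff (-1) = (f.order : F) := by
  obtain ⟨u, hu, hfu, -⟩ := exists_eq_single_mul hf
  have hu' : (u : F⸨X⸩) * (↑u⁻¹ : F⸨X⸩) = 1 := by
    rw [← PowerSeries.coe_mul, PowerSeries.mul_inv_cancel u hu, PowerSeries.coe_one]
  set o := f.order
  have hinv : f⁻¹ = single (-o) (1 : F) * (↑u⁻¹ : F⸨X⸩) := by
    refine inv_eq_of_mul_eq_one_right ?_
    rw [hfu, mul_mul_mul_comm, single_mul_single, hu', mul_one]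
    simp
  have key : f⁻¹ * LocRes.D F f =
      ((u⁻¹ * PowerSeries.derivative F u : PowerSeries F) : F⸨X⸩) + single (-1 : ℤ) (o : F) := by
    rw [hinv]
    conv_lhs => rw [hfu, Derivation.leibniz, D_single, LocRes.D_coe, smul_eq_mul, smul_eq_mul]
    rw [mul_add, PowerSeries.coe_mul]
    congr 1
    · rw [mul_mul_mul_comm, single_mul_single, neg_add_cancel, one_mul]
      exact one_mul _
    · rw [mul_mul_mul_comm, mul_comm (↑u⁻¹ : F⸨X⸩) (single (o - 1) _), ← mul_assoc, mul_comm (single (-o) (1 : F)) (u : F⸨X⸩),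
        mul_assoc (u : F⸨X⸩), single_mul_single]
      rw [mul_comm (u : F⸨X⸩), mul_assoc, hu', mul_one, one_mul, zsmul_one]
      congr 1
      ring
  rw [key, HahnSeries.coeff_add, PowerSeries.coeff_coe, if_pos (by norm_num), zero_add, coeff_single_same]

lemma res_pow_mul_D (f : F⸨X⸩) (n : ℕ) (hn : 0 < n) : (f ^ (n - 1) * LocRes.D F f).coeff (-1) = 0 := by
  obtain ⟨a, g, rfl⟩ : ∃ (a : ℕ) (g : PowerSeries F), f = single (-(a : ℤ)) (1 : F) * (g : F⸨X⸩) := by
    refine ⟨(-f.order).toNat, PowerSeries.X ^ (f.order).toNat * powerSeriesPart f, ?_⟩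
    rw [PowerSeries.coe_mul, PowerSeries.coe_pow, ← mul_assoc, HahnSeries.ofPowerSeries_X, single_pow,
      single_mul_single, one_pow, one_mul]
    conv_lhs => rw [← single_order_mul_powerSeriesPart f]
    congr 3
    simp; omega
  rw [Derivation.leibniz, D_single, LocRes.D_coe, smul_eq_mul, smul_eq_mul, mul_pow, single_pow, one_pow, mul_add,
    HahnSeries.coeff_add]
  have e1 : (single ((n - 1) • (-(a : ℤ))) (1 : F) * (g : F⸨X⸩) ^ (n - 1)) *
      (single (-(a : ℤ)) (1 : F) * ((PowerSeries.derivative F g : PowerSeries F) : F⸨X⸩)) =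
      single (-((a * n : ℕ) : ℤ) + -1) (1 : F) *
        ((PowerSeries.X * g ^ (n - 1) * PowerSeries.derivative F g : PowerSeries F) : F⸨X⸩) := by
    rw [PowerSeries.coe_mul, PowerSeries.coe_mul, PowerSeries.coe_pow, HahnSeries.ofPowerSeries_X, ← mul_assoc,
      ← mul_assoc, ← mul_assoc, single_mul_single, mul_right_comm (single _ (1 : F)), single_mul_single]
    congr 4
    · obtain ⟨m, rfl⟩ : ∃ m, n = m + 1 := ⟨n - 1, by omega⟩
      simp only [nsmul_eq_mul, Nat.add_sub_cancel]
      push_cast; ring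
  have e2 : (single ((n - 1) • (-(a : ℤ))) (1 : F) * (g : F⸨X⸩) ^ (n - 1)) *
      ((g : F⸨X⸩) * single (-(a : ℤ) - 1) ((-(a : ℤ)) • (1 : F))) =
      single (-((a * n : ℕ) : ℤ) + -1) (-(a : F)) * ((g ^ n : PowerSeries F) : F⸨X⸩) := by
    rw [PowerSeries.coe_pow, mul_comm (g : F⸨X⸩) (single _ _), mul_mul_mul_comm, single_mul_single,
      ← pow_succ, Nat.sub_add_cancel (hn : 1 ≤ n)]
    rw [show (n - 1) • (-(a : ℤ)) + (-(a : ℤ) - 1) = -((a * n : ℕ) : ℤ) + -1 by
        rw [nsmul_eq_mul, Nat.cast_sub (hn : 1 ≤ n)]; push_cast; ring,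
      show (1 : F) * (-(a : ℤ)) • (1 : F) = -(a : F) by simp]
  rw [e1, e2, coeff_single_mul, coeff_single_mul, PowerSeries.coeff_coe, PowerSeries.coeff_coe]
  have : (-1 : ℤ) - (-((a * n : ℕ) : ℤ) + -1) = ((a * n : ℕ) : ℤ) := by ring
  rw [this, if_neg (by omega), if_neg (by omega), Int.natAbs_natCast, one_mul,
    coeff_pow_mul_derivative g a n hn]
  ring

/-- The residue of `f^(n-1) f'` vanishes for every nonzero integer `n`. -/
lemma res_zpow_mul_D (f : F⸨X⸩) (n : ℤ) (hn : n ≠ 0) : (f ^ (n - 1) * LocRes.D F f).coeff (-1) = 0 := by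
  rcases eq_or_ne f 0 with rfl | hf
  · simp
  obtain ⟨m, rfl | rfl⟩ := n.eq_nat_or_neg
  · have hm : 0 < m := by omega
    rw [show (m : ℤ) - 1 = ((m - 1 : ℕ) : ℤ) by omega, zpow_natCast]
    exact res_pow_mul_D f m hm
  · have hm : 0 < m := by omega
    have := res_pow_mul_D f⁻¹ m hm
    rw [Derivation.leibniz_inv, smul_eq_mul, ← mul_assoc, mul_neg, neg_mul, HahnSeries.coeff_neg, neg_eq_zero,
      ← _root_.pow_add, inv_pow, ← zpow_natCast, ← zpow_neg] at this
    convert this using 4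
    all_goals first | rfl | omega

end Groth.Agent.FF
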