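import Groth.Agent.FF.Basic

/-! Places from valuation rings, existence of zeros, weak approximation. -/

set_option linter.style.haveILetI false

namespace Groth.Agent.FF

open FunFld
open scoped WithZero IntermediateField

variable {k K : Type*} [Field k] [Field K] [Algebra k K]

/-- The `k`-subalgebra of elements integral at all places of `S`. -/
def valAlg (S : Set (Place k K)) : Subalgebra k K where
  carrier := {x | ∀ P ∈ S, P.1 x ≤ 1}
  mul_mem' {x y} hx hy P hP := by rw [map_mul]; exact mul_le_one' (hx P hP) (hy P hP)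
  add_mem' {x y} hx hy P hP := (P.1.map_add x y).trans (max_le (hx P hP) (hy P hP))
  algebraMap_mem' c P _ := P.2.1 c

lemma valSubring_mem_of_range {V : ValuationSubring K} (hk : Set.range (algebraMap k K) ⊆ V) :
    ∃ A : Subalgebra k K, ∀ x, x ∈ A ↔ x ∈ V :=
  ⟨{ V.toSubring with algebraMap_mem' := fun c => hk ⟨c, rfl⟩ }, fun _ => Iff.rfl⟩

/-- Quotients of a valuation ring containing `k` by nonzero principal ideals are finite over `k`. -/
lemma finite_quot_valuationSubring (hK : IsFunctionField k K) (V : ValuationSubring K)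
    (hk : Set.range (algebraMap k K) ⊆ V) [Algebra k V] [IsScalarTower k V K]
    (a : V) (ha : a ≠ 0) : Module.Finite k (V ⧸ Ideal.span {a}) := by
  classical
  by_cases hak : (a : K) ∈ Set.range (algebraMap k K)
  · obtain ⟨c, hc⟩ := hak
    have hu : IsUnit a := by
      have hac : a = algebraMap k V c := Subtype.ext (by rw [← hc, IsScalarTower.algebraMap_apply k V K]; rfl)
      have hc0 : c ≠ 0 := fun h => ha (by rw [hac, h, map_zero])
      rw [hac]; exact (isUnit_iff_ne_zero.2 hc0).map _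
    haveI : Subsingleton (V ⧸ Ideal.span {a}) :=
      Ideal.Quotient.subsingleton_iff.2 (Ideal.span_singleton_eq_top.2 hu)
    exact Module.Finite.of_finite
  have htr := transcendental_of_not_mem hK hak
  haveI := finiteDimensional_adjoin hK htr
  refine Module.rank_lt_aleph0_iff.1
    ((rank_le (R := k) (n := Module.finrank k⟮(a : K)⟯ K) fun s hs => ?_).trans_lt Cardinal.natCast_lt_aleph0)
  choose z hz using fun q : s => Ideal.Quotient.mk_surjective (I := Ideal.span {a}) q.1
  obtain ⟨R, hR⟩ := valSubring_mem_of_range (k := k) hk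
  have hli := linearIndependent_adjoin_of_mod R ((hR _).2 a.2) htr (fun q => (z q : K))
    (fun q => (hR _).2 (z q).2) ?_
  · simpa using hli.fintype_card_le_finrank
  · rintro c ⟨r, hr, hcr⟩
    have h1 : ∑ q, c q • z q = a * ⟨r, (hR _).1 hr⟩ := by
      apply Subtype.ext
      simpa [Algebra.smul_def, IsScalarTower.algebraMap_apply k V K] using hcr
    have h2 : ∑ q, c q • (q : V ⧸ Ideal.span {a}) = 0 := by
      have := congrArg (Ideal.Quotient.mkₐ k (Ideal.span {a})) h1
      simp only [map_sum, map_smul, Ideal.Quotient.mkₐ_eq_mk, hz, map_mul,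
        Ideal.Quotient.mk_singleton_self, zero_mul] at this
      exact this
    funext q
    exact Fintype.linearIndependent_iff.1 hs c h2 q

/-- A valuation ring of `K` containing `k`, other than `K`, comes from a place. -/
lemma exists_place_of_valuationSubring (hK : IsFunctionField k K) (V : ValuationSubring K)
    (hk : Set.range (algebraMap k K) ⊆ V) (hV : V ≠ ⊤) :
    ∃ P : Place k K, ∀ x : K, x ∈ V ↔ P.1 x ≤ 1 := by
  classical
  letI : Algebra k V := ((algebraMap k K).codRestrict V.toSubring fun c => hk ⟨c, rfl⟩).toAlgebra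
  haveI : IsScalarTower k V K := IsScalarTower.of_algebraMap_eq fun _ => rfl
  haveI : IsNoetherianRing V := isNoetherianRing_iff_ideal_fg _ |>.2 fun I => by
    by_cases hI : I = ⊥
    · exact hI ▸ Submodule.fg_bot
    obtain ⟨a, haI, ha⟩ := Submodule.exists_mem_ne_zero_of_ne_bot hI
    haveI := finite_quot_valuationSubring hK V hk a ha
    haveI : IsNoetherian V (V ⧸ Ideal.span {a}) :=
      isNoetherian_of_tower k (inferInstance : IsNoetherian k (V ⧸ Ideal.span {a}))
    refine Submodule.fg_of_fg_map_of_fg_inf_ker (Submodule.mkQ (Ideal.span {a})) (IsNoetherian.noetherian _) ?_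
    rw [Submodule.ker_mkQ, inf_eq_right.2 (Ideal.span_le.2 (Set.singleton_subset_iff.2 haI))]
    exact Submodule.fg_span_singleton a
  have hnf : ¬ IsField V := fun hf => hV (by
    ext x
    refine iff_of_true ?_ trivial
    rcases V.mem_or_inv_mem x with h | h
    · exact h
    · by_cases h0 : x = 0
      · simp [h0]
      obtain ⟨y, hy⟩ := hf.mul_inv_cancel (a := ⟨x⁻¹, h⟩) (fun he => inv_ne_zero h0 (congrArg Subtype.val he))
      have : (y : K) = x := by
        have hy' : x⁻¹ * (y : K) = 1 := congrArg Subtype.val hy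
        field_simp at hy'
        exact hy'
      exact this ▸ y.2)
  haveI : IsPrincipalIdealRing V := IsPrincipalIdealRing.of_isNoetherianRing_of_isBezout
  haveI : IsDiscreteValuationRing V :=
    { not_a_field' := fun h => hnf (IsLocalRing.isField_iff_maximalIdeal_eq.2 h) }
  let v := (IsDiscreteValuationRing.maximalIdeal V).valuation K
  have hle : ∀ y : V, v (algebraMap V K y) ≤ 1 := fun y => IsDedekindDomain.HeightOneSpectrum.valuation_le_one _ y
  have hcoe : ∀ y : V, algebraMap V K y = (y : K) := fun _ => rfl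
  have hkle : ∀ c : k, v (algebraMap k K c) ≤ 1 := fun c => by
    have h := hle (algebraMap k V c)
    rw [← IsScalarTower.algebraMap_apply k V K c] at h
    exact h
  have hsurj : Function.Surjective v := IsDedekindDomain.HeightOneSpectrum.valuation_surjective _ _
  refine ⟨⟨v, hkle, hsurj⟩, fun x => ⟨fun hx => ?_, fun hx => ?_⟩⟩
  · have h := hle ⟨x, hx⟩
    rw [hcoe] at h
    exact h
  · obtain ⟨y, hy⟩ := IsDiscreteValuationRing.exists_lift_of_le_one (A := V) hx
    rw [← hy, hcoe]
    exact y.2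

/-- A transcendental element has a zero. -/
lemma exists_zero (hK : IsFunctionField k K) {x : K} (hx : Transcendental k x) :
    ∃ P : Place k K, P.1 x < 1 := by
  classical
  let A : Subring K := (Polynomial.aeval (R := k) x).range.toSubring
  have hxA : x ∈ A := ⟨Polynomial.X, by simp⟩
  let I : Ideal A := Ideal.span {⟨x, hxA⟩}
  have hI : I ≠ ⊤ := by
    rw [Ne, Ideal.span_singleton_eq_top, isUnit_iff_exists_inv]
    rintro ⟨⟨b, p, rfl⟩, hb⟩
    have h0 : Polynomial.aeval x (Polynomial.X * p - 1) = 0 := by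
      have hb' : x * Polynomial.aeval x p = 1 := congrArg Subtype.val hb
      simp [hb']
    have := transcendental_iff.1 hx _ h0
    have h1 := congrArg (Polynomial.eval 0) this
    simp at h1
  obtain ⟨V, hAV, hIV⟩ := I.image_subset_nonunits_valuationSubring hI
  have hk : Set.range (algebraMap k K) ⊆ V := by
    rintro _ ⟨c, rfl⟩
    exact hAV ⟨Polynomial.C c, by simp⟩
  have hxn : x ∈ V.nonunits := hIV ⟨⟨x, hxA⟩, Ideal.mem_span_singleton_self _, rfl⟩
  have hx0 : x ≠ 0 := fun h => hx (h ▸ isAlgebraic_zero)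
  have hxi : x⁻¹ ∉ V := by
    intro hinv
    rw [ValuationSubring.mem_nonunits_iff_exists_mem_maximalIdeal] at hxn
    obtain ⟨hxV, hm⟩ := hxn
    exact hm (isUnit_iff_exists_inv.2 ⟨⟨x⁻¹, hinv⟩, Subtype.ext (mul_inv_cancel₀ hx0)⟩)
  have hV : V ≠ ⊤ := fun h => hxi (h ▸ trivial)
  obtain ⟨P, hP⟩ := exists_place_of_valuationSubring hK V hk hV
  refine ⟨P, (v_lt_one_iff P hx0).2 ?_⟩
  have h1 : ¬ P.1 x⁻¹ ≤ 1 := fun h => hxi ((hP _).2 h)
  rw [v_le_one_iff P (inv_ne_zero hx0), ord_inv] at h1
  omega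

section approximation

lemma exists_sep_gt_lt {P Q : Place k K} (h : P ≠ Q) : ∃ u : K, u ≠ 0 ∧ P.ord u < 0 ∧ 0 < Q.ord u := by
  obtain ⟨a, ha, ha'⟩ := exists_sep P h
  obtain ⟨b, hb, hb'⟩ := exists_sep Q h.symm
  have ha0 : a ≠ 0 := fun h0 => by simp [h0] at ha'
  have hb0 : b ≠ 0 := fun h0 => by simp [h0] at hb'
  rw [v_le_one_iff P ha0] at ha
  rw [v_le_one_iff Q hb0] at hb
  have ha'' : Q.ord a < 0 := not_le.1 fun h0 => not_le.2 ha' ((v_le_one_iff Q ha0).2 h0)
  have hb'' : P.ord b < 0 := not_le.1 fun h0 => not_le.2 hb' ((v_le_one_iff P hb0).2 h0)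
  refine ⟨b * a⁻¹, mul_ne_zero hb0 (inv_ne_zero ha0), ?_, ?_⟩
  · rw [ord_mul P hb0 (inv_ne_zero ha0), ord_inv]; omega
  · rw [ord_mul Q hb0 (inv_ne_zero ha0), ord_inv]; omega

lemma ord_one_add_of_neg (P : Place k K) {w : K} (h : P.ord w < 0) :
    1 + w ≠ 0 ∧ P.ord (1 + w) = P.ord w := by
  have hw : w ≠ 0 := fun h0 => by simp [h0, ord_zero] at h
  have hlt : P.1 1 < P.1 w := by
    rw [map_one]
    exact not_le.1 fun hh => absurd ((v_le_one_iff P hw).1 hh) (by omega)
  have hv : P.1 (1 + w) = P.1 w := by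
    rw [add_comm]; exact P.1.map_add_eq_of_lt_left hlt
  refine ⟨fun h0 => ?_, by simp [Place.ord, hv]⟩
  rw [h0, map_zero] at hv
  exact hw ((map_eq_zero P.1).1 hv.symm)

lemma ord_one_add_of_pos (P : Place k K) {w : K} (hw : w ≠ 0) (h : 0 < P.ord w) :
    1 + w ≠ 0 ∧ P.ord (1 + w) = 0 := by
  have hv : P.1 (1 + w) = 1 := by
    rw [P.1.map_add_eq_of_lt_left (by rw [map_one]; exact (v_lt_one_iff P hw).2 h), map_one]
  exact ⟨fun h0 => by simp [h0] at hv, by simp [Place.ord, hv]⟩

lemma exists_gt_lt (P : Place k K) (S : Finset (Place k K)) (hP : P ∉ S) :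
    ∃ u : K, u ≠ 0 ∧ P.ord u < 0 ∧ ∀ Q ∈ S, 0 < Q.ord u := by
  classical
  induction S using Finset.induction_on with
  | empty =>
    obtain ⟨t, h0, ht⟩ := exists_ord_eq P (-1)
    exact ⟨t, h0, by omega, by simp⟩
  | @insert Q S hQS ih =>
    simp only [Finset.mem_insert, not_or] at hP
    obtain ⟨u, hu0, huP, huS⟩ := ih hP.2
    obtain ⟨w, hw0, hwP, hwQ⟩ := exists_sep_gt_lt hP.1
    rcases lt_trichotomy (Q.ord u) 0 with hQu | hQu | hQu
    · let B := S.sup fun R : Place k K => (R.ord w).natAbs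
      have hu' : ∀ r : ℕ, u ^ (r + 1) ≠ 0 := fun r => pow_ne_zero _ hu0
      set r := B + 1
      have hP1 := ord_one_add_of_neg P (w := u ^ r) (by rw [ord_pow]; exact mul_neg_of_pos_of_neg (by positivity) huP)
      have hQ1 := ord_one_add_of_neg Q (w := u ^ r) (by rw [ord_pow]; exact mul_neg_of_pos_of_neg (by positivity) hQu)
      have hur : u ^ r / (1 + u ^ r) ≠ 0 := div_ne_zero (pow_ne_zero _ hu0) hP1.1
      have hord : ∀ R : Place k K, R.ord (u ^ r / (1 + u ^ r) * w) = r * R.ord u - R.ord (1 + u ^ r) + R.ord w := by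
        intro R
        rw [ord_mul R hur hw0, div_eq_mul_inv, ord_mul R (pow_ne_zero _ hu0) (inv_ne_zero hP1.1), ord_inv, ord_pow]
        ring
      refine ⟨u ^ r / (1 + u ^ r) * w, mul_ne_zero hur hw0, ?_, ?_⟩
      · rw [hord, hP1.2, ord_pow]; omega
      · intro R hR
        rw [hord]
        rcases Finset.mem_insert.1 hR with rfl | hR
        · rw [hQ1.2, ord_pow]; omega
        · have hRu := huS R hR
          have hB : (R.ord w).natAbs ≤ B := Finset.le_sup (f := fun R : Place k K => (R.ord w).natAbs) hR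
          have hr : (r : ℤ) ≤ r * R.ord u := le_mul_of_one_le_right (by positivity) hRu
          rw [(ord_one_add_of_pos R (pow_ne_zero r hu0) (by rw [ord_pow]; positivity)).2]
          omega
    · let B := (insert P S).sup fun R : Place k K => (R.ord w).natAbs
      refine ⟨u ^ (B + 1) * w, mul_ne_zero (pow_ne_zero _ hu0) hw0, ?_, ?_⟩
      · have hB : (P.ord w).natAbs ≤ B := Finset.le_sup (f := fun R : Place k K => (R.ord w).natAbs) (Finset.mem_insert_self _ _)
        rw [ord_mul P (pow_ne_zero _ hu0) hw0, ord_pow]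
        have : ((B + 1 : ℕ) : ℤ) * P.ord u ≤ -((B + 1 : ℕ) : ℤ) := by nlinarith
        omega
      · intro R hR
        rw [ord_mul R (pow_ne_zero _ hu0) hw0, ord_pow]
        rcases Finset.mem_insert.1 hR with rfl | hR
        · rw [hQu]; omega
        · have hB : (R.ord w).natAbs ≤ B :=
            Finset.le_sup (f := fun R : Place k K => (R.ord w).natAbs) (Finset.mem_insert_of_mem hR)
          have : ((B + 1 : ℕ) : ℤ) ≤ ((B + 1 : ℕ) : ℤ) * R.ord u :=
            le_mul_of_one_le_right (by positivity) (huS R hR)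
          omega
    · refine ⟨u, hu0, huP, fun R hR => ?_⟩
      rcases Finset.mem_insert.1 hR with rfl | hR
      exacts [hQu, huS R hR]

/-- Weak approximation. -/
lemma approx (S : Finset (Place k K)) (x : Place k K → K) (m : Place k K → ℤ) :
    ∃ z : K, ∀ P ∈ S, P.1 (z - x P) ≤ WithZero.exp (m P) := by
  classical
  choose u hu0 huP huQ using fun P : Place k K => exists_gt_lt P (S.erase P) (Finset.notMem_erase _ _)
  let C : ℕ := (S ×ˢ S).sup fun p => (p.1.ord (x p.2)).natAbs + (m p.1).natAbs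
  set r : ℕ := 2 * C + 1
  let e : Place k K → K := fun P => u P ^ r / (1 + u P ^ r)
  have key : ∀ P ∈ S, ∀ Q ∈ S,
      P.1 ((if Q = P then e Q - 1 else e Q) * x Q) ≤ WithZero.exp (m P) := by
    intro P hP Q hQ
    rcases eq_or_ne (x Q) 0 with hx | hx
    · simp [hx]
    have hC : (P.ord (x Q)).natAbs + (m P).natAbs ≤ C :=
      Finset.le_sup (f := fun p : Place k K × Place k K => (p.1.ord (x p.2)).natAbs + (m p.1).natAbs)
        (Finset.mem_product.2 ⟨hP, hQ⟩ : (P, Q) ∈ S ×ˢ S)
    have hne := (ord_one_add_of_neg Q (w := u Q ^ r) (by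
      rw [ord_pow]; exact mul_neg_of_pos_of_neg (by positivity) (huP Q))).1
    split_ifs with h
    · subst h
      have h1 : e Q - 1 = -(1 + u Q ^ r)⁻¹ := by
        simp only [e]; field_simp; ring
      rw [h1, neg_mul, Valuation.map_neg, v_le_exp_iff Q (mul_ne_zero (inv_ne_zero hne) hx),
        ord_mul Q (inv_ne_zero hne) hx, ord_inv, (ord_one_add_of_neg Q (w := u Q ^ r) (by
          rw [ord_pow]; exact mul_neg_of_pos_of_neg (by positivity) (huP Q))).2, ord_pow]
      have : (r : ℤ) * Q.ord (u Q) ≤ -(r : ℤ) := by nlinarith [huP Q]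
      omega
    · have hPu := huQ Q P (Finset.mem_erase.2 ⟨Ne.symm h, hP⟩)
      have he0 : e Q ≠ 0 := div_ne_zero (pow_ne_zero _ (hu0 Q)) hne
      rw [v_le_exp_iff P (mul_ne_zero he0 hx), ord_mul P he0 hx]
      simp only [e, div_eq_mul_inv]
      rw [ord_mul P (pow_ne_zero _ (hu0 Q)) (inv_ne_zero hne), ord_inv,
        (ord_one_add_of_pos P (pow_ne_zero r (hu0 Q)) (by rw [ord_pow]; positivity)).2, ord_pow]
      have : (r : ℤ) ≤ (r : ℤ) * P.ord (u Q) := le_mul_of_one_le_right (by positivity) hPu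
      omega
  refine ⟨∑ Q ∈ S, e Q * x Q, fun P hP => ?_⟩
  have : ∑ Q ∈ S, e Q * x Q - x P = ∑ Q ∈ S, (if Q = P then e Q - 1 else e Q) * x Q := by
    rw [← Finset.add_sum_erase _ _ hP, ← Finset.add_sum_erase _ _ hP, if_pos rfl, Finset.sum_congr rfl
      (fun Q hQ => by rw [if_neg (Finset.ne_of_mem_erase hQ)] :
        ∀ Q ∈ S.erase P, (if Q = P then e Q - 1 else e Q) * x Q = e Q * x Q)]
    ring
  rw [this]
  exact P.1.map_sum_le fun Q hQ => key P hP Q hQ

end approximation

end Groth.Agent.FF
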