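import Mathlib
import Groth.Prelude.Def_W4bk4goldsch23FF
import Groth.Prelude.Def_LocRes
import Groth.Agent.FF.Laurent
import Groth.Agent.FF.Places
import Groth.Agent.FF.Divisors

/-! Laurent expansions at places with separable residue field. -/

set_option autoImplicit false

namespace Groth.Agent.FF

open FunFld
open scoped WithZero

universe u v w

variable {k : Type u} {K : Type v} [Field k] [Field K] [Algebra k K]

lemma exists_unif (P : Place k K) : ∃ t : K, P.1 t = WithZero.exp (-1) := P.2.2 _

lemma v_coe_O (P : Place k K) (z : P.O) : P.1 (z : K) ≤ 1 := z.2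

instance instTowerO (P : Place k K) : IsScalarTower k P.O K := IsScalarTower.of_algebraMap_eq fun _ => rfl

lemma v_lt_one_iff_le_exp (P : Place k K) (x : K) : P.1 x < 1 ↔ P.1 x ≤ WithZero.exp (-1) := by
  rcases eq_or_ne x 0 with rfl | hx
  · simp
  · rw [v_lt_one_iff P hx, v_le_exp_iff P hx]
    omega

section construction

variable (P : Place k K) {t : K} (ht : P.1 t = WithZero.exp (-1))

/-- The uniformizer as an element of the valuation ring. -/
def unifO : P.O := ⟨t, show P.1 t ≤ 1 by rw [ht, ← WithZero.exp_zero, WithZero.exp_le_exp]; omega⟩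

lemma mem_span_unif_pow (z : P.O) (n : ℕ) :
    z ∈ Ideal.span {unifO P ht ^ n} ↔ P.1 (z : K) ≤ WithZero.exp (-(n : ℤ)) := by
  have hn : P.1 (t ^ n) = WithZero.exp (-(n : ℤ)) := by
    rw [map_pow, ht, ← WithZero.exp_nsmul]
    congr 1; simp
  rw [Ideal.mem_span_singleton]
  constructor
  · rintro ⟨c, rfl⟩
    change P.1 ((unifO P ht : K) ^ n * (c : K)) ≤ _
    rw [map_mul, show (unifO P ht : K) = t from rfl, hn]
    exact mul_le_of_le_one_right' c.2
  · intro h
    have h0 : t ^ n ≠ 0 := fun h0 => by rw [h0, map_zero] at hn; exact WithZero.exp_ne_zero hn.symm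
    refine ⟨⟨(z : K) / t ^ n, show P.1 ((z : K) / t ^ n) ≤ 1 by
      rw [map_div₀, hn]; exact (div_le_one₀ WithZero.exp_pos).2 h⟩, Subtype.ext ?_⟩
    change (z : K) = t ^ n * ((z : K) / t ^ n)
    rw [mul_div_cancel₀ _ h0]

/-- `O/(t^(n+1))`. -/
abbrev Trunc (n : ℕ) : Type v := P.O ⧸ Ideal.span {unifO P ht ^ (n + 1)}

/-- The residue map of a truncation. -/
noncomputable def truncRes (n : ℕ) : Trunc P ht n →ₐ[k] IsLocalRing.ResidueField P.O :=
  Ideal.Quotient.liftₐ _ (AlgHom.mk (IsLocalRing.residue P.O) fun _ => rfl) fun z hz => by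
    refine (residue_eq_zero_iff (P := P) z).2 ?_
    rw [mem_span_unif_pow] at hz
    exact lt_of_le_of_lt hz (by rw [← WithZero.exp_zero, WithZero.exp_lt_exp]; omega)

lemma truncRes_mk (n : ℕ) (z : P.O) : truncRes P ht n (Ideal.Quotient.mk _ z) = IsLocalRing.residue P.O z := rfl

lemma truncRes_surjective (n : ℕ) : Function.Surjective (truncRes P ht n) := fun a => by
  obtain ⟨z, rfl⟩ := IsLocalRing.residue_surjective a
  exact ⟨Ideal.Quotient.mk _ z, rfl⟩

lemma ker_truncRes_le (n : ℕ) : RingHom.ker (truncRes P ht n).toRingHom ≤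
    Ideal.span {Ideal.Quotient.mk _ (unifO P ht)} := by
  intro a ha
  obtain ⟨z, rfl⟩ := Ideal.Quotient.mk_surjective a
  have h1 : IsLocalRing.residue P.O z = 0 := ha
  rw [residue_eq_zero_iff, v_lt_one_iff_le_exp] at h1
  have h2 : z ∈ Ideal.span {unifO P ht ^ 1} := (mem_span_unif_pow P ht z 1).2 (by simpa using h1)
  rw [pow_one] at h2
  have h3 := Ideal.mem_map_of_mem (Ideal.Quotient.mk (Ideal.span {unifO P ht ^ (n + 1)})) h2
  rwa [Ideal.map_span, Set.image_singleton] at h3

lemma mk_unif_pow (n : ℕ) : (Ideal.Quotient.mk _ (unifO P ht) : Trunc P ht n) ^ (n + 1) = 0 := by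
  rw [← map_pow, Ideal.Quotient.eq_zero_iff_mem]
  exact Ideal.mem_span_singleton_self _

lemma isNilpotent_ker_truncRes (n : ℕ) :
    IsNilpotent (RingHom.ker (truncRes P ht n : Trunc P ht n →+* IsLocalRing.ResidueField P.O)) := by
  refine ⟨n + 1, ?_⟩
  rw [Ideal.zero_eq_bot, eq_bot_iff]
  refine (Ideal.pow_right_mono (ker_truncRes_le P ht n) _).trans ?_
  rw [Ideal.span_singleton_pow, mk_unif_pow, Ideal.span_singleton_eq_bot.2 rfl]

/-- Truncating further. -/
noncomputable def truncFac {m n : ℕ} (h : m ≤ n) : Trunc P ht n →ₐ[k] Trunc P ht m :=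
  Ideal.Quotient.factorₐ k (Ideal.span_singleton_le_span_singleton.2 (pow_dvd_pow _ (by omega)))

variable [Algebra.IsSeparable k (IsLocalRing.ResidueField P.O)]

/-- The Teichmüller-like section of the residue map of a truncation. -/
noncomputable def sec (n : ℕ) : IsLocalRing.ResidueField P.O →ₐ[k] Trunc P ht n :=
  haveI : Algebra.FormallyEtale k (IsLocalRing.ResidueField P.O) := Algebra.FormallyEtale.of_isSeparable _ _
  Algebra.FormallySmooth.liftOfSurjective (AlgHom.id k _) (truncRes P ht n) (truncRes_surjective P ht n)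
    (isNilpotent_ker_truncRes P ht n)

lemma truncRes_sec (n : ℕ) (a : IsLocalRing.ResidueField P.O) : truncRes P ht n (sec P ht n a) = a := by
  haveI : Algebra.FormallyEtale k (IsLocalRing.ResidueField P.O) := Algebra.FormallyEtale.of_isSeparable _ _
  exact Algebra.FormallySmooth.liftOfSurjective_apply (AlgHom.id k _) (truncRes P ht n)
    (truncRes_surjective P ht n) (isNilpotent_ker_truncRes P ht n) a

lemma truncFac_sec {m n : ℕ} (h : m ≤ n) (a : IsLocalRing.ResidueField P.O) :
    truncFac P ht h (sec P ht n a) = sec P ht m a := by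
  haveI : Algebra.FormallyEtale k (IsLocalRing.ResidueField P.O) := Algebra.FormallyEtale.of_isSeparable _ _
  refine DFunLike.congr_fun (Algebra.FormallyUnramified.lift_unique' (truncRes P ht m)
    (isNilpotent_ker_truncRes P ht m) ((truncFac P ht h).comp (sec P ht n)) (sec P ht m) (AlgHom.ext fun b => ?_)) a
  simp only [AlgHom.comp_apply]
  rw [truncRes_sec P ht m b]
  obtain ⟨z, hz⟩ := Ideal.Quotient.mk_surjective (sec P ht n b)
  have h2 := truncRes_sec P ht n b
  rw [← hz, truncRes_mk] at h2
  rw [← hz]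
  exact h2

/-- Evaluation of a polynomial in the truncation. -/
noncomputable def pev (n : ℕ) : Polynomial (IsLocalRing.ResidueField P.O) →+* Trunc P ht n :=
  Polynomial.eval₂RingHom (sec P ht n).toRingHom (Ideal.Quotient.mk _ (unifO P ht))

lemma pev_trunc (n : ℕ) (R : Polynomial (IsLocalRing.ResidueField P.O)) :
    pev P ht n (PowerSeries.trunc (n + 1) (R : PowerSeries (IsLocalRing.ResidueField P.O))) = pev P ht n R := by
  have h : (Polynomial.X : Polynomial (IsLocalRing.ResidueField P.O)) ^ (n + 1) ∣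
      R - PowerSeries.trunc (n + 1) (R : PowerSeries (IsLocalRing.ResidueField P.O)) := by
    rw [Polynomial.X_pow_dvd_iff]
    intro d hd
    rw [Polynomial.coeff_sub, PowerSeries.coeff_trunc, if_pos hd, Polynomial.coeff_coe, sub_self]
  obtain ⟨c, hc⟩ := h
  have := congrArg (pev P ht n) hc
  rw [map_sub, map_mul, map_pow, show pev P ht n Polynomial.X = Ideal.Quotient.mk _ (unifO P ht) from
    Polynomial.eval₂_X _ _, mk_unif_pow, zero_mul, sub_eq_zero] at this
  exact this.symm

/-- Evaluation of a power series in the truncation. -/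
noncomputable def ev (n : ℕ) : PowerSeries (IsLocalRing.ResidueField P.O) →+* Trunc P ht n where
  toFun p := pev P ht n (PowerSeries.trunc (n + 1) p)
  map_one' := by rw [← Polynomial.coe_one, pev_trunc, map_one]
  map_zero' := by rw [← Polynomial.coe_zero, pev_trunc, map_zero]
  map_add' p q := by rw [map_add, map_add]
  map_mul' p q := by
    rw [← PowerSeries.trunc_trunc_mul_trunc, ← Polynomial.coe_mul, pev_trunc, map_mul]

lemma ev_coe (n : ℕ) (R : Polynomial (IsLocalRing.ResidueField P.O)) :
    ev P ht n (R : PowerSeries (IsLocalRing.ResidueField P.O)) = pev P ht n R := pev_trunc P ht n R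

lemma ev_C (n : ℕ) (a : IsLocalRing.ResidueField P.O) : ev P ht n (PowerSeries.C a) = sec P ht n a := by
  rw [← Polynomial.coe_C, ev_coe]
  exact Polynomial.eval₂_C _ _

lemma ev_X (n : ℕ) : ev P ht n PowerSeries.X = Ideal.Quotient.mk _ (unifO P ht) := by
  rw [← Polynomial.coe_X, ev_coe]
  exact Polynomial.eval₂_X _ _

lemma truncFac_pev {m n : ℕ} (h : m ≤ n) (R : Polynomial (IsLocalRing.ResidueField P.O)) :
    truncFac P ht h (pev P ht n R) = pev P ht m R := by
  have : (truncFac P ht h).toRingHom.comp (pev P ht n) = pev P ht m := by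
    refine Polynomial.ringHom_ext (fun a => ?_) ?_
    · simp only [RingHom.comp_apply, pev, Polynomial.coe_eval₂RingHom, Polynomial.eval₂_C]
      exact truncFac_sec P ht h a
    · simp only [RingHom.comp_apply, pev, Polynomial.coe_eval₂RingHom, Polynomial.eval₂_X]
      rfl
  exact RingHom.congr_fun this R

lemma truncFac_ev {m n : ℕ} (h : m ≤ n) (p : PowerSeries (IsLocalRing.ResidueField P.O)) :
    truncFac P ht h (ev P ht n p) = ev P ht m p := by
  change truncFac P ht h (pev P ht n (PowerSeries.trunc (n + 1) p)) = pev P ht m (PowerSeries.trunc (m + 1) p)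
  rw [truncFac_pev, ← pev_trunc]
  congr 1
  ext d
  simp only [PowerSeries.coeff_trunc, Polynomial.coeff_coe]
  split_ifs <;> first | rfl | omega

lemma coeff_eq_of_ev_eq {n : ℕ} {p q : PowerSeries (IsLocalRing.ResidueField P.O)} (h : ev P ht n p = ev P ht n q)
    {d : ℕ} (hd : d ≤ n) : PowerSeries.coeff d p = PowerSeries.coeff d q := by
  rw [← sub_eq_zero, ← map_sub] at h ⊢
  set r := p - q
  rcases eq_or_ne r 0 with hr | hr
  · rw [hr, map_zero]
  refine PowerSeries.coeff_of_lt_order _ ?_
  rw [← PowerSeries.X_pow_order_mul_divXPowOrder (f := r), map_mul, map_pow, ev_X] at h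
  have hu : IsUnit (ev P ht n r.divXPowOrder) := by
    refine IsUnit.map _ (PowerSeries.isUnit_iff_constantCoeff.2 (isUnit_iff_ne_zero.2 ?_))
    exact fun h0 => hr (PowerSeries.constantCoeff_divXPowOrder_eq_zero_iff.1 h0)
  rw [hu.mul_left_eq_zero, ← map_pow, Ideal.Quotient.eq_zero_iff_mem, mem_span_unif_pow] at h
  rw [show ((unifO P ht ^ r.order.toNat : P.O) : K) = t ^ r.order.toNat from rfl, map_pow, ht,
    ← WithZero.exp_nsmul, WithZero.exp_le_exp] at h
  simp only [smul_neg, nsmul_eq_mul, mul_one, neg_le_neg_iff] at h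
  have h' : n + 1 ≤ r.order.toNat := by exact_mod_cast h
  rw [← ENat.coe_toNat (n := r.order) (fun h => hr (PowerSeries.order_eq_top.1 h))]
  exact_mod_cast (by omega : d < r.order.toNat)

lemma ev_surjective (n : ℕ) : Function.Surjective (ev P ht n) := by
  set R := (ev P ht n).range
  have hstep : ∀ z : Trunc P ht n, ∀ j, ∃ r ∈ R, ∃ c, z = r + Ideal.Quotient.mk _ (unifO P ht) ^ j * c := by
    intro z j
    induction j with
    | zero => exact ⟨0, R.zero_mem, z, by simp⟩
    | succ j ih =>
      obtain ⟨r, hr, c, rfl⟩ := ih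
      have hc : c - sec P ht n (truncRes P ht n c) ∈ RingHom.ker (truncRes P ht n).toRingHom := by
        rw [RingHom.mem_ker]
        change truncRes P ht n (c - sec P ht n (truncRes P ht n c)) = 0
        rw [map_sub, truncRes_sec, sub_self]
      obtain ⟨d, hd⟩ := Ideal.mem_span_singleton.1 (ker_truncRes_le P ht n hc)
      refine ⟨r + Ideal.Quotient.mk _ (unifO P ht) ^ j * sec P ht n (truncRes P ht n c), ?_, d, ?_⟩
      · exact R.add_mem hr (R.mul_mem (pow_mem (⟨_, ev_X P ht n⟩ : _ ∈ R) j) ⟨_, ev_C P ht n _⟩)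
      · conv_lhs => rw [sub_eq_iff_eq_add.1 hd]
        ring
  intro z
  obtain ⟨r, hr, c, rfl⟩ := hstep z (n + 1)
  rw [mk_unif_pow, zero_mul, add_zero]
  exact hr

lemma exists_unique_series (z : P.O) :
    ∃! p : PowerSeries (IsLocalRing.ResidueField P.O), ∀ n, ev P ht n p = Ideal.Quotient.mk _ z := by
  choose p hp using fun n => ev_surjective P ht n (Ideal.Quotient.mk _ z)
  refine ⟨PowerSeries.mk fun d => PowerSeries.coeff d (p d), fun n => ?_, fun q hq => ?_⟩
  · rw [← hp n]
    change pev P ht n (PowerSeries.trunc (n + 1) _) = pev P ht n (PowerSeries.trunc (n + 1) _)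
    congr 1
    ext d
    simp only [PowerSeries.coeff_trunc, PowerSeries.coeff_mk]
    split_ifs with hd
    · refine coeff_eq_of_ev_eq P ht (n := d) ?_ le_rfl
      rw [hp, ← truncFac_ev P ht (show d ≤ n by omega) (p n), hp]
      rfl
    · rfl
  · ext d
    rw [PowerSeries.coeff_mk]
    exact coeff_eq_of_ev_eq P ht (by rw [hq, hp]) le_rfl

/-- The expansion of an element of the valuation ring. -/
noncomputable def series (z : P.O) : PowerSeries (IsLocalRing.ResidueField P.O) :=
  (exists_unique_series P ht z).exists.choose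

lemma ev_series (z : P.O) (n : ℕ) : ev P ht n (series P ht z) = Ideal.Quotient.mk _ z :=
  (exists_unique_series P ht z).exists.choose_spec n

lemma series_eq {z : P.O} {p : PowerSeries (IsLocalRing.ResidueField P.O)}
    (h : ∀ n, ev P ht n p = Ideal.Quotient.mk _ z) : series P ht z = p :=
  (exists_unique_series P ht z).unique (ev_series P ht z) h

/-- The expansion as a ring homomorphism. -/
noncomputable def seriesHom : P.O →+* PowerSeries (IsLocalRing.ResidueField P.O) where
  toFun := series P ht
  map_one' := series_eq P ht fun n => by rw [map_one, map_one]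
  map_zero' := series_eq P ht fun n => by rw [map_zero, map_zero]
  map_add' a b := series_eq P ht fun n => by rw [map_add, map_add, ev_series, ev_series]
  map_mul' a b := series_eq P ht fun n => by rw [map_mul, map_mul, ev_series, ev_series]

lemma series_injective : Function.Injective (seriesHom P ht) := by
  rw [injective_iff_map_eq_zero]
  intro z hz
  by_contra hne
  have hz0 : (z : K) ≠ 0 := fun h => hne (Subtype.ext h)
  have h := ev_series P ht z (P.ord (z : K)).natAbs
  rw [show series P ht z = 0 from hz, map_zero] at h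
  have h2 := (mem_span_unif_pow P ht z _).1 (Ideal.Quotient.eq_zero_iff_mem.1 h.symm)
  rw [v_le_exp_iff P hz0] at h2
  push_cast at h2
  have h3 := (v_le_one_iff P hz0).1 z.2
  rw [abs_of_nonneg h3] at h2
  omega

lemma constantCoeff_series (z : P.O) :
    PowerSeries.constantCoeff (seriesHom P ht z) = IsLocalRing.residue P.O z := by
  have h := congrArg (truncRes P ht 0) (ev_series P ht z 0)
  rw [truncRes_mk] at h
  rw [← h]
  change _ = truncRes P ht 0 (pev P ht 0 (PowerSeries.trunc (0 + 1) (series P ht z)))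
  rw [show PowerSeries.trunc (0 + 1) (series P ht z) =
      Polynomial.C (PowerSeries.constantCoeff (series P ht z)) from by rw [zero_add, PowerSeries.trunc_one_left, PowerSeries.coeff_zero_eq_constantCoeff]]
  rw [show pev P ht 0 (Polynomial.C (PowerSeries.constantCoeff (series P ht z))) =
    sec P ht 0 (PowerSeries.constantCoeff (series P ht z)) from Polynomial.eval₂_C _ _, truncRes_sec]
  rfl

include ht in
/-- An expansion in a given local parameter exists. -/
theorem exists_expansion :
    ∃ φ : K →ₐ[k] LaurentSeries (IsLocalRing.ResidueField P.O), LocRes.IsExpansionAt P.1 φ ∧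
      φ t = HahnSeries.single 1 1 ∧ ∀ z : P.O, (φ (z : K)).coeff 0 = IsLocalRing.residue P.O z := by
  set κ := IsLocalRing.ResidueField P.O
  let Ψ : P.O →+* LaurentSeries κ := (HahnSeries.ofPowerSeries ℤ κ).comp (seriesHom P ht)
  have hΨ : Function.Injective Ψ := HahnSeries.ofPowerSeries_injective.comp (series_injective P ht)
  let Φ : K →+* LaurentSeries κ := IsFractionRing.lift hΨ
  have hΦ : ∀ z : P.O, Φ (z : K) = ((seriesHom P ht z : PowerSeries κ) : LaurentSeries κ) :=
    fun z => IsFractionRing.lift_algebraMap hΨ z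
  have hcomm : ∀ c : k, Φ (algebraMap k K c) = algebraMap k (LaurentSeries κ) c := by
    intro c
    change Φ ((algebraMap k P.O c : P.O) : K) = _
    rw [hΦ, show seriesHom P ht (algebraMap k P.O c) = PowerSeries.C (algebraMap k κ c) from
      series_eq P ht (fun n => by rw [ev_C, AlgHom.commutes]; rfl)]
    rw [HahnSeries.ofPowerSeries_C, HahnSeries.algebraMap_apply', PowerSeries.algebraMap_apply,
      HahnSeries.ofPowerSeries_C]
  let φ : K →ₐ[k] LaurentSeries κ := { toRingHom := Φ, commutes' := hcomm }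
  have hφ : ∀ z : P.O, φ (z : K) = ((seriesHom P ht z : PowerSeries κ) : LaurentSeries κ) := hΦ
  have hcoeff : ∀ z : P.O, (φ (z : K)).coeff 0 = IsLocalRing.residue P.O z := fun z => by
    rw [hφ, PowerSeries.coeff_coe]
    simp [constantCoeff_series P ht z]
  have hφt : φ t = HahnSeries.single 1 1 := by
    rw [show t = ((unifO P ht : P.O) : K) from rfl, hφ,
      show seriesHom P ht (unifO P ht) = PowerSeries.X from series_eq P ht fun n => ev_X P ht n,
      HahnSeries.ofPowerSeries_X]
  refine ⟨φ, ⟨fun f => ?_, fun a => ?_, t, ht⟩, hφt, hcoeff⟩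
  · rcases eq_or_ne f 0 with rfl | hf
    · simp
    have ht0 : t ≠ 0 := fun h => by rw [h, map_zero] at ht; exact WithZero.exp_ne_zero ht.symm
    set m := P.ord f
    set u := f * (t ^ m)⁻¹
    have htm : P.1 (t ^ m) = WithZero.exp (-m) := by
      rw [map_zpow₀, ht, ← WithZero.exp_zsmul]
      congr 1; simp
    have hu : P.1 u = 1 := by
      rw [map_mul, map_inv₀, htm, v_eq_exp P hf, mul_inv_cancel₀ WithZero.exp_ne_zero]
    have hc : (φ u).coeff 0 ≠ 0 := by
      rw [show u = ((⟨u, hu.le⟩ : P.O) : K) from rfl, hcoeff, Ne, residue_eq_zero_iff]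
      exact not_lt.2 hu.ge
    have hle : Valued.v (φ u) ≤ 1 := by
      rw [v_le_one_iff_coeff]
      intro d hd
      rw [show u = ((⟨u, hu.le⟩ : P.O) : K) from rfl, hφ, PowerSeries.coeff_coe, if_pos hd]
    have hv : Valued.v (φ u) = 1 := le_antisymm hle (le_of_not_gt fun h => hc (v_lt_one_iff_coeff.1 h 0 le_rfl))
    have he : f = u * t ^ m := by rw [inv_mul_cancel_right₀ (zpow_ne_zero _ ht0)]
    rw [he, map_mul, map_mul, map_zpow₀, hφt, map_mul P.1, hu, hv, one_mul, one_mul, htm,
      map_zpow₀, LaurentSeries.valuation_single_zpow, ← WithZero.exp_zsmul]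
    congr 1; simp
  · obtain ⟨z, rfl⟩ := IsLocalRing.residue_surjective a
    exact ⟨(z : K), z.2, hcoeff z⟩

end construction

end Groth.Agent.FF
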