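import Mathlib
import Groth.Agent.FF.Misc
import Groth.Prelude.Def_W4bk4goldsch23Ext

/-!
Places in finite extensions: the field of constants, restriction and extension of places,
the fundamental equality and the conorm.
-/

set_option linter.style.haveILetI false

namespace Groth.Agent.FF

open FunFld
open scoped WithZero IntermediateField

variable {k K K' : Type*} [Field k] [Field K] [Field K'] [Algebra k K] [Algebra K K'] [Algebra k K']
  [IsScalarTower k K K']

/-- Algebraic elements are integral at every place. -/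
lemma v_le_one_of_isAlgebraic (P : Place k K) {c : K} (hc : IsAlgebraic k c) : P.1 c ≤ 1 := by
  haveI : IsScalarTower k P.O K := IsScalarTower.of_algebraMap_eq fun _ => rfl
  have h : IsIntegral P.O c := hc.isIntegral.tower_top
  obtain ⟨y, hy⟩ := IsIntegrallyClosed.isIntegral_iff.1 h
  rw [← hy]
  exact y.2

lemma finrank_comp {F F' R : Type*} [Field F] [Field F'] [Algebra F F'] [CommRing R] [Algebra F R] [Algebra F' R]
    (h : ∀ c, algebraMap F R c = algebraMap F' R (algebraMap F F' c)) :
    Module.finrank F R = Module.finrank F F' * Module.finrank F' R := by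
  haveI : IsScalarTower F F' R := IsScalarTower.of_algebraMap_eq h
  exact (Module.finrank_mul_finrank F F' R).symm

section up

variable {k' : Type*} [Field k'] [Algebra k k'] [Algebra k' K'] [IsScalarTower k k' K'] [FiniteDimensional k k']

/-- A place over `k` as a place over a finite extension of `k` inside the field. -/
def upPlace (Q : Place k K') : Place k' K' :=
  ⟨Q.1, fun c => v_le_one_of_isAlgebraic Q ((Algebra.IsAlgebraic.isAlgebraic (R := k) c).algebraMap), Q.2.2⟩

omit [FiniteDimensional k k'] in
/-- A place over a bigger constant field as a place over `k`. -/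
def downPlace (Q : Place k' K') : Place k K' :=
  ⟨Q.1, fun c => by rw [IsScalarTower.algebraMap_apply k k' K']; exact Q.2.1 _, Q.2.2⟩

variable (k k' K') in
/-- Places do not depend on the constant field. -/
def placeEquiv : Place k K' ≃ Place k' K' :=
  ⟨upPlace, downPlace, fun _ => rfl, fun _ => rfl⟩

@[simp] lemma placeEquiv_val (Q : Place k K') : (placeEquiv k K' k' Q).1 = Q.1 := rfl

lemma ord_placeEquiv (Q : Place k K') (z : K') : (placeEquiv k K' k' Q).ord z = Q.ord z := rfl

lemma deg_placeEquiv (Q : Place k K') :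
    Q.deg = Module.finrank k k' * (placeEquiv k K' k' Q).deg := by
  refine @finrank_comp k k' (IsLocalRing.ResidueField Q.O) _ _ _ _ (Place.algRes Q)
    (Place.algRes (placeEquiv k K' k' Q)) fun c => ?_
  exact congrArg (IsLocalRing.residue Q.O) (Subtype.ext (IsScalarTower.algebraMap_apply k k' K' c))

end up

section adjoin

omit [Algebra K K'] [IsScalarTower k K K'] in
/-- Independent constants stay independent over `k(x)`. -/
lemma linearIndependent_adjoin_const {x : K'} (hx : Transcendental k x) {ι : Type*} [Fintype ι]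
    (b : ι → algebraicClosure k K') (hb : LinearIndependent k b) :
    LinearIndependent k⟮x⟯ (fun i => (b i : K')) := by
  have hx' : Transcendental (algebraicClosure k K') x := hx.algebraicClosure
  refine linearIndependent_adjoin_of_mod
    (((Polynomial.aeval (R := algebraicClosure k K') x).range).restrictScalars k)
    ⟨Polynomial.X, by simp⟩ hx _ (fun i => ⟨Polynomial.C (b i), by simp⟩) ?_
  rintro c ⟨r, ⟨p, rfl⟩, hr⟩
  have hs : ((∑ i, c i • b i : algebraicClosure k K') : K') = ∑ i, c i • (b i : K') := by
    rw [AddSubmonoidClass.coe_finsetSum]; rfl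
  have h0 : Polynomial.aeval x (Polynomial.C (∑ i, c i • b i) - Polynomial.X * p) = 0 := by
    simp only [map_sub, map_mul, Polynomial.aeval_C, Polynomial.aeval_X]
    rw [sub_eq_zero]
    exact hs.trans hr
  have h1 : ∑ i, c i • b i = 0 := by
    have := congrArg (Polynomial.eval 0) (transcendental_iff.1 hx' _ h0)
    simpa [-map_sum] using this
  funext i
  exact Fintype.linearIndependent_iff.1 hb c h1 i

variable (hK : IsFunctionField k K)
include hK

lemma transcendental_algebraMap {x : K} (hx : Transcendental k x) :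
    Transcendental k (algebraMap K K' x) :=
  (transcendental_algebraMap_iff (algebraMap K K').injective).2 hx

omit hK in
lemma adjoin_map_eq (x : K) :
    (k⟮x⟯).map (IsScalarTower.toAlgHom k K K') = k⟮algebraMap K K' x⟯ := by
  rw [IntermediateField.adjoin_map, Set.image_singleton]; rfl

variable [FiniteDimensional K K']

/-- `K'` is finite over `k(x)`, of degree `[K : k(x)] [K' : K]`. -/
lemma finrank_adjoin_map {x : K} (hx : Transcendental k x) :
    FiniteDimensional k⟮algebraMap K K' x⟯ K' ∧
      Module.finrank k⟮algebraMap K K' x⟯ K' = Module.finrank k⟮x⟯ K * Module.finrank K K' := by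
  haveI := finiteDimensional_adjoin hK hx
  haveI : FiniteDimensional k⟮x⟯ K' := Module.Finite.trans K K'
  let e : k⟮x⟯ ≃+* k⟮algebraMap K K' x⟯ :=
    (((k⟮x⟯).equivMap (IsScalarTower.toAlgHom k K K')).trans
      (IntermediateField.equivOfEq (adjoin_map_eq x))).toRingEquiv
  have hc : (algebraMap k⟮algebraMap K K' x⟯ K').comp e.toRingHom =
      (RingEquiv.refl K').toRingHom.comp (algebraMap k⟮x⟯ K') := RingHom.ext fun _ => rfl
  refine ⟨Module.Finite.of_equiv_equiv e (RingEquiv.refl K') hc, ?_⟩
  rw [← Algebra.finrank_eq_of_equiv_equiv e (RingEquiv.refl K') hc, Module.finrank_mul_finrank]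

/-- The field of constants of a finite extension is finite over `k`. -/
lemma finite_constField : FiniteDimensional k (algebraicClosure k K') := by
  obtain ⟨⟨x, hx, -⟩, -⟩ := id hK
  haveI := (finrank_adjoin_map (K' := K') hK hx).1
  refine Module.rank_lt_aleph0_iff.1
    ((rank_le (R := k) (n := Module.finrank k⟮algebraMap K K' x⟯ K') fun s hs => ?_).trans_lt
      Cardinal.natCast_lt_aleph0)
  simpa using (linearIndependent_adjoin_const (transcendental_algebraMap (K' := K') hK hx)
    (fun i : s => (i : algebraicClosure k K')) hs).fintype_card_le_finrank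

/-- A finite extension is a function field over its field of constants. -/
lemma isFunctionField_constField : IsFunctionField (algebraicClosure k K') K' := by
  obtain ⟨⟨x, hx, -⟩, -⟩ := id hK
  set x' := algebraMap K K' x
  haveI := (finrank_adjoin_map (K' := K') hK hx).1
  have hx' : Transcendental k x' := transcendental_algebraMap hK hx
  refine ⟨⟨x', hx'.algebraicClosure, ?_⟩, fun y hy => ?_⟩
  · set E := IntermediateField.adjoin (algebraicClosure k K') ({x'} : Set K')
    have hle : k⟮x'⟯ ≤ E.restrictScalars k := by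
      rw [IntermediateField.adjoin_simple_le_iff]
      exact IntermediateField.mem_adjoin_simple_self _ x'
    letI : Algebra k⟮x'⟯ E := (IntermediateField.inclusion hle).toRingHom.toAlgebra
    haveI : IsScalarTower k⟮x'⟯ E K' := IsScalarTower.of_algebraMap_eq fun _ => rfl
    exact Module.Finite.of_restrictScalars_finite k⟮x'⟯ E K'
  · have h2 : IsAlgebraic k y := hy.restrictScalars k
    exact ⟨⟨y, mem_algebraicClosure_iff.2 h2⟩, rfl⟩

end adjoin

section const

variable {L : Type*} [Field L] [Algebra k L]
  {k' : Type*} [Field k'] [Algebra k k'] [Algebra k' L] [IsScalarTower k k' L] [FiniteDimensional k k']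

/-- Change of constants in `[L : k(x)]`. -/
lemma finrank_adjoin_const {x : L} (hx : Transcendental k x) :
    Module.finrank k k' * Module.finrank k'⟮x⟯ L = Module.finrank k⟮x⟯ L := by
  let L1 : IntermediateField k L := (IsScalarTower.toAlgHom k k' L).fieldRange
  have eL : k' ≃ₐ[k] L1 := AlgEquiv.ofInjectiveField (IsScalarTower.toAlgHom k k' L)
  haveI : FiniteDimensional k L1 := eL.toLinearEquiv.finiteDimensional
  haveI : Algebra.IsAlgebraic k L1 := Algebra.IsAlgebraic.of_finite k L1
  let E := k⟮x⟯
  let M : IntermediateField E L := IntermediateField.adjoin E (L1 : Set L)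
  have hrank := IntermediateField.adjoin_rank_le_of_isAlgebraic_right E L1
  have hL1 : Module.rank k L1 < Cardinal.aleph0 := Module.rank_lt_aleph0 k L1
  have hlt : Module.rank E M < Cardinal.aleph0 := hrank.trans_lt hL1
  haveI : FiniteDimensional E M := Module.rank_lt_aleph0_iff.1 hlt
  have hM : Module.finrank E M = Module.finrank k k' := by
    rw [eL.toLinearEquiv.finrank_eq]
    refine le_antisymm ?_ ?_
    · rw [← Nat.cast_le (α := Cardinal), Module.finrank_eq_rank, Module.finrank_eq_rank]
      exact hrank
    · let b := Module.finBasis k L1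
      have hmem : ∀ i, (b i : L) ∈ algebraicClosure k L := fun i =>
        mem_algebraicClosure_iff.2 ((Algebra.IsAlgebraic.isAlgebraic (R := k) (b i)).algebraMap)
      have hli : LinearIndependent k (fun i => (⟨(b i : L), hmem i⟩ : algebraicClosure k L)) := by
        refine LinearIndependent.of_comp ((algebraicClosure k L).val.toLinearMap) ?_
        exact b.linearIndependent.map' L1.val.toLinearMap
          (LinearMap.ker_eq_bot.2 L1.val.injective)
      have h1 := linearIndependent_adjoin_const hx _ hli
      have h2 : LinearIndependent E (fun i => (⟨(b i : L), IntermediateField.subset_adjoin E _ (b i).2⟩ : M)) :=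
        LinearIndependent.of_comp M.val.toLinearMap h1
      simpa using h2.fintype_card_le_finrank
  have hset : M.toSubfield = (k'⟮x⟯).toSubfield := by
    refine le_antisymm ?_ ?_
    · have hle : E ≤ (k'⟮x⟯).restrictScalars k :=
        IntermediateField.adjoin_simple_le_iff.2 (IntermediateField.mem_adjoin_simple_self _ x)
      have : M ≤ IntermediateField.extendScalars hle := by
        rw [IntermediateField.adjoin_le_iff]
        rintro _ ⟨c, rfl⟩
        exact (k'⟮x⟯).algebraMap_mem c
      exact fun z hz => this hz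
    · let M' : IntermediateField k' L := M.toSubfield.toIntermediateField fun c =>
        IntermediateField.subset_adjoin E _ ⟨c, rfl⟩
      have : k'⟮x⟯ ≤ M' := IntermediateField.adjoin_simple_le_iff.2
        (M.algebraMap_mem ⟨x, IntermediateField.mem_adjoin_simple_self k x⟩)
      exact fun z hz => this hz
  let e : M ≃+* k'⟮x⟯ :=
    { toFun := fun z => ⟨z.1, (SetLike.ext_iff.1 hset z.1).1 z.2⟩
      invFun := fun z => ⟨z.1, (SetLike.ext_iff.1 hset z.1).2 z.2⟩
      left_inv := fun _ => rfl
      right_inv := fun _ => rfl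
      map_mul' := fun _ _ => rfl
      map_add' := fun _ _ => rfl }
  have hc : (algebraMap k'⟮x⟯ L).comp e.toRingHom = (RingEquiv.refl L).toRingHom.comp (algebraMap M L) :=
    RingHom.ext fun _ => rfl
  rw [← Algebra.finrank_eq_of_equiv_equiv e (RingEquiv.refl L) hc, ← hM, Module.finrank_mul_finrank]

end const

section lying

omit [IsScalarTower k K K'] in
lemma pos_of_isOverWith {Q : Place k K'} {P : Place k K} {e : ℕ} (h : IsOverWith Q P e) : 0 < e := by
  rcases Nat.eq_zero_or_pos e with rfl | h'
  · simpa using h 0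
  · exact h'

omit [IsScalarTower k K K'] in
lemma ord_of_isOverWith {Q : Place k K'} {P : Place k K} {e : ℕ} (h : IsOverWith Q P e) (x : K) :
    Q.ord (algebraMap K K' x) = e * P.ord x := by
  simp only [Place.ord, h x, WithZero.log_pow, nsmul_eq_mul, mul_neg]

omit [IsScalarTower k K K'] in
lemma le_one_iff_of_isOver {Q : Place k K'} {P : Place k K} (h : IsOver Q P) (x : K) :
    Q.1 (algebraMap K K' x) ≤ 1 ↔ P.1 x ≤ 1 := by
  obtain ⟨e, he⟩ := h
  rw [he x, pow_le_one_iff (pos_of_isOverWith he).ne']

omit [IsScalarTower k K K'] in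
lemma place_below_unique {Q : Place k K'} {P P₂ : Place k K} (h : IsOver Q P) (h₂ : IsOver Q P₂) : P = P₂ :=
  place_eq_of_le P fun x hx => (le_one_iff_of_isOver h₂ x).1 ((le_one_iff_of_isOver h x).2 hx)

omit [IsScalarTower k K K'] in
lemma isOverWith_unique {Q : Place k K'} {P : Place k K} {e e₂ : ℕ} (h : IsOverWith Q P e)
    (h₂ : IsOverWith Q P e₂) : e = e₂ := by
  obtain ⟨t, -, ht⟩ := exists_ord_eq P 1
  have := (ord_of_isOverWith h t).symm.trans (ord_of_isOverWith h₂ t)
  rw [ht] at this
  omega

omit [IsScalarTower k K K'] in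
lemma ramIdx_eq {Q : Place k K'} {P : Place k K} {e : ℕ} (h : IsOverWith Q P e) : ramIdx Q P = e := by
  classical
  have hQ : IsOver Q P := ⟨e, h⟩
  rw [ramIdx, dif_pos hQ]
  exact isOverWith_unique (Nat.find_spec hQ) h

omit [IsScalarTower k K K'] in
lemma isOverWith_ramIdx {Q : Place k K'} {P : Place k K} (h : IsOver Q P) : IsOverWith Q P (ramIdx Q P) := by
  obtain ⟨e, he⟩ := h
  rwa [ramIdx_eq he]

variable (hK : IsFunctionField k K) [FiniteDimensional K K']
include hK

/-- Every place lies over a place. -/
lemma exists_isOver (Q : Place k K') : ∃ P : Place k K, IsOver Q P := by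
  classical
  let V : ValuationSubring K := Q.O.comap (algebraMap K K')
  have hk : Set.range (algebraMap k K) ⊆ V := by
    rintro _ ⟨c, rfl⟩
    change Q.1 (algebraMap K K' (algebraMap k K c)) ≤ 1
    rw [← IsScalarTower.algebraMap_apply k K K']
    exact Q.2.1 c
  have hV : V ≠ ⊤ := fun hV => by
    obtain ⟨z, hz, hzo⟩ := exists_ord_eq Q (-1)
    let f : K →+* Q.O := (algebraMap K K').codRestrict Q.O fun x => (hV ▸ trivial : x ∈ V)
    letI : Algebra K Q.O := f.toAlgebra
    haveI : IsScalarTower K Q.O K' := IsScalarTower.of_algebraMap_eq fun _ => rfl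
    obtain ⟨y, hy⟩ := IsIntegrallyClosed.isIntegral_iff.1 ((IsIntegral.of_finite K z).tower_top (A := Q.O))
    have h1 : Q.1 z ≤ 1 := hy ▸ y.2
    rw [v_le_one_iff Q hz, hzo] at h1
    omega
  obtain ⟨P, hP⟩ := exists_place_of_valuationSubring hK V hk hV
  obtain ⟨t, ht, hto⟩ := exists_ord_eq P 1
  refine ⟨P, (Q.ord (algebraMap K K' t)).toNat, fun x => ?_⟩
  have hle : ∀ y : K, P.1 y ≤ 1 ↔ Q.1 (algebraMap K K' y) ≤ 1 := fun y => (hP y).symm
  have ht' : algebraMap K K' t ≠ 0 := by simpa using ht
  have hpos : 0 < Q.ord (algebraMap K K' t) := by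
    have h1 : ¬ P.1 t⁻¹ ≤ 1 := by
      rw [v_le_one_iff P (inv_ne_zero ht), ord_inv, hto]; omega
    rw [hle, map_inv₀, v_le_one_iff Q (inv_ne_zero ht'), ord_inv] at h1
    omega
  rcases eq_or_ne x 0 with rfl | hx
  · rw [map_zero, map_zero, map_zero, zero_pow (by omega)]
  have hx' : algebraMap K K' x ≠ 0 := by simpa using hx
  set u := x * t ^ (-P.ord x) with hu
  have hu0 : u ≠ 0 := mul_ne_zero hx (zpow_ne_zero _ ht)
  have huo : P.ord u = 0 := by rw [hu, ord_mul P hx (zpow_ne_zero _ ht), ord_zpow, hto]; ring
  have hu' : algebraMap K K' u ≠ 0 := by simpa using hu0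
  have h1 : 0 ≤ Q.ord (algebraMap K K' u) := by
    rw [← v_le_one_iff Q hu', ← hle, v_le_one_iff P hu0, huo]
  have h2 : 0 ≤ Q.ord (algebraMap K K' u)⁻¹ := by
    rw [← v_le_one_iff Q (inv_ne_zero hu'), ← map_inv₀, ← hle, v_le_one_iff P (inv_ne_zero hu0), ord_inv, huo]
    simp
  rw [ord_inv] at h2
  have h3 : Q.ord (algebraMap K K' u) = Q.ord (algebraMap K K' x) + (-P.ord x) * Q.ord (algebraMap K K' t) := by
    rw [hu, map_mul, map_zpow₀, ord_mul Q hx' (zpow_ne_zero _ ht'), ord_zpow]
  rw [v_eq_exp Q hx', v_eq_exp P hx, ← WithZero.exp_nsmul]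
  congr 1
  rw [nsmul_eq_mul, Int.toNat_of_nonneg hpos.le]
  linarith

/-- A function whose zero divisor is a multiple of a given place. -/
lemma exists_zeros_eq_single (P : Place k K) :
    ∃ (x : K) (n : ℕ), 0 < n ∧ Transcendental k x ∧ zeros (k := k) x = Finsupp.single P (n : ℤ) := by
  classical
  set m : ℕ := 2 * genus k K + 1 with hm
  have hdP := deg_pos hK P
  have hd : (m : ℤ) ≤ Divisor.deg (Finsupp.single P (m : ℤ) : Divisor k K) := by
    rw [deg_single]
    exact le_mul_of_one_le_right (by positivity) (by exact_mod_cast hdP)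
  have e1 := ell_of_deg_large hK (D := Finsupp.single P (m : ℤ)) (by omega)
  have hlt : ell (Finsupp.single P (m : ℤ) - Finsupp.single P 1) < ell (Finsupp.single P (m : ℤ)) := by
    rw [← Finsupp.single_sub]
    have h2 : 2 * (genus k K : ℤ) - 1 ≤ Divisor.deg (Finsupp.single P ((m : ℤ) - 1) : Divisor k K) := by
      have : ((m : ℤ) - 1) ≤ ((m : ℤ) - 1) * P.deg :=
        le_mul_of_one_le_right (by omega) (by exact_mod_cast hdP)
      rw [deg_single]
      omega
    have e2 := ell_of_deg_large hK h2
    rw [deg_single] at e1 e2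
    rw [sub_mul] at e2
    omega
  obtain ⟨z, hz0, hz, hzo⟩ := exists_mem_L_ord hlt
  rw [Finsupp.single_eq_same] at hzo
  refine ⟨z⁻¹, m, by omega, ?_, ?_⟩
  · refine transcendental_of_not_mem hK ?_
    rintro ⟨c, hc⟩
    have := ord_algebraMap P c
    rw [hc, ord_inv, hzo] at this
    omega
  · ext R
    rw [zeros_apply hK, ord_inv]
    rcases eq_or_ne R P with rfl | hR
    · rw [hzo, Finsupp.single_eq_same]; omega
    · have h := (mem_L_iff_ord hz0).1 hz R
      rw [Finsupp.single_eq_of_ne hR] at h ⊢
      omega

variable (P : Place k K)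

open scoped Classical in
/-- Finiteness of the fibre and the fundamental equality. -/
lemma finite_over_and_sum :
    {Q : Place k K' | IsOver Q P}.Finite ∧
    ∀ Qs : Finset (Place k K'), (∀ Q, Q ∈ Qs ↔ IsOver Q P) →
      ∑ Q ∈ Qs, ramIdx Q P * Q.deg = Module.finrank K K' * P.deg := by
  classical
  haveI := finite_constField (K' := K') hK
  have hK1 := isFunctionField_constField (K' := K') hK
  set k1 := algebraicClosure k K'
  obtain ⟨x, n, hn, hx, hz⟩ := exists_zeros_eq_single hK P
  set x' := algebraMap K K' x
  have hx' : Transcendental k x' := transcendental_algebraMap hK hx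
  have hx1 : Transcendental k1 x' := hx'.algebraicClosure
  have hover : ∀ Q : Place k K', IsOver Q P → Q.ord x' = ramIdx Q P * n := fun Q h => by
    rw [ord_of_isOverWith (isOverWith_ramIdx h)]
    have := DFunLike.congr_fun hz P
    rw [zeros_apply hK, Finsupp.single_eq_same] at this
    congr 1
    omega
  have hsupp : ∀ Q : Place k K', placeEquiv k K' k1 Q ∈ (zeros (k := k1) x').support ↔ IsOver Q P := fun Q => by
    rw [Finsupp.mem_support_iff, zeros_apply hK1, ord_placeEquiv]
    refine ⟨fun h => ?_, fun h => ?_⟩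
    · obtain ⟨P₂, h₂⟩ := exists_isOver hK Q
      rcases eq_or_ne P₂ P with rfl | hne
      · exact h₂
      have := DFunLike.congr_fun hz P₂
      rw [zeros_apply hK, Finsupp.single_eq_of_ne hne] at this
      rw [ord_of_isOverWith (isOverWith_ramIdx h₂)] at h
      have h3 : (ramIdx Q P₂ : ℤ) * P₂.ord x ≤ 0 :=
        mul_nonpos_of_nonneg_of_nonpos (Int.natCast_nonneg _) (by omega)
      omega
    · rw [hover Q h]
      have h1 := pos_of_isOverWith (isOverWith_ramIdx h)
      have : (0 : ℤ) < ramIdx Q P * n := by positivity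
      omega
  let S : Finset (Place k K') := (zeros (k := k1) x').support.map (placeEquiv k K' k1).symm.toEmbedding
  have hS : ∀ Q, Q ∈ S ↔ IsOver Q P := fun Q => by
    rw [← hsupp Q]
    simp only [S, Finset.mem_map_equiv, Equiv.symm_symm]
  refine ⟨S.finite_toSet.subset fun Q hQ => (hS Q).2 hQ, fun Qs hQs => ?_⟩
  obtain rfl : Qs = S := Finset.ext fun Q => (hQs Q).trans (hS Q).symm
  have e1 := deg_zeros hK1 hx1
  have e2 := finrank_adjoin_const (k' := k1) hx'
  have e3 := (finrank_adjoin_map (K' := K') hK hx).2
  have e4 := deg_zeros hK hx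
  rw [hz, deg_single] at e4
  have key : (n : ℤ) * ∑ Q ∈ S, ((ramIdx Q P * Q.deg : ℕ) : ℤ) =
      Module.finrank k k1 * (zeros (k := k1) x').deg := by
    rw [Divisor.deg, Finsupp.sum, Finset.mul_sum, Finset.mul_sum, Finset.sum_map]
    refine Finset.sum_congr rfl fun Q hQ => ?_
    have hQ' : IsOver ((placeEquiv k K' k1).symm Q) P := by
      rw [← hsupp, Equiv.apply_symm_apply]; exact hQ
    have h1 := hover _ hQ'
    rw [zeros_apply hK1]
    have h2 : Q.ord x' = ((placeEquiv k K' k1).symm Q).ord x' := rfl
    rw [h2, Equiv.coe_toEmbedding, h1, max_eq_left (by positivity), deg_placeEquiv (k' := k1),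
      Equiv.apply_symm_apply]
    push_cast
    ring
  rw [e1, ← Nat.cast_mul, e2, e3, Nat.cast_mul] at key
  rw [← e4] at key
  have hn' : (n : ℤ) ≠ 0 := by omega
  have key' : (∑ Q ∈ S, ((ramIdx Q P * Q.deg : ℕ) : ℤ)) = (Module.finrank K K' * P.deg : ℕ) := by
    refine mul_left_cancel₀ hn' ?_
    rw [key]; push_cast; ring
  exact_mod_cast key'

/-- Every place has a place above it. -/
lemma exists_over : ∃ Q : Place k K', IsOver Q P := by
  classical
  obtain ⟨hfin, hsum⟩ := finite_over_and_sum (K' := K') hK P
  by_contra h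
  push Not at h
  have := hsum ∅ fun Q => by simp [h Q]
  rw [Finset.sum_empty] at this
  exact absurd this.symm (Nat.mul_pos Module.finrank_pos (deg_pos hK P)).ne'

end lying

end Groth.Agent.FF
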