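import Mathlib
import Groth.Agent.FF.Places
import Groth.Agent.FF.Ext
import Groth.Agent.FF.Expansion
import Groth.Agent.FF.ConstExt

/-! Elements integral above a place, the trace dual and simple extensions of a valuation ring. -/

set_option autoImplicit false
set_option linter.style.haveILetI false

namespace Groth.Agent.FF

open FunFld
open scoped WithZero Polynomial

universe u v v'

variable {k : Type u} {K : Type v} {K' : Type v'} [Field k] [Field K] [Field K'] [Algebra k K] [Algebra K K'] [Algebra k K']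

/-- The valuation ring of a place is principal. -/
lemma isPrincipalIdealRing_O (P : Place k K) : IsPrincipalIdealRing P.O := by
  classical
  refine ⟨fun I => ?_⟩
  by_cases hI : I = ⊥
  · exact hI ▸ bot_isPrincipal
  obtain ⟨a, haI, ha⟩ := Submodule.exists_mem_ne_zero_of_ne_bot hI
  have hex : ∃ n : ℕ, ∃ b ∈ I, (b : K) ≠ 0 ∧ P.ord (b : K) = n := by
    have h0 : (a : K) ≠ 0 := fun h => ha (Subtype.ext h)
    exact ⟨(P.ord (a : K)).toNat, a, haI, h0,
      (Int.toNat_of_nonneg ((v_le_one_iff P h0).1 a.2)).symm⟩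
  obtain ⟨b, hbI, hb0, hbo⟩ := Nat.find_spec hex
  refine ⟨b, le_antisymm (fun c hc => ?_) ((Submodule.span_singleton_le_iff_mem _ _).2 hbI)⟩
  rcases eq_or_ne (c : K) 0 with hc0 | hc0
  · rw [show c = 0 from Subtype.ext hc0]; exact Submodule.zero_mem _
  have hmin : (Nat.find hex : ℤ) ≤ P.ord (c : K) := by
    have h1 := (v_le_one_iff P hc0).1 c.2
    have := Nat.find_min' hex ⟨c, hc, hc0, (Int.toNat_of_nonneg h1).symm⟩
    omega
  have hq : P.1 ((c : K) / b) ≤ 1 := by
    rw [v_le_one_iff P (div_ne_zero hc0 hb0), div_eq_mul_inv, ord_mul P hc0 (inv_ne_zero hb0), ord_inv, hbo]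
    omega
  exact Submodule.mem_span_singleton.2 ⟨⟨_, hq⟩, Subtype.ext (div_mul_cancel₀ (c : K) hb0)⟩

/-- `z` is integral at every place of `K'` above `P`. -/
def IntOver (P : Place k K) (z : K') : Prop := ∀ Q : Place k K', IsOver Q P → Q.1 z ≤ 1

/-- `w` lies in the trace dual of the elements integral above `P`. -/
def InDual (P : Place k K) (w : K') : Prop :=
  ∀ z : K', IntOver P z → P.1 (Algebra.trace K K' (w * z)) ≤ 1

variable {P : Place k K}

lemma IntOver.mul {a b : K'} (ha : IntOver P a) (hb : IntOver P b) : IntOver P (a * b) := fun Q hQ => by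
  rw [map_mul]; exact mul_le_one' (ha Q hQ) (hb Q hQ)

lemma intOver_algebraMap {c : K} (hc : P.1 c ≤ 1) : IntOver P (algebraMap K K' c) := fun Q hQ =>
  (le_one_iff_of_isOver hQ c).2 hc

lemma InDual.mul {w z : K'} (hw : InDual P w) (hz : IntOver P z) : InDual P (w * z) := fun z' hz' => by
  rw [mul_assoc]; exact hw _ (hz.mul hz')

variable [Algebra P.O K'] [IsScalarTower P.O K K']

lemma algebraMap_O (c : P.O) : algebraMap P.O K' c = algebraMap K K' (c : K) :=
  IsScalarTower.algebraMap_apply P.O K K' c

lemma intOver_of_isIntegral {z : K'} (hz : IsIntegral P.O z) : IntOver P z := fun Q hQ => by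
  letI : Algebra P.O Q.O := (incOver hQ).toAlgebra
  haveI : IsScalarTower P.O Q.O K' := IsScalarTower.of_algebraMap_eq fun c => by
    rw [algebraMap_O]; rfl
  obtain ⟨y, hy⟩ := IsIntegrallyClosed.isIntegral_iff.1 (hz.tower_top (A := Q.O))
  rw [← hy]
  exact y.2

lemma intOver_of_mem_adjoin {y : K'} (hy : IsIntegral P.O y) {a : K'} (ha : a ∈ Algebra.adjoin P.O ({y} : Set K')) :
    IntOver P a :=
  intOver_of_isIntegral ((Algebra.adjoin_le (S := integralClosure P.O K') (Set.singleton_subset_iff.2 hy)) ha)

variable [IsScalarTower k K K'] [FiniteDimensional K K']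

/-- Elements integral at all places above `P` are integral over the valuation ring. -/
lemma isIntegral_of_intOver (hK : IsFunctionField k K) {z : K'} (hz : IntOver P z) : IsIntegral P.O z := by
  classical
  haveI := finite_constField (K' := K') hK
  have hK1 := isFunctionField_constField (K' := K') hK
  set k1 := algebraicClosure k K'
  set s : Set K' := Set.range (algebraMap P.O K')
  have hz' : z ∈ (⨅ V : {V : ValuationSubring K' // s ⊆ V.toSubring}, V.1.toSubring) := by
    rw [Subring.mem_iInf]
    rintro ⟨V, hV⟩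
    by_cases hT : V = ⊤
    · subst hT; trivial
    have hkV : Set.range (algebraMap k K') ⊆ V := by
      rintro _ ⟨c, rfl⟩
      exact hV ⟨⟨algebraMap k K c, P.2.1 c⟩, by rw [algebraMap_O, ← IsScalarTower.algebraMap_apply]⟩
    have hk1 : Set.range (algebraMap k1 K') ⊆ V := by
      rintro _ ⟨c, rfl⟩
      have hc : IsIntegral k (c : K') := mem_algebraicClosure_iff'.1 c.2
      letI : Algebra k V := ((algebraMap k K').codRestrict V.toSubring fun a => hkV ⟨a, rfl⟩).toAlgebra
      haveI : IsScalarTower k V K' := IsScalarTower.of_algebraMap_eq fun _ => rfl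
      obtain ⟨y, hy⟩ := IsIntegrallyClosed.isIntegral_iff.1 (hc.tower_top (A := V))
      change (c : K') ∈ V
      rw [← hy]
      exact y.2
    obtain ⟨Q₁, hQ₁⟩ := exists_place_of_valuationSubring hK1 V hk1 hT
    set Q := (placeEquiv k K' k1).symm Q₁
    have hQV : ∀ x, x ∈ V ↔ Q.1 x ≤ 1 := hQ₁
    obtain ⟨P₂, hP₂⟩ := exists_isOver hK Q
    have hP : P = P₂ := place_eq_of_le P fun x hx => (le_one_iff_of_isOver hP₂ x).1
      ((hQV _).1 (hV ⟨⟨x, hx⟩, algebraMap_O _⟩))
    exact (hQV z).2 (hz Q (hP ▸ hP₂))
  rw [iInf_valuationSubring_superset] at hz'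
  have hs : Subring.closure s = (algebraMap P.O K').range := by
    rw [← Subring.closure_eq (algebraMap P.O K').range]; rfl
  obtain ⟨p, hpm, hp⟩ := hz'
  have hle : (Subring.closure s) ≤ (algebraMap P.O K').range := hs.le
  let q : (Subring.closure s) →+* (algebraMap P.O K').range := Subring.inclusion hle
  have hp' : Polynomial.eval₂ (algebraMap P.O K').range.subtype z (p.map q) = 0 := by
    rw [Polynomial.eval₂_map]; exact hp
  obtain ⟨p₀, hp₀, -, hp₀m⟩ := Polynomial.lifts_and_degree_eq_and_monic (f := (algebraMap P.O K').rangeRestrict)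
    ((Polynomial.mem_lifts _).2 (Polynomial.map_surjective _ (RingHom.rangeRestrict_surjective _) (p.map q)))
    (hpm.map q)
  refine ⟨p₀, hp₀m, ?_⟩
  rw [← hp₀, Polynomial.eval₂_map] at hp'
  exact hp'

/-- Integral elements have integral trace. -/
lemma trace_le_one (hK : IsFunctionField k K) {z : K'} (hz : IntOver P z) : P.1 (Algebra.trace K K' z) ≤ 1 := by
  obtain ⟨y, hy⟩ := IsIntegrallyClosed.isIntegral_iff.1
    (Algebra.isIntegral_trace (L := K) (F := K') (isIntegral_of_intOver hK hz))
  rw [← hy]
  exact y.2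

lemma inDual_of_intOver (hK : IsFunctionField k K) {z : K'} (hz : IntOver P z) : InDual P z :=
  fun _ hz' => trace_le_one hK (hz.mul hz')

variable [Algebra.IsSeparable K K']

omit [IsScalarTower k K K'] in
lemma aeval_derivative_ne_zero (y : K') : Polynomial.aeval y (Polynomial.derivative (minpoly K y)) ≠ 0 :=
  (Algebra.IsSeparable.isSeparable K y).aeval_derivative_ne_zero (minpoly.aeval _ _)

omit [IsScalarTower k K K'] in
/-- The trace criterion for the simple extension of a valuation ring. -/
lemma mem_adjoin_iff_trace {y : K'} (hy : IntermediateField.adjoin K ({y} : Set K') = ⊤) (hyi : IsIntegral P.O y)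
    (w : K') :
    w * Polynomial.aeval y (Polynomial.derivative (minpoly K y)) ∈ Algebra.adjoin P.O ({y} : Set K') ↔
      ∀ z ∈ Algebra.adjoin P.O ({y} : Set K'), P.1 (Algebra.trace K K' (w * z)) ≤ 1 := by
  have hy' : Algebra.adjoin K ({y} : Set K') = ⊤ := by
    rw [← IntermediateField.adjoin_simple_toSubalgebra_of_isAlgebraic (IsIntegral.of_finite K y).isAlgebraic, hy]
    rfl
  set g' := Polynomial.aeval y (Polynomial.derivative (minpoly K y))
  have hg' : g' ≠ 0 := aeval_derivative_ne_zero y
  have h1 : (w ∈ (Algebra.traceForm K K').dualSubmodule (Subalgebra.toSubmodule (Algebra.adjoin P.O ({y} : Set K')))) ↔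
      w * g' ∈ Algebra.adjoin P.O ({y} : Set K') := by
    rw [traceForm_dualSubmodule_adjoin P.O K hy' hyi, Submodule.mem_smul_iff_inv_mul_mem (inv_ne_zero hg'), inv_inv,
      mul_comm]
    rfl
  rw [← h1, LinearMap.BilinForm.mem_dualSubmodule]
  refine forall₂_congr fun z _ => ?_
  rw [Algebra.traceForm_apply, Submodule.mem_one]
  exact ⟨fun ⟨c, hc⟩ => hc ▸ c.2, fun h => ⟨⟨_, h⟩, rfl⟩⟩

variable (hK : IsFunctionField k K) {y : K'} (hy : IntermediateField.adjoin K ({y} : Set K') = ⊤)
  (hyi : IsIntegral P.O y)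
include hy hyi

omit [IsScalarTower k K K'] in
lemma mem_adjoin_of_inDual {w : K'} (hw : InDual P w) :
    w * Polynomial.aeval y (Polynomial.derivative (minpoly K y)) ∈ Algebra.adjoin P.O ({y} : Set K') :=
  (mem_adjoin_iff_trace hy hyi w).2 fun z hz => hw z (intOver_of_mem_adjoin hyi hz)

omit [IsScalarTower k K K'] in
/-- Elements of the dual have bounded poles. -/
lemma v_mul_le_one_of_inDual {w : K'} (hw : InDual P w) {Q : Place k K'} (hQ : IsOver Q P) :
    Q.1 w * Q.1 (Polynomial.aeval y (Polynomial.derivative (minpoly K y))) ≤ 1 := by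
  rw [← map_mul]
  exact intOver_of_mem_adjoin hyi (mem_adjoin_of_inDual hy hyi hw) Q hQ

omit [IsScalarTower k K K'] in
/-- A conductor element gives an element of the dual. -/
lemma inDual_of_conductor {b : K'}
    (hb : ∀ z : K', IntOver P z → b * z ∈ Algebra.adjoin P.O ({y} : Set K')) :
    InDual P (b / Polynomial.aeval y (Polynomial.derivative (minpoly K y))) := fun z hz => by
  have h := (mem_adjoin_iff_trace hy hyi
    (b / Polynomial.aeval y (Polynomial.derivative (minpoly K y)) * z)).1 (by
      rw [mul_right_comm, div_mul_cancel₀ _ (aeval_derivative_ne_zero y)]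
      exact hb z hz) 1 (one_mem _)
  rwa [mul_one] at h

omit [IsScalarTower k K K'] in
/-- An element of the dual with the largest possible pole gives a conductor element. -/
lemma conductor_of_inDual {w : K'} (hw : InDual P w) :
    ∀ z : K', IntOver P z →
      (w * Polynomial.aeval y (Polynomial.derivative (minpoly K y))) * z ∈ Algebra.adjoin P.O ({y} : Set K') :=
  fun z hz => by
    rw [mul_right_comm]
    exact mem_adjoin_of_inDual hy hyi (hw.mul hz)

end Groth.Agent.FF
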