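import Mathlib
import Groth.Agent.FF.LocalRings

/-! Places of a Galois extension: decomposition and inertia groups. -/

set_option autoImplicit false
set_option linter.style.haveILetI false

namespace Groth.Agent.FF

open FunFld
open scoped WithZero Pointwise

universe u v w

variable {k : Type u} {K : Type v} {K' : Type w} [Field k] [Field K] [Field K'] [Algebra k K] [Algebra K K']
  [Algebra k K'] [IsScalarTower k K K']

/-- The place `x ↦ Q (σ x)`. -/
def galPlace (σ : K' ≃ₐ[K] K') (Q : Place k K') : Place k K' :=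
  ⟨Q.1.comap (σ : K' →+* K'), fun c => by
    change Q.1 (σ (algebraMap k K' c)) ≤ 1
    rw [IsScalarTower.algebraMap_apply k K K', σ.commutes, ← IsScalarTower.algebraMap_apply]
    exact Q.2.1 c, fun z => by
    obtain ⟨x, hx⟩ := Q.2.2 z
    exact ⟨σ.symm x, by change Q.1 (σ (σ.symm x)) = z; rw [σ.apply_symm_apply, hx]⟩⟩

@[simp] lemma galPlace_apply (σ : K' ≃ₐ[K] K') (Q : Place k K') (x : K') : (galPlace σ Q).1 x = Q.1 (σ x) := rfl

lemma galPlace_mul (σ τ : K' ≃ₐ[K] K') (Q : Place k K') : galPlace (σ * τ) Q = galPlace τ (galPlace σ Q) :=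
  Subtype.ext (Valuation.ext fun _ => rfl)

lemma galPlace_one (Q : Place k K') : galPlace (1 : K' ≃ₐ[K] K') Q = Q :=
  Subtype.ext (Valuation.ext fun _ => rfl)

lemma galPlace_symm (σ : K' ≃ₐ[K] K') (Q : Place k K') : galPlace σ⁻¹ (galPlace σ Q) = Q := by
  rw [← galPlace_mul, mul_inv_cancel, galPlace_one]

lemma isOverWith_galPlace {σ : K' ≃ₐ[K] K'} {Q : Place k K'} {P : Place k K} {e : ℕ} (h : IsOverWith Q P e) :
    IsOverWith (galPlace σ Q) P e := fun x => by rw [galPlace_apply, σ.commutes, h x]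

lemma isOver_galPlace {σ : K' ≃ₐ[K] K'} {Q : Place k K'} {P : Place k K} (h : IsOver Q P) :
    IsOver (galPlace σ Q) P := by
  obtain ⟨e, he⟩ := h
  exact ⟨e, isOverWith_galPlace he⟩

/-- Membership in the decomposition group. -/
lemma mem_decomposition_iff {σ : K' ≃ₐ[K] K'} {Q : Place k K'} :
    σ ∈ (Q.O).decompositionSubgroup K ↔ galPlace σ Q = Q := by
  have hmem : ∀ (τ : K' ≃ₐ[K] K') (x : K'), x ∈ τ • Q.O ↔ Q.1 (τ⁻¹ x) ≤ 1 := fun τ x =>
    ValuationSubring.mem_smul_pointwise_iff_exists (g := τ) (x := x) (S := Q.O) |>.trans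
      ⟨fun ⟨s, hs, e⟩ => by
        rw [← e]
        change Q.1 (τ⁻¹ (τ s)) ≤ 1
        rw [← AlgEquiv.mul_apply, inv_mul_cancel]
        exact hs, fun h => ⟨τ⁻¹ x, h, by
        change τ (τ⁻¹ x) = x
        rw [← AlgEquiv.mul_apply, mul_inv_cancel]; rfl⟩⟩
  constructor
  · intro h
    refine place_eq_of_le _ fun x hx => ?_
    have h2 : σ • Q.O = Q.O := h
    have h3 : σ x ∈ Q.O := hx
    rw [← h2, hmem, ← AlgEquiv.mul_apply, inv_mul_cancel] at h3
    exact h3
  · intro h
    refine MulAction.mem_stabilizer_iff.2 (SetLike.ext fun x => (hmem σ x).trans ?_)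
    have h2 : (galPlace σ Q).1 (σ⁻¹ x) = Q.1 (σ⁻¹ x) := by rw [h]
    rw [galPlace_apply, ← AlgEquiv.mul_apply, mul_inv_cancel] at h2
    rw [← h2]
    rfl

/-- Residue fields of conjugate places are isomorphic. -/
lemma deg_galPlace (σ : K' ≃ₐ[K] K') (Q : Place k K') : (galPlace σ Q).deg = Q.deg := by
  let f : (galPlace σ Q).O ≃+* Q.O :=
    { toFun := fun z => ⟨σ (z : K'), z.2⟩
      invFun := fun z => ⟨σ.symm (z : K'), show Q.1 (σ (σ.symm (z : K'))) ≤ 1 by rw [σ.apply_symm_apply]; exact z.2⟩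
      left_inv := fun z => Subtype.ext (σ.symm_apply_apply _)
      right_inv := fun z => Subtype.ext (σ.apply_symm_apply _)
      map_mul' := fun a b => Subtype.ext (map_mul σ _ _)
      map_add' := fun a b => Subtype.ext (map_add σ _ _) }
  let g := IsLocalRing.ResidueField.mapEquiv f
  refine LinearEquiv.finrank_eq ({ g with map_smul' := fun c a => ?_ } : _ ≃ₗ[k] _)
  obtain ⟨z, rfl⟩ := IsLocalRing.residue_surjective a
  change IsLocalRing.residue Q.O (f (algebraMap k (galPlace σ Q).O c * z)) =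
    IsLocalRing.residue Q.O (algebraMap k Q.O c * f z)
  congr 1
  rw [map_mul]
  congr 1
  refine Subtype.ext ?_
  change σ (algebraMap k K' c) = algebraMap k K' c
  rw [IsScalarTower.algebraMap_apply k K K', σ.commutes]

variable [FiniteDimensional K K']

omit [IsScalarTower k K K'] [Algebra k K] in
lemma zpow_apply_mem {S : Set K'} (σ : K' ≃ₐ[K] K') (h : ∀ x ∈ S, σ x ∈ S) : ∀ x ∈ S, σ⁻¹ x ∈ S := by
  intro x hx
  have hp : ∀ n : ℕ, ∀ x ∈ S, (σ ^ n) x ∈ S := fun n => by
    induction n with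
    | zero => exact fun x hx => hx
    | succ n ih => exact fun x hx => by rw [pow_succ, AlgEquiv.mul_apply]; exact ih _ (h x hx)
  rw [show σ⁻¹ = σ ^ (orderOf σ - 1) by
    refine inv_eq_of_mul_eq_one_right ?_
    rw [← pow_succ', Nat.sub_add_cancel (orderOf_pos σ), pow_orderOf_eq_one]]
  exact hp _ x hx

/-- The ramification groups: `i = 0` is the decomposition group, `i = 1` the inertia group. -/
def ramGroup (K : Type v) [Field K] [Algebra K K'] [FiniteDimensional K K'] (Q : Place k K') (i : ℕ) :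
    Subgroup (K' ≃ₐ[K] K') where
  carrier := {σ | ∀ x : K', Q.1 x ≤ 1 → Q.1 (σ x - x) ≤ WithZero.exp (-(i : ℤ))}
  one_mem' := fun x _ => by simp
  mul_mem' := fun {σ τ} hσ hτ x hx => by
    have h1 := hτ x hx
    have hτx : Q.1 (τ x) ≤ 1 := by
      rw [show τ x = (τ x - x) + x by ring]
      refine (Q.1.map_add _ _).trans (max_le (h1.trans ?_) hx)
      rw [← WithZero.exp_zero, WithZero.exp_le_exp]; omega
    rw [AlgEquiv.mul_apply, show σ (τ x) - x = (σ (τ x) - τ x) + (τ x - x) by ring]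
    exact (Q.1.map_add _ _).trans (max_le (hσ _ hτx) h1)
  inv_mem' := fun {σ} hσ x hx => by
    have hS : ∀ x ∈ {x : K' | Q.1 x ≤ 1}, σ x ∈ {x : K' | Q.1 x ≤ 1} := fun x (hx : Q.1 x ≤ 1) => by
      change Q.1 (σ x) ≤ 1
      rw [show σ x = (σ x - x) + x by ring]
      refine (Q.1.map_add _ _).trans (max_le ((hσ x hx).trans ?_) hx)
      rw [← WithZero.exp_zero, WithZero.exp_le_exp]; omega
    have h2 : Q.1 (σ⁻¹ x) ≤ 1 := zpow_apply_mem σ hS x hx
    have h3 := hσ _ h2
    rw [← AlgEquiv.mul_apply, mul_inv_cancel, AlgEquiv.one_apply] at h3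
    rwa [Q.1.map_sub_swap]

omit [IsScalarTower k K K'] [Algebra k K] in
lemma mem_ramGroup {σ : K' ≃ₐ[K] K'} {Q : Place k K'} {i : ℕ} :
    σ ∈ ramGroup K Q i ↔ ∀ x : K', Q.1 x ≤ 1 → Q.1 (σ x - x) ≤ WithZero.exp (-(i : ℤ)) := Iff.rfl

omit [IsScalarTower k K K'] [Algebra k K] in
lemma ramGroup_anti (Q : Place k K') {i j : ℕ} (h : i ≤ j) : ramGroup K Q j ≤ ramGroup K Q i := fun _ hσ x hx =>
  (hσ x hx).trans (WithZero.exp_le_exp.2 (by omega))

omit [IsScalarTower k K K'] [Algebra k K] in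
lemma preserves_of_mem_ramGroup {σ : K' ≃ₐ[K] K'} {Q : Place k K'} {i : ℕ} (h : σ ∈ ramGroup K Q i) {x : K'}
    (hx : Q.1 x ≤ 1) : Q.1 (σ x) ≤ 1 := by
  rw [show σ x = (σ x - x) + x by ring]
  refine (Q.1.map_add _ _).trans (max_le ((h x hx).trans ?_) hx)
  rw [← WithZero.exp_zero, WithZero.exp_le_exp]; omega

/-- Level zero is the decomposition group. -/
lemma ramGroup_zero_iff {σ : K' ≃ₐ[K] K'} {Q : Place k K'} : σ ∈ ramGroup K Q 0 ↔ galPlace σ Q = Q := by
  refine ⟨fun h => (place_eq_of_le (P := Q) fun x hx => preserves_of_mem_ramGroup h hx).symm, fun h x hx => ?_⟩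
  rw [Nat.cast_zero, neg_zero, WithZero.exp_zero]
  refine (Q.1.map_sub _ _).trans (max_le ?_ hx)
  rw [← galPlace_apply, h]
  exact hx

lemma decompositionSubgroup_eq (Q : Place k K') : (Q.O).decompositionSubgroup K = ramGroup K Q 0 := by
  ext σ; rw [mem_decomposition_iff, ramGroup_zero_iff]

/-- Level one is the inertia group. -/
lemma inertiaSubgroup_map_eq (Q : Place k K') :
    ((Q.O).inertiaSubgroup K).map ((Q.O).decompositionSubgroup K).subtype = ramGroup K Q 1 := by
  ext σ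
  rw [Subgroup.mem_map]
  constructor
  · rintro ⟨⟨σ, hσ⟩, h, rfl⟩ x hx
    have h2 := RingEquiv.congr_fun (MonoidHom.mem_ker.1 h) (IsLocalRing.residue Q.O ⟨x, hx⟩)
    rw [MulSemiringAction.toRingAut_apply, MulSemiringAction.toRingEquiv_apply,
      ← IsLocalRing.ResidueField.residue_smul, RingAut.one_apply, ← sub_eq_zero, ← map_sub, residue_eq_zero_iff,
      v_lt_one_iff_le_exp] at h2
    exact h2
  · intro h
    refine ⟨⟨σ, (decompositionSubgroup_eq (K := K) Q).symm ▸ ramGroup_anti (K := K) Q zero_le_one h⟩, MonoidHom.mem_ker.2 ?_, rfl⟩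
    refine RingEquiv.ext fun a => ?_
    obtain ⟨⟨x, hx⟩, rfl⟩ := IsLocalRing.residue_surjective a
    rw [MulSemiringAction.toRingAut_apply, MulSemiringAction.toRingEquiv_apply,
      ← IsLocalRing.ResidueField.residue_smul, RingAut.one_apply, ← sub_eq_zero, ← map_sub, residue_eq_zero_iff,
      v_lt_one_iff_le_exp]
    exact h x hx

lemma card_inertia (Q : Place k K') : Nat.card ((Q.O).inertiaSubgroup K) = Nat.card (ramGroup K Q 1) := by
  rw [← inertiaSubgroup_map_eq, Subgroup.card_map_of_injective (Subgroup.subtype_injective _)]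

variable [IsGalois K K'] (hK : IsFunctionField k K)
include hK

omit [IsGalois K K'] in
lemma deg_pos_over (Q : Place k K') : 0 < Q.deg := by
  haveI := finite_constField (K' := K') hK
  rw [deg_placeEquiv (k' := algebraicClosure k K') Q]
  exact Nat.mul_pos Module.finrank_pos (deg_pos (isFunctionField_constField (K' := K') hK) _)

/-- The places over a place are conjugate. -/
lemma exists_galPlace_eq {Q Q' : Place k K'} {P : Place k K} (hQ : IsOver Q P) (hQ' : IsOver Q' P) :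
    ∃ σ : K' ≃ₐ[K] K', galPlace σ Q = Q' := by
  classical
  by_contra hcon
  push Not at hcon
  obtain ⟨hfin, -⟩ := finite_over_and_sum (K' := K') hK P
  obtain ⟨z, hz⟩ := approx hfin.toFinset (fun R => if R = Q then 0 else 1) (fun _ => -1)
  have hzle : ∀ R : Place k K', IsOver R P → R.1 z ≤ 1 ∧ (R ≠ Q → R.1 z = 1) := fun R hR => by
    have h := hz R (hfin.mem_toFinset.2 hR)
    rcases eq_or_ne R Q with rfl | hne
    · simp only [if_pos, sub_zero] at h
      exact ⟨h.trans (by rw [← WithZero.exp_zero, WithZero.exp_le_exp]; omega), fun h' => absurd rfl h'⟩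
    · simp only [if_neg hne] at h
      have h1 : R.1 z = 1 := by
        rw [Valuation.map_eq_of_sub_lt _ (x := 1) (h.trans_lt (by
          rw [map_one, ← WithZero.exp_zero, WithZero.exp_lt_exp]; omega)), map_one]
      exact ⟨h1.le, fun _ => h1⟩
  have hQz : Q.1 z < 1 := by
    have h := hz Q (hfin.mem_toFinset.2 hQ)
    simp only [if_pos, sub_zero] at h
    exact (v_lt_one_iff_le_exp Q z).2 h
  have hQ'z : ∀ σ : K' ≃ₐ[K] K', Q'.1 (σ z) = 1 := fun σ =>
    (hzle _ (isOver_galPlace hQ')).2 fun h => hcon σ⁻¹ (by rw [← h, galPlace_symm])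
  have h0 : ∀ τ : K' ≃ₐ[K] K', τ (∏ σ : K' ≃ₐ[K] K', σ z) = ∏ σ : K' ≃ₐ[K] K', σ z := fun τ => by
    rw [map_prod]
    exact Fintype.prod_equiv (Equiv.mulLeft τ) _ _ fun σ => rfl
  obtain ⟨c, hc⟩ := (IsGalois.mem_range_algebraMap_iff_fixed _).2 h0
  have h1 : Q'.1 (algebraMap K K' c) = 1 := by
    rw [hc, map_prod]; exact Finset.prod_eq_one fun σ _ => hQ'z σ
  obtain ⟨e, he⟩ := hQ
  obtain ⟨e', he'⟩ := hQ'
  have hP : P.1 c = 1 := by
    rw [he' c] at h1
    exact (pow_eq_one_iff (a := P.1 c)).1 h1 |>.resolve_right (pos_of_isOverWith he').ne'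
  have h2 : Q.1 (algebraMap K K' c) = 1 := by rw [he c, hP, one_pow]
  rw [hc, ← Finset.mul_prod_erase _ _ (Finset.mem_univ (1 : K' ≃ₐ[K] K')), AlgEquiv.one_apply, map_mul] at h2
  refine (lt_of_le_of_lt (mul_le_of_le_one_right' ?_) hQz).ne h2
  rw [map_prod]
  exact Finset.prod_le_one' fun σ _ => (hzle _ (isOver_galPlace ⟨e, he⟩)).1

end Groth.Agent.FF
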