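import Mathlib
import Groth.Agent.FF.Conorm
import Groth.Agent.FF.GaloisPlaces
import Groth.Agent.FF.ConstExt

/-! Places in a quadratic extension of function fields. -/

set_option autoImplicit false
set_option linter.style.haveILetI false

namespace Groth.Agent.FF.Quad

attribute [local instance high] FunFld.Place.algRes
attribute [-instance] IsLocalRing.instModuleResidueFieldOfAlgebra

open FunFld
open scoped WithZero

universe u v w

variable {k : Type u} {K : Type v} {K' : Type w} [Field k] [Field K] [Field K'] [Algebra k K] [Algebra K K']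
  [Algebra k K'] [IsScalarTower k K K']

section repr

omit [Algebra k K] [Algebra k K'] [IsScalarTower k K K']

lemma exists_repr (hdeg : Module.finrank K K' = 2) {s : K'} (hs : s ∉ Set.range (algebraMap K K')) (z : K') :
    ∃ a b : K, z = algebraMap K K' a + algebraMap K K' b * s := by
  haveI : FiniteDimensional K K' := Module.finite_of_finrank_eq_succ hdeg
  have hli : LinearIndependent K ![(1 : K'), s] := by
    rw [LinearIndependent.pair_iff]
    intro a b h
    rw [Algebra.smul_def, Algebra.smul_def, mul_one] at h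
    by_cases hb : b = 0
    · subst hb
      rw [map_zero, zero_mul, add_zero] at h
      exact ⟨(map_eq_zero _).1 h, rfl⟩
    · refine absurd ⟨-(a / b), ?_⟩ hs
      have hb' : algebraMap K K' b ≠ 0 := (map_ne_zero _).2 hb
      rw [map_neg, map_div₀]
      field_simp
      linear_combination -h
  have hspan := hli.span_eq_top_of_card_eq_finrank' (by rw [Fintype.card_fin, hdeg])
  obtain ⟨a, b, h⟩ : ∃ a b : K, a • (1 : K') + b • s = z := by
    have hz : z ∈ Submodule.span K ({1, s} : Set K') := by
      have h : z ∈ Submodule.span K (Set.range ![(1 : K'), s]) := hspan ▸ Submodule.mem_top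
      rwa [Matrix.range_cons_cons_empty] at h
    exact Submodule.mem_span_pair.1 hz
  exact ⟨a, b, by rw [← h, Algebra.smul_def, Algebra.smul_def, mul_one]⟩

lemma repr_zero {s : K'} (hs : s ∉ Set.range (algebraMap K K')) {a b : K}
    (h : algebraMap K K' a + algebraMap K K' b * s = 0) : a = 0 ∧ b = 0 := by
  by_cases hb : b = 0
  · subst hb
    rw [map_zero, zero_mul, add_zero] at h
    exact ⟨(map_eq_zero _).1 h, rfl⟩
  · refine absurd ⟨-(a / b), ?_⟩ hs
    have hb' : algebraMap K K' b ≠ 0 := (map_ne_zero _).2 hb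
    rw [map_neg, map_div₀]
    field_simp
    linear_combination -h

end repr

variable (hK : IsFunctionField k K) (hdeg : Module.finrank K K' = 2) {Q : Place k K'} {P : Place k K}

include hK hdeg

lemma sum_eq : {Q : Place k K' | IsOver Q P}.Finite ∧ ∀ Qs : Finset (Place k K'), (∀ Q, Q ∈ Qs ↔ IsOver Q P) →
    ∑ Q ∈ Qs, ramIdx Q P * Q.deg = 2 * P.deg := by
  haveI : FiniteDimensional K K' := Module.finite_of_finrank_eq_succ hdeg
  obtain ⟨h1, h2⟩ := finite_over_and_sum (K' := K') hK P
  exact ⟨h1, fun Qs h => hdeg ▸ h2 Qs h⟩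

lemma deg_le_deg {e : ℕ} (h : IsOverWith Q P e) : P.deg ∣ Q.deg ∧ 0 < Q.deg := by
  haveI : FiniteDimensional K K' := Module.finite_of_finrank_eq_succ hdeg
  refine ⟨?_, deg_pos_over hK Q⟩
  letI : Algebra (IsLocalRing.ResidueField P.O) (IsLocalRing.ResidueField Q.O) := (resOver ⟨e, h⟩).toAlgebra
  letI algP : Algebra k (IsLocalRing.ResidueField P.O) := Place.algRes P
  letI algQ : Algebra k (IsLocalRing.ResidueField Q.O) := Place.algRes Q
  haveI : IsScalarTower k (IsLocalRing.ResidueField P.O) (IsLocalRing.ResidueField Q.O) :=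
    IsScalarTower.of_algebraMap_eq fun c => (resOver_algebraMap ⟨e, h⟩ c).symm
  show Module.finrank k (IsLocalRing.ResidueField P.O) ∣ Module.finrank k (IsLocalRing.ResidueField Q.O)
  exact Dvd.intro _ (Module.finrank_mul_finrank k (IsLocalRing.ResidueField P.O) (IsLocalRing.ResidueField Q.O))

lemma e_le_two {e : ℕ} (h : IsOverWith Q P e) : e ≤ 2 := by
  obtain ⟨hfin, hsum⟩ := sum_eq hK hdeg (P := P) (K' := K')
  have h1 : ramIdx Q P * Q.deg ≤ 2 * P.deg := (hsum hfin.toFinset fun R => hfin.mem_toFinset) ▸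
    Finset.single_le_sum (f := fun R : Place k K' => ramIdx R P * R.deg) (fun _ _ => Nat.zero_le _)
      (hfin.mem_toFinset.2 ⟨e, h⟩)
  obtain ⟨hdvd, hpos⟩ := deg_le_deg hK hdeg h
  rw [ramIdx_eq h] at h1
  have h2 := Nat.le_of_dvd hpos hdvd
  have h3 := deg_pos hK P
  nlinarith

/-- A ramified place is the only one above, with trivial residue extension. -/
theorem of_ramified (h : IsOverWith Q P 2) :
    (∀ R : Place k K', IsOver R P → R = Q) ∧ Q.deg = P.deg := by
  classical
  obtain ⟨hfin, hsum⟩ := sum_eq hK hdeg (P := P) (K' := K')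
  have hQ := hfin.mem_toFinset.2 (⟨2, h⟩ : IsOver Q P)
  have hs := hsum hfin.toFinset fun R => hfin.mem_toFinset
  rw [← Finset.add_sum_erase _ _ hQ, ramIdx_eq h] at hs
  obtain ⟨hdvd, hpos⟩ := deg_le_deg hK hdeg h
  have h2 := Nat.le_of_dvd hpos hdvd
  refine ⟨fun R hR => by_contra fun hne => ?_, by omega⟩
  obtain ⟨e, he⟩ := hR
  have h4 : ramIdx R P * R.deg ≤ ∑ S ∈ hfin.toFinset.erase Q, ramIdx S P * S.deg :=
    Finset.single_le_sum (f := fun S : Place k K' => ramIdx S P * S.deg) (fun _ _ => Nat.zero_le _)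
      (Finset.mem_erase.2 ⟨hne, hfin.mem_toFinset.2 ⟨e, he⟩⟩)
  rw [ramIdx_eq he] at h4
  have h5 := Nat.mul_pos (pos_of_isOverWith he) (deg_le_deg hK hdeg he).2
  omega

/-- If some element of `K` is a square in `K'` of odd order, the place ramifies. -/
theorem ramified_of_odd {s : K'} {r : K} {e : ℕ} (h : IsOverWith Q P e)
    (hord : 2 * Q.ord s = e * P.ord r) (hodd : Odd (P.ord r)) : e = 2 ∧ Q.ord s = P.ord r := by
  have h1 := pos_of_isOverWith h
  have h2 := e_le_two hK hdeg h
  rcases (show e = 1 ∨ e = 2 by omega) with rfl | rfl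
  · obtain ⟨m, hm⟩ := hodd
    omega
  · exact ⟨rfl, by omega⟩

/-- A place at which a generator has unit discriminant is unramified. -/
theorem unramified_of_disc {s : K'} (hs : s ∉ Set.range (algebraMap K K')) {τ ν : K}
    (hrel : s ^ 2 = algebraMap K K' τ * s + algebraMap K K' ν) {e : ℕ} (h : IsOverWith Q P e)
    (hs1 : Q.1 s ≤ 1) (hdisc : Q.1 (2 * s - algebraMap K K' τ) = 1) : e = 1 := by
  have h1 := pos_of_isOverWith h
  have h2 := e_le_two hK hdeg h
  by_contra hne
  obtain rfl : e = 2 := by omega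
  obtain ⟨t, ht⟩ := exists_unif Q
  obtain ⟨a, b, hab⟩ := exists_repr hdeg hs t
  have ht0 : t ≠ 0 := fun h0 => by rw [h0, map_zero] at ht; exact WithZero.exp_ne_zero ht.symm
  have hb : b ≠ 0 := by
    rintro rfl
    rw [map_zero, zero_mul, add_zero] at hab
    have := ord_of_isOverWith h a
    rw [← hab, (ord_eq_iff Q ht0).2 (show Q.1 t = WithZero.exp (-1) from ht)] at this
    omega
  set t' := algebraMap K K' (a + b * τ) - algebraMap K K' b * s with ht'
  have hN : algebraMap K K' (a ^ 2 + a * b * τ - b ^ 2 * ν) = t * t' := by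
    rw [ht', hab]
    simp only [map_sub, map_add, map_mul, map_pow]
    linear_combination (algebraMap K K' b) ^ 2 * hrel
  have hd : t - t' = algebraMap K K' b * (2 * s - algebraMap K K' τ) := by
    rw [ht', hab, map_add, map_mul]; ring
  have hd0 : algebraMap K K' b ≠ 0 := (map_ne_zero _).2 hb
  have hvd : Q.1 (t - t') = WithZero.exp (-(2 * P.ord b)) := by
    rw [hd, map_mul, hdisc, mul_one, v_eq_exp Q hd0, ord_of_isOverWith h b]; norm_num
  have ht'0 : t' ≠ 0 := fun h0 => by
    rw [h0, sub_zero, ht, WithZero.exp_inj] at hvd; omega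
  have ho : Q.ord t + Q.ord t' = 2 * P.ord (a ^ 2 + a * b * τ - b ^ 2 * ν) := by
    rw [← ord_mul Q ht0 ht'0, ← hN, ord_of_isOverWith h]; norm_num
  rw [(ord_eq_iff Q ht0).2 ht] at ho
  have hm : 1 ≤ P.ord b := by
    by_contra hm
    rcases eq_or_ne (Q.ord t') 1 with h' | h'
    · have := Q.1.map_sub t t'
      rw [hvd, ht, v_eq_exp Q ht'0, h', max_self, WithZero.exp_le_exp] at this
      omega
    · have hne' : Q.1 t ≠ Q.1 (-t') := by
        rw [Valuation.map_neg, ht, v_eq_exp Q ht'0, Ne, WithZero.exp_inj]; omega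
      have h3 := Valuation.map_add_of_distinct_val Q.1 hne'
      rw [← sub_eq_add_neg, hvd, Valuation.map_neg, ht, v_eq_exp Q ht'0] at h3
      rcases max_choice (WithZero.exp (-1 : ℤ)) (WithZero.exp (-Q.ord t')) with h4 | h4 <;>
        · rw [h4, WithZero.exp_inj] at h3
          omega
  have hbs : Q.1 (algebraMap K K' b * s) < Q.1 t := by
    rw [map_mul, ht, v_eq_exp Q hd0, ord_of_isOverWith h b]
    refine lt_of_le_of_lt (mul_le_of_le_one_right' hs1) ?_
    rw [WithZero.exp_lt_exp]
    push_cast
    omega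
  have hva : Q.1 (algebraMap K K' a) = WithZero.exp (-1) := by
    rw [show algebraMap K K' a = t - algebraMap K K' b * s by rw [hab]; ring,
      Valuation.map_sub_eq_of_lt_left Q.1 hbs, ht]
  have ha0 : algebraMap K K' a ≠ 0 := fun h0 => by
    rw [h0, map_zero] at hva; exact WithZero.exp_ne_zero hva.symm
  have := ord_of_isOverWith h a
  rw [(ord_eq_iff Q ha0).2 hva] at this
  omega

lemma conorm_deg (D : Divisor k K) : (conorm K' D).deg = 2 * D.deg := by
  haveI : FiniteDimensional K K' := Module.finite_of_finrank_eq_succ hdeg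
  rw [deg_conorm hK, hdeg]; norm_num

lemma conorm_single_apply {e : ℕ} (n : ℤ) (h : IsOverWith Q P e) :
    conorm K' (Finsupp.single P n) Q = e * n := by
  haveI : FiniteDimensional K K' := Module.finite_of_finrank_eq_succ hdeg
  rw [conorm_apply hK _ ⟨e, h⟩, ramIdx_eq h, Finsupp.single_eq_same]

lemma conorm_single_apply_of_ne {P' : Place k K} (n : ℤ) (h : IsOver Q P') (hne : P' ≠ P) :
    conorm K' (Finsupp.single P n) Q = 0 := by
  haveI : FiniteDimensional K K' := Module.finite_of_finrank_eq_succ hdeg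
  rw [conorm_apply hK _ h, Finsupp.single_eq_of_ne hne, mul_zero]

lemma exists_below (Q : Place k K') : ∃ (P : Place k K) (e : ℕ), IsOverWith Q P e := by
  haveI : FiniteDimensional K K' := Module.finite_of_finrank_eq_succ hdeg
  exact exists_isOver hK Q

lemma exists_above (P : Place k K) : ∃ (Q : Place k K') (e : ℕ), IsOverWith Q P e := by
  haveI : FiniteDimensional K K' := Module.finite_of_finrank_eq_succ hdeg
  exact exists_over (K' := K') hK P

end Groth.Agent.FF.Quad
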