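import Mathlib
import Groth.Prelude.Def_LocRes

/-! The product rule for the Hasse derivatives of Laurent series. -/

set_option autoImplicit false

namespace Groth.Agent.FF

open LaurentSeries HahnSeries

universe u

variable {R : Type u} [CommRing R]

lemma map_single_mul_coe {S : Type*} [CommRing S] (φ : R →+* S) (a : ℤ) (G : PowerSeries R) :
    (single a (1 : R) * (G : R⸨X⸩)).map φ = single a (1 : S) * ((PowerSeries.map φ G : PowerSeries S) : S⸨X⸩) := by
  ext n
  rw [HahnSeries.map_coeff, coeff_single_mul, coeff_single_mul, PowerSeries.coeff_coe, PowerSeries.coeff_coe, one_mul,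
    one_mul]
  split_ifs
  · exact map_zero φ
  · rw [PowerSeries.coeff_map]

lemma map_mul_series {S : Type*} [CommRing S] (φ : R →+* S) (f g : R⸨X⸩) :
    (f * g).map φ = f.map φ * g.map φ := by
  obtain ⟨a, F, rfl⟩ : ∃ (a : ℤ) (F : PowerSeries R), f = single a 1 * (F : R⸨X⸩) :=
    ⟨_, _, f.single_order_mul_powerSeriesPart.symm⟩
  obtain ⟨b, G, rfl⟩ : ∃ (b : ℤ) (G : PowerSeries R), g = single b 1 * (G : R⸨X⸩) :=
    ⟨_, _, g.single_order_mul_powerSeriesPart.symm⟩
  rw [mul_mul_mul_comm, single_mul_single, one_mul, ← PowerSeries.coe_mul, map_single_mul_coe, map_single_mul_coe,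
    map_single_mul_coe, mul_mul_mul_comm, single_mul_single, one_mul, map_mul, PowerSeries.coe_mul]

lemma map_hasseDeriv {S : Type*} [CommRing S] (φ : R →+* S) (n : ℕ) (f : R⸨X⸩) :
    (LaurentSeries.hasseDeriv R n f).map φ = LaurentSeries.hasseDeriv S n (f.map φ) := by
  ext d
  simp only [HahnSeries.map_coeff, hasseDeriv_coeff, map_zsmul]

lemma succ_mul_hasseDeriv (n : ℕ) (f : R⸨X⸩) :
    ((n : R⸨X⸩) + 1) * LaurentSeries.hasseDeriv R (n + 1) f = LocRes.D R (LaurentSeries.hasseDeriv R n f) := by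
  have h := LaurentSeries.hasseDeriv_comp (R := R) 1 n f
  rw [show LocRes.D R (LaurentSeries.hasseDeriv R n f) = LaurentSeries.hasseDeriv R 1 (LaurentSeries.hasseDeriv R n f)
    from rfl, h, Nat.choose_one_right, nsmul_eq_mul, add_comm n 1]
  push_cast
  ring

lemma shift_right {A : Type*} [CommRing A] (n : ℕ) (a b : ℕ → A) :
    ∑ ij ∈ Finset.HasAntidiagonal.antidiagonal n, a ij.1 * (((ij.2 + 1 : ℕ) : A) * b (ij.2 + 1)) =
      ∑ ij ∈ Finset.HasAntidiagonal.antidiagonal (n + 1), a ij.1 * ((ij.2 : A) * b ij.2) := by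
  rw [Finset.Nat.sum_antidiagonal_succ' (n := n)]
  simp only [Nat.cast_zero, zero_mul, mul_zero, zero_add]

lemma shift_left {A : Type*} [CommRing A] (n : ℕ) (a b : ℕ → A) :
    ∑ ij ∈ Finset.HasAntidiagonal.antidiagonal n, (((ij.1 + 1 : ℕ) : A) * a (ij.1 + 1)) * b ij.2 =
      ∑ ij ∈ Finset.HasAntidiagonal.antidiagonal (n + 1), ((ij.1 : A) * a ij.1) * b ij.2 := by
  rw [Finset.Nat.sum_antidiagonal_succ (n := n)]
  simp only [Nat.cast_zero, zero_mul, zero_add]

lemma hasseDeriv_mul_of_torsionFree [IsDomain R] [CharZero R] (n : ℕ) (f g : R⸨X⸩) :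
    LaurentSeries.hasseDeriv R n (f * g) =
      ∑ ij ∈ Finset.HasAntidiagonal.antidiagonal n, LaurentSeries.hasseDeriv R ij.1 f * LaurentSeries.hasseDeriv R ij.2 g := by
  induction n with
  | zero => simp
  | succ n ih =>
    have hne : ((n : R⸨X⸩) + 1) ≠ 0 := by
      intro h
      have h3 : ((n : R⸨X⸩) + 1) = HahnSeries.C ((n : R) + 1) := by rw [map_add, map_natCast, map_one]
      rw [h3, ← map_zero (HahnSeries.C : R →+* R⸨X⸩)] at h
      exact Nat.cast_add_one_ne_zero n (HahnSeries.C_injective h)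
    refine mul_left_cancel₀ hne ?_
    rw [succ_mul_hasseDeriv, ih, map_sum, Finset.mul_sum]
    have hD : ∀ ij : ℕ × ℕ, LocRes.D R (LaurentSeries.hasseDeriv R ij.1 f * LaurentSeries.hasseDeriv R ij.2 g) =
        LaurentSeries.hasseDeriv R ij.1 f * (((ij.2 + 1 : ℕ) : R⸨X⸩) * LaurentSeries.hasseDeriv R (ij.2 + 1) g) +
        (((ij.1 + 1 : ℕ) : R⸨X⸩) * LaurentSeries.hasseDeriv R (ij.1 + 1) f) * LaurentSeries.hasseDeriv R ij.2 g := by
      intro ij
      rw [Derivation.leibniz, smul_eq_mul, smul_eq_mul, Nat.cast_add, Nat.cast_add, Nat.cast_one,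
        succ_mul_hasseDeriv, succ_mul_hasseDeriv]
      ring
    rw [Finset.sum_congr rfl fun ij _ => hD ij, Finset.sum_add_distrib]
    have hsplit : ∀ ij ∈ Finset.HasAntidiagonal.antidiagonal (n + 1),
        ((n : R⸨X⸩) + 1) * (LaurentSeries.hasseDeriv R ij.1 f * LaurentSeries.hasseDeriv R ij.2 g) =
        LaurentSeries.hasseDeriv R ij.1 f * ((ij.2 : R⸨X⸩) * LaurentSeries.hasseDeriv R ij.2 g) +
          ((ij.1 : R⸨X⸩) * LaurentSeries.hasseDeriv R ij.1 f) * LaurentSeries.hasseDeriv R ij.2 g := by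
      intro ij h
      have h' : ((n : R⸨X⸩) + 1) = (ij.1 : R⸨X⸩) + (ij.2 : R⸨X⸩) := by
        exact_mod_cast congrArg (fun m : ℕ => (m : R⸨X⸩)) (Finset.HasAntidiagonal.mem_antidiagonal.1 h).symm
      rw [h']; ring
    rw [Finset.sum_congr rfl hsplit, Finset.sum_add_distrib]
    let A : ℕ → R⸨X⸩ := fun i => LaurentSeries.hasseDeriv R i f
    let B : ℕ → R⸨X⸩ := fun i => LaurentSeries.hasseDeriv R i g
    have h1 := shift_right n A B
    have h2 := shift_left n A B
    simp only [A, B] at h1 h2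
    rw [h1, h2]

/-- The product rule for the Hasse derivatives of Laurent series. -/
theorem hasseDeriv_mul (n : ℕ) (f g : R⸨X⸩) :
    LaurentSeries.hasseDeriv R n (f * g) =
      ∑ ij ∈ Finset.HasAntidiagonal.antidiagonal n, LaurentSeries.hasseDeriv R ij.1 f * LaurentSeries.hasseDeriv R ij.2 g := by
  obtain ⟨a, F, rfl⟩ : ∃ (a : ℤ) (F : PowerSeries R), f = single a 1 * (F : R⸨X⸩) :=
    ⟨_, _, f.single_order_mul_powerSeriesPart.symm⟩
  obtain ⟨b, G, rfl⟩ : ∃ (b : ℤ) (G : PowerSeries R), g = single b 1 * (G : R⸨X⸩) :=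
    ⟨_, _, g.single_order_mul_powerSeriesPart.symm⟩
  let φ : MvPolynomial (ℕ ⊕ ℕ) ℤ →+* R :=
    MvPolynomial.eval₂Hom (Int.castRingHom R) (Sum.elim (fun i => PowerSeries.coeff i F) fun i => PowerSeries.coeff i G)
  let F' : PowerSeries (MvPolynomial (ℕ ⊕ ℕ) ℤ) := PowerSeries.mk fun i => MvPolynomial.X (Sum.inl i)
  let G' : PowerSeries (MvPolynomial (ℕ ⊕ ℕ) ℤ) := PowerSeries.mk fun i => MvPolynomial.X (Sum.inr i)
  have hF : PowerSeries.map φ F' = F := by ext i; simp [F', φ]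
  have hG : PowerSeries.map φ G' = G := by ext i; simp [G', φ]
  set U := single a (1 : MvPolynomial (ℕ ⊕ ℕ) ℤ) * (F' : (MvPolynomial (ℕ ⊕ ℕ) ℤ)⸨X⸩)
  set V := single b (1 : MvPolynomial (ℕ ⊕ ℕ) ℤ) * (G' : (MvPolynomial (ℕ ⊕ ℕ) ℤ)⸨X⸩)
  have hU : U.map φ = single a (1 : R) * (F : R⸨X⸩) := by rw [map_single_mul_coe, hF]
  have hV : V.map φ = single b (1 : R) * (G : R⸨X⸩) := by rw [map_single_mul_coe, hG]
  rw [← hU, ← hV, ← map_mul_series, ← map_hasseDeriv, hasseDeriv_mul_of_torsionFree]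
  have hadd : ∀ (s : Finset (ℕ × ℕ)) (w : ℕ × ℕ → (MvPolynomial (ℕ ⊕ ℕ) ℤ)⸨X⸩),
      (∑ i ∈ s, w i).map φ = ∑ i ∈ s, (w i).map φ := fun s w => by
    ext d
    simp only [HahnSeries.map_coeff, HahnSeries.coeff_sum, map_sum]
  rw [hadd]
  exact Finset.sum_congr rfl fun ij _ => by rw [map_mul_series, map_hasseDeriv, map_hasseDeriv]

/-- The Taylor homomorphism of Laurent series. -/
noncomputable def taylorHom : R⸨X⸩ →+* PowerSeries R⸨X⸩ where
  toFun f := PowerSeries.mk fun n => LaurentSeries.hasseDeriv R n f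
  map_zero' := by ext n; simp
  map_add' f g := by ext n; simp
  map_one' := by
    ext n d
    rw [PowerSeries.coeff_mk, PowerSeries.coeff_one, hasseDeriv_coeff]
    rcases n with _ | n
    · simp
    · rw [if_neg (Nat.succ_ne_zero n)]
      simp only [HahnSeries.coeff_one, HahnSeries.coeff_zero]
      split_ifs with h
      · rw [h, Ring.choose_zero_pos _ (Nat.succ_pos n), zero_smul]
      · simp
  map_mul' f g := by
    ext n : 1
    rw [PowerSeries.coeff_mk, PowerSeries.coeff_mul, hasseDeriv_mul]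
    simp

end Groth.Agent.FF
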