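import Groth.Agent.FF.AlgClosed

/-! A derivation of a function field in characteristic zero, and the finiteness of inflection places. -/

namespace Groth.Agent.FF

open FunFld
open scoped WithZero IntermediateField
open Polynomial (aeval)

variable {k K : Type*} [Field k] [Field K] [Algebra k K]

/-- A derivation killing a transcendental element vanishes. -/
lemma derivation_eq_zero [CharZero k] (hK : IsFunctionField k K) (D : Derivation k K K) {h : K}
    (ht : Transcendental k h) (hh : D h = 0) : D = 0 := by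
  haveI : CharZero K := charZero_of_injective_algebraMap (algebraMap k K).injective
  haveI := finiteDimensional_adjoin hK ht
  have hker : ∀ c : k⟮h⟯, D (c : K) = 0 := by
    rintro ⟨c, hc⟩
    induction hc using IntermediateField.adjoin_induction with
    | mem z hz => change D z = 0; rw [Set.mem_singleton_iff.1 hz]; exact hh
    | algebraMap z => exact D.map_algebraMap z
    | add a b _ _ ha hb => rw [map_add, ha, hb, add_zero]
    | inv a _ ha => rw [Derivation.leibniz_inv, ha, smul_zero]
    | mul a b _ _ ha hb => rw [Derivation.leibniz, ha, hb, smul_zero, smul_zero, add_zero]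
  haveI : Algebra.FormallyUnramified k⟮h⟯ K := Algebra.FormallyUnramified.of_isSeparable _ _
  let D' : Derivation k⟮h⟯ K K := Derivation.mk'
    { toFun := D
      map_add' := map_add D
      map_smul' := fun c z => by
        change D ((c : K) * z) = (c : K) * D z
        rw [Derivation.leibniz, hker, smul_zero, add_zero, smul_eq_mul] } fun a b => D.leibniz a b
  ext z
  have e : D'.liftKaehlerDifferential (KaehlerDifferential.D k⟮h⟯ K z) = D z :=
    D'.liftKaehlerDifferential_comp_D z
  rw [← e, Subsingleton.elim (KaehlerDifferential.D k⟮h⟯ K z) 0, map_zero]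
  rfl

lemma essFiniteType (hK : IsFunctionField k K) : Algebra.EssFiniteType k K := by
  obtain ⟨⟨x, hx, hfin⟩, -⟩ := id hK
  haveI : Algebra.EssFiniteType k k⟮x⟯ := IntermediateField.essFiniteType_iff.2 ⟨{x}, by simp⟩
  haveI := hfin
  exact Algebra.EssFiniteType.comp k k⟮x⟯ K

lemma exists_derivation [CharZero k] (hK : IsFunctionField k K) :
    ∃ (x : K) (D : Derivation k K K), Transcendental k x ∧ D x = 1 := by
  obtain ⟨⟨x, hx, hfin⟩, -⟩ := id hK
  haveI := essFiniteType hK
  obtain ⟨z, hz⟩ : ∃ z : K, KaehlerDifferential.D k K z ≠ 0 := by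
    by_contra hcon
    push Not at hcon
    have hsub : Algebra.FormallyUnramified k K := ⟨subsingleton_of_forall_eq 0 fun w => by
      have hw : w ∈ Submodule.span K (Set.range (KaehlerDifferential.D k K)) :=
        (KaehlerDifferential.span_range_derivation k K).symm ▸ Submodule.mem_top
      have hbot : Submodule.span K (Set.range (KaehlerDifferential.D k K)) = ⊥ :=
        Submodule.span_eq_bot.2 (by rintro _ ⟨a, rfl⟩; exact hcon a)
      rwa [hbot, Submodule.mem_bot] at hw⟩
    haveI := Algebra.FormallyUnramified.isSeparable k K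
    exact hx (Algebra.IsAlgebraic.isAlgebraic x)
  obtain ⟨φ, hφ⟩ : ∃ φ : Module.Dual K Ω[K⁄k], φ (KaehlerDifferential.D k K z) ≠ 0 := by
    by_contra hcon
    push Not at hcon
    exact hz ((Module.forall_dual_apply_eq_zero_iff K _).1 hcon)
  let D₀ : Derivation k K K := φ.compDer (KaehlerDifferential.D k K)
  have hD₀ : D₀ z ≠ 0 := hφ
  have hx0 : D₀ x ≠ 0 := fun h => hD₀ (by rw [derivation_eq_zero hK D₀ hx h]; rfl)
  exact ⟨x, (D₀ x)⁻¹ • D₀, hx, by rw [Derivation.smul_apply, smul_eq_mul, inv_mul_cancel₀ hx0]⟩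

variable [IsAlgClosed k] [CharZero k]

lemma eq_const_of_derivation_eq_zero (hK : IsFunctionField k K) {x : K} {D : Derivation k K K} (hDx : D x = 1)
    {h : K} (hh : D h = 0) : h ∈ Set.range (algebraMap k K) := by
  by_contra hc
  have := derivation_eq_zero hK D (transcendental_of_not_mem hK hc) hh
  rw [this] at hDx
  exact zero_ne_one hDx

/-- Outside finitely many places the derivation preserves integrality and lowers orders by at most one. -/
lemma exists_good_places (hK : IsFunctionField k K) {x : K} (hx : Transcendental k x) {D : Derivation k K K}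
    (hDx : D x = 1) :
    ∃ bad : Set (Place k K), bad.Finite ∧ ∀ P ∉ bad, ∀ (z : K) (n : ℕ), P.1 z ≤ WithZero.exp (-((n : ℤ) + 1)) →
      P.1 (D z) ≤ WithZero.exp (-(n : ℤ)) := by
  classical
  haveI := finiteDimensional_adjoin hK hx
  haveI : CharZero K := charZero_of_injective_algebraMap (algebraMap k K).injective
  obtain ⟨y, hy⟩ := Field.exists_primitive_element k⟮x⟯ K
  have htop : IntermediateField.adjoin k ({x, y} : Set K) = ⊤ := by
    have h := IntermediateField.adjoin_simple_adjoin_simple (F := k) x y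
    rw [hy, IntermediateField.restrictScalars_top] at h
    exact h.symm
  set p := minpoly k⟮x⟯ y
  have hint : IsIntegral k⟮x⟯ y := IsIntegral.of_finite _ y
  have hp' : aeval y (Polynomial.derivative p) ≠ 0 :=
    (Algebra.IsSeparable.isSeparable k⟮x⟯ y).aeval_derivative_ne_zero (minpoly.aeval _ _)
  choose num den hnd using fun i => (IntermediateField.mem_adjoin_simple_iff k ((p.coeff i : k⟮x⟯) : K)).1 (p.coeff i).2
  let N := p.natDegree + 1
  let bad : Set (Place k K) := {P | ¬ P.1 x ≤ 1} ∪ {P | ¬ P.1 y ≤ 1} ∪ {P | ¬ P.1 (D y) ≤ 1} ∪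
    {P | P.1 (aeval y (Polynomial.derivative p)) ≠ 1} ∪
    ⋃ i ∈ Finset.range N, {P | aeval x (den i) ≠ 0 ∧ P.1 (aeval x (den i)) ≠ 1}
  have hfin : ∀ z : K, {P : Place k K | ¬ P.1 z ≤ 1}.Finite := fun z => by
    refine (finite_support hK z).subset fun P hP h0 => hP ?_
    rcases eq_or_ne z 0 with rfl | hz
    · simp
    · exact (v_le_one_iff P hz).2 h0.ge
  have hunit : ∀ z : K, z ≠ 0 → {P : Place k K | P.1 z ≠ 1}.Finite := fun z hz => by
    refine (finite_support hK z).subset fun P hP h0 => hP ?_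
    rw [v_eq_exp P hz, show P.ord z = 0 from h0, neg_zero, WithZero.exp_zero]
  refine ⟨bad, ?_, ?_⟩
  · refine ((((hfin x).union (hfin y)).union (hfin (D y))).union (hunit _ hp')).union
      (Set.Finite.biUnion (Finset.range N).finite_toSet fun i _ => ?_)
    by_cases h : aeval x (den i) = 0
    · exact Set.finite_empty.subset fun P hP => absurd h hP.1
    · exact (hunit _ h).subset fun P hP => hP.2
  intro P hP
  simp only [bad, Set.mem_union, Set.mem_ofPred_eq, not_or, not_not, Set.mem_iUnion, not_exists, not_and] at hP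
  obtain ⟨⟨⟨⟨hxP, hyP⟩, hDyP⟩, hpP⟩, hdenP⟩ := hP
  let R : Subalgebra k K := Algebra.adjoin k {x, y}
  have hxR : x ∈ R := Algebra.subset_adjoin (by simp)
  have hyR : y ∈ R := Algebra.subset_adjoin (by simp)
  have hRint : ∀ r ∈ R, P.1 r ≤ 1 ∧ P.1 (D r) ≤ 1 := by
    intro r hr
    induction hr using Algebra.adjoin_induction with
    | mem z hz =>
      rcases hz with rfl | rfl
      · exact ⟨hxP, by rw [hDx, map_one]⟩
      · exact ⟨hyP, hDyP⟩
    | algebraMap c => exact ⟨P.2.1 c, by simp⟩
    | add a b _ _ ha hb =>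
      exact ⟨(P.1.map_add _ _).trans (max_le ha.1 hb.1), by rw [map_add]; exact (P.1.map_add _ _).trans (max_le ha.2 hb.2)⟩
    | mul a b _ _ ha hb =>
      refine ⟨by rw [map_mul]; exact mul_le_one' ha.1 hb.1, ?_⟩
      rw [Derivation.leibniz, smul_eq_mul, smul_eq_mul]
      refine (P.1.map_add _ _).trans (max_le ?_ ?_) <;> rw [map_mul]
      exacts [mul_le_one' ha.1 hb.2, mul_le_one' hb.1 ha.2]
  -- the local ring of the model
  let S : Set K := {z | ∃ u ∈ R, ∃ w ∈ R, P.1 w = 1 ∧ z * w = u}
  have hRS : ∀ r ∈ R, r ∈ S := fun r hr => ⟨r, hr, 1, R.one_mem, map_one _, mul_one r⟩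
  have hSadd : ∀ a ∈ S, ∀ b ∈ S, a + b ∈ S := by
    rintro a ⟨u, hu, w, hw, hw1, e⟩ b ⟨u', hu', w', hw', hw1', e'⟩
    exact ⟨u * w' + u' * w, R.add_mem (R.mul_mem hu hw') (R.mul_mem hu' hw), w * w', R.mul_mem hw hw',
      by rw [map_mul, hw1, hw1', one_mul], by rw [← e, ← e']; ring⟩
  have hSmul : ∀ a ∈ S, ∀ b ∈ S, a * b ∈ S := by
    rintro a ⟨u, hu, w, hw, hw1, e⟩ b ⟨u', hu', w', hw', hw1', e'⟩
    exact ⟨u * u', R.mul_mem hu hu', w * w', R.mul_mem hw hw', by rw [map_mul, hw1, hw1', one_mul], by rw [← e, ← e']; ring⟩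
  have hSint : ∀ a ∈ S, P.1 a ≤ 1 ∧ P.1 (D a) ≤ 1 := by
    rintro a ⟨u, hu, w, hw, hw1, e⟩
    have h1 : P.1 a ≤ 1 := by
      have := congrArg P.1 e
      rw [map_mul, hw1, mul_one] at this
      rw [this]; exact (hRint u hu).1
    refine ⟨h1, ?_⟩
    have e2 : D a * w = D u - a * D w := by rw [← e, Derivation.leibniz, smul_eq_mul, smul_eq_mul]; ring
    have := congrArg P.1 e2
    rw [map_mul, hw1, mul_one] at this
    rw [this]
    exact (P.1.map_sub _ _).trans (max_le (hRint u hu).2 (by rw [map_mul]; exact mul_le_one' h1 (hRint w hw).2))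
  have haev : ∀ q : Polynomial k, aeval x q ∈ R := fun q =>
    Algebra.adjoin_mono (R := k) (Set.singleton_subset_iff.2 (Set.mem_insert x {y})) (Polynomial.aeval_mem_adjoin_singleton k x)
  obtain ⟨c, hc⟩ := exists_const hK P hxP
  obtain ⟨y₀, hy₀⟩ := exists_const hK P hyP
  set t := x - algebraMap k K c with ht
  have htR : t ∈ R := R.sub_mem hxR (R.algebraMap_mem c)
  -- coefficients of the minimal polynomial modulo `t`
  have hcoef : ∀ i ∈ Finset.range N, ∃ a : k, ∃ s ∈ S, ((p.coeff i : k⟮x⟯) : K) = algebraMap k K a + t * s := by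
    intro i hi
    by_cases h0 : aeval x (den i) = 0
    · exact ⟨0, 0, hRS 0 R.zero_mem, by rw [hnd i, h0, div_zero, map_zero, mul_zero, add_zero]⟩
    have hden : P.1 (aeval x (den i)) = 1 := hdenP i hi h0
    have hdc : (den i).eval c ≠ 0 := by
      intro hd
      obtain ⟨q, hq⟩ := Polynomial.dvd_iff_isRoot.2 hd
      have : P.1 (aeval x (den i)) < 1 := by
        rw [hq, map_mul, map_sub, Polynomial.aeval_X, Polynomial.aeval_C, map_mul]
        exact (mul_le_mul' le_rfl (hRint _ (haev q)).1).trans_lt (by rwa [mul_one])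
      rw [hden] at this; exact lt_irrefl _ this
    set a := (num i).eval c / (den i).eval c
    obtain ⟨q, hq⟩ := Polynomial.dvd_iff_isRoot.2
      (show (num i - Polynomial.C a * den i).IsRoot c by simp [a, div_mul_cancel₀ _ hdc])
    refine ⟨a, aeval x q / aeval x (den i), ⟨_, haev q, _, haev (den i), hden, div_mul_cancel₀ _ h0⟩, ?_⟩
    have e := congrArg (aeval x) hq
    simp only [map_sub, map_mul, Polynomial.aeval_X, Polynomial.aeval_C] at e
    rw [hnd i, ht]
    field_simp
    linear_combination e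
  choose! a s hs hcoef' using hcoef
  let g : Polynomial k := ∑ i ∈ Finset.range N, Polynomial.C (a i) * Polynomial.X ^ i
  have hpy : aeval y p = 0 := minpoly.aeval _ _
  have hsum : aeval y p = ∑ i ∈ Finset.range N, ((p.coeff i : k⟮x⟯) : K) * y ^ i := by
    rw [Polynomial.aeval_eq_sum_range]
    exact Finset.sum_congr rfl fun i _ => rfl
  have hgy : aeval y g = -(t * ∑ i ∈ Finset.range N, s i * y ^ i) := by
    rw [hpy] at hsum
    rw [Finset.mul_sum, ← Finset.sum_neg_distrib]
    simp only [g, map_sum, map_mul, Polynomial.aeval_C, map_pow, Polynomial.aeval_X]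
    rw [← sub_eq_zero, ← Finset.sum_sub_distrib, hsum]
    refine Finset.sum_congr rfl fun i hi => ?_
    rw [hcoef' i hi]; ring
  have hσ : (∑ i ∈ Finset.range N, s i * y ^ i) ∈ S :=
    Finset.sum_induction _ (· ∈ S) (fun a b ha hb => hSadd a ha b hb) (hRS 0 R.zero_mem)
      fun i hi => hSmul _ (hs i hi) _ (hRS _ (R.pow_mem hyR i))
  have hgd : P.1 (aeval y (Polynomial.derivative g) - aeval y (Polynomial.derivative p)) < 1 := by
    have e : aeval y (Polynomial.derivative g) - aeval y (Polynomial.derivative p) =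
        -(t * ∑ i ∈ Finset.range N, s i * ((i : K) * y ^ (i - 1))) := by
      conv_lhs => rw [p.as_sum_range_C_mul_X_pow]
      simp only [g, map_sum, Polynomial.derivative_C_mul_X_pow, map_mul, Polynomial.aeval_C, map_pow,
        Polynomial.aeval_X, map_natCast]
      rw [← Finset.sum_sub_distrib, Finset.mul_sum, ← Finset.sum_neg_distrib]
      refine Finset.sum_congr rfl fun i hi => ?_
      change algebraMap k K (a i) * i * y ^ (i - 1) - ((p.coeff i : k⟮x⟯) : K) * i * y ^ (i - 1) = _
      rw [hcoef' i hi]; ring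
    rw [e, Valuation.map_neg, map_mul]
    refine (mul_le_mul' le_rfl ((P.1.map_sum_le fun i hi => ?_))).trans_lt (by rwa [mul_one])
    exact (hSint _ (hSmul _ (hs i hi) _ (hSmul _ (hRS _ (natCast_mem R i)) _ (hRS _ (R.pow_mem hyR (i - 1)))))).1
  -- `y - y₀` is a multiple of `t`
  obtain ⟨τ, hτS, hτ⟩ : ∃ τ ∈ S, y - algebraMap k K y₀ = t * τ := by
    have hdvd : ∀ q : Polynomial k, aeval y q - algebraMap k K (q.eval y₀) = (y - algebraMap k K y₀) *
        aeval y ((q - Polynomial.C (q.eval y₀)) /ₘ (Polynomial.X - Polynomial.C y₀)) := fun q => by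
      have := congrArg (aeval y) (Polynomial.mul_divByMonic_eq_iff_isRoot.2
        (show (q - Polynomial.C (q.eval y₀)).IsRoot y₀ by simp))
      simp only [map_mul, map_sub, Polynomial.aeval_X, Polynomial.aeval_C] at this
      linear_combination -this
    have hyaev : ∀ q : Polynomial k, aeval y q ∈ R := fun q =>
      Algebra.adjoin_mono (R := k) (Set.singleton_subset_iff.2 (Set.mem_insert_of_mem x (Set.mem_singleton y))) (Polynomial.aeval_mem_adjoin_singleton k y)
    have hcong : ∀ q : Polynomial k, P.1 (aeval y q - algebraMap k K (q.eval y₀)) < 1 := fun q => by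
      rw [hdvd, map_mul]
      exact (mul_le_mul' le_rfl (hRint _ (hyaev _)).1).trans_lt (by rwa [mul_one])
    have hg0 : g.eval y₀ = 0 := by
      by_contra hne
      have h1 : P.1 (aeval y g) < 1 := by
        rw [hgy, Valuation.map_neg, map_mul]
        exact (mul_le_mul' le_rfl (hSint _ hσ).1).trans_lt (by rwa [mul_one])
      have h2 := (P.1.map_sub (aeval y g) (aeval y g - algebraMap k K (g.eval y₀))).trans_lt (max_lt h1 (hcong g))
      rw [sub_sub_cancel, v_algebraMap P hne] at h2
      exact lt_irrefl _ h2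
    obtain ⟨q, hq⟩ := Polynomial.dvd_iff_isRoot.2 hg0
    have hqu : P.1 (aeval y q) = 1 := by
      have hd : aeval y (Polynomial.derivative g) = aeval y q + (y - algebraMap k K y₀) * aeval y (Polynomial.derivative q) := by
        rw [hq]; simp
      have h1 : P.1 (aeval y (Polynomial.derivative g)) = 1 := by
        rw [← sub_add_cancel (aeval y (Polynomial.derivative g)) (aeval y (Polynomial.derivative p)),
          Valuation.map_add_eq_of_lt_right _ (by rw [hpP]; exact hgd), hpP]
      rw [eq_sub_of_add_eq hd.symm, Valuation.map_sub_eq_of_lt_left _ ?_, h1]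
      rw [h1, map_mul]
      exact (mul_le_mul' le_rfl (hRint _ (hyaev _)).1).trans_lt (by rwa [mul_one])
    have hqS : (aeval y q)⁻¹ ∈ S := ⟨1, R.one_mem, aeval y q, hyaev q, hqu,
      inv_mul_cancel₀ fun h => by rw [h, map_zero] at hqu; exact zero_ne_one hqu⟩
    refine ⟨_, hSmul _ (hSmul _ (hRS _ (R.neg_mem R.one_mem)) _ hσ) _ hqS, ?_⟩
    have hq0 : aeval y q ≠ 0 := fun h => by rw [h, map_zero] at hqu; exact zero_ne_one hqu
    rw [hq, map_mul, map_sub, Polynomial.aeval_X, Polynomial.aeval_C] at hgy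
    field_simp
    linear_combination hgy
  have hmod : ∀ r ∈ R, ∃ b : k, ∃ σ ∈ S, r = algebraMap k K b + t * σ := by
    intro r hr
    induction hr using Algebra.adjoin_induction with
    | mem z hz =>
      rcases hz with rfl | rfl
      · exact ⟨c, 1, hRS 1 R.one_mem, by rw [ht]; ring⟩
      · exact ⟨y₀, τ, hτS, by linear_combination hτ⟩
    | algebraMap b => exact ⟨b, 0, hRS 0 R.zero_mem, by ring⟩
    | add a b _ _ ha hb =>
      obtain ⟨a1, σ1, h1, rfl⟩ := ha; obtain ⟨a2, σ2, h2, rfl⟩ := hb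
      exact ⟨a1 + a2, σ1 + σ2, hSadd _ h1 _ h2, by rw [map_add]; ring⟩
    | mul a b _ _ ha hb =>
      obtain ⟨a1, σ1, h1, rfl⟩ := ha; obtain ⟨a2, σ2, h2, rfl⟩ := hb
      exact ⟨a1 * a2, algebraMap k K a1 * σ2 + (algebraMap k K a2 * σ1 + t * (σ1 * σ2)),
        hSadd _ (hSmul _ (hRS _ (R.algebraMap_mem _)) _ h2) _
          (hSadd _ (hSmul _ (hRS _ (R.algebraMap_mem _)) _ h1) _ (hSmul _ (hRS _ htR) _ (hSmul _ h1 _ h2))),
        by rw [map_mul]; ring⟩
  have ht0 : t ≠ 0 := fun h => hx (by rw [sub_eq_zero.1 h]; exact isAlgebraic_algebraMap c)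
  have htpos : 0 < P.ord t := (v_lt_one_iff P ht0).1 hc
  have hfac : ∀ (N : ℕ), ∀ z ∈ S, z ≠ 0 → P.ord z ≤ (N : ℤ) →
      ∃ (m : ℕ) (z' : K), z' ∈ S ∧ P.1 z' = 1 ∧ z = t ^ m * z' := by
    intro N
    induction N with
    | zero =>
      intro z hz hz0 hord
      refine ⟨0, z, hz, le_antisymm (hSint z hz).1 ?_, by simp⟩
      rw [v_eq_exp P hz0, ← WithZero.exp_zero, WithZero.exp_le_exp]; omega
    | succ N ih =>
      intro z hz hz0 hord
      by_cases h1 : P.1 z = 1
      · exact ⟨0, z, hz, h1, by simp⟩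
      have hlt : P.1 z < 1 := lt_of_le_of_ne (hSint z hz).1 h1
      obtain ⟨u, hu, w, hw, hw1, e⟩ := hz
      obtain ⟨b, σ, hσS, hub⟩ := hmod u hu
      have hb : b = 0 := by
        by_contra hb
        have h2 : P.1 u < 1 := by rw [← e, map_mul, hw1, mul_one]; exact hlt
        have h3 : P.1 (t * σ) < 1 := by
          rw [map_mul]; exact (mul_le_mul' le_rfl (hSint σ hσS).1).trans_lt (by rwa [mul_one])
        rw [hub, Valuation.map_add_eq_of_lt_left _ (by rwa [v_algebraMap P hb]), v_algebraMap P hb] at h2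
        exact lt_irrefl _ h2
      rw [hb, map_zero, zero_add] at hub
      have hw0 : w ≠ 0 := fun h => by rw [h, map_zero] at hw1; exact zero_ne_one hw1
      have hwS : w⁻¹ ∈ S := ⟨1, R.one_mem, w, hw, hw1, inv_mul_cancel₀ hw0⟩
      have ez : z = t * (σ * w⁻¹) := by
        rw [← mul_assoc, ← hub, ← e, mul_assoc, mul_inv_cancel₀ hw0, mul_one]
      have hz1 : σ * w⁻¹ ≠ 0 := fun h => hz0 (by rw [ez, h, mul_zero])
      have ho : P.ord z = P.ord t + P.ord (σ * w⁻¹) := by rw [ez]; exact ord_mul P ht0 hz1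
      obtain ⟨m, z', h1', h2', h3'⟩ := ih _ (hSmul _ hσS _ hwS) hz1 (by push_cast at hord; omega)
      exact ⟨m + 1, z', h1', h2', by rw [ez, h3']; ring⟩
  have hall : ∀ z : K, z ≠ 0 → ∃ (j : ℤ) (z' : K), z' ∈ S ∧ P.1 z' = 1 ∧ z = t ^ j * z' := by
    intro z hz
    have hmem : z ∈ IntermediateField.adjoin k ({x, y} : Set K) := htop ▸ IntermediateField.mem_top
    obtain ⟨u, hu, w, hw, rfl⟩ := IntermediateField.mem_adjoin_iff_div.1 hmem
    have hu0 : u ≠ 0 := fun h => hz (by rw [h, zero_div])
    have hw0 : w ≠ 0 := fun h => hz (by rw [h, div_zero])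
    obtain ⟨m, u', hu'S, hu', eu⟩ := hfac _ _ (hRS _ hu) hu0 (Int.self_le_toNat _)
    obtain ⟨l, w', hw'S, hw', ew⟩ := hfac _ _ (hRS _ hw) hw0 (Int.self_le_toNat _)
    obtain ⟨a, ha, b, hb, hb1, e⟩ := id hw'S
    have hw'0 : w' ≠ 0 := fun h => by rw [h, map_zero] at hw'; exact zero_ne_one hw'
    have hwinv : w'⁻¹ ∈ S := ⟨b, hb, a, ha, by rw [← e, map_mul, hw', hb1, one_mul], by rw [← e]; field_simp⟩
    refine ⟨(m : ℤ) - l, u' * w'⁻¹, hSmul _ hu'S _ hwinv, by rw [map_mul, map_inv₀, hu', hw', inv_one, mul_one], ?_⟩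
    rw [eu, ew, zpow_sub₀ ht0, zpow_natCast, zpow_natCast]
    field_simp
  have hto : P.ord t = 1 := by
    obtain ⟨z, hz0, hz⟩ := exists_ord_eq P 1
    obtain ⟨j, z', -, hz', rfl⟩ := hall z hz0
    have hz'0 : z' ≠ 0 := fun h => by rw [h, map_zero] at hz'; exact zero_ne_one hz'
    rw [ord_mul P (zpow_ne_zero j ht0) hz'0, ord_zpow, (ord_eq_iff P hz'0 (n := 0)).2 (by simpa using hz'), add_zero] at hz
    rcases Int.eq_one_or_neg_one_of_mul_eq_one' hz with ⟨-, h⟩ | ⟨-, h⟩ <;> omega
  intro z n hzn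
  rcases eq_or_ne z 0 with rfl | hz0
  · simp
  obtain ⟨j, z', hz'S, hz', rfl⟩ := hall z hz0
  have hz'0 : z' ≠ 0 := fun h => by rw [h, map_zero] at hz'; exact zero_ne_one hz'
  have hj : (n : ℤ) + 1 ≤ j := by
    have := (v_le_exp_iff P hz0).1 hzn
    rw [ord_mul P (zpow_ne_zero j ht0) hz'0, ord_zpow, hto, (ord_eq_iff P hz'0 (n := 0)).2 (by simpa using hz')] at this
    omega
  lift j to ℕ using by omega with i
  rw [zpow_natCast, Derivation.leibniz, Derivation.leibniz_pow, smul_eq_mul, smul_eq_mul]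
  have hvt : ∀ e : ℕ, n ≤ e → P.1 (t ^ e) ≤ WithZero.exp (-(n : ℤ)) := fun e he => by
    rw [v_le_exp_iff P (pow_ne_zero e ht0), ord_pow, hto]; omega
  refine (P.1.map_add _ _).trans (max_le ?_ ?_)
  · rw [map_mul]; exact (mul_le_mul' (hvt i (by omega)) (hSint z' hz'S).2).trans_eq (mul_one _)
  · have hDt : D t = 1 := by rw [ht, map_sub, hDx, Derivation.map_algebraMap, sub_zero]
    rw [map_mul, hz', one_mul, hDt, nsmul_eq_mul, smul_eq_mul, mul_one, map_mul]
    exact (mul_le_mul' ((hRint _ (natCast_mem R i)).1) (hvt (i - 1) (by omega))).trans_eq (one_mul _)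

/-- Only finitely many places carry an element of `W` vanishing to order `dim W`. -/
lemma finite_inflection (hK : IsFunctionField k K) (W : Submodule k K) [FiniteDimensional k W] :
    {P : Place k K | ∃ h ∈ W, h ≠ 0 ∧ P.1 h ≤ WithZero.exp (-(Module.finrank k W : ℤ))}.Finite := by
  obtain ⟨x, D, hx, hDx⟩ := exists_derivation hK
  obtain ⟨bad, hbad, hgood⟩ := exists_good_places hK hx hDx
  have key : ∀ (n : ℕ) (W : Submodule k K), FiniteDimensional k W → Module.finrank k W = n →
      {P : Place k K | ∃ h ∈ W, h ≠ 0 ∧ P.1 h ≤ WithZero.exp (-(Module.finrank k W : ℤ))}.Finite := by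
    intro n
    induction n using Nat.strong_induction_on with
    | _ n ih =>
      intro W hfd hn
      by_cases hW : W = ⊥
      · refine Set.finite_empty.subset fun P hP => ?_
        obtain ⟨h, hh, h0, -⟩ := hP
        exact h0 (by simpa [hW] using hh)
      obtain ⟨h1, hh1, h10⟩ := Submodule.exists_mem_ne_zero_of_ne_bot hW
      let L : W →ₗ[k] K := (D.toLinearMap.comp (LinearMap.mulLeft k h1⁻¹)).comp W.subtype
      have hLlt : Module.finrank k (LinearMap.range L) < n := by
        have hker : LinearMap.ker L ≠ ⊥ := fun hb => by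
          have hm : (⟨h1, hh1⟩ : W) ∈ LinearMap.ker L := by
            simp [L, inv_mul_cancel₀ h10]
          rw [hb, Submodule.mem_bot] at hm
          exact h10 (congrArg Subtype.val hm)
        have h2 := L.finrank_range_add_finrank_ker
        have : 0 < Module.finrank k (LinearMap.ker L) := Nat.pos_of_ne_zero fun h => hker (Submodule.finrank_eq_zero.1 h)
        omega
      refine ((hbad.union (finite_support hK h1)).union (ih _ hLlt (LinearMap.range L) inferInstance rfl)).subset ?_
      rintro P ⟨h, hh, h0, hP⟩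
      by_contra hcon
      simp only [Set.mem_union, Function.mem_support, not_or, not_not] at hcon
      obtain ⟨⟨hPbad, hP1⟩, hPR⟩ := hcon
      rw [hn] at hP
      refine hPR ⟨L ⟨h, hh⟩, LinearMap.mem_range_self _ _, ?_, ?_⟩
      · intro hz
        obtain ⟨c, hc⟩ := eq_const_of_derivation_eq_zero hK hDx (show D (h1⁻¹ * h) = 0 from hz)
        have e : h = algebraMap k K c * h1 := by rw [hc]; field_simp
        have hc0 : algebraMap k K c ≠ 0 := fun hz => h0 (by rw [e, hz, zero_mul])
        have := (v_le_exp_iff P h0).1 hP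
        rw [e, ord_mul P hc0 h10, ord_algebraMap, hP1] at this
        omega
      · change P.1 (D (h1⁻¹ * h)) ≤ _
        refine (hgood P hPbad (h1⁻¹ * h) (n - 1) ?_).trans (WithZero.exp_le_exp.2 (by omega))
        rw [map_mul, map_inv₀, v_eq_exp P h10, hP1, neg_zero, WithZero.exp_zero, inv_one, one_mul]
        exact hP.trans (WithZero.exp_le_exp.2 (by omega))
  exact key _ W inferInstance rfl

end Groth.Agent.FF
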