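import Mathlib
import Groth.Prelude.Def_W4bk4goldsch23FF
import Groth.Prelude.Def_LocRes
import Groth.Agent.FF.Derivation
import Groth.Agent.FF.ConstExt
import Groth.Agent.FieldExtLib.Separable
import Groth.Agent.FieldExtLib.CompleteLift

/-! Geometric function fields: separating elements, differentials, Hasse families. -/

set_option autoImplicit false

namespace Groth.Agent.FF

open FunFld
open scoped WithZero IntermediateField TensorProduct

universe u v w

variable {k : Type u} {K : Type v} [Field k] [Field K] [Algebra k K]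

/-- Over a perfect field every function field is geometric. -/
theorem isGeometric_of_perfect [PerfectField k] (hK : IsFunctionField k K) : IsGeometric k K := by
  intro k' _ _ hfin
  let pb := Field.powerBasisOfFiniteOfSeparable k k'
  set f := minpoly k pb.gen
  have hf : f.Monic := minpoly.monic (IsIntegral.of_finite k _)
  haveI : Fact (Irreducible (f.map (algebraMap k K))) :=
    ⟨irreducible_map_const hK hf (minpoly.irreducible (IsIntegral.of_finite k _))⟩
  haveI : Nontrivial (K ⊗[k] k') :=
    (Algebra.TensorProduct.includeRight_injective (A := K) (B := k') (algebraMap k K).injective).nontrivial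
  let ψ : AdjoinRoot (f.map (algebraMap k K)) →+* K ⊗[k] k' :=
    AdjoinRoot.lift (algebraMap K (K ⊗[k] k')) (1 ⊗ₜ pb.gen) (by
      rw [Polynomial.eval₂_map]
      have h : (algebraMap K (K ⊗[k] k')).comp (algebraMap k K) =
          (Algebra.TensorProduct.includeRight : k' →ₐ[k] K ⊗[k] k').toRingHom.comp (algebraMap k k') :=
        RingHom.ext fun c => by
          simp only [RingHom.comp_apply, AlgHom.toRingHom_eq_coe, RingHom.coe_coe, AlgHom.commutes,
            ← IsScalarTower.algebraMap_apply]
      rw [h, ← Algebra.TensorProduct.includeRight_apply (R := k) (A := K) pb.gen]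
      erw [← Polynomial.hom_eval₂]
      rw [← Polynomial.aeval_def, minpoly.aeval, map_zero])
  have hsurj : Function.Surjective ψ := by
    rw [← RingHom.range_eq_top, eq_top_iff]
    intro z hz
    clear hz
    induction z using TensorProduct.induction_on with
    | zero => exact Subring.zero_mem _
    | add a b ha hb => exact Subring.add_mem _ ha hb
    | tmul a y =>
      obtain ⟨q, -, rfl⟩ := pb.exists_eq_aeval y
      have e : a ⊗ₜ[k] (Polynomial.aeval pb.gen q) =
          algebraMap K (K ⊗[k] k') a * Polynomial.aeval (1 ⊗ₜ[k] pb.gen : K ⊗[k] k') q := by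
        rw [← Algebra.TensorProduct.includeRight_apply (R := k) (A := K), Polynomial.aeval_algHom_apply,
          Algebra.TensorProduct.includeRight_apply, Algebra.TensorProduct.algebraMap_apply,
          Algebra.TensorProduct.tmul_mul_tmul, mul_one, one_mul, Algebra.algebraMap_self, RingHom.id_apply]
      rw [e]
      refine Subring.mul_mem _ ⟨AdjoinRoot.of _ a, AdjoinRoot.lift_of _⟩ ?_
      clear e
      induction q using Polynomial.induction_on' with
      | add p q hp hq => rw [map_add]; exact Subring.add_mem _ hp hq
      | monomial n c =>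
        rw [Polynomial.aeval_monomial]
        have hr : (1 ⊗ₜ[k] pb.gen : K ⊗[k] k') ∈ ψ.range := ⟨_, AdjoinRoot.lift_root _⟩
        refine Subring.mul_mem _ ⟨AdjoinRoot.of _ (algebraMap k K c), ?_⟩ (pow_mem hr _)
        rw [AdjoinRoot.lift_of, ← IsScalarTower.algebraMap_apply]
  exact (((RingEquiv.ofBijective ψ ⟨ψ.injective, hsurj⟩).trans
    (Algebra.TensorProduct.comm k K k').toRingEquiv).symm.toMulEquiv).isField (Field.toIsField _)

/-- Geometric function fields are geometrically reduced. -/
theorem isGeometricallyReduced (hg : IsGeometric k K) : Algebra.IsGeometricallyReduced k K := by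
  rw [Algebra.isGeometricallyReduced_field_iff]
  constructor
  rintro z ⟨n, hn⟩
  obtain ⟨E, hE, z', rfl⟩ : ∃ E : IntermediateField k (AlgebraicClosure k), FiniteDimensional k E ∧
      ∃ z', Algebra.TensorProduct.map E.val (AlgHom.id k K) z' = z := by
    clear hn
    induction z using TensorProduct.induction_on with
    | zero => exact ⟨⊥, inferInstance, 0, map_zero _⟩
    | tmul a b =>
      exact ⟨k⟮a⟯, IntermediateField.adjoin.finiteDimensional (Algebra.IsIntegral.isIntegral a),
        IntermediateField.AdjoinSimple.gen k a ⊗ₜ b, by simp⟩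
    | add a b ha hb =>
      obtain ⟨E, hE, a', rfl⟩ := ha
      obtain ⟨E', hE', b', rfl⟩ := hb
      refine ⟨E ⊔ E', inferInstance,
        Algebra.TensorProduct.map (IntermediateField.inclusion (le_sup_left : E ≤ E ⊔ E')) (AlgHom.id k K) a' +
        Algebra.TensorProduct.map (IntermediateField.inclusion (le_sup_right : E' ≤ E ⊔ E')) (AlgHom.id k K) b', ?_⟩
      rw [map_add, ← AlgHom.comp_apply, ← AlgHom.comp_apply, ← Algebra.TensorProduct.map_comp,
        ← Algebra.TensorProduct.map_comp]
      rfl
  have hinj : Function.Injective (Algebra.TensorProduct.map E.val (AlgHom.id k K)) :=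
    Module.Flat.rTensor_preserves_injective_linearMap (M := K) E.val.toLinearMap E.val.injective
  rw [← map_pow] at hn
  have h0 : z' ^ n = 0 := hinj (by rw [hn, map_zero])
  letI := (hg E hE).toField
  rw [eq_zero_of_pow_eq_zero h0, map_zero]

/-- A separating element exists. -/
theorem exists_separating (hK : IsFunctionField k K) (hg : IsGeometric k K) :
    ∃ x : K, Transcendental k x ∧ Algebra.IsSeparable k⟮x⟯ K := by
  classical
  obtain ⟨⟨x₀, hx₀, hfin⟩, -⟩ := id hK
  haveI := essFiniteType hK
  haveI := isGeometricallyReduced hg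
  obtain _ | ⟨p, hp, hpk⟩ := CharP.exists' k
  · haveI : CharZero K := charZero_of_injective_algebraMap (algebraMap k K).injective
    haveI := finiteDimensional_adjoin hK hx₀
    exact ⟨x₀, hx₀, inferInstance⟩
  · haveI : Fact p.Prime := hp
    have hpi := (Groth.Agent.FieldExtLib.isGeometricallyReduced_iff_powIndep p).1 (isGeometricallyReduced hg)
    obtain ⟨s, hs, H⟩ :=
      exists_isTranscendenceBasis_and_isSeparable_of_linearIndepOn_pow_of_essFiniteType
        (k := k) (K := K) p hp.out hpi
    have hb : IsTranscendenceBasis k (fun _ : Fin 1 => x₀) := by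
      have h1 : AlgebraicIndependent k (fun _ : Fin 1 => x₀) := algebraicIndependent_unique_type_iff.2 hx₀
      rw [h1.isTranscendenceBasis_iff_isAlgebraic, ← IntermediateField.isAlgebraic_adjoin_iff_top,
        Set.range_const]
      haveI := finiteDimensional_adjoin hK hx₀
      exact Algebra.IsAlgebraic.of_finite _ _
    have hc : s.card = 1 := by
      have h := hb.lift_cardinalMk_eq hs
      simpa using h.symm
    obtain ⟨x, rfl⟩ := Finset.card_eq_one.1 hc
    refine ⟨x, hs.1.transcendental ⟨x, Finset.mem_singleton_self x⟩, ?_⟩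
    rwa [Finset.coe_singleton] at H

/-- Lifting ring homs along a formally smooth extension into a complete ring. -/
theorem exists_lift_ringHom {S : Type*} {R : Type*} {A : Type*} [CommRing S] [CommRing R] [CommRing A]
    [Algebra S R] [Algebra.FormallySmooth S R] (G : S →+* A) (I : Ideal A) [IsAdicComplete I A]
    (f₀ : R →+* A ⧸ I) (h : ∀ c, f₀ (algebraMap S R c) = Ideal.Quotient.mk I (G c)) :
    ∃ F : R →+* A, (∀ c, F (algebraMap S R c) = G c) ∧ ∀ r, Ideal.Quotient.mk I (F r) = f₀ r := by
  letI := G.toAlgebra
  have e : I = I ^ (0 + 1) := by rw [zero_add, pow_one]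
  let f₁ : R →ₐ[S] A ⧸ I ^ (0 + 1) :=
    { toRingHom := (Ideal.quotEquivOfEq e).toRingHom.comp f₀
      commutes' := fun c => by
        change Ideal.quotEquivOfEq e (f₀ (algebraMap S R c)) = _
        rw [h, Ideal.quotEquivOfEq_mk]
        rfl }
  obtain ⟨F, hF⟩ := Groth.Agent.FieldExtLib.exists_lift_complete I 0 f₁
  refine ⟨F.toRingHom, F.commutes, fun r => ?_⟩
  have h1 := DFunLike.congr_fun hF r
  change Ideal.Quotient.mk _ (F r) = Ideal.quotEquivOfEq e (f₀ r) at h1
  rw [← Ideal.quotEquivOfEq_mk e] at h1
  exact (Ideal.quotEquivOfEq e).injective h1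

section separating

variable {x : K} (hx : Transcendental k x) [Algebra.IsSeparable k⟮x⟯ K]

include hx in
/-- The Hasse family with respect to a separating element exists. -/
theorem exists_hasse : ∃ H : K →ₐ[k] PowerSeries K, LocRes.IsHasseFamily x H := by
  let g : Polynomial k →ₐ[k] PowerSeries K := Polynomial.aeval (PowerSeries.C x + PowerSeries.X)
  let c₀ : PowerSeries K →ₐ[k] K := AlgHom.mk PowerSeries.constantCoeff (fun c => by
    change PowerSeries.constantCoeff (algebraMap k (PowerSeries K) c) = algebraMap k K c
    rw [PowerSeries.algebraMap_apply, PowerSeries.constantCoeff_C])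
  have hg0 : c₀.comp g = Polynomial.aeval x := by
    refine Polynomial.algHom_ext ?_
    simp [g, c₀]
  have hg : ∀ q : nonZeroDivisors (Polynomial k), IsUnit (g q) := fun q => by
    rw [PowerSeries.isUnit_iff_constantCoeff, isUnit_iff_ne_zero]
    change c₀.comp g (q : Polynomial k) ≠ 0
    rw [hg0]
    exact fun h => nonZeroDivisors.coe_ne_zero q (transcendental_iff.1 hx _ h)
  let G : RatFunc k →ₐ[k] PowerSeries K := IsLocalization.liftAlgHom hg
  let e := RatFunc.algEquivOfTranscendental x hx
  let G' : k⟮x⟯ →ₐ[k] PowerSeries K := G.comp e.symm.toAlgHom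
  have hGX : G RatFunc.X = PowerSeries.C x + PowerSeries.X := by
    rw [← RatFunc.algebraMap_X]
    change IsLocalization.lift hg (algebraMap _ _ Polynomial.X) = _
    rw [IsLocalization.lift_eq]
    simp [g]
  have hc : ∀ c : k⟮x⟯, PowerSeries.constantCoeff (G' c) = (c : K) := by
    have h2 : c₀.comp G = (k⟮x⟯.val).comp e.toAlgHom := by
      refine IsLocalization.algHom_ext (nonZeroDivisors (Polynomial k)) ?_
      refine Polynomial.algHom_ext ?_
      change c₀ (G (algebraMap (Polynomial k) (RatFunc k) Polynomial.X)) = _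
      rw [RatFunc.algebraMap_X, hGX]
      simp [c₀, e, Algebra.algHom]
    intro c
    have := DFunLike.congr_fun h2 (e.symm c)
    simpa [G', c₀] using this
  haveI : Algebra.FormallyEtale k⟮x⟯ K := Algebra.FormallyEtale.of_isSeparable _ _
  obtain ⟨F, hF1, hF2⟩ := exists_lift_ringHom (R := K) G'.toRingHom
    (Ideal.span {(PowerSeries.X : PowerSeries K)}) ((Ideal.Quotient.mk _).comp (PowerSeries.C : K →+* PowerSeries K))
    (fun c => by
      change Ideal.Quotient.mk _ (PowerSeries.C (c : K)) = Ideal.Quotient.mk _ (G' c)
      rw [Ideal.Quotient.eq, Ideal.mem_span_singleton, PowerSeries.X_dvd_iff, map_sub,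
        PowerSeries.constantCoeff_C, hc, sub_self])
  refine ⟨{ toRingHom := F, commutes' := fun c => ?_ }, ?_, fun y => ?_⟩
  · change F (algebraMap k K c) = algebraMap k (PowerSeries K) c
    rw [IsScalarTower.algebraMap_apply k k⟮x⟯ K, hF1]
    exact G'.commutes c
  · change F (algebraMap k⟮x⟯ K ⟨x, IntermediateField.mem_adjoin_simple_self k x⟩) = _
    rw [hF1]
    have hX : e.symm ⟨x, IntermediateField.mem_adjoin_simple_self k x⟩ = RatFunc.X := by
      rw [AlgEquiv.symm_apply_eq]; ext; simp [e]
    change G (e.symm _) = _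
    rw [hX, hGX]
  · have h := hF2 y
    rw [RingHom.comp_apply, Ideal.Quotient.eq, Ideal.mem_span_singleton, PowerSeries.X_dvd_iff, map_sub,
      PowerSeries.constantCoeff_C, sub_eq_zero] at h
    exact h

include hx in
/-- A derivation with `D x = 1`. -/
theorem exists_derivation_separating : ∃ D : Derivation k K K, D x = 1 := by
  obtain ⟨H, hH, hH'⟩ := exists_hasse hx
  refine ⟨Derivation.mk'
    { toFun := fun y => PowerSeries.coeff 1 (H y)
      map_add' := fun a b => by simp
      map_smul' := fun c a => by simp } fun a b => ?_, ?_⟩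
  · change PowerSeries.coeff 1 (H (a * b)) = a • PowerSeries.coeff 1 (H b) + b • PowerSeries.coeff 1 (H a)
    rw [map_mul, PowerSeries.coeff_mul, Finset.Nat.sum_antidiagonal_eq_sum_range_succ
      (fun i j => PowerSeries.coeff i (H a) * PowerSeries.coeff j (H b)), Finset.sum_range_succ, Finset.sum_range_one]
    simp only [PowerSeries.coeff_zero_eq_constantCoeff, hH', smul_eq_mul]
    simp [hH']
    ring
  · change PowerSeries.coeff 1 (H x) = 1
    simp [hH]

omit [Algebra.IsSeparable k⟮x⟯ K] in
/-- A derivation vanishing at `x` vanishes on `k(x)`. -/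
theorem derivation_eq_zero_on_adjoin {M : Type*} [AddCommGroup M] [Module K M] [Module k M] [IsScalarTower k K M]
    (D : Derivation k K M) (h : D x = 0) {c : K} (hc : c ∈ k⟮x⟯) : D c = 0 := by
  induction hc using IntermediateField.adjoin_induction with
  | mem z hz => rw [Set.mem_singleton_iff.1 hz]; exact h
  | algebraMap z => exact D.map_algebraMap z
  | add a b _ _ ha hb => rw [map_add, ha, hb, add_zero]
  | inv a _ ha => rw [Derivation.leibniz_inv, ha, smul_zero]
  | mul a b _ _ ha hb => rw [Derivation.leibniz, ha, hb, smul_zero, smul_zero, add_zero]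

/-- A derivation vanishing at a separating element vanishes. -/
theorem derivation_eq_zero_of_separating {M : Type*} [AddCommGroup M] [Module K M] [Module k M]
    [IsScalarTower k K M] (D : Derivation k K M) (h : D x = 0) : D = 0 := by
  haveI : Algebra.FormallyUnramified k⟮x⟯ K := Algebra.FormallyUnramified.of_isSeparable _ _
  let D' : Derivation k⟮x⟯ K M := Derivation.mk'
    { toFun := D
      map_add' := map_add D
      map_smul' := fun c z => by
        change D ((c : K) * z) = (c : K) • D z
        rw [Derivation.leibniz, derivation_eq_zero_on_adjoin D h c.2, smul_zero, add_zero] } fun a b => D.leibniz a b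
  ext z
  have e : D'.liftKaehlerDifferential (KaehlerDifferential.D k⟮x⟯ K z) = D z :=
    D'.liftKaehlerDifferential_comp_D z
  rw [← e, Subsingleton.elim (KaehlerDifferential.D k⟮x⟯ K z) 0, map_zero]
  rfl

/-- `dx` spans the differentials. -/
theorem exists_smul_D_eq (w : Ω[K⁄k]) : ∃ c : K, c • KaehlerDifferential.D k K x = w := by
  rw [← Submodule.mem_span_singleton]
  set N := Submodule.span K {KaehlerDifferential.D k K x}
  have h0 : N.mkQ.compDer (KaehlerDifferential.D k K) = 0 := by
    refine derivation_eq_zero_of_separating (x := x) _ ?_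
    change N.mkQ (KaehlerDifferential.D k K x) = 0
    rw [Submodule.mkQ_apply, Submodule.Quotient.mk_eq_zero]
    exact Submodule.mem_span_singleton_self _
  have hw : w ∈ Submodule.span K (Set.range (KaehlerDifferential.D k K)) :=
    (KaehlerDifferential.span_range_derivation k K).symm ▸ Submodule.mem_top
  refine Submodule.span_le.2 ?_ hw
  rintro _ ⟨a, rfl⟩
  have := DFunLike.congr_fun h0 a
  change N.mkQ (KaehlerDifferential.D k K a) = 0 at this
  rwa [Submodule.mkQ_apply, Submodule.Quotient.mk_eq_zero] at this

include hx in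
theorem D_ne_zero_of_separating : KaehlerDifferential.D k K x ≠ 0 := by
  obtain ⟨D, hD⟩ := exists_derivation_separating hx
  intro h
  have e := D.liftKaehlerDifferential_comp_D x
  rw [h, map_zero, hD] at e
  exact zero_ne_one e

include hx in
theorem finrank_kaehler_of_separating : Module.finrank K Ω[K⁄k] = 1 :=
  finrank_eq_one _ (D_ne_zero_of_separating hx) exists_smul_D_eq

end separating

/-- `dim_K Ω_{K/k} = 1`. -/
theorem finrank_kaehler (hK : IsFunctionField k K) (hg : IsGeometric k K) :
    Module.finrank K Ω[K⁄k] = 1 := by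
  obtain ⟨x, hx, hsep⟩ := exists_separating hK hg
  exact finrank_kaehler_of_separating hx

/-- Every differential is a multiple of a nonzero `dx`. -/
theorem exists_smul_D_eq_of_ne_zero (hK : IsFunctionField k K) (hg : IsGeometric k K) {x : K}
    (hx : KaehlerDifferential.D k K x ≠ 0) (w : Ω[K⁄k]) : ∃ c : K, c • KaehlerDifferential.D k K x = w :=
  exists_smul_eq_of_finrank_eq_one (finrank_kaehler hK hg) hx w

/-- A derivation killing an element with `dx ≠ 0` vanishes. -/
theorem derivation_eq_zero_of_D_ne_zero (hK : IsFunctionField k K) (hg : IsGeometric k K) {x : K}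
    (hx : KaehlerDifferential.D k K x ≠ 0) {M : Type*} [AddCommGroup M] [Module K M] [Module k M]
    [IsScalarTower k K M] (D : Derivation k K M) (h : D x = 0) : D = 0 := by
  ext y
  obtain ⟨c, hc⟩ := exists_smul_D_eq_of_ne_zero hK hg hx (KaehlerDifferential.D k K y)
  have e := congrArg D.liftKaehlerDifferential hc
  rw [map_smul, D.liftKaehlerDifferential_comp_D, D.liftKaehlerDifferential_comp_D, h, smul_zero] at e
  exact e.symm

theorem transcendental_of_D_ne_zero (hK : IsFunctionField k K) {x : K}
    (hx : KaehlerDifferential.D k K x ≠ 0) : Transcendental k x :=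
  transcendental_of_not_mem hK fun ⟨c, hc⟩ => hx (hc ▸ (KaehlerDifferential.D k K).map_algebraMap c)

/-- An element with `dx ≠ 0` is separating. -/
theorem isSeparable_of_D_ne_zero (hK : IsFunctionField k K) (hg : IsGeometric k K) {x : K}
    (hx : KaehlerDifferential.D k K x ≠ 0) : Algebra.IsSeparable k⟮x⟯ K := by
  haveI := finiteDimensional_adjoin hK (transcendental_of_D_ne_zero hK hx)
  haveI : Algebra.EssFiniteType k⟮x⟯ K := by
    haveI := essFiniteType hK
    exact Algebra.EssFiniteType.of_comp k k⟮x⟯ K
  haveI : Algebra.FormallyUnramified k⟮x⟯ K := ⟨subsingleton_of_forall_eq 0 fun w => by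
    have hw : w ∈ Submodule.span K (Set.range (KaehlerDifferential.D k⟮x⟯ K)) :=
      (KaehlerDifferential.span_range_derivation k⟮x⟯ K).symm ▸ Submodule.mem_top
    have h0 : (KaehlerDifferential.D k⟮x⟯ K).restrictScalars k = 0 := by
      refine derivation_eq_zero_of_D_ne_zero hK hg hx _ ?_
      change KaehlerDifferential.D k⟮x⟯ K x = 0
      exact (KaehlerDifferential.D k⟮x⟯ K).map_algebraMap ⟨x, IntermediateField.mem_adjoin_simple_self k x⟩
    have hbot : Submodule.span K (Set.range (KaehlerDifferential.D k⟮x⟯ K)) = ⊥ :=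
      Submodule.span_eq_bot.2 (by rintro _ ⟨a, rfl⟩; exact DFunLike.congr_fun h0 a)
    rwa [hbot, Submodule.mem_bot] at hw⟩
  exact Algebra.FormallyUnramified.isSeparable _ _

/-- `dx ≠ 0` iff `x` is separating. -/
theorem D_ne_zero_iff (hK : IsFunctionField k K) (hg : IsGeometric k K) {x : K} :
    KaehlerDifferential.D k K x ≠ 0 ↔ Transcendental k x ∧ Algebra.IsSeparable k⟮x⟯ K :=
  ⟨fun h => ⟨transcendental_of_D_ne_zero hK h, isSeparable_of_D_ne_zero hK hg h⟩,
    fun ⟨h, _⟩ => D_ne_zero_of_separating h⟩

end Groth.Agent.FF
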