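import Mathlib
import Groth.Prelude.Def_W4bk4goldsch23FF
import Groth.Prelude.Def_LocRes
import Groth.Agent.FF.Sep
import Groth.Agent.FF.Expansion
import Groth.Agent.FF.HasseMul

/-! Differentials and Hasse derivatives read through expansions. -/

set_option autoImplicit false

namespace Groth.Agent.FF

open FunFld LaurentSeries HahnSeries
open scoped WithZero

universe u v w

variable {k : Type u} {K : Type v} [Field k] [Field K] [Algebra k K]

/-- Derivations relative to an embedding are determined by their value at a separating element. -/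
lemma leibniz_smul {L : Type*} [Field L] [Algebra k L] (φ : K →ₐ[k] L) (δ : K →+ L)
    (hk : ∀ c, δ (algebraMap k K c) = 0)
    (hδ : ∀ a b, δ (a * b) = φ a * δ b + φ b * δ a) {x c y : K}
    (h : c • KaehlerDifferential.D k K x = KaehlerDifferential.D k K y) : δ y = φ c * δ x := by
  letI := φ.toRingHom.toAlgebra
  haveI : IsScalarTower k K L := IsScalarTower.of_algebraMap_eq fun c => (φ.commutes c).symm
  let Dv : Derivation k K L := Derivation.mk'
    { toFun := δ
      map_add' := map_add δ
      map_smul' := fun c a => by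
        rw [RingHom.id_apply, Algebra.smul_def c a, hδ, hk, mul_zero, add_zero, φ.commutes, ← Algebra.smul_def] } hδ
  have e := congrArg Dv.liftKaehlerDifferential h
  rw [map_smul, Dv.liftKaehlerDifferential_comp_D, Dv.liftKaehlerDifferential_comp_D] at e
  exact e.symm

/-- `u ↦ d(φ u)/dX`. -/
noncomputable def dLin {F : Type w} [Field F] [Algebra k F] (φ : K →ₐ[k] F⸨X⸩) : K →+ F⸨X⸩ :=
  AddMonoidHom.mk' (fun u => LocRes.D F (φ u)) fun a b => by rw [map_add, map_add]

lemma dLin_algebraMap {F : Type w} [Field F] [Algebra k F] (φ : K →ₐ[k] F⸨X⸩) (c : k) :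
    dLin φ (algebraMap k K c) = 0 := by
  change LocRes.D F (φ (algebraMap k K c)) = 0
  rw [LocRes.map_algebraMap]
  exact LocRes.derivative_C F _

lemma dLin_mul {F : Type w} [Field F] [Algebra k F] (φ : K →ₐ[k] F⸨X⸩) (a b : K) :
    dLin φ (a * b) = φ a * dLin φ b + φ b * dLin φ a := by
  change LocRes.D F (φ (a * b)) = φ a * LocRes.D F (φ b) + φ b * LocRes.D F (φ a)
  rw [map_mul, Derivation.leibniz, smul_eq_mul, smul_eq_mul]

lemma D_exp_eq {F : Type w} [Field F] [Algebra k F] (φ : K →ₐ[k] F⸨X⸩) {x c y : K}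
    (h : c • KaehlerDifferential.D k K x = KaehlerDifferential.D k K y) :
    LocRes.D F (φ y) = φ c * LocRes.D F (φ x) := leibniz_smul φ (dLin φ) (dLin_algebraMap φ) (dLin_mul φ) h

section expansion

variable {P : Place k K} {F : Type w} [Field F] [Algebra k F] {φ : K →ₐ[k] F⸨X⸩}
  (hφ : LocRes.IsExpansionAt P.1 φ)

include hφ in
lemma order_exp {f : K} (hf : f ≠ 0) : (φ f).order = P.ord f := by
  obtain ⟨u, -, -, hv⟩ := exists_eq_single_mul ((map_ne_zero φ).2 hf)
  rw [hφ.1, v_eq_exp P hf, WithZero.exp_inj] at hv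
  omega

include hφ in
lemma coeff_of_lt {f : K} {n : ℤ} (hn : n < 0) (hf : P.1 f ≤ 1) : (φ f).coeff n = 0 :=
  v_le_one_iff_coeff.1 (by rw [hφ.1]; exact hf) n hn

include hφ in
lemma exists_power_series {f : K} (hf : P.1 f ≤ 1) : ∃ G : PowerSeries F, φ f = (G : F⸨X⸩) := by
  obtain ⟨G, hG⟩ := (LaurentSeries.val_le_one_iff_eq_coe F (φ f)).1 (by rw [hφ.1]; exact hf)
  exact ⟨G, hG.symm⟩

include hφ in
/-- The coefficient field is the residue field. -/
theorem exists_residue_equiv :
    ∃ e : IsLocalRing.ResidueField P.O ≃ₐ[k] F, ∀ z : P.O, e (IsLocalRing.residue P.O z) = (φ (z : K)).coeff 0 := by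
  choose G hG using fun z : P.O => exists_power_series hφ z.2
  have hc : ∀ z : P.O, (φ (z : K)).coeff 0 = PowerSeries.constantCoeff (G z) := fun z => by
    rw [hG, PowerSeries.coeff_coe]; simp
  have hinj : Function.Injective (HahnSeries.ofPowerSeries ℤ F) := HahnSeries.ofPowerSeries_injective
  let g : P.O →ₐ[k] F :=
    { toFun := fun z => PowerSeries.constantCoeff (G z)
      map_one' := by
        rw [show G 1 = 1 from hinj (by rw [← hG, map_one]; exact map_one φ), map_one]
      map_mul' := fun a b => by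
        rw [show G (a * b) = G a * G b from hinj (by rw [map_mul, ← hG, ← hG, ← hG]; exact map_mul φ _ _), map_mul]
      map_zero' := by
        rw [show G 0 = 0 from hinj (by rw [← hG, map_zero]; exact map_zero φ), map_zero]
      map_add' := fun a b => by
        rw [show G (a + b) = G a + G b from hinj (by rw [map_add, ← hG, ← hG, ← hG]; exact map_add φ _ _), map_add]
      commutes' := fun c => by
        rw [← hc, show ((algebraMap k P.O c : P.O) : K) = algebraMap k K c from rfl, LocRes.map_algebraMap]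
        simp }
  have hker : ∀ z : P.O, g z = 0 ↔ IsLocalRing.residue P.O z = 0 := fun z => by
    rw [residue_eq_zero_iff (P := P), ← hφ.1, v_lt_one_iff_coeff, show g z = (φ (z : K)).coeff 0 from (hc z).symm]
    refine ⟨fun h m hm => ?_, fun h => h 0 le_rfl⟩
    rcases lt_or_eq_of_le hm with hm | rfl
    · exact coeff_of_lt hφ hm z.2
    · exact h
  let g' : IsLocalRing.ResidueField P.O →ₐ[k] F :=
    Ideal.Quotient.liftₐ _ g fun z hz => (hker z).2 (Ideal.Quotient.eq_zero_iff_mem.2 hz)
  have hsurj : Function.Surjective g' := fun a => by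
    obtain ⟨f, hf, rfl⟩ := hφ.2.1 a
    exact ⟨IsLocalRing.residue P.O ⟨f, hf⟩, (hc ⟨f, hf⟩).symm⟩
  exact ⟨AlgEquiv.ofBijective g' ⟨g'.toRingHom.injective, hsurj⟩, fun z => (hc z).symm⟩

include hφ in
lemma finite_coeffField (hK : IsFunctionField k K) : FiniteDimensional k F := by
  obtain ⟨e, -⟩ := exists_residue_equiv hφ
  haveI : @Module.Finite k (IsLocalRing.ResidueField P.O) _ _ Algebra.toModule := finite_residue hK P
  exact Module.Finite.equiv e.toLinearEquiv

include hφ in
lemma D_exp_unif_coeff {t : K} (ht : P.1 t = WithZero.exp (-1)) :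
    (LocRes.D F (φ t)).coeff 0 ≠ 0 ∧ ∀ m < 0, (LocRes.D F (φ t)).coeff m = 0 := by
  have hle : ∀ m < 1, (φ t).coeff m = 0 := v_le_iff.1 (by rw [hφ.1, ht])
  refine ⟨fun h => ?_, fun m hm => ?_⟩
  · rw [LocRes.D_coeff, zero_add, one_zsmul] at h
    have h2 : Valued.v (φ t) ≤ WithZero.exp (-2 : ℤ) := v_le_iff.2 fun m hm => by
      rcases lt_or_eq_of_le (show m ≤ 1 by omega) with hm' | rfl
      · exact hle m hm'
      · exact h
    rw [hφ.1, ht, WithZero.exp_le_exp] at h2
    omega
  · rw [LocRes.D_coeff]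
    rcases lt_or_eq_of_le (show m + 1 ≤ 0 by omega) with h | h
    · rw [hle _ (by omega), smul_zero]
    · rw [h, zero_smul]

include hφ in
lemma D_ne_zero_unif {t : K} (ht : P.1 t = WithZero.exp (-1)) : KaehlerDifferential.D k K t ≠ 0 := by
  intro h
  have h1 : (0 : K) • KaehlerDifferential.D k K t = KaehlerDifferential.D k K t := by rw [zero_smul, h]
  have h2 := D_exp_eq φ h1
  rw [map_zero, zero_mul] at h2
  exact (D_exp_unif_coeff hφ ht).1 (by rw [h2]; rfl)

include hφ in
/-- The expansion of a nonzero differential is nonzero. -/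
lemma D_exp_ne_zero (hK : IsFunctionField k K) (hg : IsGeometric k K) {x : K}
    (hx : KaehlerDifferential.D k K x ≠ 0) : LocRes.D F (φ x) ≠ 0 := by
  intro h
  obtain ⟨t, ht⟩ := exists_unif P
  obtain ⟨c, hc⟩ := exists_smul_D_eq_of_ne_zero hK hg hx (KaehlerDifferential.D k K t)
  exact (D_exp_unif_coeff hφ ht).1 (by rw [D_exp_eq φ hc, h, mul_zero]; rfl)

include hφ in
lemma vDiff_ne_zero (hK : IsFunctionField k K) (hg : IsGeometric k K) {u x : K} (hu : u ≠ 0)
    (hx : KaehlerDifferential.D k K x ≠ 0) : LocRes.vDiff φ u x ≠ 0 :=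
  (map_ne_zero _).2 (mul_ne_zero ((map_ne_zero φ).2 hu) (D_exp_ne_zero hφ hK hg hx))

/-- A derivation applied coefficientwise. -/
noncomputable def coeffDer (δ : Derivation k F F) (f : F⸨X⸩) : F⸨X⸩ := f.map δ.toLinearMap.toAddMonoidHom

lemma coeffDer_coeff (δ : Derivation k F F) (f : F⸨X⸩) (n : ℤ) : (coeffDer δ f).coeff n = δ (f.coeff n) := rfl

lemma coeffDer_mul (δ : Derivation k F F) (f g : F⸨X⸩) :
    coeffDer δ (f * g) = f * coeffDer δ g + g * coeffDer δ f := by
  ext n
  have hsup : ∀ h : F⸨X⸩, (coeffDer δ h).support ⊆ h.support := fun h m hm h0 => hm (by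
    rw [coeffDer_coeff, h0, map_zero])
  rw [mul_comm g (coeffDer δ f), coeffDer_coeff, HahnSeries.coeff_add, coeff_mul, map_sum,
    coeff_mul_right' g.isPWO_support (hsup g), coeff_mul_left' f.isPWO_support (hsup f), ← Finset.sum_add_distrib]
  refine Finset.sum_congr rfl fun ij _ => ?_
  rw [Derivation.leibniz, smul_eq_mul, smul_eq_mul, coeffDer_coeff, coeffDer_coeff]
  ring

include hφ in
/-- Derivations of the coefficient field over `k` vanish. -/
lemma derivation_coeffField_eq_zero (hK : IsFunctionField k K) (hg : IsGeometric k K) (δ : Derivation k F F) :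
    δ = 0 := by
  obtain ⟨t, ht⟩ := exists_unif P
  have hdt := D_ne_zero_unif hφ ht
  let Δ : K →+ F⸨X⸩ := AddMonoidHom.mk' (fun u => coeffDer δ (φ u)) fun a b => by ext n; simp [coeffDer_coeff]
  have hΔk : ∀ c, Δ (algebraMap k K c) = 0 := fun c => by
    ext n
    change δ ((φ (algebraMap k K c)).coeff n) = 0
    rw [LocRes.map_algebraMap, HahnSeries.C_apply, HahnSeries.coeff_single]
    split_ifs
    · exact δ.map_algebraMap c
    · exact map_zero δ
  have hΔ : ∀ a b, Δ (a * b) = φ a * Δ b + φ b * Δ a := fun a b => by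
    change coeffDer δ (φ (a * b)) = _
    rw [map_mul, coeffDer_mul]; rfl
  set b := LocRes.D F (φ t)
  obtain ⟨hb0, hbneg⟩ := D_exp_unif_coeff hφ ht
  have hvb : Valued.v b = 1 :=
    le_antisymm (v_le_one_iff_coeff.2 hbneg) (le_of_not_gt fun h => hb0 (v_lt_one_iff_coeff.1 h 0 le_rfl))
  have hva : Valued.v (Δ t) < 1 := by
    rw [v_lt_one_iff_coeff]
    intro m hm
    change δ ((φ t).coeff m) = 0
    rw [v_le_iff.1 (show Valued.v (φ t) ≤ WithZero.exp (-1 : ℤ) by rw [hφ.1, ht]) m (by omega), map_zero]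
  ext c
  obtain ⟨f, hf, rfl⟩ := hφ.2.1 c
  obtain ⟨e, he⟩ := exists_smul_D_eq_of_ne_zero hK hg hdt (KaehlerDifferential.D k K f)
  have h1 := leibniz_smul φ Δ hΔk hΔ he
  have h2 := D_exp_eq φ he
  have h3 : Valued.v (LocRes.D F (φ f)) ≤ 1 := by
    rw [v_le_one_iff_coeff]
    intro m hm
    rw [LocRes.D_coeff]
    rcases lt_or_eq_of_le (show m + 1 ≤ 0 by omega) with h | h
    · rw [coeff_of_lt hφ h hf, smul_zero]
    · rw [h, zero_smul]
  rw [h2, map_mul, hvb, mul_one] at h3
  have h4 : Valued.v (Δ f) < 1 := by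
    rw [h1, map_mul]
    exact lt_of_le_of_lt (mul_le_of_le_one_left' h3) hva
  exact (v_lt_one_iff_coeff.1 h4 0 le_rfl : δ ((φ f).coeff 0) = 0)

include hφ in
/-- The coefficient field is separable over `k`. -/
theorem isSeparable_coeffField (hK : IsFunctionField k K) (hg : IsGeometric k K) : Algebra.IsSeparable k F := by
  haveI := finite_coeffField hφ hK
  haveI : Algebra.FormallyUnramified k F := ⟨subsingleton_of_forall_eq 0 fun w => by
    refine (Module.forall_dual_apply_eq_zero_iff F _).1 fun g => ?_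
    have hw : w ∈ Submodule.span F (Set.range (KaehlerDifferential.D k F)) :=
      (KaehlerDifferential.span_range_derivation k F).symm ▸ Submodule.mem_top
    refine Submodule.span_le.2 ?_ hw (x := w) |> LinearMap.mem_ker.1
    rintro _ ⟨a, rfl⟩
    exact LinearMap.mem_ker.2 (DFunLike.congr_fun (derivation_coeffField_eq_zero hφ hK hg (g.compDer (KaehlerDifferential.D k F))) a)⟩
  exact Algebra.FormallyUnramified.isSeparable _ _

include hφ in
/-- A series with prescribed leading coefficient at any order lies in the image. -/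
lemma exists_leading (n : ℤ) (a : F) :
    ∃ y : K, (φ y).coeff n = a ∧ ∀ m < n, (φ y).coeff m = 0 := by
  obtain ⟨t, ht⟩ := exists_unif P
  have ht0 : t ≠ 0 := fun h => by rw [h, map_zero] at ht; exact WithZero.exp_ne_zero ht.symm
  have hn0 : φ (t ^ n) ≠ 0 := (map_ne_zero φ).2 (zpow_ne_zero _ ht0)
  obtain ⟨u, hu, hfu, hv⟩ := exists_eq_single_mul hn0
  have ho : (φ (t ^ n)).order = n := by
    rw [order_exp hφ (zpow_ne_zero _ ht0), ord_zpow, (ord_eq_iff P ht0).2 ht, mul_one]
  rw [ho] at hfu
  obtain ⟨z, hz, hza⟩ := hφ.2.1 (a / PowerSeries.constantCoeff u)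
  obtain ⟨G, hG⟩ := exists_power_series hφ hz
  refine ⟨z * t ^ n, ?_, fun m hm => ?_⟩
  · rw [map_mul, hfu, hG, ← mul_assoc, mul_comm (G : F⸨X⸩), mul_assoc, ← PowerSeries.coe_mul, coeff_single_mul,
      PowerSeries.coeff_coe, sub_self, if_neg (lt_irrefl 0), one_mul]
    rw [hG, PowerSeries.coeff_coe, if_neg (lt_irrefl 0)] at hza
    simp only [Int.natAbs_zero, PowerSeries.coeff_zero_eq_constantCoeff] at hza ⊢
    rw [map_mul, hza, div_mul_cancel₀ _ hu]
  · rw [map_mul, hfu, hG, ← mul_assoc, mul_comm (G : F⸨X⸩), mul_assoc, ← PowerSeries.coe_mul, coeff_single_mul,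
      PowerSeries.coeff_coe, if_pos (by omega), mul_zero]

end expansion

/-- Hasse derivatives go to Hasse derivatives under an expansion with `φ t = X`. -/
theorem exp_hasseD (hK : IsFunctionField k K) (hg : IsGeometric k K) {F : Type w} [Field F] [Algebra k F]
    (φ : K →ₐ[k] F⸨X⸩) {t : K} (hdt : KaehlerDifferential.D k K t ≠ 0) (ht : φ t = HahnSeries.single 1 1)
    (H : K →ₐ[k] PowerSeries K) (hH : LocRes.IsHasseFamily t H) (n : ℕ) (y : K) :
    φ (LocRes.hasseD H n y) = LaurentSeries.hasseDeriv F n (φ y) := by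
  induction n using Nat.strong_induction_on generalizing y with
  | _ n IH =>
    rcases Nat.eq_zero_or_pos n with rfl | hn
    · rw [LocRes.hasseD_apply, PowerSeries.coeff_zero_eq_constantCoeff_apply, hH.2, LaurentSeries.hasseDeriv_zero]
      rfl
    let δ : K →+ F⸨X⸩ := AddMonoidHom.mk'
      (fun y => φ (LocRes.hasseD H n y) - LaurentSeries.hasseDeriv F n (φ y))
      fun a b => by simp only [LocRes.hasseD_apply, map_add]; abel
    have hδk : ∀ c, δ (algebraMap k K c) = 0 := fun c => by
      change φ (LocRes.hasseD H n (algebraMap k K c)) - LaurentSeries.hasseDeriv F n (φ (algebraMap k K c)) = 0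
      rw [LocRes.hasseD_apply, H.commutes, PowerSeries.algebraMap_apply, PowerSeries.coeff_C, if_neg hn.ne',
        map_zero, LocRes.map_algebraMap, HahnSeries.C_apply, LaurentSeries.hasseDeriv_single,
        Ring.choose_zero_pos _ hn, zero_smul, map_zero, sub_zero]
    have hδ : ∀ a b, δ (a * b) = φ a * δ b + φ b * δ a := by
      intro a b
      change φ (LocRes.hasseD H n (a * b)) - LaurentSeries.hasseDeriv F n (φ (a * b)) = φ a * _ + φ b * _
      simp only [LocRes.hasseD_apply, map_mul, PowerSeries.coeff_mul, map_sum, hasseDeriv_mul]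
      rw [← Finset.sum_sub_distrib]
      have hne : ((0, n) : ℕ × ℕ) ≠ (n, 0) := by simp; omega
      rw [← Finset.sum_subset (s₁ := {(0, n), (n, 0)}) (by
          intro ij hij
          rcases Finset.mem_insert.1 hij with rfl | hij
          · simp
          · rw [Finset.mem_singleton.1 hij]; simp) (fun ij hij hne' => by
        have hs := Finset.HasAntidiagonal.mem_antidiagonal.1 hij
        simp only [Finset.mem_insert, Finset.mem_singleton, Prod.ext_iff, not_or, not_and] at hne'
        have h1 := IH ij.1 (by omega) a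
        have h2 := IH ij.2 (by omega) b
        simp only [LocRes.hasseD_apply] at h1 h2
        rw [← h1, ← h2, sub_self])]
      rw [Finset.sum_pair hne]
      simp only [PowerSeries.coeff_zero_eq_constantCoeff, hH.2, LaurentSeries.hasseDeriv_zero, LinearMap.id_apply,
        map_mul]
      change _ = φ a * (φ (PowerSeries.coeff n (H b)) - LaurentSeries.hasseDeriv F n (φ b)) +
        φ b * (φ (PowerSeries.coeff n (H a)) - LaurentSeries.hasseDeriv F n (φ a))
      ring
    have hδt : δ t = 0 := by
      change φ (LocRes.hasseD H n t) - LaurentSeries.hasseDeriv F n (φ t) = 0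
      rw [LocRes.hasseD_apply, hH.1, map_add, PowerSeries.coeff_C, if_neg hn.ne', zero_add, PowerSeries.coeff_X, ht,
        LaurentSeries.hasseDeriv_single]
      rcases eq_or_ne n 1 with rfl | hn1
      · simp
      · rw [if_neg hn1, map_zero, zero_sub, neg_eq_zero,
          show Ring.choose (1 : ℤ) n = 0 by
            rw [← Nat.cast_one, Ring.choose_natCast, Nat.choose_eq_zero_of_lt (by omega), Nat.cast_zero],
          zero_smul, map_zero]
    obtain ⟨c, hc⟩ := exists_smul_D_eq_of_ne_zero hK hg hdt (KaehlerDifferential.D k K y)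
    have h := leibniz_smul φ δ hδk hδ hc
    rw [hδt, mul_zero] at h
    exact sub_eq_zero.1 h

end Groth.Agent.FF
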