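import Mathlib
import Groth.Agent.FF.Diff
import Groth.Agent.FF.Ext
import Groth.Agent.FF.Expansion

/-! The different exponent of an extension of places computed on differentials. -/

set_option autoImplicit false
set_option linter.style.haveILetI false

namespace Groth.Agent.FF

open FunFld LaurentSeries HahnSeries
open scoped WithZero

universe u v w w'

section order

variable {F : Type w} [Field F]

/-- The order of the derivative of a series of positive order. -/
lemma vD_of_order {f : F⸨X⸩} {e : ℕ} (hf : Valued.v f = WithZero.exp (-(e : ℤ))) :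
    ((e : F) ≠ 0 → Valued.v (LocRes.D F f) = WithZero.exp (-((e : ℤ) - 1))) ∧
    ((e : F) = 0 → Valued.v (LocRes.D F f) ≤ WithZero.exp (-(e : ℤ))) := by
  have hlow : ∀ m < (e : ℤ), f.coeff m = 0 := v_le_iff.1 hf.le
  have hD : ∀ m < (e : ℤ) - 1, (LocRes.D F f).coeff m = 0 := fun m hm => by
    rw [LocRes.D_coeff, hlow _ (by omega), smul_zero]
  refine ⟨fun he => ?_, fun he => v_le_iff.2 fun m hm => ?_⟩
  · have hlead : f.coeff e ≠ 0 := fun h => by
      have h2 : Valued.v f ≤ WithZero.exp (-((e : ℤ) + 1)) := v_le_iff.2 fun m hm => by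
        rcases lt_or_eq_of_le (show m ≤ e by omega) with h' | rfl
        · exact hlow m h'
        · exact h
      rw [hf, WithZero.exp_le_exp] at h2
      omega
    have hc : (LocRes.D F f).coeff ((e : ℤ) - 1) ≠ 0 := by
      rw [LocRes.D_coeff, sub_add_cancel, natCast_zsmul, nsmul_eq_mul]
      exact mul_ne_zero he hlead
    have h1 : Valued.v (LocRes.D F f) ≤ WithZero.exp (-((e : ℤ) - 1)) := v_le_iff.2 hD
    refine le_antisymm h1 (le_of_not_gt fun h => ?_)
    rcases eq_or_ne (Valued.v (LocRes.D F f)) 0 with h0 | h0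
    · exact hc (by rw [(map_eq_zero _).1 h0]; rfl)
    have h2 : Valued.v (LocRes.D F f) ≤ WithZero.exp (-(e : ℤ)) := by
      rw [← WithZero.exp_log h0, WithZero.exp_lt_exp] at h
      rw [← WithZero.exp_log h0, WithZero.exp_le_exp]
      omega
    exact hc (v_le_iff.1 h2 _ (by omega))
  · rcases lt_or_eq_of_le (show m ≤ (e : ℤ) - 1 by omega) with h | rfl
    · exact hD m h
    · rw [LocRes.D_coeff, sub_add_cancel, natCast_zsmul, nsmul_eq_mul, he, zero_mul]

end order

variable {k : Type u} {K K' : Type v} [Field k] [Field K] [Field K'] [Algebra k K] [Algebra K K'] [Algebra k K']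
  [IsScalarTower k K K'] {P : Place k K} {F : Type w} [Field F] [Algebra k F] {φ : K →ₐ[k] F⸨X⸩}
  (hφ : LocRes.IsExpansionAt P.1 φ) {F' : Type w'} [Field F'] [Algebra k F'] {ψ : K' →ₐ[k] F'⸨X⸩}
  {Q : Place k K'} (hψ : LocRes.IsExpansionAt Q.1 ψ) {e : ℕ} (he : IsOverWith Q P e)

omit [Field K'] [Algebra K K'] [Algebra k K'] [IsScalarTower k K K'] in
lemma vDiff_one {L : Type v} [Field L] [Algebra k L] {G : Type w'} [Field G] [Algebra k G] (χ : L →ₐ[k] G⸨X⸩) (x : L) :
    LocRes.vDiff χ 1 x = Valued.v (LocRes.D G (χ x)) := by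
  rw [LocRes.vDiff, map_one, one_mul]

include hφ in
omit [Field K'] [Algebra K K'] [Algebra k K'] [IsScalarTower k K K'] in
/-- The differential of a parameter is a unit in the expansion. -/
lemma v_D_unif {t : K} (ht : P.1 t = WithZero.exp (-1)) : Valued.v (LocRes.D F (φ t)) = 1 := by
  obtain ⟨h0, hneg⟩ := D_exp_unif_coeff hφ ht
  exact le_antisymm (v_le_one_iff_coeff.2 hneg) (le_of_not_gt fun h => h0 (v_lt_one_iff_coeff.1 h 0 le_rfl))

include hφ in
/-- Writing a differential downstairs as a multiple of the differential of a parameter. -/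
lemma exists_mul_unif (hK : IsFunctionField k K) (hg : IsGeometric k K) {t : K}
    (ht : P.1 t = WithZero.exp (-1)) (x : K) :
    ∃ c : K, Valued.v (LocRes.D F (φ x)) = P.1 c ∧
      LocRes.D F' (ψ (algebraMap K K' x)) = ψ (algebraMap K K' c) * LocRes.D F' (ψ (algebraMap K K' t)) := by
  obtain ⟨c, hc⟩ := exists_smul_D_eq_of_ne_zero hK hg (D_ne_zero_unif hφ ht) (KaehlerDifferential.D k K x)
  refine ⟨c, ?_, D_exp_eq (ψ.comp (IsScalarTower.toAlgHom k K K')) hc⟩
  rw [D_exp_eq φ hc, map_mul, v_D_unif hφ ht, mul_one, hφ.1]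

include hφ hψ he in
/-- The different exponent computed on any differential is the order of the differential of a parameter. -/
theorem diffExp_eq_unif (hK : IsFunctionField k K) (hg : IsGeometric k K) {t : K}
    (ht : P.1 t = WithZero.exp (-1)) {x : K} (hx : LocRes.vDiff φ 1 x ≠ 0)
    (hx' : LocRes.vDiff ψ 1 (algebraMap K K' x) ≠ 0) :
    Valued.v (LocRes.D F' (ψ (algebraMap K K' t))) = WithZero.exp (-LocRes.diffExp φ ψ e x) := by
  obtain ⟨c, h1, h2⟩ := exists_mul_unif (ψ := ψ) hφ hK hg ht x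
  rw [vDiff_one, h1] at hx
  rw [vDiff_one, h2, map_mul, hψ.1, he c] at hx'
  have hT := right_ne_zero_of_mul hx'
  have hd : LocRes.diffExp φ ψ e x = -WithZero.log (Valued.v (LocRes.D F' (ψ (algebraMap K K' t)))) := by
    rw [LocRes.diffExp, LocRes.ordDiff, LocRes.ordDiff, vDiff_one, vDiff_one, h1, h2, map_mul, hψ.1, he c,
      WithZero.log_mul (pow_ne_zero _ hx) hT, WithZero.log_pow, nsmul_eq_mul]
    ring
  rw [hd, neg_neg, WithZero.exp_log hT]

omit [Field K'] [Algebra K K'] [Algebra k K'] [IsScalarTower k K K'] in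
lemma natCast_eq_zero_iff_of_algebras (G : Type w') [Field G] [Algebra k G] (n : ℕ) :
    (n : G) = 0 ↔ ringChar K ∣ n := by
  rw [← ringChar.spec K n, ← map_natCast (algebraMap k G), ← map_natCast (algebraMap k K), map_eq_zero, map_eq_zero]

include hφ hψ he in
/-- Tame and wild ramification. -/
theorem diffExp_tame (hK : IsFunctionField k K) (hg : IsGeometric k K) {x : K} (hx : LocRes.vDiff φ 1 x ≠ 0)
    (hx' : LocRes.vDiff ψ 1 (algebraMap K K' x) ≠ 0) :
    (¬ (ringChar K ∣ e) → LocRes.diffExp φ ψ e x = (e : ℤ) - 1) ∧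
      (ringChar K ∣ e → (e : ℤ) ≤ LocRes.diffExp φ ψ e x) := by
  obtain ⟨t, ht⟩ := exists_unif P
  have hd := diffExp_eq_unif hφ hψ he hK hg ht hx hx'
  have hf : Valued.v (ψ (algebraMap K K' t)) = WithZero.exp (-(e : ℤ)) := by
    rw [hψ.1, he t, ht, ← WithZero.exp_nsmul]
    congr 1; simp
  refine ⟨fun h => ?_, fun h => ?_⟩
  · have h1 := (vD_of_order hf).1 (mt (natCast_eq_zero_iff_of_algebras (k := k) (K := K) F' e).1 h)
    rw [hd, WithZero.exp_inj] at h1
    omega
  · have h1 := (vD_of_order hf).2 ((natCast_eq_zero_iff_of_algebras (k := k) (K := K) F' e).2 h)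
    rw [hd, WithZero.exp_le_exp] at h1
    omega

end Groth.Agent.FF
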