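import Mathlib

/-! The Wronskian determinant of a family of polynomials in characteristic zero: degree and multiplicities. -/

namespace Groth.Agent.FF

open Polynomial Matrix

variable {k : Type*} [Field k] {m : ℕ}

/-- The Wronskian of a family of polynomials. -/
noncomputable def wr (p : Fin m → k[X]) : k[X] :=
  (Matrix.of fun j i : Fin m => derivative^[(j : ℕ)] (p i)).det

lemma coeff_prod_bound {ι : Type*} (s : Finset ι) (f : ι → k[X]) (e : ι → ℕ) (h : ∀ i ∈ s, (f i).natDegree ≤ e i) :
    (∏ i ∈ s, f i).coeff (∑ i ∈ s, e i) = ∏ i ∈ s, (f i).coeff (e i) := by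
  classical
  induction s using Finset.induction_on with
  | empty => simp
  | insert a s ha ih =>
    rw [Finset.prod_insert ha, Finset.sum_insert ha, Finset.prod_insert ha]
    rw [coeff_mul_add_eq_of_natDegree_le (h a (Finset.mem_insert_self a s)), ih fun i hi => h i (Finset.mem_insert_of_mem hi)]
    exact (natDegree_prod_le s f).trans (Finset.sum_le_sum fun i hi => h i (Finset.mem_insert_of_mem hi))

lemma iterate_derivative_sum_smul {ι : Type*} (s : Finset ι) (c : ι → k) (p : ι → k[X]) (j : ℕ) :
    derivative^[j] (∑ l ∈ s, c l • p l) = ∑ l ∈ s, c l • derivative^[j] (p l) := by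
  rw [← Module.End.pow_apply, map_sum]
  exact Finset.sum_congr rfl fun l _ => by rw [map_smul, Module.End.pow_apply]

lemma wr_change (p : Fin m → k[X]) (c : Matrix (Fin m) (Fin m) k) :
    wr (fun i => ∑ l, c l i • p l) = wr p * Polynomial.C c.det := by
  rw [wr, wr, RingHom.map_det, ← Matrix.det_mul]
  congr 1
  ext j i : 1
  rw [Matrix.mul_apply, Matrix.of_apply, iterate_derivative_sum_smul]
  refine Finset.sum_congr rfl fun l _ => ?_
  rw [Matrix.of_apply, RingHom.mapMatrix_apply, Matrix.map_apply, Polynomial.smul_eq_C_mul, mul_comm]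

lemma det_change_ne_zero {V : Type*} [AddCommGroup V] [Module k V] (p p' : Fin m → V) (hp' : LinearIndependent k p')
    (c : Matrix (Fin m) (Fin m) k) (hc : ∀ i, p' i = ∑ l, c l i • p l) : c.det ≠ 0 := by
  intro h
  obtain ⟨v, hv, hcv⟩ := Matrix.exists_mulVec_eq_zero_iff.2 h
  refine hv (funext fun i => Fintype.linearIndependent_iff.1 hp' v ?_ i)
  simp_rw [hc, Finset.smul_sum, smul_smul]
  rw [Finset.sum_comm]
  refine Finset.sum_eq_zero fun l _ => ?_
  rw [← Finset.sum_smul]
  have := congrFun hcv l
  simp only [Matrix.mulVec, dotProduct, Pi.zero_apply] at this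
  simp_rw [mul_comm (v _)]
  rw [this, zero_smul]

variable [CharZero k]

lemma wr_degree (p : Fin m → k[X]) (h0 : ∀ i, p i ≠ 0) (hinj : Function.Injective fun i => (p i).natDegree) :
    wr p ≠ 0 ∧ (wr p).natDegree + ∑ j : Fin m, (j : ℕ) ≤ ∑ i, (p i).natDegree := by
  classical
  set M : Matrix (Fin m) (Fin m) k[X] := Matrix.of fun j i : Fin m => derivative^[(j : ℕ)] (p i)
  set M' : Matrix (Fin m) (Fin m) k[X] := Matrix.of fun j i : Fin m => X ^ (j : ℕ) * M j i
  have hdet : M'.det = X ^ (∑ j : Fin m, (j : ℕ)) * wr p := by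
    rw [Matrix.det_mul_column, Finset.prod_pow_eq_pow_sum]; rfl
  have hdeg : ∀ j i, (M' j i).natDegree ≤ (p i).natDegree := fun j i => by
    rcases lt_or_ge (p i).natDegree (j : ℕ) with hlt | hle
    · have : M' j i = 0 := by
        simp only [M', M, Matrix.of_apply, iterate_derivative_eq_zero hlt, mul_zero]
      rw [this, natDegree_zero]; exact Nat.zero_le _
    · rw [show M' j i = X ^ (j : ℕ) * derivative^[(j : ℕ)] (p i) from rfl]
      refine natDegree_mul_le.trans ?_
      have := natDegree_iterate_derivative (p i) j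
      rw [natDegree_X_pow]
      omega
  have hcoef : ∀ j i, (M' j i).coeff (p i).natDegree =
      (((p i).natDegree.descFactorial j : ℕ) : k) * (p i).leadingCoeff := fun j i => by
    simp only [M', M, Matrix.of_apply]
    rcases lt_or_ge (p i).natDegree (j : ℕ) with hlt | hle
    · rw [iterate_derivative_eq_zero hlt, Nat.descFactorial_eq_zero_iff_lt.2 hlt]; simp
    · obtain ⟨q, hq⟩ := Nat.exists_eq_add_of_le' hle
      rw [Polynomial.leadingCoeff, hq, coeff_X_pow_mul, coeff_iterate_derivative, nsmul_eq_mul]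
  have hle : M'.det.natDegree ≤ ∑ i, (p i).natDegree := by
    rw [Matrix.det_apply]
    refine natDegree_sum_le_of_forall_le _ _ fun σ _ => (natDegree_smul_le _ _).trans ?_
    exact (natDegree_prod_le _ _).trans (Finset.sum_le_sum fun i _ => hdeg _ _)
  have htop : M'.det.coeff (∑ i, (p i).natDegree) ≠ 0 := by
    have e : M'.det.coeff (∑ i, (p i).natDegree) =
        (Matrix.of fun j i : Fin m => (p i).leadingCoeff * (((p i).natDegree.descFactorial j : ℕ) : k)).det := by
      rw [Matrix.det_apply, Matrix.det_apply, finsetSum_coeff]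
      refine Finset.sum_congr rfl fun σ _ => ?_
      rw [coeff_smul, coeff_prod_bound _ _ _ fun i _ => hdeg _ _]
      congr 1
      exact Finset.prod_congr rfl fun i _ => by rw [hcoef, mul_comm]; rfl
    rw [e, Matrix.det_mul_row]
    refine mul_ne_zero (Finset.prod_ne_zero_iff.2 fun i _ => leadingCoeff_ne_zero.2 (h0 i)) ?_
    have h1 := Matrix.det_eval_matrixOfPolynomials_eq_det_vandermonde (fun i => ((p i).natDegree : k))
      (fun j : Fin m => descPochhammer k j) (fun j => descPochhammer_natDegree k j)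
      (fun j => monic_descPochhammer k j)
    have h2 : (Matrix.vandermonde fun i => ((p i).natDegree : k)).det ≠ 0 :=
      Matrix.det_vandermonde_ne_zero_iff.2 fun a b hab => hinj (Nat.cast_injective hab)
    rw [h1, ← Matrix.det_transpose] at h2
    convert h2 using 2
    ext j i
    simp [Matrix.transpose_apply, descPochhammer_eval_eq_descFactorial]
  have hne : M'.det ≠ 0 := fun h => htop (by rw [h, coeff_zero])
  rw [hdet] at hne hle
  refine ⟨right_ne_zero_of_mul hne, ?_⟩
  rw [natDegree_mul (left_ne_zero_of_mul hne) (right_ne_zero_of_mul hne), natDegree_X_pow] at hle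
  omega

omit [CharZero k] in
lemma wr_dvd (p : Fin m → k[X]) (c : k) (a : Fin m → ℕ) (hp : ∀ i, (X - C c) ^ a i ∣ p i) :
    (X - C c) ^ (∑ i, a i) ∣ (X - C c) ^ (∑ j : Fin m, (j : ℕ)) * wr p := by
  classical
  have hd : ∀ j i : Fin m, (X - C c) ^ a i ∣ (X - C c) ^ (j : ℕ) * derivative^[(j : ℕ)] (p i) := fun j i => by
    refine dvd_trans (pow_dvd_pow _ (by omega : a i ≤ (j : ℕ) + (a i - j))) ?_
    rw [pow_add]
    exact mul_dvd_mul_left _ (pow_sub_dvd_iterate_derivative_of_pow_dvd _ (hp i))
  choose N hN using hd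
  have e : (X - C c) ^ (∑ j : Fin m, (j : ℕ)) * wr p = (X - C c) ^ (∑ i, a i) * (Matrix.of N).det := by
    rw [← Finset.prod_pow_eq_pow_sum, ← Finset.prod_pow_eq_pow_sum, wr, ← Matrix.det_mul_column, ← Matrix.det_mul_row]
    congr 1
    ext j i : 1
    simp only [Matrix.of_apply]
    exact hN j i
  exact e ▸ dvd_mul_right _ _

/-- Multiplicities of the Wronskian dominate the vanishing orders of any other basis. -/
lemma wr_rootMultiplicity (p p' : Fin m → k[X]) (hne : wr p ≠ 0) (hp' : LinearIndependent k p')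
    (hspan : ∀ i, p' i ∈ Submodule.span k (Set.range p)) (c : k) :
    ∑ i, rootMultiplicity c (p' i) ≤ rootMultiplicity c (wr p) + ∑ j : Fin m, (j : ℕ) := by
  classical
  choose A hA using fun i => (Submodule.mem_span_range_iff_exists_fun k).1 (hspan i)
  set M : Matrix (Fin m) (Fin m) k := Matrix.of fun l i => A i l
  have hM : p' = fun i => ∑ l, M l i • p l := funext fun i => (hA i).symm
  have hd : M.det ≠ 0 := det_change_ne_zero p p' hp' M (congrFun hM)
  have hdvd := wr_dvd p' c _ fun i => pow_rootMultiplicity_dvd (p' i) c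
  rw [hM, wr_change, ← mul_assoc] at hdvd
  have hu : IsUnit (C M.det) := Polynomial.isUnit_C.2 (isUnit_iff_ne_zero.2 hd)
  have hdvd' := hu.dvd_mul_right.1 hdvd
  have hne' : (X - C c) ^ (∑ j : Fin m, (j : ℕ)) * wr p ≠ 0 := mul_ne_zero (pow_ne_zero _ (X_sub_C_ne_zero c)) hne
  have hle := (le_rootMultiplicity_iff hne').2 hdvd'
  rw [rootMultiplicity_mul hne', rootMultiplicity_X_sub_C_pow] at hle
  rw [hM]
  omega

lemma sum_rootMultiplicity_le {G : k[X]} (T : Finset k) : ∑ c ∈ T, rootMultiplicity c G ≤ G.natDegree := by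
  classical
  refine le_trans ?_ (card_roots' G)
  simp_rw [← count_roots]
  refine le_trans (Finset.sum_le_sum_of_subset (Finset.subset_union_left (s₂ := G.roots.toFinset))) ?_
  exact (Multiset.sum_count_eq_card fun a ha => Finset.mem_union_right _ (Multiset.mem_toFinset.2 ha)).le

end Groth.Agent.FF
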