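import Groth.Agent.FF.Series
import Groth.Agent.FF.Wronskian

/-! Genus zero: coordinates, the Plücker inequality, cusps. -/

namespace Groth.Agent.FF

open FunFld
open scoped WithZero
open Polynomial (aeval rootMultiplicity)

variable {k : Type*} [Field k]

section filtration

variable {V : Type*} [AddCommGroup V] [Module k V]

/-- A family adapted to a filtration with one-dimensional steps. -/
lemma exists_adapted (N : ℕ) : ∀ (F : ℕ → Submodule k V) (W : Submodule k V), FiniteDimensional k W →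
    (∀ n, Module.finrank k ↥(W ⊓ F n) ≤ Module.finrank k ↥(W ⊓ F (n + 1)) + 1) → Antitone F → W ≤ F 0 →
    W ⊓ F N = ⊥ → ∃ (m : ℕ) (a : Fin m → ℕ) (p : Fin m → V), m = Module.finrank k W ∧ LinearIndependent k p ∧
      (∀ i, p i ∈ W ∧ p i ∈ F (a i) ∧ p i ∉ F (a i + 1)) ∧ Function.Injective a ∧
      ∑ i, a i = ∑ n ∈ Finset.range N, Module.finrank k ↥(W ⊓ F (n + 1)) := by
  induction N with
  | zero =>
    intro F W _ _ _ h0 hN
    rw [inf_eq_left.2 h0] at hN
    exact ⟨0, Fin.elim0, Fin.elim0, by rw [hN, finrank_bot], linearIndependent_empty_type, fun i => i.elim0,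
      fun i => i.elim0, by simp⟩
  | succ N ih =>
    intro F W hfd hstep hanti h0 hN
    have hfd' : FiniteDimensional k ↥(W ⊓ F 1) := Submodule.finiteDimensional_of_le inf_le_left
    have e : ∀ n, (W ⊓ F 1) ⊓ F (n + 1) = W ⊓ F (n + 1) := fun n => by
      rw [inf_assoc, inf_eq_right.2 (hanti (Nat.le_add_left 1 n))]
    have e' : ∀ n, Module.finrank k ↥((W ⊓ F 1) ⊓ F (n + 1)) = Module.finrank k ↥(W ⊓ F (n + 1)) := fun n => by rw [e]
    obtain ⟨m, a, p, hm, hli, hp, hinj, hsum⟩ := ih (fun n => F (n + 1)) (W ⊓ F 1) hfd'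
      (fun n => by rw [e', e']; exact hstep (n + 1)) (fun x y h => hanti (by omega)) inf_le_right
      (by rw [e]; exact hN)
    have hsum' : ∑ n ∈ Finset.range (N + 1), Module.finrank k ↥(W ⊓ F (n + 1)) = ∑ i, (a i + 1) := by
      rw [Finset.sum_range_succ' (fun n => Module.finrank k ↥(W ⊓ F (n + 1))), Finset.sum_add_distrib, hsum,
        Finset.sum_const, Finset.card_univ, Fintype.card_fin, smul_eq_mul, mul_one, hm]
      simp only [e', zero_add]
    have hs0 := hstep 0
    rw [inf_eq_left.2 h0, zero_add] at hs0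
    by_cases hW : W ≤ F 1
    · refine ⟨m, fun i => a i + 1, p, by rw [hm, inf_eq_left.2 hW], hli,
        fun i => ⟨(hp i).1.1, (hp i).2.1, (hp i).2.2⟩, fun i j h => hinj (by simpa using h), hsum'.symm⟩
    · obtain ⟨x, hxW, hx⟩ := SetLike.not_le_iff_exists.1 hW
      have hlt : W ⊓ F 1 < W := lt_of_le_of_ne inf_le_left fun h => hW (inf_eq_left.1 h)
      have hfr := Submodule.finrank_lt_finrank_of_lt hlt
      refine ⟨m + 1, Fin.cons 0 (fun i => a i + 1), Fin.cons x p, by omega, ?_, ?_, ?_, ?_⟩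
      · refine linearIndependent_finCons.2 ⟨hli, fun hmem => hx ?_⟩
        exact (Submodule.span_le.2 (by rintro _ ⟨i, rfl⟩; exact (hp i).1.2)) hmem
      · refine Fin.cases ?_ ?_
        · simpa using ⟨hxW, h0 hxW, hx⟩
        · intro i; simpa using ⟨(hp i).1.1, (hp i).2.1, (hp i).2.2⟩
      · refine Fin.cons_injective_iff.2 ⟨?_, fun i j h => hinj (by simpa using h)⟩
        rintro ⟨i, hi⟩; simp at hi
      · rw [hsum', Fin.sum_univ_succ]; simp

end filtration

variable {K : Type*} [Field K] [Algebra k K] [IsAlgClosed k] (hK : IsFunctionField k K)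

include hK

lemma ell_genus_zero (hg : genus k K = 0) {E : Divisor k K} (h : -1 ≤ E.deg) : (ell E : ℤ) = E.deg + 1 := by
  have := ell_of_deg_large hK (D := E) (by rw [hg]; push_cast; omega)
  rw [hg] at this; push_cast at this; omega

lemma exists_div_eq (hg : genus k K = 0) {E : Divisor k K} (h : E.deg = 0) : ∃ z : K, z ≠ 0 ∧ div k z = E := by
  obtain ⟨z, hz, hzL⟩ := exists_ne_zero_of_ell_pos (D := -E) (by
    have := ell_genus_zero hK hg (E := -E) (by rw [deg_neg, h]; norm_num)
    rw [deg_neg, h] at this; omega)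
  refine ⟨z, hz, ?_⟩
  have := eq_zero_of_nonneg_of_deg hK (le_add_div_of_mem_L hK hz hzL) (by rw [deg_add, deg_neg, deg_div hK, h]; norm_num)
  linear_combination (norm := abel) this

omit [IsAlgClosed k] in
lemma const_of_div_eq_zero {z : K} (hz : z ≠ 0) (h : div k z = 0) : ∃ c : k, z = algebraMap k K c := by
  have hm : z ∈ L (0 : Divisor k K) := (mem_L_iff_ord hz).2 fun P => by
    have := DFunLike.congr_fun h P
    rw [div_apply hK] at this
    simp [this]
  rw [L_zero hK, Submodule.mem_one] at hm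
  obtain ⟨c, hc⟩ := hm
  exact ⟨c, hc.symm⟩

/-- A function with one simple pole takes each value exactly once, with multiplicity one. -/
lemma div_sub_const {P R : Place k K} {x : K} (hx0 : x ≠ 0) (hx : x ∈ L (Finsupp.single P 1 : Divisor k K))
    (hxo : P.ord x = -1) (hR : R ≠ P) {c : k} (hc : R.1 (x - algebraMap k K c) < 1) :
    x - algebraMap k K c ≠ 0 ∧ div k (x - algebraMap k K c) = Finsupp.single R 1 - Finsupp.single P 1 := by
  classical
  have hne : x - algebraMap k K c ≠ 0 := fun h => by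
    rw [sub_eq_zero.1 h, ord_algebraMap] at hxo; omega
  refine ⟨hne, sub_eq_zero.1 (eq_zero_of_nonneg_of_deg hK (fun Q => ?_) ?_)⟩
  · have hmem : x - algebraMap k K c ∈ L (Finsupp.single P 1 : Divisor k K) := by
      refine Submodule.sub_mem _ hx ?_
      rw [← mul_one (algebraMap k K c), ← Algebra.smul_def]
      exact Submodule.smul_mem _ c (one_mem_L (by simp))
    have h1 := (mem_L_iff_ord hne).1 hmem Q
    simp only [Finsupp.coe_zero, Pi.zero_apply, Finsupp.coe_sub, Pi.sub_apply, div_apply hK]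
    rcases eq_or_ne Q R with rfl | hQ
    · have := (v_lt_one_iff Q hne).1 hc
      rw [Finsupp.single_eq_of_ne hR, Finsupp.single_eq_same]; omega
    · rw [Finsupp.single_eq_of_ne hQ]; omega
  · rw [deg_sub, deg_sub, deg_div hK, deg_single_ac hK, deg_single_ac hK]; norm_num

lemma ord_aeval_pole {P : Place k K} {x : K} (hx0 : x ≠ 0) (hxo : P.ord x = -1) {p : Polynomial k} (hp : p ≠ 0) :
    aeval x p ≠ 0 ∧ P.ord (aeval x p) = -(p.natDegree : ℤ) := by
  classical
  have hv : P.1 (aeval x p) = WithZero.exp (p.natDegree : ℤ) := by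
    rw [Polynomial.aeval_eq_sum_range]
    have hterm : ∀ i, P.1 (p.coeff i • x ^ i) = if p.coeff i = 0 then 0 else WithZero.exp (i : ℤ) := fun i => by
      split
      · next h => simp [h]
      · next h =>
        rw [Algebra.smul_def, map_mul, v_algebraMap P h, one_mul, v_eq_exp P (pow_ne_zero i hx0), ord_pow, hxo]
        ring_nf
    have hlead : p.coeff p.natDegree ≠ 0 := Polynomial.leadingCoeff_ne_zero.2 hp
    rw [Valuation.map_sum_eq_of_lt _ (Finset.self_mem_range_succ p.natDegree)
      (fun i hi => ?_), hterm, if_neg hlead]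
    simp only [Finset.mem_sdiff, Finset.mem_range, Finset.mem_singleton] at hi
    obtain ⟨hi, hne⟩ := hi
    rw [hterm, hterm, if_neg hlead]
    split
    · exact WithZero.exp_pos
    · rw [WithZero.exp_lt_exp]; omega
  have hne : aeval x p ≠ 0 := fun h => by rw [h, map_zero] at hv; exact WithZero.exp_ne_zero hv.symm
  exact ⟨hne, (ord_eq_iff P hne).2 (by rw [hv, neg_neg])⟩

lemma ord_aeval_root {P R : Place k K} {x : K} (hx0 : x ≠ 0) (hx : x ∈ L (Finsupp.single P 1 : Divisor k K))
    (hxo : P.ord x = -1) (hR : R ≠ P) {c : k} (hc : R.1 (x - algebraMap k K c) < 1) {p : Polynomial k} (hp : p ≠ 0) :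
    R.ord (aeval x p) = (rootMultiplicity c p : ℤ) := by
  obtain ⟨hne, hdiv⟩ := div_sub_const hK hx0 hx hxo hR hc
  have ho : R.ord (x - algebraMap k K c) = 1 := by
    rw [← div_apply hK, hdiv]; simp [Finsupp.single_eq_of_ne hR]
  obtain ⟨q, hq, hqc⟩ := Polynomial.exists_eq_pow_rootMultiplicity_mul_and_not_dvd p hp c
  rw [Polynomial.dvd_iff_isRoot] at hqc
  have hq1 : R.1 (aeval x q) = 1 := by
    have hcq : q.eval c ≠ 0 := hqc
    have hxR : R.1 x ≤ 1 := by
      have := (mem_L_iff_ord hx0).1 hx R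
      rw [Finsupp.single_eq_of_ne hR] at this
      exact (v_le_one_iff R hx0).2 (by omega)
    obtain ⟨s, hs⟩ := (Polynomial.X_sub_C_dvd_sub_C_eval (a := c) (p := q))
    have e : aeval x q = algebraMap k K (q.eval c) + (x - algebraMap k K c) * aeval x s := by
      have := congrArg (aeval x) hs
      simp only [map_sub, Polynomial.aeval_C, map_mul, Polynomial.aeval_X] at this
      linear_combination this
    have hs1 : R.1 (aeval x s) ≤ 1 := by
      rw [Polynomial.aeval_eq_sum_range]
      exact Valuation.map_sum_le _ fun i _ => (v_smul_le R _ _).trans (by rw [map_pow]; exact pow_le_one' hxR i)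
    rw [e, Valuation.map_add_eq_of_lt_left, v_algebraMap R hcq]
    rw [v_algebraMap R hcq, map_mul]
    exact (mul_le_mul' le_rfl hs1).trans_lt (by rwa [mul_one])
  have hqne : aeval x q ≠ 0 := fun h => by rw [h, map_zero] at hq1; exact zero_ne_one hq1
  conv_lhs => rw [hq]
  rw [map_mul, map_pow, map_sub, Polynomial.aeval_X, Polynomial.aeval_C, ord_mul R (pow_ne_zero _ hne) hqne,
    ord_pow, ho, (ord_eq_iff R hqne (n := 0)).2 (by simpa using hq1)]
  ring

lemma exists_polynomial (hg : genus k K = 0) {P : Place k K} {x : K} (hx0 : x ≠ 0)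
    (hx : x ∈ L (Finsupp.single P 1 : Divisor k K)) (hxo : P.ord x = -1) (d : ℕ) {f : K}
    (hf : f ∈ L (Finsupp.single P (d : ℤ) : Divisor k K)) : ∃ p : Polynomial k, aeval x p = f := by
  haveI := finite_L hK (Finsupp.single P (d : ℤ) : Divisor k K)
  have hm : ∀ i : Fin (d + 1), x ^ (i : ℕ) ∈ L (Finsupp.single P (d : ℤ) : Divisor k K) := fun i => by
    have : ∀ n : ℕ, x ^ n ∈ L (Finsupp.single P (n : ℤ) : Divisor k K) := fun n => by
      induction n with
      | zero => simpa using one_mem_L (k := k) (K := K) (D := 0) le_rfl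
      | succ n ih => rw [pow_succ, Nat.cast_succ, Finsupp.single_add]; exact mul_mem_L ih hx
    exact L_mono (Finsupp.single_mono (by have := i.isLt; omega)) (this i)
  have hli : LinearIndependent k (fun i : Fin (d + 1) => (⟨x ^ (i : ℕ), hm i⟩ : L (Finsupp.single P (d : ℤ) : Divisor k K))) :=
    LinearIndependent.of_comp (L (Finsupp.single P (d : ℤ) : Divisor k K)).subtype
      (linearIndependent_of_ord P _ (fun i => pow_ne_zero _ hx0) fun a b hab => by
        have hab' : P.ord (x ^ (a : ℕ)) = P.ord (x ^ (b : ℕ)) := hab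
        rw [ord_pow, ord_pow, hxo] at hab'; exact Fin.ext (by omega))
  have hspan := hli.span_eq_top_of_card_eq_finrank (by
    have := ell_genus_zero hK hg (E := (Finsupp.single P (d : ℤ) : Divisor k K)) (by rw [deg_single_ac hK]; omega)
    rw [deg_single_ac hK, ell] at this
    simp; omega)
  obtain ⟨c, hc⟩ := (Submodule.mem_span_range_iff_exists_fun k).1 ((eq_top_iff.1 hspan) (Submodule.mem_top (x := (⟨f, hf⟩ : L _))))
  refine ⟨∑ i : Fin (d + 1), Polynomial.C (c i) * Polynomial.X ^ (i : ℕ), ?_⟩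
  have := congrArg Subtype.val hc
  simpa [Algebra.smul_def] using this

variable [CharZero k]

lemma plucker_normalized (hg : genus k K = 0) {Pinf : Place k K} {d r : ℕ} {V : Submodule k K}
    (hV : V ≤ L (Finsupp.single Pinf (d : ℤ) : Divisor k K)) (hr : Module.finrank k V = r + 1)
    (T : Finset (Place k K)) (hT : Pinf ∉ T) :
    2 * (wsum d V (Finsupp.single Pinf (d : ℤ)) Pinf + ∑ P ∈ T, wsum d V (Finsupp.single Pinf (d : ℤ)) P) + r * (r + 1) ≤
      2 * ((r + 1) * d) + T.card * (r * (r + 1)) := by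
  classical
  haveI hfd := finite_of_le_L hK hV
  obtain ⟨x, hx0, hx, hxo⟩ := exists_mem_L_ord (D := (Finsupp.single Pinf 1 : Divisor k K)) (P := Pinf) (by
    rw [sub_self, ell_zero hK]
    have := ell_genus_zero hK hg (E := (Finsupp.single Pinf 1 : Divisor k K)) (by rw [deg_single_ac hK]; norm_num)
    rw [deg_single_ac hK] at this; omega)
  rw [Finsupp.single_eq_same] at hxo
  set D : Divisor k K := Finsupp.single Pinf (d : ℤ) with hD
  -- adapted families
  have hfam : ∀ P : Place k K, ∃ (a : Fin (r + 1) → ℕ) (q : Fin (r + 1) → Polynomial k), LinearIndependent k q ∧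
      (∀ i, q i ≠ 0 ∧ aeval x (q i) ∈ V ∧ P.ord (aeval x (q i)) = (a i : ℤ) - D P) ∧ Function.Injective a ∧
      ∑ i, a i = wsum d V D P := fun P => by
    obtain ⟨m, a, f, hm, hli, hf, hinj, hsum⟩ := exists_adapted (d + 1) (fun n : ℕ => L (D - Finsupp.single P (n : ℤ))) V hfd
      (fun n => by simpa using finrank_inf_single_step hK V D P n)
      (fun a b h => L_mono (sub_le_sub_left (Finsupp.single_mono (by omega)) D)) (by simpa using hV)
      (Submodule.finrank_eq_zero.1 (by
        haveI := finite_vd hK V D P ((d + 1 : ℕ) : ℤ)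
        exact vd_eq_zero hK P (by rw [hD, deg_single_ac hK]; omega)))
    have hmr : m = r + 1 := hm.trans hr
    subst hmr
    choose q hq using fun i => exists_polynomial hK hg hx0 hx hxo d (hV (hf i).1)
    refine ⟨a, q, ?_, fun i => ?_, hinj, ?_⟩
    · exact LinearIndependent.of_comp (Polynomial.aeval x).toLinearMap (by
        rw [show (⇑(Polynomial.aeval x).toLinearMap ∘ q) = f from funext hq]; exact hli)
    · have hf0 : f i ≠ 0 := hli.ne_zero i
      refine ⟨fun h => hf0 (by rw [← hq i, h, map_zero]), by rw [hq]; exact (hf i).1, ?_⟩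
      obtain ⟨-, ho⟩ := ord_eq_of_not_mem_L (P := P) (hf i).2.1 (by
        rw [sub_sub, ← Finsupp.single_add]; exact_mod_cast (hf i).2.2)
      rw [hq, ho, Finsupp.sub_apply, Finsupp.single_eq_same]; ring
    · rw [hsum, Finset.sum_range_succ, wsum]
      have : vd V D P ((d : ℤ) + 1) = 0 := vd_eq_zero hK P (by rw [hD, deg_single_ac hK]; omega)
      have key : ∀ n : ℕ, vd V D P ((n + 1 : ℕ) : ℤ) = vd V D P ((n : ℤ) + 1) := fun n =>
        congrArg (vd V D P) (Nat.cast_succ n)
      change ∑ n ∈ Finset.range d, vd V D P ((n + 1 : ℕ) : ℤ) + vd V D P ((d + 1 : ℕ) : ℤ) = _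
      simp only [key]
      rw [this, add_zero]
  choose a q hli hq hinj hsum using hfam
  have hdegree : ∀ i, ((q Pinf i).natDegree : ℤ) = d - a Pinf i := fun i => by
    obtain ⟨h0, -, ho⟩ := hq Pinf i
    rw [(ord_aeval_pole hK hx0 hxo h0).2, hD, Finsupp.single_eq_same] at ho
    omega
  obtain ⟨hne, hdeg⟩ := wr_degree (q Pinf) (fun i => (hq Pinf i).1) fun i j h => hinj Pinf (by
    have h' : (q Pinf i).natDegree = (q Pinf j).natDegree := h
    have := hdegree i; have := hdegree j; omega)
  have hspan : ∀ P i, q P i ∈ Submodule.span k (Set.range (q Pinf)) := fun P i => by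
    have hinjx : Function.Injective (aeval (R := k) x) := by
      rw [injective_iff_map_eq_zero]
      intro p hp; by_contra h0
      exact (ord_aeval_pole hK hx0 hxo h0).1 hp
    have hVspan : Submodule.span k (Set.range fun i => aeval x (q Pinf i)) = V := by
      refine Submodule.eq_of_le_of_finrank_eq (Submodule.span_le.2 (by rintro _ ⟨j, rfl⟩; exact (hq Pinf j).2.1)) ?_
      have hl : LinearIndependent k (fun i => aeval x (q Pinf i)) :=
        (hli Pinf).map' (aeval x).toLinearMap (LinearMap.ker_eq_bot.2 hinjx)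
      rw [finrank_span_eq_card hl, hr, Fintype.card_fin]
    obtain ⟨c, hc⟩ := (Submodule.mem_span_range_iff_exists_fun k).1 (hVspan.symm ▸ (hq P i).2.1)
    exact (Submodule.mem_span_range_iff_exists_fun k).2 ⟨c, hinjx (by rw [map_sum]; simpa [map_smul] using hc)⟩
  have hxR : ∀ R ∈ T, ∃ c : k, R.1 (x - algebraMap k K c) < 1 := fun R hR => by
    refine exists_const hK R ((v_le_one_iff R hx0).2 ?_)
    have := (mem_L_iff_ord hx0).1 hx R
    rw [Finsupp.single_eq_of_ne (fun h : R = Pinf => hT (h ▸ hR))] at this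
    omega
  choose! c hc using hxR
  have hcinj : Set.InjOn c T := fun R hR R' hR' h => by
    by_contra hne'
    have hR1 : R ≠ Pinf := fun e => hT (e ▸ hR)
    have hR2 : R' ≠ Pinf := fun e => hT (e ▸ hR')
    obtain ⟨-, e1⟩ := div_sub_const hK hx0 hx hxo hR1 (hc R hR)
    obtain ⟨-, e2⟩ := div_sub_const hK hx0 hx hxo hR2 (hc R' hR')
    rw [h, e2] at e1
    have := DFunLike.congr_fun e1 R
    simp [Finsupp.single_eq_of_ne hne', Finsupp.single_eq_of_ne hR1] at this
  have hroot : ∀ R ∈ T, wsum d V D R ≤ rootMultiplicity (c R) (wr (q Pinf)) + ∑ j : Fin (r + 1), (j : ℕ) := fun R hR => by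
    refine le_of_eq_of_le ?_ (wr_rootMultiplicity (q Pinf) (q R) hne (hli R) (hspan R) (c R))
    rw [← hsum R]
    refine Finset.sum_congr rfl fun i _ => ?_
    obtain ⟨h0, -, ho⟩ := hq R i
    have hR1 : R ≠ Pinf := fun e => hT (e ▸ hR)
    rw [ord_aeval_root hK hx0 hx hxo hR1 (hc R hR) h0, hD, Finsupp.single_eq_of_ne hR1] at ho
    omega
  have h1 := Finset.sum_le_sum hroot
  rw [Finset.sum_add_distrib, Finset.sum_const, smul_eq_mul, ← Finset.sum_image hcinj (f := fun z => rootMultiplicity z (wr (q Pinf)))] at h1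
  have h2 := sum_rootMultiplicity_le (G := wr (q Pinf)) (T.image c)
  have h3 : (∑ i, (q Pinf i).natDegree) + wsum d V D Pinf = (r + 1) * d := by
    have hh : ∀ i, (q Pinf i).natDegree + a Pinf i = d := fun i => by have := hdegree i; omega
    rw [← hsum Pinf, ← Finset.sum_add_distrib, Finset.sum_congr rfl fun i _ => hh i]
    simp
  have hj : 2 * ∑ j : Fin (r + 1), (j : ℕ) = r * (r + 1) := by
    rw [Fin.sum_univ_eq_sum_range (fun i => i), mul_comm 2, Finset.sum_range_id_mul_two, Nat.add_sub_cancel, mul_comm]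
  have h4 : T.card * (r * (r + 1)) = 2 * (T.card * ∑ j : Fin (r + 1), (j : ℕ)) := by rw [← hj]; ring
  omega

omit [CharZero k] in
lemma vd_transport {V : Submodule k K} {D D' : Divisor k K} {z : K} (hz : z ≠ 0) (h : D = D' + div k z)
    (P : Place k K) (n : ℤ) : vd (V.map (LinearMap.mulLeft k z)) D' P n = vd V D P n := by
  have e : V.map (LinearMap.mulLeft k z) ⊓ L (D' - Finsupp.single P n) =
      (V ⊓ L (D - Finsupp.single P n)).map (LinearMap.mulLeft k z) := by
    ext y
    simp only [Submodule.mem_inf, Submodule.mem_map, LinearMap.mulLeft_apply]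
    have key : ∀ u : K, z * u ∈ L (D' - Finsupp.single P n) ↔ u ∈ L (D - Finsupp.single P n) := fun u => by
      rw [h, add_sub_right_comm]; exact mem_L_add_div hK _ hz u
    constructor
    · rintro ⟨⟨u, hu, rfl⟩, h2⟩; exact ⟨u, ⟨hu, (key u).1 h2⟩, rfl⟩
    · rintro ⟨u, ⟨hu, h2⟩, rfl⟩; exact ⟨⟨u, hu, rfl⟩, (key u).2 h2⟩
  rw [vd, vd, e]
  exact (Submodule.equivMapOfInjective _ (mul_right_injective₀ hz) _).finrank_eq.symm

/-- The Plücker inequality in genus zero. -/
lemma plucker (hg : genus k K = 0) {D : Divisor k K} {d r : ℕ} (hd : D.deg = d) {V : Submodule k K} (hV : V ≤ L D)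
    (hr : Module.finrank k V = r + 1) (S : Finset (Place k K)) (hS : S.Nonempty) :
    2 * (∑ P ∈ S, wsum d V D P) + 2 * (r * (r + 1)) ≤ 2 * ((r + 1) * d) + S.card * (r * (r + 1)) := by
  classical
  obtain ⟨P0, hP0⟩ := hS
  obtain ⟨z, hz, hdiv⟩ := exists_div_eq hK hg (E := D - Finsupp.single P0 (d : ℤ)) (by rw [deg_sub_single hK, hd]; ring)
  have he : D = Finsupp.single P0 (d : ℤ) + div k z := by rw [hdiv]; abel
  have hw : ∀ P, wsum d (V.map (LinearMap.mulLeft k z)) (Finsupp.single P0 (d : ℤ)) P = wsum d V D P := fun P =>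
    Finset.sum_congr rfl fun n _ => vd_transport hK hz he P _
  have hV' : V.map (LinearMap.mulLeft k z) ≤ L (Finsupp.single P0 (d : ℤ) : Divisor k K) := by
    rintro _ ⟨u, hu, rfl⟩
    exact (mem_L_add_div hK _ hz u).2 (by rw [← he]; exact hV hu)
  have hr' : Module.finrank k ↥(V.map (LinearMap.mulLeft k z)) = r + 1 := by
    rw [← hr]; exact (Submodule.equivMapOfInjective _ (mul_right_injective₀ hz) _).finrank_eq.symm
  have h := plucker_normalized hK hg hV' hr' (S.erase P0) (Finset.notMem_erase P0 S)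
  simp only [hw] at h
  rw [← Finset.add_sum_erase S _ hP0]
  have hc : S.card * (r * (r + 1)) = (S.erase P0).card * (r * (r + 1)) + r * (r + 1) := by
    rw [← Finset.card_erase_add_one hP0]; ring
  omega

/-- With a cusp at `Q`, two sections with divisors supported on `{P, P'}` are proportional. -/
lemma cusp_proportional (hg : genus k K = 0) {D : Divisor k K} {V : Submodule k K} (hV : V ≤ L D) {r : ℕ}
    (hr : Module.finrank k V = r + 1) {Q P P' : Place k K} (hcusp : r ≤ vd V D Q 2) (hP : P ≠ Q) (hP' : P' ≠ Q)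
    {f g : K} (hf : f ∈ V) (hg' : g ∈ V) (hf0 : f ≠ 0) (hg0 : g ≠ 0)
    (hfs : ∀ R, R ≠ P → R ≠ P' → (div k f + D) R = 0) (hgs : ∀ R, R ≠ P → R ≠ P' → (div k g + D) R = 0) :
    ∃ c : k, g = c • f := by
  classical
  haveI := finite_of_le_L hK hV
  have hu0 : g / f ≠ 0 := div_ne_zero hg0 hf0
  have hsupp : ∀ R, R ≠ P → R ≠ P' → div k (g / f) R = 0 := fun R h1 h2 => by
    have a := hfs R h1 h2; have b := hgs R h1 h2
    simp only [Finsupp.add_apply] at a b
    rw [div_eq_mul_inv, div_mul hK hg0 (inv_ne_zero hf0), div_inv hK, Finsupp.add_apply, Finsupp.neg_apply]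
    omega
  suffices h : div k (g / f) = 0 by
    obtain ⟨c, hc⟩ := const_of_div_eq_zero hK hu0 h
    exact ⟨c, by rw [Algebra.smul_def, ← hc, div_mul_cancel₀ g hf0]⟩
  rcases eq_or_ne P P' with rfl | hPP
  · have e : div k (g / f) = Finsupp.single P (div k (g / f) P) := by
      ext R
      rcases eq_or_ne R P with rfl | hR
      · simp
      · rw [Finsupp.single_eq_of_ne hR]; exact hsupp R hR hR
    have := deg_div hK (g / f)
    rw [e, deg_single_ac hK] at this
    rw [e, this, Finsupp.single_zero]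
  set m := div k (g / f) P' with hm
  have e : div k (g / f) = Finsupp.single P' m + Finsupp.single P (div k (g / f) P) := by
    ext R
    rcases eq_or_ne R P with rfl | hR
    · simp [Finsupp.single_eq_of_ne hPP]
    · rcases eq_or_ne R P' with rfl | hR'
      · simp [Finsupp.single_eq_of_ne hR, hm]
      · simp [Finsupp.single_eq_of_ne hR, Finsupp.single_eq_of_ne hR', hsupp R hR hR']
  have hdeg := deg_div hK (g / f)
  rw [e, deg_add, deg_single_ac hK, deg_single_ac hK] at hdeg
  rw [show div k (g / f) P = -m by omega] at e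
  by_contra hne
  obtain ⟨x, hx0, hxd⟩ := exists_div_eq hK hg (E := Finsupp.single P' 1 - Finsupp.single P 1)
    (by rw [deg_sub, deg_single_ac hK, deg_single_ac hK]; ring)
  -- normalise the sign of the exponent
  obtain ⟨F, G, n, hF, hG, hF0, hFs, hn, hFG⟩ : ∃ (F G : K) (n : ℕ), F ∈ V ∧ G ∈ V ∧ F ≠ 0 ∧
      (∀ R, R ≠ P → R ≠ P' → (div k F + D) R = 0) ∧ n ≠ 0 ∧ ∃ c : k, c ≠ 0 ∧ G = algebraMap k K c * x ^ n * F := by
    have hm0 : m ≠ 0 := fun h0 => hne (by rw [e, h0]; simp)
    have key : ∀ (F G : K) (j : ℕ), F ≠ 0 → G ≠ 0 → div k (G / F) = (j : ℤ) • (Finsupp.single P' 1 - Finsupp.single P 1) →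
        ∃ c : k, c ≠ 0 ∧ G = algebraMap k K c * x ^ j * F := fun F G j hF0 hG0 hd => by
      have hz : G / F * (x ^ j)⁻¹ ≠ 0 := mul_ne_zero (div_ne_zero hG0 hF0) (inv_ne_zero (pow_ne_zero j hx0))
      obtain ⟨c, hc⟩ := const_of_div_eq_zero hK hz (by
        rw [div_mul hK (div_ne_zero hG0 hF0) (inv_ne_zero (pow_ne_zero j hx0)), div_inv hK, div_pow hK, hxd, hd]
        exact add_neg_cancel _)
      refine ⟨c, fun hc0 => hz (by rw [hc, hc0, map_zero]), ?_⟩
      rw [← hc]; field_simp
    rcases Int.natAbs_eq m with hpos | hneg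
    · refine ⟨f, g, m.natAbs, hf, hg', hf0, hfs, by omega, key f g _ hf0 hg0 ?_⟩
      rw [e, ← hpos, smul_sub, Finsupp.smul_single, Finsupp.smul_single, smul_eq_mul, mul_one, Finsupp.single_neg]
      abel
    · refine ⟨g, f, m.natAbs, hg', hf, hg0, hgs, by omega, key g f _ hg0 hf0 ?_⟩
      rw [show f / g = (g / f)⁻¹ by rw [inv_div], div_inv hK, e, show ((m.natAbs : ℕ) : ℤ) = -m by omega]
      ext R
      simp only [Finsupp.single_apply, Finsupp.coe_add, Pi.add_apply, Finsupp.coe_smul, Pi.smul_apply,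
        Finsupp.coe_sub, Pi.sub_apply, Finsupp.coe_neg, Pi.neg_apply, smul_eq_mul]
      split_ifs <;> omega
  obtain ⟨c, hc, hGF⟩ := hFG
  have hxL : x ∈ L (Finsupp.single P 1 : Divisor k K) := (mem_L_iff_ord hx0).2 fun R => by
    rw [← div_apply hK, hxd, Finsupp.sub_apply, sub_add_cancel, Finsupp.single_apply]
    split <;> norm_num
  have hxo : P.ord x = -1 := by rw [← div_apply hK, hxd]; simp [Finsupp.single_eq_of_ne hPP]
  have hxQ : Q.ord x = 0 := by
    rw [← div_apply hK, hxd]; simp [Finsupp.single_eq_of_ne hP.symm, Finsupp.single_eq_of_ne hP'.symm]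
  obtain ⟨a, ha⟩ := exists_const hK Q ((v_le_one_iff Q hx0).2 hxQ.ge)
  have ha0 : a ≠ 0 := by
    rintro rfl
    rw [map_zero, sub_zero, v_lt_one_iff Q hx0] at ha; omega
  -- the section `G - c aⁿ F`
  set p : Polynomial k := Polynomial.X ^ n - Polynomial.C (a ^ n)
  have hp : p ≠ 0 := Polynomial.X_pow_sub_C_ne_zero (Nat.pos_of_ne_zero hn) _
  have hmult : rootMultiplicity a p = 1 := by
    have hroot : p.IsRoot a := by simp [p]
    have h1 : 1 ≤ rootMultiplicity a p := (Polynomial.rootMultiplicity_pos hp).2 hroot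
    have h2 : rootMultiplicity a p ≤ 1 :=
      Polynomial.rootMultiplicity_le_one_of_separable
        (Polynomial.separable_X_pow_sub_C _ (Nat.cast_ne_zero.2 hn) (pow_ne_zero n ha0)) a
    omega
  obtain ⟨hpne, -⟩ := ord_aeval_pole hK hx0 hxo hp
  have ho := ord_aeval_root hK hx0 hxL hxo hP.symm ha hp
  rw [hmult] at ho
  set H := algebraMap k K c * aeval x p * F
  have hHV : H ∈ V := by
    have : H = G - (c * a ^ n) • F := by simp [H, p, hGF, Algebra.smul_def]; ring
    rw [this]; exact V.sub_mem hG (V.smul_mem _ hF)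
  have hc' : algebraMap k K c ≠ 0 := by simpa using hc
  have hH0 : H ≠ 0 := mul_ne_zero (mul_ne_zero hc' hpne) hF0
  have hFQ : Q.ord F + D Q = 0 := by
    have := hFs Q hP.symm hP'.symm
    simpa [div_apply hK] using this
  have hHQ : Q.ord H + D Q = 1 := by
    simp only [H]
    rw [ord_mul Q (mul_ne_zero hc' hpne) hF0, ord_mul Q hc' hpne, ord_algebraMap, ho]
    push_cast; omega
  have hHmem : H ∈ L (D - Finsupp.single Q 1) := (mem_L_iff_ord hH0).2 fun R => by
    have h1 := (mem_L_iff_ord hH0).1 (hV hHV) R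
    rcases eq_or_ne R Q with rfl | hR
    · simp; omega
    · simpa [Finsupp.single_eq_of_ne hR] using h1
  have hHnot : H ∉ L (D - Finsupp.single Q 2) := fun hh => by
    have := (mem_L_iff_ord hH0).1 hh Q
    simp at this; omega
  have hFnot : F ∉ L (D - Finsupp.single Q 1) := fun hh => by
    have := (mem_L_iff_ord hF0).1 hh Q
    simp at this; omega
  haveI := finite_vd hK V D Q 1
  have l1 : V ⊓ L (D - Finsupp.single Q 2) < V ⊓ L (D - Finsupp.single Q 1) :=
    lt_of_le_of_ne (inf_le_inf_left _ (L_mono (sub_le_sub_left (Finsupp.single_mono (by norm_num)) D)))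
      fun hh => hHnot (Submodule.mem_inf.1 ((SetLike.ext_iff.1 hh H).2 (Submodule.mem_inf.2 ⟨hHV, hHmem⟩))).2
  have l2 : V ⊓ L (D - Finsupp.single Q 1) < V := lt_of_le_of_ne inf_le_left fun hh => hFnot (hh.symm ▸ hF).2
  have := Submodule.finrank_lt_finrank_of_lt l1
  have := Submodule.finrank_lt_finrank_of_lt l2
  simp only [vd] at hcusp
  omega

end Groth.Agent.FF
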