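import Mathlib
import Groth.Agent.FF.Diff
import Groth.Agent.FF.ConstExt

/-! A function field with a separable place is geometric. -/

set_option autoImplicit false

namespace Groth.Agent.FF

open FunFld LaurentSeries HahnSeries
open scoped WithZero IntermediateField TensorProduct

universe u v w

variable {k : Type u} {K : Type v} [Field k] [Field K] [Algebra k K]

/-- A function field is geometric if its finite constant extensions are reduced. -/
theorem isGeometric_of_reduced (hK : IsFunctionField k K)
    (hred : ∀ (k' : Type u) [Field k'] [Algebra k k'], FiniteDimensional k k' → IsReduced (k' ⊗[k] K)) :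
    IsGeometric k K := by
  intro k' _ _ hfin
  haveI := hred k' hfin
  haveI hredK : IsReduced (K ⊗[k] k') := isReduced_of_injective
    (Algebra.TensorProduct.comm k K k').toRingEquiv.toRingHom (Algebra.TensorProduct.comm k K k').injective
  let ks := separableClosure k k'
  let pb := Field.powerBasisOfFiniteOfSeparable k ks
  set f := minpoly k pb.gen
  have hf : f.Monic := minpoly.monic (IsIntegral.of_finite k _)
  haveI : Fact (Irreducible (f.map (algebraMap k K))) :=
    ⟨irreducible_map_const hK hf (minpoly.irreducible (IsIntegral.of_finite k _))⟩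
  haveI : Nontrivial (K ⊗[k] k') :=
    (Algebra.TensorProduct.includeRight_injective (A := K) (B := k') (algebraMap k K).injective).nontrivial
  let j : ks →ₐ[k] K ⊗[k] k' := (Algebra.TensorProduct.includeRight : k' →ₐ[k] K ⊗[k] k').comp ks.val
  let ψ : AdjoinRoot (f.map (algebraMap k K)) →+* K ⊗[k] k' :=
    AdjoinRoot.lift (algebraMap K (K ⊗[k] k')) (j pb.gen) (by
      rw [Polynomial.eval₂_map, ← IsScalarTower.algebraMap_eq, ← Polynomial.aeval_def, Polynomial.aeval_algHom_apply,
        minpoly.aeval, map_zero])
  have hks : ∀ y : ks, j y ∈ ψ.range := by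
    intro y
    obtain ⟨q, -, rfl⟩ := pb.exists_eq_aeval y
    rw [← Polynomial.aeval_algHom_apply]
    induction q using Polynomial.induction_on' with
    | add p q hp hq => rw [map_add]; exact Subring.add_mem _ hp hq
    | monomial n c =>
      rw [Polynomial.aeval_monomial]
      have hr : j pb.gen ∈ ψ.range := ⟨_, AdjoinRoot.lift_root _⟩
      refine Subring.mul_mem _ ⟨AdjoinRoot.of _ (algebraMap k K c), ?_⟩ (pow_mem hr _)
      rw [AdjoinRoot.lift_of, ← IsScalarTower.algebraMap_apply]
  obtain ⟨q, hq⟩ : ∃ q, ExpChar k q := ⟨_, ringExpChar.expChar k⟩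
  haveI : ExpChar ks q := expChar_of_injective_algebraMap (algebraMap k ks).injective q
  haveI : ExpChar (K ⊗[k] k') q := expChar_of_injective_algebraMap (algebraMap k (K ⊗[k] k')).injective q
  haveI : IsPurelyInseparable ks k' := separableClosure.isPurelyInseparable k k'
  have hpow : ∀ z : K ⊗[k] k', ∃ n : ℕ, z ^ q ^ n ∈ ψ.range := by
    intro z
    induction z using TensorProduct.induction_on with
    | zero => exact ⟨0, by simp⟩
    | tmul a y =>
      obtain ⟨n, c, hc⟩ := IsPurelyInseparable.pow_mem ks q y
      refine ⟨n, ?_⟩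
      have e : (a ⊗ₜ[k] y) ^ q ^ n = algebraMap K (K ⊗[k] k') (a ^ q ^ n) * j c := by
        rw [Algebra.TensorProduct.tmul_pow, ← hc]
        change _ = _ * ((1 : K) ⊗ₜ[k] (algebraMap ks k' c))
        rw [Algebra.TensorProduct.algebraMap_apply, Algebra.TensorProduct.tmul_mul_tmul, mul_one, one_mul,
          Algebra.algebraMap_self, RingHom.id_apply]
      rw [e]
      exact Subring.mul_mem _ ⟨AdjoinRoot.of _ _, AdjoinRoot.lift_of _⟩ (hks c)
    | add a b ha hb =>
      obtain ⟨n, hn⟩ := ha
      obtain ⟨m, hm⟩ := hb
      refine ⟨n + m, ?_⟩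
      rw [add_pow_expChar_pow]
      refine Subring.add_mem _ ?_ ?_
      · rw [_root_.pow_add, pow_mul]; exact pow_mem hn _
      · rw [_root_.pow_add, mul_comm, pow_mul]; exact pow_mem hm _
  have hfield : IsField (K ⊗[k] k') := by
    refine ⟨⟨0, 1, zero_ne_one⟩, mul_comm, fun {z} hz => ?_⟩
    obtain ⟨n, s, hs⟩ := hpow z
    rcases eq_or_ne s 0 with rfl | hs0
    · exact absurd (eq_zero_of_pow_eq_zero (hs.symm.trans (map_zero ψ))) hz
    · have hu : IsUnit (z ^ q ^ n) := hs ▸ (isUnit_iff_ne_zero.2 hs0).map ψ
      rw [isUnit_pow_iff (pow_ne_zero _ (expChar_pos k q).ne')] at hu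
      exact hu.exists_right_inv
  exact (Algebra.TensorProduct.comm k K k').toRingEquiv.symm.toMulEquiv.isField hfield

/-- A function field with an expansion having a separable coefficient field is geometric. -/
theorem isGeometric_of_expansion (hK : IsFunctionField k K) {F : Type w} [Field F] [Algebra k F]
    [FiniteDimensional k F] [Algebra.IsSeparable k F] (φ : K →ₐ[k] F⸨X⸩) : IsGeometric k K := by
  refine isGeometric_of_reduced hK fun k' _ _ hfin => ?_
  haveI : Algebra.FormallyEtale k F := Algebra.FormallyEtale.of_isSeparable _ _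
  haveI : IsReduced (k' ⊗[k] F) := Algebra.FormallyUnramified.isReduced_of_field k' _
  let A := k' ⊗[k] F
  let incl : F⸨X⸩ →+* A⸨X⸩ :=
    { toFun := fun g => g.map (Algebra.TensorProduct.includeRight : F →ₐ[k] A).toRingHom
      map_one' := by ext d; simp [HahnSeries.coeff_one]
      map_mul' := fun a b => HahnSeries.map_mul
        (Algebra.TensorProduct.includeRight : F →ₐ[k] A).toRingHom.toNonUnitalRingHom
      map_zero' := by ext d; simp
      map_add' := fun a b => by ext d; simp [TensorProduct.tmul_add] }
  let left : k' →+* A⸨X⸩ := (HahnSeries.C).comp (Algebra.TensorProduct.includeLeftRingHom)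
  have hcst : ∀ c : k, algebraMap k A⸨X⸩ c = HahnSeries.C (algebraMap k A c) := fun c => by
    rw [HahnSeries.algebraMap_apply', PowerSeries.algebraMap_apply, HahnSeries.ofPowerSeries_C]
  let Lh : k' →ₐ[k] A⸨X⸩ := { toRingHom := left, commutes' := fun c => (hcst c).symm }
  let Rh : K →ₐ[k] A⸨X⸩ :=
    { toRingHom := incl.comp φ.toRingHom
      commutes' := fun c => by
        change (φ (algebraMap k K c)).map _ = _
        rw [hcst, LocRes.map_algebraMap, HahnSeries.map_C]
        congr 1
        exact (Algebra.TensorProduct.includeRight : F →ₐ[k] A).commutes c }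
  let Φ := Algebra.TensorProduct.productMap Lh Rh
  have hΦ : Function.Injective Φ := by
    rw [injective_iff_map_eq_zero]
    intro z hz
    let b := Module.finBasis k k'
    obtain ⟨g, rfl⟩ : ∃ g : Fin (Module.finrank k k') → K, z = ∑ i, b i ⊗ₜ[k] g i := by
      clear hz
      induction z using TensorProduct.induction_on with
      | zero => exact ⟨0, by simp⟩
      | tmul a y =>
        refine ⟨fun i => b.repr a i • y, ?_⟩
        conv_lhs => rw [← b.sum_repr a, TensorProduct.sum_tmul]
        exact Finset.sum_congr rfl fun i _ => TensorProduct.smul_tmul _ _ _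
      | add a b' ha hb =>
        obtain ⟨g₁, rfl⟩ := ha
        obtain ⟨g₂, rfl⟩ := hb
        exact ⟨g₁ + g₂, by simp [TensorProduct.tmul_add, Finset.sum_add_distrib]⟩
    suffices hg : ∀ i, φ (g i) = 0 by simp [(map_eq_zero φ).1 (hg _)]
    intro i
    ext d
    have h1 : ∑ j, (b j ⊗ₜ[k] ((φ (g j)).coeff d) : A) = 0 := by
      have := congrArg (fun G : A⸨X⸩ => G.coeff d) hz
      rw [map_sum] at this
      simp only [HahnSeries.coeff_sum, HahnSeries.coeff_zero] at this
      refine Eq.trans (Finset.sum_congr rfl fun j _ => ?_) this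
      simp only [Φ, Algebra.TensorProduct.productMap_apply_tmul]
      change _ = (HahnSeries.C ((b j) ⊗ₜ[k] (1 : F)) * incl (φ (g j))).coeff d
      rw [HahnSeries.C_mul_eq_smul, HahnSeries.coeff_smul, smul_eq_mul]
      change _ = (b j ⊗ₜ[k] (1 : F)) * ((1 : k') ⊗ₜ[k] ((φ (g j)).coeff d))
      rw [Algebra.TensorProduct.tmul_mul_tmul, mul_one, one_mul]
    have h2 := congrArg (fun a => TensorProduct.lid k F (TensorProduct.map (b.coord i) LinearMap.id a)) h1
    simp only [map_sum, map_zero, TensorProduct.map_tmul, TensorProduct.lid_tmul, LinearMap.id_apply,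
      Module.Basis.coord_apply, Module.Basis.repr_self, Finsupp.single_apply, ite_smul, one_smul, zero_smul,
      Finset.sum_ite_eq', Finset.mem_univ, if_true] at h2
    rw [HahnSeries.coeff_zero]
    exact h2
  haveI : IsReduced A⸨X⸩ := by
    rw [isReduced_iff_pow_one_lt 2 one_lt_two]
    intro f hf
    by_contra h0
    have := congrArg (fun G : A⸨X⸩ => G.coeff (f.order + f.order)) hf
    simp only [sq, HahnSeries.coeff_mul_order_add_order, HahnSeries.coeff_zero] at this
    exact HahnSeries.leadingCoeff_ne_zero.2 h0 (eq_zero_of_pow_eq_zero (n := 2) (by rw [sq]; exact this))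
  exact isReduced_of_injective Φ hΦ

end Groth.Agent.FF
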