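import Mathlib
import Groth.Agent.FF.Sep
import Groth.Agent.FF.Regular

/-! Separably generated function fields are geometric. -/

set_option autoImplicit false
set_option linter.style.haveILetI false

namespace Groth.Agent.FF

open FunFld
open scoped WithZero IntermediateField TensorProduct

universe u v

variable {k : Type u} {K : Type v} [Field k] [Field K] [Algebra k K]

/-- A function field with a separating element is geometric. -/
theorem isGeometric_of_separating (hK : IsFunctionField k K) {x : K} (hx : Transcendental k x)
    [Algebra.IsSeparable k⟮x⟯ K] : IsGeometric k K := by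
  haveI : Algebra.FormallySmooth k (RatFunc k) := by
    haveI : Algebra.FormallySmooth (Polynomial k) (RatFunc k) :=
      Algebra.FormallySmooth.of_isLocalization (nonZeroDivisors (Polynomial k))
    exact Algebra.FormallySmooth.comp k (Polynomial k) (RatFunc k)
  haveI : Algebra.FormallySmooth k k⟮x⟯ :=
    Algebra.FormallySmooth.of_equiv (RatFunc.algEquivOfTranscendental x hx)
  haveI : Algebra.FormallyEtale k⟮x⟯ K := Algebra.FormallyEtale.of_isSeparable _ _
  haveI : Algebra.FormallySmooth k K := Algebra.FormallySmooth.comp k k⟮x⟯ K
  haveI := Groth.Agent.FieldExtLib.formallySmooth_iff_isGeometricallyReduced.1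
    (inferInstance : Algebra.FormallySmooth k K)
  exact isGeometric_of_reduced hK fun k' _ _ _ => inferInstance

variable {k' : Type u} {K' : Type v} [Field k'] [Field K'] [Algebra k k'] [Algebra K K'] [Algebra k' K'] [Algebra k K']
  [IsScalarTower k k' K'] [IsScalarTower k K K'] [FiniteDimensional k k'] [FiniteDimensional K K']
  [Algebra.IsSeparable K K']

/-- A separable extension of a geometric function field is geometric over its field of constants. -/
theorem isGeometric_ext (hK : IsFunctionField k K) (hg : IsGeometric k K) (hK' : IsFunctionField k' K') :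
    IsGeometric k' K' := by
  obtain ⟨x, hx, hsep⟩ := exists_separating hK hg
  set x' := algebraMap K K' x
  have hx1 : Transcendental k x' := (transcendental_algebraMap_iff (algebraMap K K').injective).2 hx
  have hx' : Transcendental k' x' := fun h => hx1 (h.restrictScalars k)
  haveI : Algebra.IsSeparable k⟮x⟯ K' := Algebra.IsSeparable.trans k⟮x⟯ K K'
  let S : IntermediateField k K :=
    (IntermediateField.adjoin k' ({x'} : Set K')).restrictScalars k |>.comap (IsScalarTower.toAlgHom k K K')
  have hxS : k⟮x⟯ ≤ S := IntermediateField.adjoin_simple_le_iff.2 (IntermediateField.mem_adjoin_simple_self k' x')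
  let i : k⟮x⟯ →+* k'⟮x'⟯ := ((algebraMap K K').comp k⟮x⟯.subtype).codRestrict k'⟮x'⟯ fun c => hxS c.2
  letI : Algebra k⟮x⟯ k'⟮x'⟯ := i.toAlgebra
  haveI : IsScalarTower k⟮x⟯ k'⟮x'⟯ K' := IsScalarTower.of_algebraMap_eq fun c => by
    rw [IsScalarTower.algebraMap_apply k⟮x⟯ K K']; rfl
  haveI : Algebra.IsSeparable k'⟮x'⟯ K' := Algebra.isSeparable_tower_top_of_isSeparable k⟮x⟯ _ _
  exact isGeometric_of_separating hK' hx'

end Groth.Agent.FF
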