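import Mathlib
import Groth.Agent.FF.GenusZero
import Groth.Agent.FF.SepGen
import Groth.Agent.FF.RH
import Groth.Agent.FF.DiffExp

/-! The places of the rational function field `k(X)`. -/

set_option autoImplicit false
set_option linter.style.haveILetI false

namespace Groth.Agent.FF.Rat

open FunFld Polynomial LaurentSeries
open scoped WithZero IntermediateField

universe u v w

section General

variable {k : Type u} {K : Type v} [Field k] [Field K] [Algebra k K] {P : Place k K}

lemma v_aeval_le_one {x : K} (hx : P.1 x ≤ 1) (p : k[X]) : P.1 (aeval x p) ≤ 1 := by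
  induction p using Polynomial.induction_on' with
  | add p q hp hq => rw [map_add]; exact (P.1.map_add _ _).trans (max_le hp hq)
  | monomial n a =>
    rw [aeval_monomial, map_mul, map_pow]
    exact mul_le_one' (P.2.1 a) (pow_le_one' hx n)

lemma ord_nonneg_of_le_one {x : K} (hx : P.1 x ≤ 1) : 0 ≤ P.ord x := by
  rcases eq_or_ne x 0 with rfl | h0
  · rw [ord_zero]
  · exact (v_le_one_iff P h0).1 hx

lemma le_one_of_ord_nonneg {x : K} (hx : 0 ≤ P.ord x) : P.1 x ≤ 1 := by
  rcases eq_or_ne x 0 with rfl | h0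
  · simp
  · exact (v_le_one_iff P h0).2 hx

/-- The order of a polynomial in an element with a pole. -/
lemma ord_aeval_of_pole {x : K} (hx : P.ord x < 0) {p : k[X]} (hp : p ≠ 0) :
    aeval x p ≠ 0 ∧ P.ord (aeval x p) = (p.natDegree : ℤ) * P.ord x := by
  classical
  have hx0 : x ≠ 0 := fun h => by simp [h, ord_zero] at hx
  have hterm : ∀ i, P.1 (p.coeff i • x ^ i) = if p.coeff i = 0 then 0 else WithZero.exp (-((i : ℤ) * P.ord x)) := fun i => by
    split
    · next h => simp [h]
    · next h =>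
      rw [Algebra.smul_def, map_mul, v_algebraMap P h, one_mul, v_eq_exp P (pow_ne_zero i hx0), ord_pow]
  have hlead : p.coeff p.natDegree ≠ 0 := Polynomial.leadingCoeff_ne_zero.2 hp
  have hv : P.1 (aeval x p) = WithZero.exp (-((p.natDegree : ℤ) * P.ord x)) := by
    rw [Polynomial.aeval_eq_sum_range, Valuation.map_sum_eq_of_lt _ (Finset.self_mem_range_succ p.natDegree)
      (fun i hi => ?_), hterm, if_neg hlead]
    simp only [Finset.mem_sdiff, Finset.mem_range, Finset.mem_singleton] at hi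
    rw [hterm, hterm, if_neg hlead]
    split
    · exact WithZero.exp_pos
    · rw [WithZero.exp_lt_exp]
      have : (i : ℤ) < p.natDegree := by omega
      nlinarith
  have hne : aeval x p ≠ 0 := fun h => by rw [h, map_zero] at hv; exact WithZero.exp_ne_zero hv.symm
  exact ⟨hne, (ord_eq_iff P hne).2 hv⟩

variable {F : Type w} [Field F] [Algebra k F] {φ : K →ₐ[k] F⸨X⸩} (hφ : LocRes.IsExpansionAt P.1 φ)
include hφ

lemma vD_le_one_of_integral {z : K} (hz : P.1 z ≤ 1) : Valued.v (LocRes.D F (φ z)) ≤ 1 := by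
  have h := v_le_iff.1 (show Valued.v (φ z) ≤ WithZero.exp (-(0 : ℤ)) by
    rw [hφ.1, neg_zero, WithZero.exp_zero]; exact hz)
  refine v_le_one_iff_coeff.2 fun m hm => ?_
  rw [LocRes.D_coeff]
  rcases lt_or_eq_of_le (show m + 1 ≤ 0 by omega) with h' | h'
  · rw [h _ h', smul_zero]
  · rw [h', zero_smul]

lemma vD_aeval (x : K) (p : k[X]) :
    Valued.v (LocRes.D F (φ (aeval x p))) = P.1 (aeval x (derivative p)) * Valued.v (LocRes.D F (φ x)) := by
  rw [D_exp_eq φ (show (aeval x (derivative p)) • KaehlerDifferential.D k K x =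
      KaehlerDifferential.D k K (aeval x p) from (Derivation.map_aeval _ p x).symm), map_mul, hφ.1]

/-- If a polynomial in the integral element `x` is a uniformizer, then `dx` is a local generator. -/
lemma vD_eq_one_of_unif {x : K} (hx : P.1 x ≤ 1) {q : k[X]} (hq : P.1 (aeval x q) = WithZero.exp (-1)) :
    Valued.v (LocRes.D F (φ x)) = 1 := by
  have h := v_D_unif hφ hq
  rw [vD_aeval hφ] at h
  refine le_antisymm (vD_le_one_of_integral hφ hx) (h ▸ ?_)
  exact mul_le_of_le_one_left' (v_aeval_le_one hx _)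

lemma vD_inv (x : K) : Valued.v (LocRes.D F (φ x)) = P.1 x ^ 2 * Valued.v (LocRes.D F (φ x⁻¹)) := by
  have h : (-x ^ 2) • KaehlerDifferential.D k K x⁻¹ = KaehlerDifferential.D k K x := by
    have := (KaehlerDifferential.D k K).leibniz_inv x⁻¹
    rw [inv_inv] at this
    exact this.symm
  rw [D_exp_eq φ h, map_mul, map_neg, Valuation.map_neg, map_pow, map_pow, hφ.1]

lemma vD_eq_of_simple_pole {x : K} (hx : P.1 x = WithZero.exp 1) :
    Valued.v (LocRes.D F (φ x)) = WithZero.exp 2 := by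
  rw [vD_inv hφ, v_D_unif hφ (t := x⁻¹) (by rw [map_inv₀, hx, ← WithZero.exp_neg]), hx, mul_one,
    ← WithZero.exp_nsmul]
  rfl

end General

variable {k : Type u} [Field k]

lemma aeval_X_eq (p : k[X]) : aeval (RatFunc.X : RatFunc k) p = algebraMap k[X] (RatFunc k) p :=
  RatFunc.aeval_X_left_eq_algebraMap p

lemma finrank_adjoin_X : Module.finrank k⟮(RatFunc.X : RatFunc k)⟯ (RatFunc k) = 1 := by
  rw [RatFunc.adjoin_X, IntermediateField.finrank_top]

/-- `k(X)` is a function field. -/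
theorem isFunctionField : IsFunctionField k (RatFunc k) := by
  refine ⟨⟨RatFunc.X, RatFunc.transcendental_X, Module.finite_of_finrank_eq_succ finrank_adjoin_X⟩, fun z hz => ?_⟩
  have hnum : algebraMap k[X] (RatFunc k) z.num = z * algebraMap k[X] (RatFunc k) z.denom := by
    conv_rhs => arg 1; rw [← RatFunc.num_div_denom z]
    rw [div_mul_cancel₀]
    exact RatFunc.algebraMap_ne_zero z.denom_ne_zero
  have hi : IsIntegral k[X] z := hz.isIntegral.tower_top
  obtain ⟨p, hp⟩ := IsIntegrallyClosed.isIntegral_iff.1 hi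
  have hp' : IsAlgebraic k p := (isAlgebraic_algebraMap_iff (RatFunc.algebraMap_injective k)).1 (hp ▸ hz)
  have hdeg : p.natDegree = 0 := by
    by_contra hne
    exact (Polynomial.transcendental p hne
      (mem_nonZeroDivisors_of_ne_zero (Polynomial.leadingCoeff_ne_zero.2 fun h => hne (by simp [h])))) hp'
  refine ⟨p.coeff 0, ?_⟩
  rw [← hp, Polynomial.eq_C_of_natDegree_eq_zero hdeg, Polynomial.coeff_C_zero]
  rfl

theorem genus_eq_zero : genus k (RatFunc k) = 0 :=
  genus_eq_zero_of_finrank_one isFunctionField RatFunc.transcendental_X finrank_adjoin_X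

theorem isGeometric : IsGeometric k (RatFunc k) := by
  haveI : Algebra.IsSeparable k⟮(RatFunc.X : RatFunc k)⟯ (RatFunc k) := ⟨fun z => by
    have hz : z ∈ k⟮(RatFunc.X : RatFunc k)⟯ := by rw [RatFunc.adjoin_X]; exact IntermediateField.mem_top
    exact isSeparable_algebraMap (⟨z, hz⟩ : k⟮(RatFunc.X : RatFunc k)⟯)⟩
  exact isGeometric_of_separating isFunctionField RatFunc.transcendental_X

theorem D_X_ne_zero : KaehlerDifferential.D k (RatFunc k) RatFunc.X ≠ 0 := by
  haveI : Algebra.IsSeparable k⟮(RatFunc.X : RatFunc k)⟯ (RatFunc k) := ⟨fun z => by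
    have hz : z ∈ k⟮(RatFunc.X : RatFunc k)⟯ := by rw [RatFunc.adjoin_X]; exact IntermediateField.mem_top
    exact isSeparable_algebraMap (⟨z, hz⟩ : k⟮(RatFunc.X : RatFunc k)⟯)⟩
  exact D_ne_zero_of_separating RatFunc.transcendental_X

section Infinite

variable {P : Place k (RatFunc k)} (hP : P.ord (RatFunc.X : RatFunc k) < 0)
include hP

lemma deg_inf_aux : P.ord (RatFunc.X : RatFunc k) = -1 ∧ P.deg = 1 := by
  have hx : Transcendental k (RatFunc.X : RatFunc k)⁻¹ := fun h =>
    RatFunc.transcendental_X (K := k) (inv_inv (RatFunc.X : RatFunc k) ▸ h.inv)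
  have h := sum_ord_le isFunctionField hx {P} (by simp [ord_inv]; omega)
  rw [Finset.sum_singleton, adjoin_inv, finrank_adjoin_X, ord_inv] at h
  have hd : (1 : ℤ) ≤ P.deg := by exact_mod_cast deg_pos isFunctionField P
  rw [Nat.cast_one] at h
  have h1 : P.ord (RatFunc.X : RatFunc k) = -1 := by nlinarith
  refine ⟨h1, ?_⟩
  rw [h1] at h
  omega

lemma ord_X_inf : P.ord (RatFunc.X : RatFunc k) = -1 := (deg_inf_aux hP).1

lemma deg_inf : P.deg = 1 := (deg_inf_aux hP).2

lemma ord_poly_inf (p : k[X]) : P.ord (algebraMap k[X] (RatFunc k) p) = -(p.natDegree : ℤ) := by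
  rcases eq_or_ne p 0 with rfl | hp
  · simp [ord_zero]
  rw [← aeval_X_eq]
  rw [(ord_aeval_of_pole hP hp).2, ord_X_inf hP, mul_neg, mul_one]

lemma inf_unique {P' : Place k (RatFunc k)} (hP' : P'.ord (RatFunc.X : RatFunc k) < 0) : P' = P := by
  classical
  by_contra hne
  have hx : Transcendental k (RatFunc.X : RatFunc k)⁻¹ := fun h =>
    RatFunc.transcendental_X (K := k) (inv_inv (RatFunc.X : RatFunc k) ▸ h.inv)
  have h := sum_ord_le isFunctionField hx {P', P} (by simp [ord_inv]; omega)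
  rw [Finset.sum_pair hne, adjoin_inv, finrank_adjoin_X, ord_inv, ord_inv, ord_X_inf hP, ord_X_inf hP',
    deg_inf hP, deg_inf hP'] at h
  omega

end Infinite

lemma exists_inf : ∃ P : Place k (RatFunc k), P.ord (RatFunc.X : RatFunc k) < 0 := by
  have hx : Transcendental k (RatFunc.X : RatFunc k)⁻¹ := fun h =>
    RatFunc.transcendental_X (K := k) (inv_inv (RatFunc.X : RatFunc k) ▸ h.inv)
  obtain ⟨P, hP⟩ := exists_zero isFunctionField hx
  have h := (v_lt_one_iff P (inv_ne_zero RatFunc.X_ne_zero)).1 hP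
  exact ⟨P, by rw [ord_inv] at h; omega⟩

lemma v_poly_le_one {P : Place k (RatFunc k)} (hP : 0 ≤ P.ord (RatFunc.X : RatFunc k)) (p : k[X]) :
    P.1 (algebraMap k[X] (RatFunc k) p) ≤ 1 :=
  aeval_X_eq p ▸ v_aeval_le_one (le_one_of_ord_nonneg hP) p

lemma finite_of_poly_zero {P : Place k (RatFunc k)} {p : k[X]}
    (hp : 0 < P.ord (algebraMap k[X] (RatFunc k) p)) : 0 ≤ P.ord (RatFunc.X : RatFunc k) := by
  by_contra h
  rw [ord_poly_inf (by omega)] at hp
  omega

lemma finite_of_poly_lt_one {P : Place k (RatFunc k)} {p : k[X]} (hp0 : p ≠ 0)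
    (hp : P.1 (algebraMap k[X] (RatFunc k) p) < 1) : 0 ≤ P.ord (RatFunc.X : RatFunc k) :=
  finite_of_poly_zero ((v_lt_one_iff P (RatFunc.algebraMap_ne_zero hp0)).1 hp)

/-- A finite place comes from an irreducible polynomial. -/
theorem exists_irreducible {P : Place k (RatFunc k)} (hP : 0 ≤ P.ord (RatFunc.X : RatFunc k)) :
    ∃ q : k[X], Irreducible q ∧ P.ord (algebraMap k[X] (RatFunc k) q) = 1 ∧
      ∀ p : k[X], ¬q ∣ p → P.ord (algebraMap k[X] (RatFunc k) p) = 0 := by
  let ι := algebraMap k[X] (RatFunc k)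
  have hι : Function.Injective ι := RatFunc.algebraMap_injective k
  set I : Ideal k[X] :=
    { carrier := {p | P.1 (ι p) < 1}
      zero_mem' := by simp
      add_mem' := fun {a b} ha hb => by
        simp only [Set.mem_setOf_eq, map_add] at *
        exact lt_of_le_of_lt (P.1.map_add _ _) (max_lt ha hb)
      smul_mem' := fun c {a} ha => by
        simp only [Set.mem_setOf_eq, smul_eq_mul, map_mul] at *
        exact lt_of_le_of_lt (mul_le_of_le_one_left' (v_poly_le_one hP c)) ha } with hI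
  have mem : ∀ p, p ∈ I ↔ P.1 (ι p) < 1 := fun p => Iff.rfl
  have hone : ∀ p, p ∉ I → P.1 (ι p) = 1 := fun p hp =>
    le_antisymm (v_poly_le_one hP p) (not_lt.1 hp)
  have hprime : I.IsPrime := by
    refine ⟨fun h => ?_, fun {a b} hab => ?_⟩
    · have := (mem 1).1 (h ▸ Submodule.mem_top)
      simp at this
    · by_contra! h
      rw [mem, map_mul, map_mul, hone a h.1, hone b h.2, one_mul] at hab
      exact lt_irrefl _ hab
  have hne : I ≠ ⊥ := by
    intro hbot
    obtain ⟨t, ht⟩ := exists_unif P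
    have ht0 : t ≠ 0 := fun h => by rw [h, map_zero] at ht; exact WithZero.exp_ne_zero ht.symm
    have hu : ∀ p : k[X], p ≠ 0 → P.1 (ι p) = 1 := fun p hp => hone p (by rw [hbot]; simpa using hp)
    rw [← RatFunc.num_div_denom t, map_div₀, hu _ (RatFunc.num_ne_zero ht0), hu _ t.denom_ne_zero, div_one,
      ← WithZero.exp_zero, WithZero.exp_inj] at ht
    omega
  obtain ⟨q, hq⟩ : ∃ q, I = Ideal.span {q} := ⟨_, (Submodule.IsPrincipal.span_singleton_generator I).symm⟩
  have hq0 : q ≠ 0 := fun h => hne (by rw [hq, h, Ideal.span_singleton_eq_bot.2 rfl])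
  have hqi : Irreducible q := ((Ideal.span_singleton_prime hq0).1 (hq ▸ hprime)).irreducible
  have hnd : ∀ p : k[X], ¬q ∣ p → P.ord (ι p) = 0 := fun p hp => by
    have h1 : p ∉ I := by rwa [hq, Ideal.mem_span_singleton]
    rw [Place.ord, hone p h1, WithZero.log_one, neg_zero]
  refine ⟨q, hqi, ?_, hnd⟩
  have hall : ∀ p : k[X], p ≠ 0 → P.ord (ι q) ∣ P.ord (ι p) := fun p hp => by
    obtain ⟨n, r, hr, rfl⟩ := WfDvdMonoid.max_power_factor hp hqi
    rw [map_mul, map_pow, ord_mul _ (pow_ne_zero _ (by simpa [ι] using hq0))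
      (by simpa [ι] using right_ne_zero_of_mul hp), ord_pow, hnd r hr, add_zero]
    exact dvd_mul_left _ _
  have hpos : 0 < P.ord (ι q) := (v_lt_one_iff P (by simpa [ι] using hq0)).1
    ((mem q).1 (hq ▸ Ideal.mem_span_singleton_self q))
  obtain ⟨t, ht0, ht⟩ := exists_ord_eq P 1
  have hdvd : P.ord (ι q) ∣ 1 := by
    rw [← ht, ← RatFunc.num_div_denom t, div_eq_mul_inv, ord_mul _
      (RatFunc.algebraMap_ne_zero (RatFunc.num_ne_zero ht0))
      (inv_ne_zero (RatFunc.algebraMap_ne_zero t.denom_ne_zero)), ord_inv]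
    exact dvd_add (hall _ (RatFunc.num_ne_zero ht0)) (hall _ t.denom_ne_zero).neg_right
  exact Int.eq_one_of_dvd_one hpos.le hdvd

/-- Every irreducible polynomial vanishes at some place. -/
lemma exists_over_irreducible {q : k[X]} (hq : Irreducible q) :
    ∃ P : Place k (RatFunc k), 0 < P.ord (algebraMap k[X] (RatFunc k) q) := by
  suffices h : Transcendental k (algebraMap k[X] (RatFunc k) q) by
    obtain ⟨P, hP⟩ := exists_zero isFunctionField h
    exact ⟨P, (v_lt_one_iff P (RatFunc.algebraMap_ne_zero hq.ne_zero)).1 hP⟩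
  intro h
  exact Polynomial.transcendental q hq.natDegree_pos.ne'
    (mem_nonZeroDivisors_of_ne_zero (Polynomial.leadingCoeff_ne_zero.2 hq.ne_zero))
    ((isAlgebraic_algebraMap_iff (RatFunc.algebraMap_injective k)).1 h)

/-- At a finite place a squarefree polynomial has order at most one, and exactly one at the irreducible. -/
lemma ord_squarefree {P : Place k (RatFunc k)} (hP : 0 ≤ P.ord (RatFunc.X : RatFunc k)) {f : k[X]}
    (hf : Squarefree f) :
    P.ord (algebraMap k[X] (RatFunc k) f) = 0 ∨ P.ord (algebraMap k[X] (RatFunc k) f) = 1 := by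
  obtain ⟨q, hqi, hq1, hnd⟩ := exists_irreducible hP
  by_cases h : q ∣ f
  · obtain ⟨r, rfl⟩ := h
    have hr : ¬q ∣ r := fun ⟨s, hs⟩ => hqi.not_isUnit (hf q ⟨s, by rw [hs]; ring⟩)
    right
    rw [map_mul, ord_mul _ (RatFunc.algebraMap_ne_zero hqi.ne_zero)
      (RatFunc.algebraMap_ne_zero (right_ne_zero_of_mul hf.ne_zero)), hq1, hnd r hr, add_zero]
  · exact Or.inl (hnd f h)

lemma ord_poly_irreducible {P : Place k (RatFunc k)} {p : k[X]} (hp : Irreducible p)
    (hP : P.1 (algebraMap k[X] (RatFunc k) p) < 1) : P.ord (algebraMap k[X] (RatFunc k) p) = 1 := by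
  have h := (v_lt_one_iff P (RatFunc.algebraMap_ne_zero hp.ne_zero)).1 hP
  rcases ord_squarefree (finite_of_poly_lt_one hp.ne_zero hP) hp.squarefree with h' | h' <;> omega

/-- An element without finite poles is a polynomial. -/
theorem exists_poly {r : RatFunc k}
    (h : ∀ P : Place k (RatFunc k), 0 ≤ P.ord (RatFunc.X : RatFunc k) → 0 ≤ P.ord r) :
    ∃ p : k[X], r = algebraMap k[X] (RatFunc k) p := by
  rcases eq_or_ne r 0 with rfl | hr
  · exact ⟨0, by simp⟩
  by_cases hd : IsUnit r.denom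
  · obtain ⟨c, hc, hcd⟩ := Polynomial.isUnit_iff.1 hd
    refine ⟨r.num * Polynomial.C c⁻¹, ?_⟩
    conv_lhs => rw [← RatFunc.num_div_denom r]
    rw [div_eq_iff (RatFunc.algebraMap_ne_zero r.denom_ne_zero), ← map_mul]
    congr 1
    rw [← hcd, mul_assoc, ← Polynomial.C_mul, inv_mul_cancel₀ hc.ne_zero, Polynomial.C_1, mul_one]
  · obtain ⟨q, hqi, hqd⟩ := WfDvdMonoid.exists_irreducible_factor hd r.denom_ne_zero
    obtain ⟨P, hP⟩ := exists_over_irreducible hqi
    have hfin := finite_of_poly_zero hP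
    obtain ⟨q', hq'i, hq'1, hnd⟩ := exists_irreducible hfin
    have hqq : q' ∣ q := by
      by_contra hcon
      rw [hnd q hcon] at hP
      omega
    have hnum : ¬q' ∣ r.num := fun hn =>
      hq'i.not_isUnit ((RatFunc.isCoprime_num_denom r).isUnit_of_dvd' hn (hqq.trans hqd))
    have h1 := h P hfin
    rw [← RatFunc.num_div_denom r, div_eq_mul_inv,
      ord_mul _ (RatFunc.algebraMap_ne_zero (RatFunc.num_ne_zero hr))
        (inv_ne_zero (RatFunc.algebraMap_ne_zero r.denom_ne_zero)), ord_inv, hnd _ hnum] at h1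
    obtain ⟨s, hs⟩ := hqq.trans hqd
    have hs0 : s ≠ 0 := right_ne_zero_of_mul (hs ▸ r.denom_ne_zero)
    rw [hs, map_mul, ord_mul _ (RatFunc.algebraMap_ne_zero hq'i.ne_zero) (RatFunc.algebraMap_ne_zero hs0), hq'1] at h1
    have := ord_nonneg_of_le_one (v_poly_le_one hfin s)
    omega

section Expansions

variable {P : Place k (RatFunc k)} {F : Type w} [Field F] [Algebra k F] {φ : RatFunc k →ₐ[k] F⸨X⸩}
  (hφ : LocRes.IsExpansionAt P.1 φ)
include hφ

lemma vD_X_finite (hP : 0 ≤ P.ord (RatFunc.X : RatFunc k)) : Valued.v (LocRes.D F (φ RatFunc.X)) = 1 := by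
  obtain ⟨q, hqi, hq1, -⟩ := exists_irreducible hP
  refine vD_eq_one_of_unif hφ (le_one_of_ord_nonneg hP) (q := q) ?_
  rw [aeval_X_eq, v_eq_exp P (RatFunc.algebraMap_ne_zero hqi.ne_zero), hq1]

lemma vD_X_inf (hP : P.ord (RatFunc.X : RatFunc k) < 0) :
    Valued.v (LocRes.D F (φ RatFunc.X)) = WithZero.exp 2 :=
  vD_eq_of_simple_pole hφ (by rw [v_eq_exp P RatFunc.X_ne_zero, ord_X_inf hP]; rfl)

end Expansions

end Groth.Agent.FF.Rat
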