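import Mathlib
import Groth.Agent.FF.RatPlaces

/-! Separable extensions of the rational function field. -/

set_option autoImplicit false
set_option linter.style.haveILetI false

namespace Groth.Agent.FF.Rat

open FunFld Polynomial
open scoped IntermediateField

universe u v

variable {k : Type u} {K : Type v} [Field k] [Field K] [Algebra k K] [Algebra (RatFunc k) K]
  [IsScalarTower k (RatFunc k) K]

lemma transcendental_X_ext : Transcendental k (algebraMap (RatFunc k) K RatFunc.X) := fun h =>
  RatFunc.transcendental_X ((isAlgebraic_algebraMap_iff (algebraMap (RatFunc k) K).injective).1 h)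

lemma isSeparable_adjoin_X [Algebra.IsSeparable (RatFunc k) K] :
    Algebra.IsSeparable k⟮algebraMap (RatFunc k) K RatFunc.X⟯ K := by
  let ψ : RatFunc k →ₐ[k] K := IsScalarTower.toAlgHom k (RatFunc k) K
  have hmap : (⊤ : IntermediateField k (RatFunc k)).map ψ = k⟮algebraMap (RatFunc k) K RatFunc.X⟯ := by
    rw [← RatFunc.adjoin_X, IntermediateField.adjoin_map, Set.image_singleton]; rfl
  let e : RatFunc k ≃+* k⟮algebraMap (RatFunc k) K RatFunc.X⟯ :=
    (((IntermediateField.topEquiv.symm).trans ((⊤ : IntermediateField k (RatFunc k)).equivMap ψ)).trans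
      (IntermediateField.equivOfEq hmap)).toRingEquiv
  exact Algebra.IsSeparable.of_equiv_equiv e (RingEquiv.refl K) (RingHom.ext fun z => rfl)

theorem isGeometric_ext [Algebra.IsSeparable (RatFunc k) K] (hK : IsFunctionField k K) : IsGeometric k K := by
  haveI := isSeparable_adjoin_X (k := k) (K := K)
  exact isGeometric_of_separating hK transcendental_X_ext

theorem D_X_ne_zero_ext [Algebra.IsSeparable (RatFunc k) K] :
    KaehlerDifferential.D k K (algebraMap (RatFunc k) K RatFunc.X) ≠ 0 := by
  haveI := isSeparable_adjoin_X (k := k) (K := K)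
  exact D_ne_zero_of_separating transcendental_X_ext

end Groth.Agent.FF.Rat
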