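import Mathlib
import Groth.Agent.FF.RatPlaces
import Groth.Agent.FF.RatExt
import Groth.Agent.FF.Quadratic

/-! The double covers `y² + y = f(x)` of the line in characteristic two. -/

set_option autoImplicit false
set_option linter.style.haveILetI false

namespace Groth.Agent.FF.AS

attribute [local instance high] FunFld.Place.algRes
attribute [-instance] IsLocalRing.instModuleResidueFieldOfAlgebra

open FunFld Polynomial LaurentSeries
open scoped WithZero IntermediateField

universe u v w w'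

variable {k : Type u} {K : Type v} [Field k] [Field K] [Algebra k K]

lemma two_eq_zero (h2 : ringChar k = 2) (L : Type*) [Field L] [Algebra k L] : (2 : L) = 0 := by
  have h : (2 : k) = 0 := by
    have := ringChar.Nat.cast_ringChar (R := k)
    rw [h2] at this
    exact_mod_cast this
  rw [← map_ofNat (algebraMap k L) 2, h, map_zero]

lemma natCast_odd (h2 : ringChar k = 2) (L : Type*) [Field L] [Algebra k L] {m : ℕ} (hm : Odd m) : (m : L) ≠ 0 := by
  obtain ⟨i, rfl⟩ := hm
  push_cast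
  rw [two_eq_zero h2 L, zero_mul, zero_add]
  exact one_ne_zero

/-- The differential of an element with a pole of odd order in characteristic two. -/
lemma vD_odd_pole {Q : Place k K} {F : Type w} [Field F] [Algebra k F] {φ : K →ₐ[k] F⸨X⸩}
    (hφ : LocRes.IsExpansionAt Q.1 φ) (h2 : ringChar k = 2) {z : K} (hneg : Q.ord z < 0) (hodd : Odd (Q.ord z)) :
    Valued.v (LocRes.D F (φ z)) = WithZero.exp (1 - Q.ord z) := by
  obtain ⟨m, hm⟩ : ∃ m : ℕ, Q.ord z = -(m : ℤ) := ⟨(-Q.ord z).toNat, by omega⟩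
  have hz : z ≠ 0 := fun h => by rw [h, ord_zero] at hneg; exact lt_irrefl _ hneg
  have hmodd : Odd m := by rw [hm, odd_neg] at hodd; exact_mod_cast hodd
  have hQz : Q.1 z = WithZero.exp (m : ℤ) := by rw [v_eq_exp Q hz, hm, neg_neg]
  have h1 := (vD_of_order (f := φ z⁻¹) (e := m) (by rw [hφ.1, map_inv₀, hQz, ← WithZero.exp_neg])).1
    (natCast_odd h2 F hmodd)
  rw [Rat.vD_inv hφ z, h1, hQz, ← WithZero.exp_nsmul, ← WithZero.exp_add, WithZero.exp_inj, nsmul_eq_mul, hm]
  push_cast
  ring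

variable [Algebra (RatFunc k) K] [IsScalarTower k (RatFunc k) K]

section Cases

variable {y : K} {f : RatFunc k}

/-- At a pole of `f` of odd order the cover ramifies. -/
theorem pole_case (hdeg : Module.finrank (RatFunc k) K = 2) (heq : y ^ 2 + y = algebraMap (RatFunc k) K f)
    {Q : Place k K} {P : Place k (RatFunc k)} {e : ℕ} (he : IsOverWith Q P e) (hneg : P.ord f < 0)
    (hodd : Odd (P.ord f)) : e = 2 ∧ Q.ord y = P.ord f := by
  have hpos := pos_of_isOverWith he
  have hf0 : f ≠ 0 := fun h => by rw [h, ord_zero] at hneg; exact lt_irrefl _ hneg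
  have hfK : algebraMap (RatFunc k) K f ≠ 0 := (_root_.map_ne_zero _).2 hf0
  have hgt : 1 < Q.1 (algebraMap (RatFunc k) K f) := by
    rw [v_eq_exp Q hfK, ord_of_isOverWith he, ← WithZero.exp_zero, WithZero.exp_lt_exp]
    have : (e : ℤ) * P.ord f < 0 := mul_neg_of_pos_of_neg (by exact_mod_cast hpos) hneg
    omega
  have hy : 1 < Q.1 y := by
    by_contra h
    rw [not_lt] at h
    have := (Q.1.map_add (y ^ 2) y).trans (max_le (by rw [map_pow]; exact pow_le_one' h 2) h)
    rw [heq] at this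
    exact absurd this (not_le.2 hgt)
  have hy0 : y ≠ 0 := fun h => by rw [h, map_zero] at hy; simp at hy
  have hlt : Q.1 y < Q.1 (y ^ 2) := by
    rw [v_eq_exp Q (pow_ne_zero 2 hy0), ord_pow, v_eq_exp Q hy0, WithZero.exp_lt_exp]
    rw [v_eq_exp Q hy0, ← WithZero.exp_zero, WithZero.exp_lt_exp] at hy
    push_cast
    omega
  have h1 := Valuation.map_add_eq_of_lt_left Q.1 hlt
  rw [heq, v_eq_exp Q hfK, v_eq_exp Q (pow_ne_zero 2 hy0), WithZero.exp_inj, ord_of_isOverWith he, ord_pow] at h1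
  push_cast at h1
  exact Quad.ramified_of_odd Rat.isFunctionField hdeg he (r := f) (by linarith) hodd

/-- Where `f` is integral so is `y`, and the cover is unramified. -/
theorem int_case (hdeg : Module.finrank (RatFunc k) K = 2) (h2 : ringChar k = 2)
    (hy : y ∉ Set.range (algebraMap (RatFunc k) K)) (heq : y ^ 2 + y = algebraMap (RatFunc k) K f)
    {Q : Place k K} {P : Place k (RatFunc k)} {e : ℕ} (he : IsOverWith Q P e) (hf : 0 ≤ P.ord f) :
    e = 1 ∧ Q.1 y ≤ 1 := by
  have hy1 : Q.1 y ≤ 1 := by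
    by_contra h
    rw [not_le] at h
    have hy0 : y ≠ 0 := fun h0 => hy ⟨0, by rw [map_zero, h0]⟩
    have hlt : Q.1 y < Q.1 (y ^ 2) := by
      rw [v_eq_exp Q (pow_ne_zero 2 hy0), ord_pow, v_eq_exp Q hy0, WithZero.exp_lt_exp]
      rw [v_eq_exp Q hy0, ← WithZero.exp_zero, WithZero.exp_lt_exp] at h
      push_cast
      omega
    have h1 := Valuation.map_add_eq_of_lt_left Q.1 hlt
    rw [heq, he] at h1
    have h2' : P.1 f ^ e ≤ 1 := pow_le_one' (Rat.le_one_of_ord_nonneg hf) e
    rw [h1] at h2'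
    exact absurd (lt_trans h hlt) (not_lt.2 h2')
  refine ⟨Quad.unramified_of_disc Rat.isFunctionField hdeg hy (τ := -1) (ν := f) ?_ he hy1 ?_, hy1⟩
  · rw [map_neg, map_one, ← heq]; ring
  · rw [map_neg, map_one, two_eq_zero h2 K, zero_mul, zero_sub, neg_neg, map_one]

end Cases

section Differentials

variable {Q : Place k K} {P : Place k (RatFunc k)} {e : ℕ} {F' : Type w'} [Field F'] [Algebra k F']
  {ψ : K →ₐ[k] F'⸨X⸩}

/-- Above an odd pole, all differentials of the line pick up `1 - ord f`. -/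
theorem vD_ramified (hdeg : Module.finrank (RatFunc k) K = 2) (h2 : ringChar k = 2) {y : K} {f : RatFunc k}
    (heq : y ^ 2 + y = algebraMap (RatFunc k) K f) (he : IsOverWith Q P e)
    (hψ : LocRes.IsExpansionAt Q.1 ψ) {F : Type w} [Field F] [Algebra k F]
    {φ : RatFunc k →ₐ[k] F⸨X⸩} (hφ : LocRes.IsExpansionAt P.1 φ) (hneg : P.ord f < 0) (hodd : Odd (P.ord f))
    (z : RatFunc k) :
    Valued.v (LocRes.D F' (ψ (algebraMap (RatFunc k) K z))) =
      WithZero.exp (P.ord f - 1) * Valued.v (LocRes.D F (φ z)) ^ 2 := by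
  obtain ⟨rfl, hy⟩ := pole_case hdeg heq he hneg hodd
  have hbase := vD_odd_pole hφ h2 hneg hodd
  have htop : Valued.v (LocRes.D F' (ψ (algebraMap (RatFunc k) K f))) = WithZero.exp (1 - P.ord f) := by
    rw [← heq, map_add, map_add, map_pow, Derivation.leibniz_pow, nsmul_eq_mul, Nat.cast_ofNat,
      two_eq_zero h2 F'⸨X⸩, zero_mul, zero_add, vD_odd_pole hψ h2 (by rw [hy]; exact hneg) (by rw [hy]; exact hodd), hy]
  have hDf : KaehlerDifferential.D k (RatFunc k) f ≠ 0 := by
    intro h0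
    have h1 : (0 : RatFunc k) • KaehlerDifferential.D k (RatFunc k) f = KaehlerDifferential.D k (RatFunc k) f := by
      rw [zero_smul, h0]
    rw [D_exp_eq φ h1, map_zero, zero_mul, map_zero] at hbase
    exact WithZero.exp_ne_zero hbase.symm
  obtain ⟨c, hc⟩ := exists_smul_D_eq_of_ne_zero Rat.isFunctionField Rat.isGeometric hDf
    (KaehlerDifferential.D k (RatFunc k) z)
  have h1 : LocRes.D F' (ψ (algebraMap (RatFunc k) K z)) =
      ψ (algebraMap (RatFunc k) K c) * LocRes.D F' (ψ (algebraMap (RatFunc k) K f)) :=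
    D_exp_eq (ψ.comp (IsScalarTower.toAlgHom k (RatFunc k) K)) hc
  rw [h1, D_exp_eq φ hc, map_mul, map_mul, hψ.1, hφ.1, he, htop, hbase, mul_pow, ← WithZero.exp_nsmul,
    mul_left_comm, ← WithZero.exp_add]
  congr 2
  rw [nsmul_eq_mul]
  push_cast
  ring

/-- An expansion at a place of `k(X)` for perfect `k`. -/
theorem exists_base_expansion [PerfectField k] (P : Place k (RatFunc k)) :
    ∃ (F : Type u) (_ : Field F) (_ : Algebra k F) (φ : RatFunc k →ₐ[k] F⸨X⸩), LocRes.IsExpansionAt P.1 φ := by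
  haveI : Module.Finite k (IsLocalRing.ResidueField P.O) := finite_residue Rat.isFunctionField P
  haveI : Algebra.IsAlgebraic k (IsLocalRing.ResidueField P.O) := Algebra.IsAlgebraic.of_finite _ _
  haveI : Algebra.IsSeparable k (IsLocalRing.ResidueField P.O) := Algebra.IsAlgebraic.isSeparable_of_perfectField
  obtain ⟨t, ht⟩ := exists_unif P
  obtain ⟨φ, hφ, -⟩ := exists_expansion P ht
  exact ⟨_, _, _, φ, hφ⟩

/-- The contribution of the place `P` to the divisor of `dx`. -/
noncomputable def weight (f : RatFunc k) (P : Place k (RatFunc k)) : ℤ :=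
  (if P.ord (RatFunc.X : RatFunc k) < 0 then -2 else 0) + if P.ord f < 0 then (1 - P.ord f) / 2 else 0

/-- The divisor of `dx` upstairs. -/
theorem vD_X [PerfectField k] (hdeg : Module.finrank (RatFunc k) K = 2) (h2 : ringChar k = 2) {y : K} {f : RatFunc k}
    (hy : y ∉ Set.range (algebraMap (RatFunc k) K))
    (heq : y ^ 2 + y = algebraMap (RatFunc k) K f) (he : IsOverWith Q P e)
    (hψ : LocRes.IsExpansionAt Q.1 ψ) (hodd : P.ord f < 0 → Odd (P.ord f)) :
    Valued.v (LocRes.D F' (ψ (algebraMap (RatFunc k) K RatFunc.X))) = WithZero.exp (-((e : ℤ) * weight f P)) := by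
  rcases lt_or_ge (P.ord f) 0 with hneg | hint
  · obtain ⟨F, _, _, φ, hφ⟩ := exists_base_expansion P
    rw [vD_ramified hdeg h2 heq he hψ hφ hneg (hodd hneg), (pole_case hdeg heq he hneg (hodd hneg)).1, weight,
      if_pos hneg]
    obtain ⟨i, hi⟩ := hodd hneg
    rcases lt_or_ge (P.ord (RatFunc.X : RatFunc k)) 0 with hP | hP
    · rw [Rat.vD_X_inf hφ hP, ← WithZero.exp_nsmul, ← WithZero.exp_add, WithZero.exp_inj, if_pos hP, nsmul_eq_mul]
      omega
    · rw [Rat.vD_X_finite hφ hP, one_pow, mul_one, WithZero.exp_inj, if_neg (not_lt.2 hP)]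
      omega
  · obtain ⟨rfl, -⟩ := int_case hdeg h2 hy heq he hint
    rw [weight, if_neg (not_lt.2 hint), add_zero, Nat.cast_one, one_mul]
    rcases lt_or_ge (P.ord (RatFunc.X : RatFunc k)) 0 with hP | hP
    · rw [if_pos hP, neg_neg]
      exact Rat.vD_eq_of_simple_pole hψ (by rw [he, pow_one, v_eq_exp P RatFunc.X_ne_zero, Rat.ord_X_inf hP]; rfl)
    · rw [if_neg (not_lt.2 hP), neg_zero, WithZero.exp_zero]
      obtain ⟨q, hqi, hq1, -⟩ := Rat.exists_irreducible hP
      refine Rat.vD_eq_one_of_unif hψ (q := q) (by rw [he, pow_one]; exact Rat.le_one_of_ord_nonneg hP) ?_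
      rw [Polynomial.aeval_algebraMap_apply, Rat.aeval_X_eq, he, pow_one,
        v_eq_exp P (RatFunc.algebraMap_ne_zero hqi.ne_zero), hq1]

end Differentials

end Groth.Agent.FF.AS
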