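import Mathlib
import Groth.Prelude.Def_LocRes
import Groth.Agent.FF.Laurent

/-! Substituting a series without constant term: evaluation `T ↦ u` and its extension to Laurent series. -/

set_option autoImplicit false

namespace Groth.Agent.FF

open LaurentSeries HahnSeries
open scoped WithZero

universe u v

section ev

variable {L : Type u} [CommRing L] (u : PowerSeries L)

/-- The partial sum `∑_{j<N} H_j u^j`. -/
noncomputable def evS (N : ℕ) (H : PowerSeries (PowerSeries L)) : PowerSeries L :=
  Polynomial.eval₂ (RingHom.id _) u (PowerSeries.trunc N H)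

lemma evS_eq_sum (N : ℕ) (H : PowerSeries (PowerSeries L)) :
    evS u N H = ∑ j ∈ Finset.range N, PowerSeries.coeff j H * u ^ j := by
  rw [evS, PowerSeries.eval₂_trunc_eq_sum_range]
  rfl

variable (hu : PowerSeries.constantCoeff u = 0)

include hu in
lemma X_pow_dvd_u_pow (n : ℕ) : PowerSeries.X ^ n ∣ u ^ n :=
  pow_dvd_pow_of_dvd (PowerSeries.X_dvd_iff.2 hu) n

include hu in
lemma X_pow_dvd_evS_sub {N M : ℕ} (h : N ≤ M) (H : PowerSeries (PowerSeries L)) :
    PowerSeries.X ^ N ∣ evS u M H - evS u N H := by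
  rw [evS_eq_sum, evS_eq_sum, ← Finset.sum_Ico_eq_sub _ h]
  exact Finset.dvd_sum fun j hj => dvd_mul_of_dvd_right
    ((pow_dvd_pow _ (Finset.mem_Ico.1 hj).1).trans (X_pow_dvd_u_pow u hu j)) _

/-- Evaluation at `u` as a function. -/
noncomputable def evFun (H : PowerSeries (PowerSeries L)) : PowerSeries L :=
  PowerSeries.mk fun n => PowerSeries.coeff n (evS u (n + 1) H)

include hu in
lemma X_pow_dvd_evFun_sub (N : ℕ) (H : PowerSeries (PowerSeries L)) :
    PowerSeries.X ^ N ∣ evFun u H - evS u N H := by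
  rw [PowerSeries.X_pow_dvd_iff]
  intro m hm
  rw [map_sub, evFun, PowerSeries.coeff_mk, sub_eq_zero]
  have h := PowerSeries.X_pow_dvd_iff.1 (X_pow_dvd_evS_sub u hu (show m + 1 ≤ N by omega) H) m (Nat.lt_succ_self m)
  rw [map_sub, sub_eq_zero] at h
  exact h.symm

lemma eq_of_forall_X_pow_dvd {a b : PowerSeries L} (h : ∀ n, PowerSeries.X ^ n ∣ a - b) : a = b := by
  ext m
  have := PowerSeries.X_pow_dvd_iff.1 (h (m + 1)) m (Nat.lt_succ_self m)
  rwa [map_sub, sub_eq_zero] at this

include hu in
lemma evS_mul_congr (N : ℕ) (A B : PowerSeries (PowerSeries L)) :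
    PowerSeries.X ^ N ∣ evS u N A * evS u N B - evS u N (A * B) := by
  have h : (Polynomial.X : Polynomial (PowerSeries L)) ^ N ∣
      PowerSeries.trunc N A * PowerSeries.trunc N B - PowerSeries.trunc N (A * B) := by
    rw [Polynomial.X_pow_dvd_iff]
    intro d hd
    rw [Polynomial.coeff_sub, sub_eq_zero, ← PowerSeries.trunc_trunc_mul_trunc, PowerSeries.coeff_trunc, if_pos hd,
      ← Polynomial.coe_mul, Polynomial.coeff_coe]
  obtain ⟨c, hc⟩ := h
  simp only [evS]
  rw [← Polynomial.eval₂_mul, ← Polynomial.eval₂_sub, hc, Polynomial.eval₂_mul, Polynomial.eval₂_X_pow]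
  exact dvd_mul_of_dvd_left (X_pow_dvd_u_pow u hu N) _

/-- Evaluation of an iterated power series at `u`, as a ring homomorphism. -/
noncomputable def ev2 : PowerSeries (PowerSeries L) →+* PowerSeries L where
  toFun := evFun u
  map_zero' := by ext n; simp [evFun, evS_eq_sum]
  map_add' A B := by
    ext n
    simp [evFun, evS_eq_sum, add_mul, Finset.sum_add_distrib]
  map_one' := by
    ext n
    rw [evFun, PowerSeries.coeff_mk, evS_eq_sum, Finset.sum_range_succ']
    simp [PowerSeries.coeff_one]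
  map_mul' A B := by
    refine eq_of_forall_X_pow_dvd fun N => ?_
    have h1 := X_pow_dvd_evFun_sub u hu N (A * B)
    have h2 := X_pow_dvd_evFun_sub u hu N A
    have h3 := X_pow_dvd_evFun_sub u hu N B
    have h4 := evS_mul_congr u hu N A B
    rw [show evFun u (A * B) - evFun u A * evFun u B = (evFun u (A * B) - evS u N (A * B)) -
      ((evFun u A - evS u N A) * evFun u B + evS u N A * (evFun u B - evS u N B)) -
      (evS u N A * evS u N B - evS u N (A * B)) by ring]
    exact dvd_sub (dvd_sub h1 (dvd_add (dvd_mul_of_dvd_left h2 _) (dvd_mul_of_dvd_right h3 _))) h4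

lemma X_pow_dvd_ev2_sub (N : ℕ) (H : PowerSeries (PowerSeries L)) :
    PowerSeries.X ^ N ∣ ev2 u hu H - ∑ j ∈ Finset.range N, PowerSeries.coeff j H * u ^ j := by
  rw [← evS_eq_sum]
  exact X_pow_dvd_evFun_sub u hu N H

lemma ev2_C (a : PowerSeries L) : ev2 u hu (PowerSeries.C a) = a := by
  ext n
  change PowerSeries.coeff n (evFun u (PowerSeries.C a)) = _
  rw [evFun, PowerSeries.coeff_mk, evS_eq_sum, Finset.sum_range_succ']
  simp [PowerSeries.coeff_C]

lemma ev2_X : ev2 u hu PowerSeries.X = u := by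
  refine eq_of_forall_X_pow_dvd fun N => ?_
  have h := X_pow_dvd_ev2_sub u hu (N + 2) PowerSeries.X
  rw [Finset.sum_eq_single 1 (fun j _ hj => by rw [PowerSeries.coeff_X, if_neg hj, zero_mul])
    (fun h => absurd (Finset.mem_range.2 (by omega)) h), PowerSeries.coeff_one_X, one_mul, pow_one] at h
  exact (pow_dvd_pow _ (by omega)).trans h

lemma constantCoeff_ev2 (H : PowerSeries (PowerSeries L)) :
    PowerSeries.constantCoeff (ev2 u hu H) = PowerSeries.constantCoeff (PowerSeries.constantCoeff H) := by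
  have h := X_pow_dvd_ev2_sub u hu 1 H
  rw [pow_one, PowerSeries.X_dvd_iff, map_sub, sub_eq_zero, Finset.sum_range_one, pow_zero, mul_one,
    PowerSeries.coeff_zero_eq_constantCoeff_apply] at h
  exact h

end ev

section sub

variable {F : Type u} [Field F] {L : Type v} [Field L] (ι : F →+* L) (u : PowerSeries L)
  (hu : PowerSeries.constantCoeff u = 0) (hu0 : u ≠ 0)

/-- `G ↦ G^ι(u)` on power series. -/
noncomputable def subPS : PowerSeries F →+* PowerSeries L :=
  (ev2 u hu).comp (PowerSeries.map ((PowerSeries.C).comp ι))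

lemma subPS_C (a : F) : subPS ι u hu (PowerSeries.C a) = PowerSeries.C (ι a) := by
  simp [subPS, ev2_C]

lemma subPS_X : subPS ι u hu PowerSeries.X = u := by simp [subPS, ev2_X]

lemma constantCoeff_subPS (G : PowerSeries F) :
    PowerSeries.constantCoeff (subPS ι u hu G) = ι (PowerSeries.constantCoeff G) := by
  rw [subPS, RingHom.comp_apply, constantCoeff_ev2, ← PowerSeries.coeff_zero_eq_constantCoeff_apply (φ := PowerSeries.map _ G),
    PowerSeries.coeff_map, PowerSeries.coeff_zero_eq_constantCoeff_apply]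
  simp

lemma X_pow_dvd_subPS_sub (N : ℕ) (G : PowerSeries F) :
    PowerSeries.X ^ N ∣ subPS ι u hu G -
      ∑ j ∈ Finset.range N, PowerSeries.C (ι (PowerSeries.coeff j G)) * u ^ j := by
  have h := X_pow_dvd_ev2_sub u hu N (PowerSeries.map ((PowerSeries.C).comp ι) G)
  simpa [subPS] using h

include hu0 in
lemma subPS_ne_zero {G : PowerSeries F} (hG : G ≠ 0) : subPS ι u hu G ≠ 0 := by
  rw [← PowerSeries.X_pow_order_mul_divXPowOrder (f := G), map_mul, map_pow, subPS_X]
  refine mul_ne_zero (pow_ne_zero _ hu0) fun h => ?_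
  have := congrArg PowerSeries.constantCoeff h
  rw [constantCoeff_subPS, map_zero, map_eq_zero, PowerSeries.constantCoeff_divXPowOrder_eq_zero_iff] at this
  exact hG this

/-- `g ↦ g^ι(u)` on Laurent series. -/
noncomputable def sub : F⸨X⸩ →+* L⸨X⸩ :=
  IsFractionRing.lift (A := PowerSeries F) (g := (HahnSeries.ofPowerSeries ℤ L).comp (subPS ι u hu))
    ((injective_iff_map_eq_zero _).2 fun G hG => by
      by_contra h
      exact subPS_ne_zero ι u hu hu0 h (HahnSeries.ofPowerSeries_injective (hG.trans (map_zero _).symm)))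

lemma sub_coe (G : PowerSeries F) : sub ι u hu hu0 (G : F⸨X⸩) = (subPS ι u hu G : L⸨X⸩) := by
  have h : (G : F⸨X⸩) = algebraMap (PowerSeries F) F⸨X⸩ G := rfl
  rw [h, sub, IsFractionRing.lift_algebraMap]
  rfl

lemma sub_C (a : F) : sub ι u hu hu0 (HahnSeries.C a) = HahnSeries.C (ι a) := by
  rw [← HahnSeries.ofPowerSeries_C, sub_coe, subPS_C, HahnSeries.ofPowerSeries_C]

lemma sub_X : sub ι u hu hu0 (single 1 1) = (u : L⸨X⸩) := by
  rw [← HahnSeries.ofPowerSeries_X, sub_coe, subPS_X]

lemma single_one_zpow {R : Type*} [Field R] (m : ℤ) : (single (1 : ℤ) (1 : R)) ^ m = single m (1 : R) := by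
  obtain ⟨n, rfl | rfl⟩ := m.eq_nat_or_neg
  · rw [zpow_natCast, single_pow, one_pow, nsmul_eq_mul, mul_one]
  · rw [zpow_neg, zpow_natCast, single_pow, one_pow, nsmul_eq_mul, mul_one]
    refine inv_eq_of_mul_eq_one_right ?_
    rw [single_mul_single, one_mul, add_neg_cancel]
    rfl

lemma sub_single (m : ℤ) (a : F) : sub ι u hu hu0 (single m a) = HahnSeries.C (ι a) * (u : L⸨X⸩) ^ m := by
  have : single m a = HahnSeries.C a * (single 1 1 : F⸨X⸩) ^ m := by
    rw [single_one_zpow, HahnSeries.C_apply, single_mul_single, zero_add, mul_one]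
  rw [this, map_mul, map_zpow₀, sub_C, sub_X]

/-- A series is its leading monomial times a unit power series. -/
lemma v_sub {g : F⸨X⸩} (hg : g ≠ 0) :
    Valued.v (sub ι u hu hu0 g) = (Valued.v (u : L⸨X⸩)) ^ g.order := by
  obtain ⟨w, hw, hgw, -⟩ := exists_eq_single_mul hg
  conv_lhs => rw [hgw]
  rw [map_mul, sub_single, map_one, map_one, one_mul, map_mul, map_zpow₀]
  have h1 : Valued.v ((subPS ι u hu w : PowerSeries L) : L⸨X⸩) = 1 := by
    refine le_antisymm ((LaurentSeries.val_le_one_iff_eq_coe L _).2 ⟨_, rfl⟩) (not_lt.1 fun h => hw ?_)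
    have := v_lt_one_iff_coeff.1 h 0 le_rfl
    rw [PowerSeries.coeff_coe, if_neg (lt_irrefl 0)] at this
    simp [constantCoeff_subPS] at this
    exact this
  rw [sub_coe, h1, mul_one]

lemma X_pow_dvd_derivative {A : PowerSeries L} {N : ℕ} (h : PowerSeries.X ^ (N + 1) ∣ A) :
    PowerSeries.X ^ N ∣ PowerSeries.derivative L A := by
  rw [PowerSeries.X_pow_dvd_iff] at h ⊢
  intro m hm
  rw [PowerSeries.coeff_derivative, h (m + 1) (by omega), zero_mul]

lemma derivative_subPS (G : PowerSeries F) :
    PowerSeries.derivative L (subPS ι u hu G) =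
      subPS ι u hu (PowerSeries.derivative F G) * PowerSeries.derivative L u := by
  refine eq_of_forall_X_pow_dvd fun N => ?_
  have h1 := X_pow_dvd_derivative (X_pow_dvd_subPS_sub ι u hu (N + 1) G)
  have h2 := dvd_mul_of_dvd_left (X_pow_dvd_subPS_sub ι u hu N (PowerSeries.derivative F G))
    (PowerSeries.derivative L u)
  rw [map_sub] at h1
  have e : PowerSeries.derivative L (∑ j ∈ Finset.range (N + 1), PowerSeries.C (ι (PowerSeries.coeff j G)) * u ^ j) =
      (∑ j ∈ Finset.range N, PowerSeries.C (ι (PowerSeries.coeff j (PowerSeries.derivative F G))) * u ^ j) *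
        PowerSeries.derivative L u := by
    rw [map_sum, Finset.sum_range_succ', Finset.sum_mul]
    simp only [pow_zero, mul_one, PowerSeries.derivative_C, add_zero]
    refine Finset.sum_congr rfl fun j _ => ?_
    rw [Derivation.leibniz, PowerSeries.derivative_C, smul_zero, add_zero, PowerSeries.derivative_pow,
      PowerSeries.coeff_derivative, smul_eq_mul, Nat.add_sub_cancel, map_mul, map_add, map_natCast, map_one,
      map_mul, map_add, map_natCast, map_one]
    push_cast
    ring
  have h := dvd_sub h1 h2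
  rw [e] at h
  convert h using 1
  ring

/-- The chain rule. -/
lemma D_sub (g : F⸨X⸩) :
    LocRes.D L (sub ι u hu hu0 g) =
      sub ι u hu hu0 (LocRes.D F g) * ((PowerSeries.derivative L u : PowerSeries L) : L⸨X⸩) := by
  obtain ⟨G, H, hH, rfl⟩ := IsFractionRing.div_surjective (A := PowerSeries F) g
  have key : ∀ G : PowerSeries F, LocRes.D L (sub ι u hu hu0 (algebraMap (PowerSeries F) F⸨X⸩ G)) =
      sub ι u hu hu0 (LocRes.D F (algebraMap (PowerSeries F) F⸨X⸩ G)) *
        ((PowerSeries.derivative L u : PowerSeries L) : L⸨X⸩) := by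
    intro G
    change LocRes.D L (sub ι u hu hu0 (G : F⸨X⸩)) = sub ι u hu hu0 (LocRes.D F (G : F⸨X⸩)) * _
    rw [LocRes.D_coe, sub_coe, sub_coe, LocRes.D_coe, derivative_subPS, PowerSeries.coe_mul]
  rw [map_div₀, Derivation.leibniz_div, Derivation.leibniz_div]
  simp only [smul_eq_mul, map_mul, map_sub, map_pow, map_inv₀, key]
  ring

end sub

end Groth.Agent.FF
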