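import Mathlib
import Groth.Prelude.Def_LocRes
import Groth.Agent.FF.Ev

/-! The local trace formula for residues of Laurent series, in every characteristic. -/

set_option autoImplicit false

namespace Groth.Agent.FF

open LaurentSeries HahnSeries
open scoped WithZero

universe u v

/-- Euler's formula for the trace of `x^r / f'(x)`. -/
theorem trace_euler {K L : Type*} [Field K] [Field L] [Algebra K L] [FiniteDimensional K L]
    [Algebra.IsSeparable K L] {x : L} (hxL : Algebra.adjoin K {x} = ⊤) {r : ℕ}
    (hr : r < Module.finrank K L) :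
    Algebra.trace K L (x ^ r / Polynomial.aeval x (Polynomial.derivative (minpoly K x))) =
      if r + 1 = Module.finrank K L then 1 else 0 := by
  let E := AlgebraicClosure K
  have hsum := sum_smul_minpolyDiv_eq_X_pow (K := K) E hxL hr
  have hx : IsIntegral K x := IsIntegral.of_finite K x
  have hdeg : (minpoly K x).natDegree = Module.finrank K L := by
    rw [← IntermediateField.adjoin.finrank hx]
    have : IntermediateField.adjoin K {x} = ⊤ := by
      apply IntermediateField.toSubalgebra_injective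
      rw [IntermediateField.adjoin_simple_toSubalgebra_of_isAlgebraic hx.isAlgebraic, hxL]
      rfl
    rw [this, IntermediateField.finrank_top']
  have hc : (minpolyDiv K x).coeff (Module.finrank K L - 1) = 1 := by
    rw [← hdeg, ← natDegree_minpolyDiv]
    exact (minpolyDiv_monic hx).coeff_natDegree
  have h := congrArg (fun p => Polynomial.coeff p (Module.finrank K L - 1)) hsum
  simp only [Polynomial.finsetSum_coeff, Polynomial.coeff_map, Polynomial.coeff_smul, smul_eq_mul, hc, mul_one,
    Polynomial.coeff_X_pow] at h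
  apply (algebraMap K E).injective
  rw [trace_eq_sum_embeddings E, apply_ite (algebraMap K E), map_one, map_zero]
  refine h.trans ?_
  have := Module.finrank_pos (R := K) (M := L)
  split_ifs <;> first | rfl | omega

section totallyRamified

variable {L : Type v} [Field L] (u : PowerSeries L) (hu : PowerSeries.constantCoeff u = 0) (hu0 : u ≠ 0)

/-- Laurent series, seen as an extension of themselves. -/
def Up (L : Type v) [Field L] : Type v := L⸨X⸩

noncomputable instance instFieldUp : Field (Up L) := inferInstanceAs (Field L⸨X⸩)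

/-- The identity of `L((X))` and its copy. -/
noncomputable def upEquiv : L⸨X⸩ ≃+* Up L := RingEquiv.refl _

/-- The ramification index. -/
noncomputable def eOf : ℕ := u.order.toNat

include hu hu0 in
lemma exists_u_eq : 0 < eOf u ∧ ∃ w : PowerSeries L, IsUnit w ∧ u = PowerSeries.X ^ eOf u * w := by
  refine ⟨?_, u.divXPowOrder, ?_, PowerSeries.X_pow_order_mul_divXPowOrder.symm⟩
  · rw [pos_iff_ne_zero]
    intro h
    have h2 : PowerSeries.constantCoeff u.divXPowOrder = 0 := by
      rw [PowerSeries.constantCoeff_divXPowOrder, show u.order.toNat = 0 from h,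
        PowerSeries.coeff_zero_eq_constantCoeff_apply, hu]
    exact hu0 (PowerSeries.constantCoeff_divXPowOrder_eq_zero_iff.1 h2)
  · rw [PowerSeries.isUnit_iff_constantCoeff, isUnit_iff_ne_zero]
    exact fun h => hu0 (PowerSeries.constantCoeff_divXPowOrder_eq_zero_iff.1 h)

/-- The quotient of successive divisions by `u`. -/
noncomputable def quo (G : PowerSeries L) : ℕ → PowerSeries L
  | 0 => G
  | m + 1 => PowerSeries.mk (fun n => PowerSeries.coeff (n + eOf u) (quo G m)) *
      Ring.inverse u.divXPowOrder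

include hu hu0 in
lemma quo_spec (G : PowerSeries L) (m : ℕ) :
    quo u G m = (∑ i ∈ Finset.range (eOf u), PowerSeries.C (PowerSeries.coeff i (quo u G m)) * PowerSeries.X ^ i) +
      u * quo u G (m + 1) := by
  obtain ⟨-, w, hw, huw⟩ := exists_u_eq u hu hu0
  have hw' : IsUnit u.divXPowOrder := by
    rw [PowerSeries.isUnit_iff_constantCoeff, isUnit_iff_ne_zero]
    exact fun h => hu0 (PowerSeries.constantCoeff_divXPowOrder_eq_zero_iff.1 h)
  have hsplit : quo u G m =
      (∑ i ∈ Finset.range (eOf u), PowerSeries.C (PowerSeries.coeff i (quo u G m)) * PowerSeries.X ^ i) +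
        PowerSeries.X ^ eOf u * PowerSeries.mk (fun n => PowerSeries.coeff (n + eOf u) (quo u G m)) := by
    ext d
    rw [map_add, map_sum, PowerSeries.coeff_X_pow_mul']
    simp only [PowerSeries.coeff_C_mul, PowerSeries.coeff_X_pow, mul_ite, mul_one, mul_zero, Finset.sum_ite_eq,
      Finset.mem_range, PowerSeries.coeff_mk]
    rcases lt_or_ge d (eOf u) with h | h
    · rw [if_pos h, if_neg (by omega), add_zero]
    · rw [if_neg (by omega), if_pos h, zero_add, Nat.sub_add_cancel h]
  conv_lhs => rw [hsplit]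
  congr 1
  rw [show quo u G (m + 1) = PowerSeries.mk (fun n => PowerSeries.coeff (n + eOf u) (quo u G m)) *
    Ring.inverse u.divXPowOrder from rfl]
  have hkey : u * Ring.inverse u.divXPowOrder = PowerSeries.X ^ eOf u :=
    calc u * Ring.inverse u.divXPowOrder
        = PowerSeries.X ^ eOf u * u.divXPowOrder * Ring.inverse u.divXPowOrder :=
          congrArg (· * Ring.inverse u.divXPowOrder) PowerSeries.X_pow_order_mul_divXPowOrder.symm
      _ = PowerSeries.X ^ eOf u := by rw [mul_assoc, Ring.mul_inverse_cancel _ hw', mul_one]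
  rw [mul_left_comm, hkey, mul_comm]

include hu hu0 in
lemma quo_expand (G : PowerSeries L) (N : ℕ) :
    G = (∑ m ∈ Finset.range N,
      u ^ m * ∑ i ∈ Finset.range (eOf u), PowerSeries.C (PowerSeries.coeff i (quo u G m)) * PowerSeries.X ^ i) +
      u ^ N * quo u G N := by
  induction N with
  | zero => simp [quo]
  | succ N ih =>
    conv_lhs => rw [ih, quo_spec u hu hu0 G N]
    rw [Finset.sum_range_succ]
    ring

/-- The coordinates of an integral series. -/
noncomputable def coord (G : PowerSeries L) (i : ℕ) : PowerSeries L :=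
  PowerSeries.mk fun m => PowerSeries.coeff i (quo u G m)

include hu0 in
lemma eq_sum_coord (G : PowerSeries L) :
    G = ∑ i ∈ Finset.range (eOf u), PowerSeries.X ^ i * subPS (RingHom.id L) u hu (coord u G i) := by
  refine eq_of_forall_X_pow_dvd fun N => ?_
  have h1 : PowerSeries.X ^ N ∣ ∑ i ∈ Finset.range (eOf u), PowerSeries.X ^ i *
      (subPS (RingHom.id L) u hu (coord u G i) -
        ∑ j ∈ Finset.range N, PowerSeries.C (PowerSeries.coeff i (quo u G j)) * u ^ j) := by
    refine Finset.dvd_sum fun i _ => dvd_mul_of_dvd_right ?_ _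
    have := X_pow_dvd_subPS_sub (RingHom.id L) u hu N (coord u G i)
    simpa [coord] using this
  have h2 : PowerSeries.X ^ N ∣ u ^ N * quo u G N := dvd_mul_of_dvd_left (X_pow_dvd_u_pow u hu N) _
  have h := dvd_sub h2 h1
  have e : u ^ N * quo u G N = G - ∑ m ∈ Finset.range N,
      u ^ m * ∑ i ∈ Finset.range (eOf u), PowerSeries.C (PowerSeries.coeff i (quo u G m)) * PowerSeries.X ^ i :=
    eq_sub_of_add_eq' (quo_expand u hu hu0 G N).symm
  rw [e] at h
  simp only [mul_sub, Finset.sum_sub_distrib, Finset.mul_sum] at h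
  rw [Finset.sum_comm (s := Finset.range N)] at h
  convert h using 1
  have : ∀ i j : ℕ, u ^ j * (PowerSeries.C (PowerSeries.coeff i (quo u G j)) * PowerSeries.X ^ i) =
      PowerSeries.X ^ i * (PowerSeries.C (PowerSeries.coeff i (quo u G j)) * u ^ j) := fun i j => by ring
  simp only [this]
  ring

/-- `L((X))` as an algebra over `L((T))` through `T ↦ u`. -/
noncomputable def upAlg : Algebra L⸨X⸩ (Up L) :=
  ((upEquiv (L := L)).toRingHom.comp (sub (RingHom.id L) u hu hu0)).toAlgebra

/-- The variable of `L((X))`. -/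
noncomputable def upX : Up L := upEquiv (single 1 1)

include hu hu0 in
lemma exists_combination (h : L⸨X⸩) :
    ∃ g : Fin (eOf u) → L⸨X⸩, h = ∑ i : Fin (eOf u), (single 1 1) ^ (i : ℕ) * sub (RingHom.id L) u hu hu0 (g i) := by
  set θ := sub (RingHom.id L) u hu hu0
  obtain ⟨he, w, hw, huw⟩ := exists_u_eq u hu hu0
  rcases eq_or_ne h 0 with rfl | hh
  · exact ⟨0, by simp⟩
  obtain ⟨w₀, -, hhw, -⟩ := exists_eq_single_mul hh
  obtain ⟨M, hM⟩ : ∃ M : ℕ, 0 ≤ h.order + (M : ℤ) * (eOf u : ℤ) :=
    ⟨h.order.natAbs, by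
      have : (h.order.natAbs : ℤ) ≤ (h.order.natAbs : ℤ) * (eOf u : ℤ) :=
        le_mul_of_one_le_right (by positivity) (by exact_mod_cast he)
      omega⟩
  obtain ⟨G, hG⟩ : ∃ G : PowerSeries L, h * (u : L⸨X⸩) ^ M = (G : L⸨X⸩) := by
    refine ⟨PowerSeries.X ^ (h.order + (M : ℤ) * (eOf u : ℤ)).toNat * (w₀ * w ^ M), ?_⟩
    conv_lhs => rw [hhw, huw]
    simp only [PowerSeries.coe_mul, PowerSeries.coe_pow, HahnSeries.ofPowerSeries_X, single_pow, one_pow,
      mul_pow, nsmul_eq_mul, mul_one]
    rw [mul_mul_mul_comm, single_mul_single, one_mul]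
    congr 2
    rw [Int.toNat_of_nonneg hM]
  have hu' : (u : L⸨X⸩) ≠ 0 := fun hc => hu0 (HahnSeries.ofPowerSeries_injective (hc.trans (map_zero _).symm))
  refine ⟨fun i => (single (-(M : ℤ)) 1) * (coord u G i : L⸨X⸩), ?_⟩
  simp only [map_mul, θ, sub_single, map_one, one_mul, sub_coe, zpow_neg, zpow_natCast]
  rw [← mul_left_inj' (pow_ne_zero M hu'), hG, Finset.sum_mul]
  conv_lhs => rw [eq_sum_coord u hu hu0 G, map_sum, ← Fin.sum_univ_eq_sum_range]
  refine Finset.sum_congr rfl fun i _ => ?_
  rw [PowerSeries.coe_mul, PowerSeries.coe_pow, HahnSeries.ofPowerSeries_X]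
  field_simp

include hu hu0 in
lemma combination_eq_zero (g : Fin (eOf u) → L⸨X⸩)
    (h : ∑ i : Fin (eOf u), (single 1 1) ^ (i : ℕ) * sub (RingHom.id L) u hu hu0 (g i) = 0) : g = 0 := by
  classical
  set θ := sub (RingHom.id L) u hu hu0
  obtain ⟨he, w, hw, huw⟩ := exists_u_eq u hu hu0
  by_contra hg
  obtain ⟨i₁, hi₁⟩ := Function.ne_iff.1 hg
  have hvu : Valued.v (u : L⸨X⸩) = WithZero.exp (-(eOf u : ℤ)) := by
    conv_lhs => rw [huw, PowerSeries.coe_mul, map_mul, PowerSeries.coe_pow, HahnSeries.ofPowerSeries_X, single_pow,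
      one_pow, nsmul_eq_mul, mul_one, LaurentSeries.valuation_single_zpow]
    have : Valued.v (w : L⸨X⸩) = 1 := by
      refine le_antisymm ((LaurentSeries.val_le_one_iff_eq_coe L _).2 ⟨w, rfl⟩) (not_lt.1 fun hlt => ?_)
      have h0 := v_lt_one_iff_coeff.1 hlt 0 le_rfl
      rw [PowerSeries.coeff_coe, if_neg (lt_irrefl 0)] at h0
      rw [PowerSeries.isUnit_iff_constantCoeff, isUnit_iff_ne_zero] at hw
      exact hw (by simpa using h0)
    rw [this, mul_one]
  let t : Fin (eOf u) → L⸨X⸩ := fun i => (single 1 1) ^ (i : ℕ) * θ (g i)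
  have hv : ∀ i, g i ≠ 0 → Valued.v (t i) = WithZero.exp (-((i : ℤ) + (eOf u : ℤ) * (g i).order)) := by
    intro i hi
    simp only [t, map_mul, θ, v_sub _ _ _ _ hi, hvu, map_pow, LaurentSeries.valuation_single_zpow]
    rw [← WithZero.exp_nsmul, ← WithZero.exp_zsmul, ← WithZero.exp_add]
    congr 1
    simp only [smul_neg, nsmul_eq_mul, zsmul_eq_mul, mul_one, Int.cast_id]
    ring
  obtain ⟨i₀, hi₀, hmax⟩ := Finset.exists_max_image (Finset.univ.filter fun i => g i ≠ 0) (fun i => Valued.v (t i))
    ⟨i₁, Finset.mem_filter.2 ⟨Finset.mem_univ _, hi₁⟩⟩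
  rw [Finset.mem_filter] at hi₀
  have hlt : ∀ i ∈ Finset.univ \ {i₀}, Valued.v (t i) < Valued.v (t i₀) := by
    intro i hi
    rw [Finset.mem_sdiff, Finset.mem_singleton] at hi
    rcases eq_or_ne (g i) 0 with hgi | hgi
    · simp only [t, hgi, map_zero, mul_zero]
      rw [show Valued.v ((single (1 : ℤ) (1 : L)) ^ (i₀ : ℕ) * θ (g i₀)) = _ from hv i₀ hi₀.2]
      exact WithZero.exp_pos
    refine lt_of_le_of_ne (hmax i (Finset.mem_filter.2 ⟨Finset.mem_univ _, hgi⟩)) fun heq => hi.2 ?_
    rw [hv i hgi, hv i₀ hi₀.2, WithZero.exp_inj, neg_inj] at heq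
    have h1 := congrArg (fun z : ℤ => z % (eOf u : ℤ)) heq
    simp only [Int.add_mul_emod_self_left] at h1
    rw [Int.emod_eq_of_lt (by positivity) (by exact_mod_cast i.2),
      Int.emod_eq_of_lt (by positivity) (by exact_mod_cast i₀.2)] at h1
    exact Fin.ext (by exact_mod_cast h1)
  have h2 := Valuation.map_sum_eq_of_lt (v := (Valued.v : Valuation L⸨X⸩ _)) (f := t) (Finset.mem_univ i₀) hlt
  rw [show ∑ i, t i = 0 from h, map_zero, hv i₀ hi₀.2] at h2
  exact WithZero.exp_ne_zero h2.symm

/-- The power basis `1, X, …, X^(e-1)`. -/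
noncomputable def upPowerBasis :
    letI := upAlg u hu hu0
    PowerBasis L⸨X⸩ (Up L) :=
  letI := upAlg u hu hu0
  { gen := upX
    dim := eOf u
    basis := Module.Basis.mk (v := fun i : Fin (eOf u) => (upX : Up L) ^ (i : ℕ))
      (Fintype.linearIndependent_iff.2 fun g hg i => by
        refine congrFun (combination_eq_zero u hu hu0 g ?_) i
        refine Eq.trans (Finset.sum_congr rfl fun j _ => ?_) hg
        rw [Algebra.smul_def, mul_comm]
        rfl)
      (fun h _ => by
        obtain ⟨g, hg⟩ := exists_combination u hu hu0 h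
        rw [Submodule.mem_span_range_iff_exists_fun]
        refine ⟨g, Eq.trans (Finset.sum_congr rfl fun j _ => ?_) hg.symm⟩
        rw [Algebra.smul_def, mul_comm]
        rfl)
    basis_eq_pow := fun i => by simp }

/-- `p ↦ p` as an iterated series in `(T, Y)`. -/
noncomputable def biHom : Polynomial (PowerSeries L) →+* PowerSeries (PowerSeries L) :=
  Polynomial.eval₂RingHom (PowerSeries.map PowerSeries.C) (PowerSeries.C PowerSeries.X)

lemma coeff_map_C_mul (c : PowerSeries L) (i j : ℕ) :
    PowerSeries.coeff j (PowerSeries.map PowerSeries.C c * PowerSeries.C PowerSeries.X ^ i :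
      PowerSeries (PowerSeries L)) = PowerSeries.C (PowerSeries.coeff j c) * PowerSeries.X ^ i := by
  rw [← map_pow, PowerSeries.coeff_mul_C, PowerSeries.coeff_map]

lemma ev2_biHom (p : Polynomial (PowerSeries L)) :
    ev2 u hu (biHom p) = Polynomial.eval₂ (subPS (RingHom.id L) u hu) PowerSeries.X p := by
  change ev2 u hu (Polynomial.eval₂ _ _ p) = _
  rw [Polynomial.hom_eval₂, ev2_C]
  rfl

/-- The tail of an iterated series. -/
noncomputable def tail (H : PowerSeries (PowerSeries L)) (j : ℕ) : PowerSeries L :=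
  ev2 u hu (PowerSeries.mk fun i => PowerSeries.coeff (i + j) H)

lemma tail_eq (H : PowerSeries (PowerSeries L)) (j : ℕ) :
    tail u hu H j = PowerSeries.coeff j H + u * tail u hu H (j + 1) := by
  have h : (PowerSeries.mk fun i => PowerSeries.coeff (i + j) H) =
      PowerSeries.C (PowerSeries.coeff j H) +
        PowerSeries.X * PowerSeries.mk fun i => PowerSeries.coeff (i + (j + 1)) H := by
    ext i : 1
    rcases i with _ | i
    · simp
    · rw [map_add, PowerSeries.coeff_C, if_neg (Nat.succ_ne_zero i), zero_add, PowerSeries.coeff_succ_X_mul,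
        PowerSeries.coeff_mk, PowerSeries.coeff_mk]
      congr 2
      ring
  conv_lhs => rw [tail, h, map_add, map_mul, ev2_X, ev2_C]
  rfl

lemma tail_zero (H : PowerSeries (PowerSeries L)) : tail u hu H 0 = ev2 u hu H := by
  rw [tail]
  congr 1
  ext i : 1
  simp

lemma ev2_eq_sum_add_tail (H : PowerSeries (PowerSeries L)) (m : ℕ) :
    ev2 u hu H = (∑ j ∈ Finset.range m, PowerSeries.coeff j H * u ^ j) + u ^ m * tail u hu H m := by
  induction m with
  | zero => simp [tail_zero]
  | succ m ih =>
    rw [ih, tail_eq, Finset.sum_range_succ]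
    ring

lemma psd_mul' {R : Type*} [CommRing R] (f g : PowerSeries R) :
    PowerSeries.derivative R (f * g) = f * PowerSeries.derivative R g + g * PowerSeries.derivative R f := by
  rw [Derivation.leibniz, smul_eq_mul, smul_eq_mul]

set_option maxHeartbeats 1000000 in
/-- The key local computation: with `f` the minimal polynomial of `X`, `u'/f'(X)` is the evaluation of a series
whose residues against `X^i / u^m` are those of a single monomial. -/
theorem exists_data :
    letI := upAlg u hu hu0
    ∃ V S : PowerSeries L, S * V = 1 ∧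
      Polynomial.aeval (upX : Up L) (Polynomial.derivative (minpoly L⸨X⸩ (upX : Up L))) =
        upEquiv (((PowerSeries.derivative L u * S : PowerSeries L) : L⸨X⸩)) ∧
      ∀ (i m : ℕ), i < eOf u →
        ((single (1 : ℤ) (1 : L)) ^ i * (V : L⸨X⸩) * (u : L⸨X⸩) ^ (-((m : ℤ) + 1))).coeff (-1) =
          if m = 0 ∧ i + 1 = eOf u then 1 else 0 := by
  letI := upAlg u hu hu0
  classical
  obtain ⟨he, w, hw, huw⟩ := exists_u_eq u hu hu0
  set e := eOf u
  -- the equation of `X`
  let a : ℕ → PowerSeries L := fun i => coord u (PowerSeries.X ^ e) i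
  let f : Polynomial (PowerSeries L) :=
    Polynomial.X ^ e - ∑ i ∈ Finset.range e, Polynomial.C (a i) * Polynomial.X ^ i
  have ha0 : ∀ i < e, PowerSeries.constantCoeff (a i) = 0 := fun i hi => by
    rw [← PowerSeries.coeff_zero_eq_constantCoeff_apply]
    simp only [a, coord, PowerSeries.coeff_mk]
    change PowerSeries.coeff i (PowerSeries.X ^ e) = 0
    rw [PowerSeries.coeff_X_pow, if_neg (by omega)]
  have hf0 : Polynomial.eval₂ (subPS (RingHom.id L) u hu) PowerSeries.X f = 0 := by
    rw [Polynomial.eval₂_sub, Polynomial.eval₂_X_pow, Polynomial.eval₂_finsetSum]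
    conv_lhs => arg 1; rw [eq_sum_coord u hu hu0 (PowerSeries.X ^ e)]
    rw [sub_eq_zero]
    exact Finset.sum_congr rfl fun i _ => by rw [Polynomial.eval₂_mul, Polynomial.eval₂_C, Polynomial.eval₂_X_pow, mul_comm]
  have hdeg : (∑ i ∈ Finset.range e, Polynomial.C (a i) * Polynomial.X ^ i).degree < (e : WithBot ℕ) := by
    refine lt_of_le_of_lt (Polynomial.degree_sum_le _ _) ((Finset.sup_lt_iff (WithBot.bot_lt_coe e)).2 fun i hi => ?_)
    exact lt_of_le_of_lt (Polynomial.degree_C_mul_X_pow_le _ _) (WithBot.coe_lt_coe.2 (Finset.mem_range.1 hi))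
  have hfm : f.Monic := Polynomial.monic_X_pow_sub hdeg
  have hfd : f.natDegree = e := by
    refine Polynomial.natDegree_eq_of_degree_eq_some ?_
    rw [Polynomial.degree_sub_eq_left_of_degree_lt (by rwa [Polynomial.degree_X_pow]), Polynomial.degree_X_pow]
  let F : Polynomial L⸨X⸩ := f.map (HahnSeries.ofPowerSeries ℤ L)
  have hev : ∀ p : Polynomial (PowerSeries L), Polynomial.aeval (upX : Up L) (p.map (HahnSeries.ofPowerSeries ℤ L)) =
      upEquiv ((Polynomial.eval₂ (subPS (RingHom.id L) u hu) PowerSeries.X p : PowerSeries L) : L⸨X⸩) := by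
    intro p
    rw [Polynomial.aeval_def, Polynomial.eval₂_map,
      show upEquiv ((Polynomial.eval₂ (subPS (RingHom.id L) u hu) PowerSeries.X p : PowerSeries L) : L⸨X⸩) =
        ((upEquiv (L := L)).toRingHom.comp (HahnSeries.ofPowerSeries ℤ L))
          (Polynomial.eval₂ (subPS (RingHom.id L) u hu) PowerSeries.X p) from rfl, Polynomial.hom_eval₂]
    congr 1
    · refine RingHom.ext fun c => ?_
      change upEquiv (sub (RingHom.id L) u hu hu0 (c : L⸨X⸩)) = _
      rw [sub_coe]
      rfl
    · change upEquiv (single 1 1) = upEquiv _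
      rw [HahnSeries.ofPowerSeries_X]
      rfl
  have hmin : minpoly L⸨X⸩ (upX : Up L) = F := by
    let pb := upPowerBasis u hu hu0
    haveI : Module.Finite L⸨X⸩ (Up L) := pb.finite
    have hroot : Polynomial.aeval (upX : Up L) F = 0 := by rw [hev, hf0]; simp
    refine (Polynomial.eq_of_monic_of_dvd_of_natDegree_le (minpoly.monic (IsIntegral.of_finite _ _))
      (hfm.map _) (minpoly.dvd _ _ hroot) ?_).symm
    rw [show (minpoly L⸨X⸩ (upX : Up L)).natDegree = e from pb.natDegree_minpoly, hfm.natDegree_map, hfd]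
  -- the factor `W`
  set H := biHom f with hH
  have hH0 : ev2 u hu H = 0 := by rw [hH, ev2_biHom, hf0]
  have hHeq : H = PowerSeries.C (PowerSeries.X ^ e) -
      ∑ i ∈ Finset.range e, PowerSeries.map PowerSeries.C (a i) * PowerSeries.C PowerSeries.X ^ i := by
    simp [hH, biHom, f, Polynomial.eval₂_finsetSum]
  have hcoeffH : ∀ j, PowerSeries.coeff j H =
      (if j = 0 then PowerSeries.X ^ e else 0) -
        ∑ i ∈ Finset.range e, PowerSeries.C (PowerSeries.coeff j (a i)) * PowerSeries.X ^ i := by
    intro j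
    rw [hHeq, map_sub, map_sum, PowerSeries.coeff_C]
    simp only [coeff_map_C_mul]
  let W : PowerSeries (PowerSeries L) := PowerSeries.mk fun j => -tail u hu H (j + 1)
  have hHW : H = (PowerSeries.C u - PowerSeries.X) * W := by
    ext j : 1
    rw [sub_mul, map_sub, PowerSeries.coeff_C_mul, PowerSeries.coeff_mk]
    rcases j with _ | j
    · rw [PowerSeries.coeff_zero_X_mul, sub_zero]
      have h := tail_eq u hu H 0
      rw [tail_zero, hH0] at h
      linear_combination -h
    · rw [PowerSeries.coeff_succ_X_mul, PowerSeries.coeff_mk]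
      linear_combination -(tail_eq u hu H (j + 1))
  have hW0 : PowerSeries.coeff 0 H = PowerSeries.X ^ e := by
    rw [hcoeffH, if_pos rfl, Finset.sum_eq_zero (fun i hi => ?_), sub_zero]
    rw [PowerSeries.coeff_zero_eq_constantCoeff_apply, ha0 i (Finset.mem_range.1 hi), map_zero, zero_mul]
  have hWu : IsUnit W := by
    rw [PowerSeries.isUnit_iff_constantCoeff]
    have h := congrArg (PowerSeries.coeff 0) hHW
    rw [hW0, sub_mul, map_sub, PowerSeries.coeff_C_mul, PowerSeries.coeff_zero_X_mul, sub_zero,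
      PowerSeries.coeff_zero_eq_constantCoeff_apply, huw, mul_assoc] at h
    have h' : (1 : PowerSeries L) = w * PowerSeries.constantCoeff W :=
      mul_left_cancel₀ (pow_ne_zero e PowerSeries.X_ne_zero) (by rw [mul_one]; exact h)
    exact IsUnit.of_mul_eq_one_right _ h'.symm
  obtain ⟨Winv, hWinv⟩ := hWu.exists_right_inv
  refine ⟨ev2 u hu Winv, ev2 u hu W, by rw [← map_mul, hWinv, map_one], ?_, ?_⟩
  · -- the derivative
    rw [hmin, Polynomial.derivative_map, hev]
    congr 2
    have hS : ev2 u hu W = ∑ i ∈ Finset.range e,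
        PowerSeries.X ^ i * subPS (RingHom.id L) u hu (PowerSeries.derivative L (a i)) := by
      have h1 := congrArg (PowerSeries.derivative (PowerSeries L)) hHW
      rw [psd_mul', map_sub (PowerSeries.derivative (PowerSeries L)),
        PowerSeries.derivative_C, PowerSeries.derivative_X, zero_sub] at h1
      have h2 := congrArg (ev2 u hu) h1
      rw [map_add, map_mul, map_mul, map_sub, ev2_C, ev2_X, sub_self, zero_mul, zero_add, map_neg, map_one,
        mul_neg, mul_one] at h2
      rw [← neg_eq_iff_eq_neg] at h2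
      rw [← h2, hHeq, map_sub (PowerSeries.derivative (PowerSeries L)), PowerSeries.derivative_C, zero_sub, map_neg,
        neg_neg, map_sum, map_sum]
      refine Finset.sum_congr rfl fun i _ => ?_
      rw [psd_mul', ← map_pow, PowerSeries.derivative_C, mul_zero, zero_add, map_mul, ev2_C]
      congr 1
      have hder : PowerSeries.derivative (PowerSeries L) (PowerSeries.map PowerSeries.C (a i)) =
          PowerSeries.map PowerSeries.C (PowerSeries.derivative L (a i)) := by
        ext n : 1
        simp [PowerSeries.coeff_derivative]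
      rw [hder]
      rfl
    -- differentiate the equation
    have hD : PowerSeries.derivative L (Polynomial.eval₂ (subPS (RingHom.id L) u hu) PowerSeries.X f) =
        Polynomial.eval₂ (subPS (RingHom.id L) u hu) PowerSeries.X (Polynomial.derivative f) -
          PowerSeries.derivative L u * ev2 u hu W := by
      rw [hS, Finset.mul_sum]
      simp only [f, Polynomial.eval₂_sub, Polynomial.derivative_sub, Polynomial.derivative_sum, map_sub,
        Polynomial.eval₂_finsetSum, map_sum, Polynomial.derivative_X_pow, Polynomial.derivative_C_mul_X_pow,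
        Polynomial.eval₂_mul, Polynomial.eval₂_C, Polynomial.eval₂_X_pow, map_natCast, Polynomial.eval₂_natCast]
      rw [PowerSeries.derivative_pow, PowerSeries.derivative_X, mul_one, sub_sub, ← Finset.sum_add_distrib]
      congr 1
      refine Finset.sum_congr rfl fun i _ => ?_
      rw [Derivation.leibniz, derivative_subPS, PowerSeries.derivative_pow, PowerSeries.derivative_X, map_mul,
        map_natCast, smul_eq_mul, smul_eq_mul]
      ring
    rw [hf0, map_zero, eq_comm, sub_eq_zero] at hD
    exact hD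
  · intro i m hi
    let Hl : PowerSeries L⸨X⸩ := PowerSeries.map (HahnSeries.ofPowerSeries ℤ L) H
    let P : ℕ → L⸨X⸩ := fun r =>
      ∑ j ∈ Finset.range (r + 1), ((PowerSeries.coeff j Winv : PowerSeries L) : L⸨X⸩) * (u : L⸨X⸩) ^ ((j : ℤ) - ((r : ℤ) + 1))
    have hu' : (u : L⸨X⸩) ≠ 0 := fun hc => hu0 (HahnSeries.ofPowerSeries_injective (hc.trans (map_zero _).symm))
    have hrec0 : (u : L⸨X⸩) * P 0 = ((PowerSeries.coeff 0 Winv : PowerSeries L) : L⸨X⸩) := by
      simp only [P, zero_add, Finset.sum_range_one, Nat.cast_zero, zero_sub, zpow_neg_one]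
      field_simp
    have hrec : ∀ r, (u : L⸨X⸩) * P (r + 1) = P r + ((PowerSeries.coeff (r + 1) Winv : PowerSeries L) : L⸨X⸩) := by
      intro r
      simp only [P]
      rw [Finset.mul_sum, Finset.sum_range_succ _ (r + 1)]
      congr 1
      · refine Finset.sum_congr rfl fun j _ => ?_
        rw [mul_left_comm, ← zpow_one_add₀ hu']
        congr 2
        push_cast
        ring
      · push_cast
        rw [show (r : ℤ) + 1 - (((r : ℤ) + 1) + 1) = -1 by ring, zpow_neg_one, mul_left_comm, mul_inv_cancel₀ hu',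
          mul_one]
    have hP : Hl * PowerSeries.mk P = 1 := by
      have hX : (PowerSeries.C (u : L⸨X⸩) - PowerSeries.X) * PowerSeries.mk P =
          PowerSeries.map (HahnSeries.ofPowerSeries ℤ L) Winv := by
        ext r : 1
        rw [sub_mul, map_sub, PowerSeries.coeff_C_mul, PowerSeries.coeff_mk, PowerSeries.coeff_map]
        rcases r with _ | r
        · rw [PowerSeries.coeff_zero_X_mul, sub_zero, hrec0]
        · rw [PowerSeries.coeff_succ_X_mul, PowerSeries.coeff_mk, hrec r, add_sub_cancel_left]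
      calc Hl * PowerSeries.mk P = PowerSeries.map (HahnSeries.ofPowerSeries ℤ L) W *
            ((PowerSeries.C (u : L⸨X⸩) - PowerSeries.X) * PowerSeries.mk P) := by
            simp only [Hl]
            rw [hHW, map_mul, map_sub, PowerSeries.map_C, PowerSeries.map_X]
            ring
        _ = 1 := by rw [hX, ← map_mul, hWinv, map_one]
    have hP0 : P 0 = single (-(e : ℤ)) 1 := by
      have h := congrArg (PowerSeries.coeff 0) hP
      rw [PowerSeries.coeff_mul, Finset.Nat.antidiagonal_zero, Finset.sum_singleton, PowerSeries.coeff_map, hW0,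
        PowerSeries.coeff_mk, PowerSeries.coeff_one, if_pos rfl, PowerSeries.coe_pow, HahnSeries.ofPowerSeries_X,
        single_pow, one_pow, nsmul_eq_mul, mul_one] at h
      rw [← mul_right_inj' (single_ne_zero (R := L) (a := (e : ℤ)) one_ne_zero), h, single_mul_single, one_mul,
        add_neg_cancel]
      rfl
    have hPdeg : ∀ r d : ℤ, 1 ≤ r → -(e : ℤ) - 1 < d → (P r.toNat).coeff d = 0 := by
      suffices h : ∀ r : ℕ, ∀ d : ℤ, 1 ≤ r → -(e : ℤ) - 1 < d → (P r).coeff d = 0 from
        fun r d hr hd => h r.toNat d (by omega) hd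
      intro r
      induction r using Nat.strong_induction_on with
      | _ r ih =>
        intro d hr hd
        have hlow : ∀ q < r, ∀ d' : ℤ, -(e : ℤ) < d' → (P q).coeff d' = 0 := by
          intro q hq d' hd'
          rcases Nat.eq_zero_or_pos q with rfl | hq0
          · rw [hP0, HahnSeries.coeff_single, if_neg (by omega)]
          · exact ih q hq d' hq0 (by omega)
        have h := congrArg (PowerSeries.coeff r) hP
        rw [PowerSeries.coeff_mul, Finset.Nat.sum_antidiagonal_eq_sum_range_succ_mk, Finset.sum_range_succ',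
          PowerSeries.coeff_one, if_neg (by omega), PowerSeries.coeff_map, hW0, PowerSeries.coeff_mk, Nat.sub_zero,
          PowerSeries.coe_pow, HahnSeries.ofPowerSeries_X, single_pow, one_pow, nsmul_eq_mul, mul_one] at h
        have h2 := congrArg (fun z : L⸨X⸩ => z.coeff (d + e)) h
        rw [HahnSeries.coeff_add, HahnSeries.coeff_single_mul, HahnSeries.coeff_sum, HahnSeries.coeff_zero,
          add_sub_cancel_right, one_mul, Finset.sum_eq_zero, zero_add] at h2
        · exact h2
        intro q hq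
        rw [Finset.mem_range] at hq
        rw [PowerSeries.coeff_map, hcoeffH, if_neg (Nat.succ_ne_zero q), zero_sub, map_neg, PowerSeries.coeff_mk,
          neg_mul, HahnSeries.coeff_neg, neg_eq_zero, map_sum, Finset.sum_mul, HahnSeries.coeff_sum]
        refine Finset.sum_eq_zero fun l hl => ?_
        rw [Finset.mem_range] at hl
        rw [PowerSeries.coe_mul, PowerSeries.coe_pow, HahnSeries.ofPowerSeries_C, HahnSeries.ofPowerSeries_X,
          single_pow, one_pow, nsmul_eq_mul, mul_one, HahnSeries.C_apply, single_mul_single,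
          HahnSeries.coeff_single_mul]
        rw [hlow (r - (q + 1)) (by omega) _ (by omega), mul_zero]
    have hsplit : (single (1 : ℤ) (1 : L)) ^ i * ((ev2 u hu Winv : PowerSeries L) : L⸨X⸩) *
          (u : L⸨X⸩) ^ (-((m : ℤ) + 1)) =
        single (i : ℤ) (1 : L) * P m + ((PowerSeries.X ^ i * tail u hu Winv (m + 1) : PowerSeries L) : L⸨X⸩) := by
      rw [ev2_eq_sum_add_tail u hu Winv (m + 1), PowerSeries.coe_mul, PowerSeries.coe_pow, HahnSeries.ofPowerSeries_X,
        map_add, map_sum, single_pow, one_pow, nsmul_eq_mul, mul_one, mul_assoc, add_mul, mul_add, Finset.sum_mul]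
      congr 1
      · congr 1
        refine Finset.sum_congr rfl fun j _ => ?_
        rw [PowerSeries.coe_mul, PowerSeries.coe_pow, mul_assoc, ← zpow_natCast (u : L⸨X⸩) j, ← zpow_add₀ hu',
          sub_eq_add_neg]
      · congr 1
        rw [PowerSeries.coe_mul, PowerSeries.coe_pow, mul_right_comm, ← zpow_natCast (u : L⸨X⸩) (m + 1),
          ← zpow_add₀ hu', show ((m + 1 : ℕ) : ℤ) + -((m : ℤ) + 1) = 0 by push_cast; ring, zpow_zero, one_mul]
    rw [hsplit, HahnSeries.coeff_add, PowerSeries.coeff_coe, if_pos (by norm_num), add_zero,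
      HahnSeries.coeff_single_mul, one_mul]
    rcases Nat.eq_zero_or_pos m with rfl | hm
    · rw [hP0, HahnSeries.coeff_single]
      simp only [true_and]
      split_ifs <;> first | rfl | omega
    · rw [if_neg (by omega), show m = (m : ℤ).toNat from rfl, hPdeg _ _ (by omega) (by omega)]

include hu hu0 in
lemma res_combination {V : PowerSeries L}
    (hV : ∀ (i m : ℕ), i < eOf u →
      ((single (1 : ℤ) (1 : L)) ^ i * (V : L⸨X⸩) * (u : L⸨X⸩) ^ (-((m : ℤ) + 1))).coeff (-1) =
        if m = 0 ∧ i + 1 = eOf u then 1 else 0)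
    {i : ℕ} (hi : i < eOf u) (g : L⸨X⸩) :
    ((single (1 : ℤ) (1 : L)) ^ i * (V : L⸨X⸩) * sub (RingHom.id L) u hu hu0 g).coeff (-1) =
      if i + 1 = eOf u then g.coeff (-1) else 0 := by
  suffices h : ∀ (M : ℕ) (g : L⸨X⸩), (∀ d : ℤ, d < -(M : ℤ) → g.coeff d = 0) →
      ((single (1 : ℤ) (1 : L)) ^ i * (V : L⸨X⸩) * sub (RingHom.id L) u hu hu0 g).coeff (-1) =
        if i + 1 = eOf u then g.coeff (-1) else 0 by
    exact h g.order.natAbs g fun d hd => HahnSeries.coeff_eq_zero_of_lt_order (by omega)
  intro M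
  induction M with
  | zero =>
    intro g hg
    have hv : Valued.v g ≤ 1 := v_le_one_iff_coeff.2 fun d hd => hg d (by simpa using hd)
    obtain ⟨G, rfl⟩ := (LaurentSeries.val_le_one_iff_eq_coe L g).1 hv
    rw [sub_coe, single_pow, one_pow, nsmul_eq_mul, mul_one, mul_assoc, ← PowerSeries.coe_mul,
      coeff_single_mul, PowerSeries.coeff_coe, if_pos (by omega), mul_zero, hg (-1) (by norm_num)]
    simp
  | succ M ih =>
    intro g hg
    set c := g.coeff (-((M : ℤ) + 1))
    have hg2 : ∀ d : ℤ, d < -(M : ℤ) → (g - single (-((M : ℤ) + 1)) c).coeff d = 0 := by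
      intro d hd
      rw [HahnSeries.coeff_sub, HahnSeries.coeff_single]
      rcases eq_or_ne d (-((M : ℤ) + 1)) with rfl | hne
      · rw [if_pos rfl, sub_self]
      · rw [if_neg hne, hg d (by push_cast; omega), sub_zero]
    have h1 := ih _ hg2
    rw [map_sub, mul_sub, HahnSeries.coeff_sub, HahnSeries.coeff_sub, sub_single, RingHom.id_apply,
      mul_left_comm, HahnSeries.C_mul_eq_smul, HahnSeries.coeff_smul, hV i M hi, smul_eq_mul,
      HahnSeries.coeff_single, sub_eq_iff_eq_add] at h1
    rw [h1]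
    rcases Nat.eq_zero_or_pos M with rfl | hM
    · simp only [true_and, Nat.cast_zero, zero_add]
      split_ifs <;> simp [c]
    · rw [if_neg (show ¬ ((-1 : ℤ) = -((M : ℤ) + 1)) by omega), if_neg (show ¬ (M = 0 ∧ i + 1 = eOf u) from fun h => hM.ne' h.1)]
      simp

include hu hu0 in
/-- The trace formula in the totally ramified case. -/
theorem res_trace_up (h : L⸨X⸩) :
    letI := upAlg u hu hu0
    (Algebra.trace L⸨X⸩ (Up L) (upEquiv h)).coeff (-1) =
      (h * ((PowerSeries.derivative L u : PowerSeries L) : L⸨X⸩)).coeff (-1) := by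
  letI := upAlg u hu hu0
  let pb := upPowerBasis u hu hu0
  haveI : Module.Finite L⸨X⸩ (Up L) := pb.finite
  have hdim : Module.finrank L⸨X⸩ (Up L) = eOf u := pb.finrank
  obtain ⟨V, S, hSV, hder, hres⟩ := exists_data u hu hu0
  set u' := PowerSeries.derivative L u
  rcases eq_or_ne u' 0 with h0 | h0
  · -- inseparable case
    rw [h0, zero_mul, map_zero, map_zero] at hder
    have hns : ¬ Algebra.IsSeparable L⸨X⸩ (Up L) := fun hsep =>
      (Algebra.IsSeparable.isSeparable L⸨X⸩ (upX : Up L)).aeval_derivative_ne_zero (minpoly.aeval _ _) hder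
    rw [Algebra.trace_eq_zero_of_not_isSeparable hns, h0]
    simp
  have hd0 : Polynomial.aeval (upX : Up L) (Polynomial.derivative (minpoly L⸨X⸩ (upX : Up L))) ≠ 0 := by
    rw [hder]
    intro hc
    refine mul_ne_zero h0 (left_ne_zero_of_mul (a := S) (b := V) (by rw [hSV]; exact one_ne_zero)) ?_
    exact HahnSeries.ofPowerSeries_injective ((upEquiv.injective (hc.trans (map_zero _).symm)).trans (map_zero _).symm)
  have htop : IntermediateField.adjoin L⸨X⸩ {(upX : Up L)} = ⊤ := by
    refine IntermediateField.eq_of_le_of_finrank_le le_top ?_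
    rw [IntermediateField.finrank_top', hdim, IntermediateField.adjoin.finrank (IsIntegral.of_finite _ _)]
    exact (pb.natDegree_minpoly).ge
  haveI : Algebra.IsSeparable L⸨X⸩ (Up L) := by
    have hs : IsSeparable L⸨X⸩ (upX : Up L) := by
      refine (Polynomial.separable_iff_derivative_ne_zero (minpoly.irreducible (IsIntegral.of_finite _ _))).2 ?_
      exact fun hc => hd0 (by rw [hc, map_zero])
    have := (IntermediateField.isSeparable_adjoin_simple_iff_isSeparable _ _).2 hs
    rw [htop] at this
    haveI := this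
    exact AlgEquiv.Algebra.isSeparable IntermediateField.topEquiv
  have hadj : Algebra.adjoin L⸨X⸩ {(upX : Up L)} = ⊤ := pb.adjoin_gen_eq_top
  set d := Polynomial.aeval (upX : Up L) (Polynomial.derivative (minpoly L⸨X⸩ (upX : Up L)))
  set g := pb.basis.repr (upEquiv h * d)
  have hh : upEquiv h = ∑ i : Fin (eOf u), g i • ((upX : Up L) ^ (i : ℕ) / d) := by
    have := pb.basis.sum_repr (upEquiv h * d)
    rw [show (upEquiv h : Up L) = upEquiv h * d / d by rw [mul_div_cancel_right₀ _ hd0], ← this, Finset.sum_div]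
    exact Finset.sum_congr rfl fun i _ => by rw [pb.basis_eq_pow, smul_div_assoc]; rfl
  have hlhs : (Algebra.trace L⸨X⸩ (Up L) (upEquiv h)).coeff (-1) =
      ∑ i : Fin (eOf u), if (i : ℕ) + 1 = eOf u then (g i).coeff (-1) else 0 := by
    rw [hh, map_sum, HahnSeries.coeff_sum]
    refine Finset.sum_congr rfl fun i _ => ?_
    rw [map_smul, trace_euler hadj (by rw [hdim]; exact i.2), hdim, smul_eq_mul]
    split_ifs <;> simp
  have hd : d⁻¹ * upEquiv ((u' : PowerSeries L) : L⸨X⸩) = upEquiv ((V : PowerSeries L) : L⸨X⸩) := by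
    rw [inv_mul_eq_iff_eq_mul₀ hd0, hder, ← map_mul, ← PowerSeries.coe_mul, mul_assoc, hSV, mul_one]
  have hrhs : upEquiv (h * ((u' : PowerSeries L) : L⸨X⸩)) =
      upEquiv (∑ i : Fin (eOf u),
        (single (1 : ℤ) (1 : L)) ^ (i : ℕ) * (V : L⸨X⸩) * sub (RingHom.id L) u hu hu0 (g i)) := by
    rw [map_mul, hh, Finset.sum_mul, map_sum]
    refine Finset.sum_congr rfl fun i _ => ?_
    rw [Algebra.smul_def, map_mul, map_mul, ← hd, map_pow]
    change upEquiv (sub (RingHom.id L) u hu hu0 (g i)) * _ * _ = _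
    rw [show (upX : Up L) = upEquiv (single 1 1) from rfl]
    ring
  rw [hlhs, upEquiv.injective hrhs, HahnSeries.coeff_sum]
  exact Finset.sum_congr rfl fun i _ => (res_combination u hu hu0 hres i.2 (g i)).symm

end totallyRamified

section general

variable {F : Type u} {L : Type v} [Field F] [Field L] [Algebra F L] (u : PowerSeries L)
  (hu : PowerSeries.constantCoeff u = 0) (hu0 : u ≠ 0)

/-- Coefficientwise extension of scalars. -/
noncomputable def mapC : F⸨X⸩ →+* L⸨X⸩ :=
  sub (algebraMap F L) PowerSeries.X PowerSeries.constantCoeff_X PowerSeries.X_ne_zero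

lemma subPS_X_eq_map (G : PowerSeries F) :
    subPS (algebraMap F L) PowerSeries.X PowerSeries.constantCoeff_X G = PowerSeries.map (algebraMap F L) G := by
  refine eq_of_forall_X_pow_dvd fun N => ?_
  have h := X_pow_dvd_subPS_sub (algebraMap F L) PowerSeries.X PowerSeries.constantCoeff_X N G
  have h2 : PowerSeries.X ^ N ∣ PowerSeries.map (algebraMap F L) G -
      ∑ j ∈ Finset.range N, PowerSeries.C (algebraMap F L (PowerSeries.coeff j G)) * PowerSeries.X ^ j := by
    rw [PowerSeries.X_pow_dvd_iff]
    intro d hd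
    simp [map_sum, PowerSeries.coeff_X_pow, hd]
  have h3 := dvd_sub h h2
  rwa [sub_sub_sub_cancel_right] at h3

lemma mapC_coeff (g : F⸨X⸩) (d : ℤ) : (mapC (L := L) g).coeff d = algebraMap F L (g.coeff d) := by
  obtain ⟨o, G, rfl⟩ : ∃ (o : ℤ) (G : PowerSeries F), g = single o 1 * (G : F⸨X⸩) :=
    ⟨_, _, g.single_order_mul_powerSeriesPart.symm⟩
  rw [mapC, map_mul, sub_single, map_one, map_one, one_mul, sub_coe, subPS_X_eq_map, HahnSeries.ofPowerSeries_X,
    single_one_zpow, coeff_single_mul, coeff_single_mul, PowerSeries.coeff_coe, PowerSeries.coeff_coe, one_mul,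
    one_mul]
  split_ifs
  · rw [map_zero]
  · rw [PowerSeries.coeff_map]

lemma sub_eq_comp (g : F⸨X⸩) :
    sub (algebraMap F L) u hu hu0 g = sub (RingHom.id L) u hu hu0 (mapC g) := by
  have key : sub (algebraMap F L) u hu hu0 = (sub (RingHom.id L) u hu hu0).comp mapC := by
    refine IsFractionRing.ringHom_ext (A := PowerSeries F) fun G => ?_
    change sub (algebraMap F L) u hu hu0 (G : F⸨X⸩) = sub (RingHom.id L) u hu hu0 (mapC (G : F⸨X⸩))
    rw [mapC, sub_coe, sub_coe, sub_coe, subPS_X_eq_map]
    congr 1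
  exact RingHom.congr_fun key g

variable [FiniteDimensional F L]

/-- `L((X))` as an algebra over `F((T))`. -/
noncomputable def upAlg' : Algebra F⸨X⸩ (Up L) :=
  ((upEquiv (L := L)).toRingHom.comp (sub (algebraMap F L) u hu hu0)).toAlgebra

/-- The local trace `F((T)) ← L((X))`. -/
noncomputable def trSub (h : L⸨X⸩) : F⸨X⸩ :=
  @Algebra.trace F⸨X⸩ (Up L) _ _ (upAlg' (F := F) u hu hu0) (upEquiv h)

/-- Trace of a coefficientwise extension. -/
lemma trace_mapC :
    letI : Algebra F⸨X⸩ L⸨X⸩ := (mapC (F := F) (L := L)).toAlgebra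
    Module.Finite F⸨X⸩ L⸨X⸩ ∧
      ∀ (h : L⸨X⸩) (d : ℤ), (Algebra.trace F⸨X⸩ L⸨X⸩ h).coeff d = Algebra.trace F L (h.coeff d) := by
  letI : Algebra F⸨X⸩ L⸨X⸩ := (mapC (F := F) (L := L)).toAlgebra
  classical
  let b := Module.finBasis F L
  let co : Fin (Module.finrank F L) → L⸨X⸩ → F⸨X⸩ := fun j h => h.map (b.coord j).toAddMonoidHom
  have hsmul : ∀ (g : F⸨X⸩) (c : L) (d : ℤ), (g • (HahnSeries.C c : L⸨X⸩)).coeff d = g.coeff d • c := by
    intro g c d
    rw [Algebra.smul_def, mul_comm]
    change (HahnSeries.C c * mapC g).coeff d = _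
    rw [HahnSeries.C_mul_eq_smul, HahnSeries.coeff_smul, mapC_coeff, smul_eq_mul, Algebra.smul_def, mul_comm]
  let B : Module.Basis (Fin (Module.finrank F L)) F⸨X⸩ L⸨X⸩ :=
    Module.Basis.mk (v := fun j => (HahnSeries.C (b j) : L⸨X⸩))
      (Fintype.linearIndependent_iff.2 fun g hg j => by
        ext d
        have h := congrArg (fun z : L⸨X⸩ => z.coeff d) hg
        simp only [HahnSeries.coeff_sum, hsmul, HahnSeries.coeff_zero] at h
        simpa using Fintype.linearIndependent_iff.1 b.linearIndependent (fun j => (g j).coeff d) h j)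
      (fun h _ => by
        rw [Submodule.mem_span_range_iff_exists_fun]
        refine ⟨fun j => co j h, ?_⟩
        ext d
        simp only [HahnSeries.coeff_sum, hsmul]
        exact b.sum_repr (h.coeff d))
  haveI : Module.Finite F⸨X⸩ L⸨X⸩ := Module.Finite.of_basis B
  refine ⟨inferInstance, fun h d => ?_⟩
  have hrepr : ∀ (z : L⸨X⸩) j, B.repr z j = co j z := by
    intro z j
    have hz : z = ∑ i, co i z • B i := by
      ext d'
      rw [HahnSeries.coeff_sum]
      simp only [B, Module.Basis.mk_apply, hsmul]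
      exact (b.sum_repr (z.coeff d')).symm
    conv_lhs => rw [hz]
    rw [B.repr_sum_self]
  rw [Algebra.trace_eq_matrix_trace B, Algebra.trace_eq_matrix_trace b, Matrix.trace, Matrix.trace,
    HahnSeries.coeff_sum]
  refine Finset.sum_congr rfl fun j _ => ?_
  rw [Matrix.diag_apply, Matrix.diag_apply, Algebra.leftMulMatrix_eq_repr_mul, Algebra.leftMulMatrix_eq_repr_mul,
    hrepr]
  change b.coord j ((h * B j).coeff d) = b.coord j (h.coeff d * b j)
  congr 1
  rw [show (B j : L⸨X⸩) = HahnSeries.C (b j) by simp [B], mul_comm, HahnSeries.C_mul_eq_smul, HahnSeries.coeff_smul,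
    smul_eq_mul, mul_comm]

/-- The local trace formula: `res_T (tr h) = tr (res_X (h · du/dX))`. -/
theorem res_trSub (h : L⸨X⸩) :
    (trSub (F := F) u hu hu0 h).coeff (-1) =
      Algebra.trace F L ((h * ((PowerSeries.derivative L u : PowerSeries L) : L⸨X⸩)).coeff (-1)) := by
  letI : Algebra F⸨X⸩ L⸨X⸩ := (mapC (F := F) (L := L)).toAlgebra
  letI := upAlg u hu hu0
  letI := upAlg' (F := F) u hu hu0
  haveI : IsScalarTower F⸨X⸩ L⸨X⸩ (Up L) := IsScalarTower.of_algebraMap_eq fun g =>
    congrArg (upEquiv (L := L)) (sub_eq_comp u hu hu0 g)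
  obtain ⟨hfin, htr⟩ := trace_mapC (F := F) (L := L)
  haveI := hfin
  haveI : Module.Finite L⸨X⸩ (Up L) := (upPowerBasis u hu hu0).finite
  change (Algebra.trace F⸨X⸩ (Up L) (upEquiv h)).coeff (-1) = _
  rw [← Algebra.trace_trace (S := L⸨X⸩) (upEquiv h), htr, res_trace_up u hu hu0 h]

end general

end Groth.Agent.FF
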