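import Mathlib
import Groth.Prelude.Def_W4bk4goldsch23Ext
import Groth.Agent.FF.LocalTrace
import Groth.Agent.FF.Diff
import Groth.Agent.FF.ConstExt

/-! The trace formula for residues in a finite extension of function fields. -/

set_option autoImplicit false
set_option linter.style.haveILetI false

namespace Groth.Agent.FF

open FunFld LaurentSeries HahnSeries
open scoped WithZero

universe u v v' w w'

variable {k : Type u} {K : Type v} [Field k] [Field K] [Algebra k K]

section determined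

variable {P : Place k K} {t : K} (ht : P.1 t = WithZero.exp (-1))
  [Algebra.IsSeparable k (IsLocalRing.ResidueField P.O)] {L : Type w} [Field L] [Algebra k L]

include ht in
/-- Two homomorphisms of the valuation ring into power series agree if they agree at the parameter and modulo `X`. -/
lemma hom_ext_O (G₁ G₂ : P.O →ₐ[k] PowerSeries L) (htu : G₁ (unifO P ht) = G₂ (unifO P ht))
    (hu : PowerSeries.constantCoeff (G₁ (unifO P ht)) = 0)
    (h0 : ∀ z, PowerSeries.constantCoeff (G₁ z) = PowerSeries.constantCoeff (G₂ z)) : G₁ = G₂ := by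
  haveI : Algebra.FormallyEtale k (IsLocalRing.ResidueField P.O) := Algebra.FormallyEtale.of_isSeparable _ _
  refine AlgHom.ext fun z => eq_of_forall_X_pow_dvd fun n => ?_
  refine (pow_dvd_pow _ (Nat.le_succ n)).trans ?_
  set I : Ideal (PowerSeries L) := Ideal.span {PowerSeries.X ^ (n + 1)}
  let π := Ideal.Quotient.mkₐ k I
  have hker : ∀ G : P.O →ₐ[k] PowerSeries L, PowerSeries.constantCoeff (G (unifO P ht)) = 0 →
      ∀ a ∈ Ideal.span {unifO P ht ^ (n + 1)}, π.comp G a = 0 := by
    intro G hG a ha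
    obtain ⟨c, rfl⟩ := Ideal.mem_span_singleton.1 ha
    change Ideal.Quotient.mk I (G (unifO P ht ^ (n + 1) * c)) = 0
    rw [map_mul G, map_pow G, Ideal.Quotient.eq_zero_iff_mem, Ideal.mem_span_singleton]
    exact dvd_mul_of_dvd_left (pow_dvd_pow_of_dvd (PowerSeries.X_dvd_iff.2 hG) _) _
  let Λ₁ : Trunc P ht n →ₐ[k] PowerSeries L ⧸ I := Ideal.Quotient.liftₐ _ (π.comp G₁) (hker G₁ hu)
  let Λ₂ : Trunc P ht n →ₐ[k] PowerSeries L ⧸ I := Ideal.Quotient.liftₐ _ (π.comp G₂) (hker G₂ (htu ▸ hu))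
  let c₀ : PowerSeries L →ₐ[k] L := AlgHom.mk PowerSeries.constantCoeff (fun c => by
    change PowerSeries.constantCoeff (algebraMap k (PowerSeries L) c) = algebraMap k L c
    rw [PowerSeries.algebraMap_apply, PowerSeries.constantCoeff_C])
  let c₁ : (PowerSeries L ⧸ I) →ₐ[k] L := Ideal.Quotient.liftₐ _ c₀ (fun a ha => by
    obtain ⟨c, rfl⟩ := Ideal.mem_span_singleton.1 ha
    change PowerSeries.constantCoeff _ = 0
    simp)
  have hnil : IsNilpotent (RingHom.ker (c₁ : (PowerSeries L ⧸ I) →+* L)) := by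
    refine ⟨n + 1, ?_⟩
    rw [Ideal.zero_eq_bot, eq_bot_iff]
    have hle : RingHom.ker (c₁ : (PowerSeries L ⧸ I) →+* L) ≤
        Ideal.span {Ideal.Quotient.mk I PowerSeries.X} := by
      intro a ha
      obtain ⟨b, rfl⟩ := Ideal.Quotient.mk_surjective a
      have hb : PowerSeries.constantCoeff b = 0 := ha
      obtain ⟨c, rfl⟩ := PowerSeries.X_dvd_iff.2 hb
      rw [map_mul]
      exact Ideal.mem_span_singleton.2 (dvd_mul_right _ _)
    refine (Ideal.pow_right_mono hle _).trans ?_
    rw [Ideal.span_singleton_pow, ← map_pow]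
    refine le_of_eq (Ideal.span_singleton_eq_bot.2 (Ideal.Quotient.eq_zero_iff_mem.2 ?_))
    exact Ideal.mem_span_singleton_self _
  have hres : Λ₁.comp (sec P ht n) = Λ₂.comp (sec P ht n) := by
    refine Algebra.FormallyUnramified.lift_unique' c₁ hnil _ _ (AlgHom.ext fun a => ?_)
    obtain ⟨b, hb⟩ := Ideal.Quotient.mk_surjective (sec P ht n a)
    simp only [AlgHom.comp_apply, ← hb]
    exact h0 b
  have key : Λ₁.toRingHom.comp (pev P ht n) = Λ₂.toRingHom.comp (pev P ht n) := by
    refine Polynomial.ringHom_ext (fun a => ?_) ?_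
    · simp only [RingHom.comp_apply, pev, Polynomial.coe_eval₂RingHom, Polynomial.eval₂_C]
      exact DFunLike.congr_fun hres a
    · simp only [RingHom.comp_apply, pev, Polynomial.coe_eval₂RingHom, Polynomial.eval₂_X]
      exact congrArg (Ideal.Quotient.mk I) htu
  obtain ⟨p, hp⟩ := ev_surjective P ht n (Ideal.Quotient.mk _ z)
  have h : Λ₁ (Ideal.Quotient.mk _ z) = Λ₂ (Ideal.Quotient.mk _ z) := by
    rw [← hp]
    exact RingHom.congr_fun key _
  change Ideal.Quotient.mk I (G₁ z) = Ideal.Quotient.mk I (G₂ z) at h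
  rwa [Ideal.Quotient.eq, Ideal.mem_span_singleton] at h

include ht in
/-- Two homomorphisms into Laurent series integral on the valuation ring agree if they agree at the parameter and
modulo `X`. -/
lemma hom_ext_K (G₁ G₂ : K →ₐ[k] L⸨X⸩) (h1 : ∀ z : P.O, Valued.v (G₁ (z : K)) ≤ 1)
    (h2 : ∀ z : P.O, Valued.v (G₂ (z : K)) ≤ 1) (htu : G₁ t = G₂ t) (hu : (G₁ t).coeff 0 = 0)
    (h0 : ∀ z : P.O, (G₁ (z : K)).coeff 0 = (G₂ (z : K)).coeff 0) : G₁ = G₂ := by
  have mkHom : ∀ G : K →ₐ[k] L⸨X⸩, (∀ z : P.O, Valued.v (G (z : K)) ≤ 1) →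
      ∃ g : P.O →ₐ[k] PowerSeries L, ∀ z : P.O, (g z : L⸨X⸩) = G (z : K) := by
    intro G hG
    choose g hg using fun z => (LaurentSeries.val_le_one_iff_eq_coe L _).1 (hG z)
    have hinj : Function.Injective (HahnSeries.ofPowerSeries ℤ L) := HahnSeries.ofPowerSeries_injective
    exact ⟨{ toFun := g
             map_one' := hinj (by rw [hg, map_one, OneMemClass.coe_one, map_one])
             map_mul' := fun a b => hinj (by rw [map_mul, hg, hg, hg, MulMemClass.coe_mul, map_mul])
             map_zero' := hinj (by rw [hg, map_zero, ZeroMemClass.coe_zero, map_zero])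
             map_add' := fun a b => hinj (by rw [map_add, hg, hg, hg, AddMemClass.coe_add, map_add])
             commutes' := fun c => hinj (by
               rw [hg, PowerSeries.algebraMap_apply, HahnSeries.ofPowerSeries_C,
                 show ((algebraMap k P.O c : P.O) : K) = algebraMap k K c from rfl, LocRes.map_algebraMap]) }, hg⟩
  obtain ⟨g₁, hg₁⟩ := mkHom G₁ h1
  obtain ⟨g₂, hg₂⟩ := mkHom G₂ h2
  have hinj : Function.Injective (HahnSeries.ofPowerSeries ℤ L) := HahnSeries.ofPowerSeries_injective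
  have hcc : ∀ (g : PowerSeries L), PowerSeries.constantCoeff g = (g : L⸨X⸩).coeff 0 := fun g => by
    rw [PowerSeries.coeff_coe]; simp
  have key : g₁ = g₂ := hom_ext_O ht g₁ g₂ (hinj (by rw [hg₁, hg₂]; exact htu))
    (by rw [hcc, hg₁]; exact hu) (fun z => by rw [hcc, hcc, hg₁, hg₂]; exact h0 z)
  refine AlgHom.ext fun x => ?_
  obtain ⟨a, b, -, rfl⟩ := IsFractionRing.div_surjective (A := P.O) x
  rw [map_div₀, map_div₀]
  change G₁ (a : K) / G₁ (b : K) = G₂ (a : K) / G₂ (b : K)
  rw [← hg₁, ← hg₁, ← hg₂, ← hg₂, key]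

end determined

section local_

variable {k : Type u} [Field k] {F : Type w} [Field F] [Algebra k F] {L : Type w'} [Field L] [Algebra k L]
  [Algebra F L] [IsScalarTower k F L] (u : PowerSeries L) (hu : PowerSeries.constantCoeff u = 0) (hu0 : u ≠ 0)

/-- Substitution as a homomorphism of algebras over the ground field. -/
noncomputable def subAlg : F⸨X⸩ →ₐ[k] L⸨X⸩ where
  toRingHom := sub (algebraMap F L) u hu hu0
  commutes' c := by
    change sub (algebraMap F L) u hu hu0 (algebraMap k F⸨X⸩ c) = algebraMap k L⸨X⸩ c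
    rw [HahnSeries.algebraMap_apply', HahnSeries.algebraMap_apply', PowerSeries.algebraMap_apply,
      PowerSeries.algebraMap_apply, HahnSeries.ofPowerSeries_C, HahnSeries.ofPowerSeries_C, sub_C,
      ← IsScalarTower.algebraMap_apply]

omit [Algebra k F] [Algebra k L] [IsScalarTower k F L] in
/-- A basis of `L((X))` over `F((T))` in which small elements have small coordinates. -/
lemma exists_small_basis [FiniteDimensional F L] :
    letI := upAlg' (F := F) u hu hu0
    ∃ B : Module.Basis (Fin (eOf u) × Fin (Module.finrank F L)) F⸨X⸩ (Up L),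
      ∀ (h : L⸨X⸩), (∀ d : ℤ, d < eOf u → h.coeff d = 0) → ∀ i, Valued.v (B.repr (upEquiv h) i) < 1 := by
  letI : Algebra F⸨X⸩ L⸨X⸩ := (mapC (F := F) (L := L)).toAlgebra
  letI := upAlg u hu hu0
  letI := upAlg' (F := F) u hu hu0
  classical
  haveI : IsScalarTower F⸨X⸩ L⸨X⸩ (Up L) := IsScalarTower.of_algebraMap_eq fun g =>
    congrArg (upEquiv (L := L)) (sub_eq_comp u hu hu0 g)
  let b := Module.finBasis F L
  let pb := upPowerBasis u hu hu0
  let v : Fin (eOf u) × Fin (Module.finrank F L) → Up L := fun p => upX ^ (p.1 : ℕ) * upEquiv (HahnSeries.C (b p.2))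
  let co : Fin (Module.finrank F L) → L⸨X⸩ → F⸨X⸩ := fun j h => h.map (b.coord j).toAddMonoidHom
  have hco : ∀ g : L⸨X⸩, g = ∑ j, mapC (L := L) (co j g) * HahnSeries.C (b j) := fun g => by
    ext d
    rw [HahnSeries.coeff_sum]
    refine (b.sum_repr (g.coeff d)).symm.trans (Finset.sum_congr rfl fun j _ => ?_)
    rw [mul_comm, HahnSeries.C_mul_eq_smul, HahnSeries.coeff_smul, mapC_coeff, smul_eq_mul, Algebra.smul_def, mul_comm]
    rfl
  have hexp : ∀ (h : L⸨X⸩) (g : Fin (eOf u) → L⸨X⸩),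
      h = ∑ i : Fin (eOf u), (single 1 1) ^ (i : ℕ) * sub (RingHom.id L) u hu hu0 (g i) →
      upEquiv h = ∑ p : Fin (eOf u) × Fin (Module.finrank F L), co p.2 (g p.1) • v p := by
    intro h g hh
    rw [hh, map_sum, Fintype.sum_prod_type]
    refine Finset.sum_congr rfl fun i _ => ?_
    conv_lhs => rw [hco (g i), map_sum, Finset.mul_sum, map_sum]
    refine Finset.sum_congr rfl fun j _ => ?_
    rw [map_mul (sub (RingHom.id L) u hu hu0), ← sub_eq_comp (F := F) u hu hu0, sub_C, RingHom.id_apply,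
      Algebra.smul_def, map_mul, map_mul, map_pow]
    change upX ^ (i : ℕ) * (_ * _) = upEquiv (sub (algebraMap F L) u hu hu0 _) * (upX ^ (i : ℕ) * _)
    ring
  have hli : LinearIndependent F⸨X⸩ v := by
    rw [Fintype.linearIndependent_iff]
    intro c hc p
    let g : Fin (eOf u) → L⸨X⸩ := fun i => ∑ j, mapC (L := L) (c (i, j)) * HahnSeries.C (b j)
    have hg : g = 0 := by
      refine combination_eq_zero u hu hu0 g (upEquiv.injective ?_)
      rw [map_zero, ← hc, map_sum, Fintype.sum_prod_type]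
      refine Finset.sum_congr rfl fun i _ => ?_
      simp only [g, map_sum, Finset.mul_sum]
      refine Finset.sum_congr rfl fun j _ => ?_
      rw [map_mul (sub (RingHom.id L) u hu hu0), ← sub_eq_comp (F := F) u hu hu0, sub_C, RingHom.id_apply,
        Algebra.smul_def, map_mul, map_mul, map_pow]
      change upX ^ (i : ℕ) * (_ * _) = upEquiv (sub (algebraMap F L) u hu hu0 _) * (upX ^ (i : ℕ) * _)
      ring
    ext d
    have h := congrArg (fun z : L⸨X⸩ => z.coeff d) (congrFun hg p.1)
    simp only [g, HahnSeries.coeff_sum, Pi.zero_apply, HahnSeries.coeff_zero] at h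
    have h' : ∑ j, (c (p.1, j)).coeff d • b j = 0 := by
      refine Eq.trans (Finset.sum_congr rfl fun j _ => ?_) h
      rw [mul_comm, HahnSeries.C_mul_eq_smul, HahnSeries.coeff_smul, mapC_coeff, smul_eq_mul, Algebra.smul_def,
        mul_comm]
    simpa using Fintype.linearIndependent_iff.1 b.linearIndependent (fun j => (c (p.1, j)).coeff d) h' p.2
  have hspan : ⊤ ≤ Submodule.span F⸨X⸩ (Set.range v) := fun h _ => by
    obtain ⟨g, hg⟩ := exists_combination u hu hu0 (upEquiv.symm h)
    rw [Submodule.mem_span_range_iff_exists_fun]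
    exact ⟨fun p => co p.2 (g p.1), (hexp _ g hg).symm.trans (upEquiv.apply_symm_apply h)⟩
  refine ⟨Module.Basis.mk hli hspan, fun h hh p => ?_⟩
  obtain ⟨he, w, hw, huw⟩ := exists_u_eq u hu hu0
  obtain ⟨G, hG, -⟩ : ∃ G : PowerSeries L, h = single (eOf u : ℤ) (1 : L) * (G : L⸨X⸩) ∧ True := by
    refine ⟨PowerSeries.mk fun i => h.coeff ((eOf u : ℤ) + i), ?_, trivial⟩
    ext d
    rw [coeff_single_mul, PowerSeries.coeff_coe, one_mul]
    split_ifs with hd
    · exact hh d (by omega)
    · rw [PowerSeries.coeff_mk]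
      congr 1
      omega
  obtain ⟨winv, hwinv⟩ := hw.exists_right_inv
  set G₁ := winv * G
  have hexp' : h = ∑ i : Fin (eOf u),
      (single 1 1) ^ (i : ℕ) * sub (RingHom.id L) u hu hu0 (single (1 : ℤ) (1 : L) * (coord u G₁ i : L⸨X⸩)) := by
    have e : h = (u : L⸨X⸩) * (G₁ : L⸨X⸩) := by
      rw [← PowerSeries.coe_mul]
      conv_rhs => rw [huw]
      rw [mul_assoc, ← mul_assoc w winv, hwinv, one_mul, PowerSeries.coe_mul, PowerSeries.coe_pow,
        HahnSeries.ofPowerSeries_X, single_pow, one_pow, nsmul_eq_mul, mul_one, hG]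
    conv_lhs => rw [e, eq_sum_coord u hu hu0 G₁, map_sum, Finset.mul_sum, ← Fin.sum_univ_eq_sum_range]
    refine Finset.sum_congr rfl fun i _ => ?_
    rw [map_mul (sub (RingHom.id L) u hu hu0), sub_X, sub_coe, PowerSeries.coe_mul, PowerSeries.coe_pow,
      HahnSeries.ofPowerSeries_X]
    ring
  have hrepr : upEquiv h = ∑ q : Fin (eOf u) × Fin (Module.finrank F L),
      co q.2 (single (1 : ℤ) (1 : L) * (coord u G₁ q.1 : L⸨X⸩)) • Module.Basis.mk hli hspan q := by
    rw [hexp _ _ hexp']
    simp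
  rw [hrepr, Module.Basis.repr_sum_self, v_lt_one_iff_coeff]
  intro m hm
  change b.coord p.2 ((single (1 : ℤ) (1 : L) * (coord u G₁ p.1 : L⸨X⸩)).coeff m) = 0
  rw [coeff_single_mul, PowerSeries.coeff_coe, if_pos (by omega), mul_zero, map_zero]

omit [Algebra k F] [Algebra k L] [IsScalarTower k F L] in
lemma finrank_up [FiniteDimensional F L] :
    letI := upAlg' (F := F) u hu hu0
    Module.Finite F⸨X⸩ (Up L) ∧ Module.finrank F⸨X⸩ (Up L) = eOf u * Module.finrank F L := by
  letI := upAlg' (F := F) u hu hu0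
  obtain ⟨B, -⟩ := exists_small_basis (F := F) u hu hu0
  exact ⟨Module.Finite.of_basis B, by simp [Module.finrank_eq_card_basis B]⟩

end local_

/-- The trace of an element of a finite product of finite algebras. -/
lemma trace_pi {R : Type*} [Field R] {ι : Type*} [Fintype ι] (A : ι → Type*) [∀ i, CommRing (A i)]
    [∀ i, Algebra R (A i)] [∀ i, Module.Finite R (A i)] (a : ∀ i, A i) :
    Algebra.trace R (∀ i, A i) a = ∑ i, Algebra.trace R (A i) (a i) := by
  classical
  let B := fun i => Module.finBasis R (A i)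
  rw [Algebra.trace_eq_matrix_trace (Pi.basis B), Matrix.trace, Fintype.sum_sigma]
  refine Finset.sum_congr rfl fun i _ => ?_
  rw [Algebra.trace_eq_matrix_trace (B i), Matrix.trace]
  refine Finset.sum_congr rfl fun j _ => ?_
  rw [Matrix.diag_apply, Matrix.diag_apply, Algebra.leftMulMatrix_eq_repr_mul, Algebra.leftMulMatrix_eq_repr_mul,
    Pi.basis_repr]
  congr 1
  simp [Pi.mul_apply, Pi.basis_apply]

/-- A matrix congruent to the identity modulo the maximal ideal is invertible. -/
lemma det_ne_zero_of_small {F : Type*} [Field F] {ι : Type*} [Fintype ι] [DecidableEq ι] (M : Matrix ι ι F⸨X⸩)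
    (h : ∀ a b, Valued.v (M a b - if a = b then 1 else 0) < 1) : M.det ≠ 0 := by
  choose N hN using fun a b => (LaurentSeries.val_le_one_iff_eq_coe F _).1 (h a b).le
  have hM : M = (HahnSeries.ofPowerSeries ℤ F).mapMatrix (1 + Matrix.of N) := by
    ext1 a b
    rw [RingHom.mapMatrix_apply, Matrix.map_apply, Matrix.add_apply, map_add, Matrix.of_apply, hN]
    rcases eq_or_ne a b with rfl | hab
    · simp
    · simp [hab]
  have h0 : ∀ a b, PowerSeries.constantCoeff (N a b) = 0 := fun a b => by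
    have h1 : ((N a b : PowerSeries F) : F⸨X⸩).coeff 0 = 0 := by
      rw [hN a b]; exact v_lt_one_iff_coeff.1 (h a b) 0 le_rfl
    rw [PowerSeries.coeff_coe] at h1
    simpa using h1
  rw [hM, ← RingHom.map_det]
  intro hdet
  have hd := HahnSeries.ofPowerSeries_injective (hdet.trans (map_zero _).symm)
  have h1 : (PowerSeries.constantCoeff (R := F)).mapMatrix (1 + Matrix.of N) = 1 := by
    rw [map_add, map_one]
    ext1 a b
    simp [h0]
  have := congrArg (PowerSeries.constantCoeff (R := F)) hd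
  rw [RingHom.map_det, h1, Matrix.det_one, map_zero] at this
  exact one_ne_zero this

section global_

variable {K' : Type v'} [Field K'] [Algebra K K'] [Algebra k K'] [IsScalarTower k K K'] [FiniteDimensional K K']

/-- The data connecting expansions along a place lying over another. -/
theorem exists_local_data (hK : IsFunctionField k K) (hg : IsGeometric k K) {P : Place k K} {F : Type w} [Field F]
    [Algebra k F] {φ : K →ₐ[k] F⸨X⸩} (hφ : LocRes.IsExpansionAt P.1 φ) {t : K} (hφt : φ t = single 1 1)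
    {Q : Place k K'} (hQ : IsOver Q P) {L : Type w'} [Field L] [Algebra k L] {ψ : K' →ₐ[k] L⸨X⸩}
    (hψ : LocRes.IsExpansionAt Q.1 ψ) :
    ∃ (ι : F →ₐ[k] L) (u : PowerSeries L) (hu : PowerSeries.constantCoeff u = 0) (hu0 : u ≠ 0),
      eOf u = ramIdx Q P ∧
      (∀ z : K, ψ (algebraMap K K' z) = sub ι.toRingHom u hu hu0 (φ z)) := by
  obtain ⟨eP, heP⟩ := exists_residue_equiv hφ
  obtain ⟨eQ, heQ⟩ := exists_residue_equiv hψ
  haveI := isSeparable_coeffField hφ hK hg
  haveI : Algebra.IsSeparable k (IsLocalRing.ResidueField P.O) := AlgEquiv.Algebra.isSeparable eP.symm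
  let r : IsLocalRing.ResidueField P.O →ₐ[k] IsLocalRing.ResidueField Q.O :=
    { toRingHom := resOver hQ, commutes' := resOver_algebraMap hQ }
  let ι : F →ₐ[k] L := (eQ.toAlgHom.comp r).comp eP.symm.toAlgHom
  have ht : P.1 t = WithZero.exp (-1) := by rw [← hφ.1, hφt, LaurentSeries.valuation_single_zpow]
  have he := isOverWith_ramIdx hQ
  have hepos : 0 < ramIdx Q P := pos_of_isOverWith he
  have hvt : Q.1 (algebraMap K K' t) = WithZero.exp (-(ramIdx Q P : ℤ)) := by
    rw [he, ht, ← WithZero.exp_nsmul]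
    congr 1; simp
  obtain ⟨u, hu⟩ := exists_power_series hψ (f := algebraMap K K' t)
    (by rw [hvt, ← WithZero.exp_zero, WithZero.exp_le_exp]; omega)
  have hvu : Valued.v (u : L⸨X⸩) = WithZero.exp (-(ramIdx Q P : ℤ)) := by rw [← hu, hψ.1, hvt]
  have hu0 : u ≠ 0 := fun h => by
    rw [h, map_zero, map_zero] at hvu
    exact WithZero.exp_ne_zero hvu.symm
  have hconst : PowerSeries.constantCoeff u = 0 := by
    have := (v_lt_one_iff_coeff (f := (u : L⸨X⸩))).1
      (by rw [hvu, ← WithZero.exp_zero, WithZero.exp_lt_exp]; omega) 0 le_rfl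
    rw [PowerSeries.coeff_coe] at this
    simpa using this
  refine ⟨ι, u, hconst, hu0, ?_, ?_⟩
  · obtain ⟨-, w, hw, huw⟩ := exists_u_eq u hconst hu0
    obtain ⟨winv, hwi⟩ := hw.exists_right_inv
    have h1 : Valued.v (w : L⸨X⸩) = 1 := by
      refine le_antisymm ((LaurentSeries.val_le_one_iff_eq_coe L _).2 ⟨w, rfl⟩) (not_lt.1 fun hlt => ?_)
      have h0 := v_lt_one_iff_coeff.1 hlt 0 le_rfl
      rw [PowerSeries.coeff_coe] at h0
      rw [PowerSeries.isUnit_iff_constantCoeff, isUnit_iff_ne_zero] at hw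
      exact hw (by simpa using h0)
    rw [huw, PowerSeries.coe_mul, map_mul, h1, mul_one, PowerSeries.coe_pow, HahnSeries.ofPowerSeries_X, single_pow,
      one_pow, nsmul_eq_mul, mul_one, LaurentSeries.valuation_single_zpow, WithZero.exp_inj] at hvu
    omega
  · letI := ι.toRingHom.toAlgebra
    haveI : IsScalarTower k F L := IsScalarTower.of_algebraMap_eq fun c => (ι.commutes c).symm
    let G₁ : K →ₐ[k] L⸨X⸩ := ψ.comp (IsScalarTower.toAlgHom k K K')
    let G₂ : K →ₐ[k] L⸨X⸩ := (subAlg (F := F) u hconst hu0).comp φ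
    suffices h : G₁ = G₂ from fun z => DFunLike.congr_fun h z
    have hint : ∀ z : P.O, Q.1 (algebraMap K K' (z : K)) ≤ 1 := mem_O_of_isOver hQ
    have htu : G₁ t = G₂ t := by
      change ψ (algebraMap K K' t) = sub (algebraMap F L) u hconst hu0 (φ t)
      rw [hu, hφt, sub_X]
    refine hom_ext_K ht G₁ G₂ (fun z => ?_) (fun z => ?_) htu ?_ (fun z => ?_)
    · change Valued.v (ψ (algebraMap K K' (z : K))) ≤ 1
      rw [hψ.1]; exact hint z
    · change Valued.v (sub (algebraMap F L) u hconst hu0 (φ (z : K))) ≤ 1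
      obtain ⟨G, hG⟩ := exists_power_series hφ z.2
      rw [hG, sub_coe]
      exact (LaurentSeries.val_le_one_iff_eq_coe L _).2 ⟨_, rfl⟩
    · change (ψ (algebraMap K K' t)).coeff 0 = 0
      rw [hu, PowerSeries.coeff_coe]
      simpa using hconst
    · change (ψ (algebraMap K K' (z : K))).coeff 0 = (sub (algebraMap F L) u hconst hu0 (φ (z : K))).coeff 0
      obtain ⟨G, hG⟩ := exists_power_series hφ z.2
      have hG0 : PowerSeries.constantCoeff G = eP (IsLocalRing.residue P.O z) := by
        rw [heP, hG, PowerSeries.coeff_coe]; simp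
      rw [hG, sub_coe, PowerSeries.coeff_coe, if_neg (lt_irrefl 0), Int.natAbs_zero,
        PowerSeries.coeff_zero_eq_constantCoeff, constantCoeff_subPS, hG0]
      change _ = eQ (r (eP.symm (eP (IsLocalRing.residue P.O z))))
      rw [eP.symm_apply_apply]
      exact (heQ (incOver hQ z)).symm

omit [IsScalarTower k K K'] in
/-- The global trace is the sum of the local traces (abstract form). -/
theorem trace_eq_sum_local {F : Type w} [Field F] [Algebra k F] (φ : K →ₐ[k] F⸨X⸩)
    (Qs : Finset (Place k K')) {L : {Q // Q ∈ Qs} → Type w'} [∀ Q, Field (L Q)] [∀ Q, Algebra k (L Q)]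
    [∀ Q, Algebra F (L Q)] [∀ Q, FiniteDimensional F (L Q)]
    (ψ : ∀ Q : {Q // Q ∈ Qs}, K' →ₐ[k] (L Q)⸨X⸩) (hψ : ∀ Q, LocRes.IsExpansionAt Q.1.1 (ψ Q))
    (u : ∀ Q : {Q // Q ∈ Qs}, PowerSeries (L Q)) (hu : ∀ Q, PowerSeries.constantCoeff (u Q) = 0)
    (hu0 : ∀ Q, u Q ≠ 0)
    (hsub : ∀ (Q : {Q // Q ∈ Qs}) (z : K),
      ψ Q (algebraMap K K' z) = sub (algebraMap F (L Q)) (u Q) (hu Q) (hu0 Q) (φ z))
    (hdim : ∑ Q, eOf (u Q) * Module.finrank F (L Q) = Module.finrank K K') (y : K') :
    φ (Algebra.trace K K' y) = ∑ Q, trSub (F := F) (u Q) (hu Q) (hu0 Q) (ψ Q y) := by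
  classical
  letI : ∀ Q, Algebra F⸨X⸩ (Up (L Q)) := fun Q => upAlg' (F := F) (u Q) (hu Q) (hu0 Q)
  haveI : ∀ Q, Module.Finite F⸨X⸩ (Up (L Q)) := fun Q => (finrank_up (F := F) (u Q) (hu Q) (hu0 Q)).1
  choose B hB using fun Q => exists_small_basis (F := F) (u Q) (hu Q) (hu0 Q)
  let BB := Pi.basis B
  let Ψ : K' →+* ∀ Q, Up (L Q) := RingHom.pi fun Q => (upEquiv (L := L Q)).toRingHom.comp (ψ Q).toRingHom
  have hΨsm : ∀ (a : K) (z : K'), Ψ (a • z) = φ a • Ψ z := fun a z => by
    funext Q
    change upEquiv (ψ Q (a • z)) = φ a • upEquiv (ψ Q z)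
    rw [Algebra.smul_def, map_mul, hsub, map_mul, Algebra.smul_def]
    rfl
  -- approximating elements with prescribed leading part
  have happ : ∀ j : (Σ Q, Fin (eOf (u Q)) × Fin (Module.finrank F (L Q))), ∃ z : K', ∀ Q : {Q // Q ∈ Qs},
      ∀ d : ℤ, d < eOf (u Q) → (ψ Q z - upEquiv.symm (BB j Q)).coeff d = 0 := by
    intro j
    have hone : ∀ Q : {Q // Q ∈ Qs}, ∀ (s : (L Q)⸨X⸩) (N : ℕ), ∃ z : K',
        ∀ d : ℤ, d < (N : ℤ) → (ψ Q z - s).coeff d = 0 := by
      intro Q s N
      suffices H : ∀ (M : ℕ) (s : (L Q)⸨X⸩), (∀ d : ℤ, d < (N : ℤ) - M → s.coeff d = 0) →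
          ∃ z : K', ∀ d : ℤ, d < (N : ℤ) → (ψ Q z - s).coeff d = 0 by
        exact H (N + s.order.natAbs) s fun d hd => HahnSeries.coeff_eq_zero_of_lt_order (by push_cast at hd; have := neg_abs_le s.order; omega)
      intro M
      induction M with
      | zero =>
        exact fun s hs => ⟨0, fun d hd => by
          rw [map_zero, zero_sub, HahnSeries.coeff_neg, hs d (by push_cast; omega), neg_zero]⟩
      | succ M ih =>
        intro s hs
        obtain ⟨z₀, hz₀, hz₀'⟩ := exists_leading (hψ Q) ((N : ℤ) - (M + 1)) (s.coeff ((N : ℤ) - (M + 1)))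
        obtain ⟨z₁, hz₁⟩ := ih (s - ψ Q z₀) fun d hd => by
          rw [HahnSeries.coeff_sub]
          rcases lt_or_eq_of_le (show d ≤ (N : ℤ) - (M + 1) by omega) with h | rfl
          · rw [hs d (by push_cast; omega), hz₀' d h, sub_zero]
          · rw [hz₀, sub_self]
        refine ⟨z₁ + z₀, fun d hd => ?_⟩
        have := hz₁ d hd
        rw [sub_sub_eq_add_sub, ← map_add] at this
        exact this
    choose z hz using fun Q => hone Q (upEquiv.symm (BB j Q)) (eOf (u Q))
    obtain ⟨w, hw⟩ := approx Qs (fun P => if h : P ∈ Qs then z ⟨P, h⟩ else 0)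
      (fun P => if h : P ∈ Qs then -((eOf (u ⟨P, h⟩) : ℕ) : ℤ) else 0)
    refine ⟨w, fun Q d hd => ?_⟩
    have h1 := hw Q.1 Q.2
    simp only [dif_pos Q.2] at h1
    rw [← (hψ Q).1, v_le_iff] at h1
    have e : ψ Q w - upEquiv.symm (BB j Q) = (ψ Q w - ψ Q (z Q)) + (ψ Q (z Q) - upEquiv.symm (BB j Q)) := by abel
    rw [e, HahnSeries.coeff_add, hz Q d hd, add_zero, ← map_sub]
    exact h1 d hd
  choose ω hω using happ
  let M : Matrix _ _ F⸨X⸩ := BB.toMatrix (fun j => Ψ (ω j))
  have hM : M.det ≠ 0 := by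
    refine det_ne_zero_of_small M fun a b => ?_
    have hab : M a b - (if a = b then 1 else 0) = (B a.1).repr (upEquiv (ψ a.1 (ω b) - upEquiv.symm (BB b a.1))) a.2 := by
      rw [map_sub, RingEquiv.apply_symm_apply, map_sub, Finsupp.sub_apply]
      have e2 : (if a = b then (1 : F⸨X⸩) else 0) = ((B a.fst).repr (BB b a.fst)) a.snd := by
        rw [← Pi.basis_repr B (BB b) a, Module.Basis.repr_self, Finsupp.single_apply]
        simp only [eq_comm]
      rw [e2]
      congr 1
    rw [hab]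
    exact hB a.1 _ (hω b a.1) a.2
  have hliΨ : LinearIndependent F⸨X⸩ (fun j => Ψ (ω j)) := by
    rw [Fintype.linearIndependent_iff]
    intro c hc j
    have h0 : M.mulVec c = 0 := by
      funext i
      have := congrArg (fun x => BB.repr x i) hc
      simp only [map_sum, map_smul, Finsupp.finsetSum_apply, Finsupp.smul_apply, map_zero, Finsupp.zero_apply,
        smul_eq_mul] at this
      rw [Pi.zero_apply, ← this]
      simp [Matrix.mulVec, dotProduct, M, Module.Basis.toMatrix_apply, mul_comm]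
    exact congrFun (Matrix.eq_zero_of_mulVec_eq_zero hM h0) j
  have hli : LinearIndependent K ω := by
    rw [Fintype.linearIndependent_iff]
    intro c hc j
    have h0 : ∑ i, φ (c i) • Ψ (ω i) = 0 := by
      rw [← map_zero Ψ, ← hc, map_sum]
      exact Finset.sum_congr rfl fun i _ => (hΨsm _ _).symm
    exact (map_eq_zero φ).1 (Fintype.linearIndependent_iff.1 hliΨ (fun i => φ (c i)) h0 j)
  have hcard : Fintype.card (Σ Q, Fin (eOf (u Q)) × Fin (Module.finrank F (L Q))) = Module.finrank K K' := by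
    rw [← hdim]; simp [Fintype.card_sigma]
  rcases isEmpty_or_nonempty (Σ Q, Fin (eOf (u Q)) × Fin (Module.finrank F (L Q))) with hemp | hne
  · exfalso
    rw [Fintype.card_eq_zero] at hcard
    exact (Module.finrank_pos (R := K) (M := K')).ne hcard
  let bω := basisOfLinearIndependentOfCardEqFinrank hli hcard
  have hAcard : Fintype.card (Σ Q, Fin (eOf (u Q)) × Fin (Module.finrank F (L Q))) =
      Module.finrank F⸨X⸩ (∀ Q, Up (L Q)) := (Module.finrank_eq_card_basis BB).symm
  let bΨ := basisOfLinearIndependentOfCardEqFinrank hliΨ hAcard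
  have hmat : ∀ a b, φ (Algebra.leftMulMatrix bω y a b) = Algebra.leftMulMatrix bΨ (Ψ y) a b := by
    intro a b
    rw [Algebra.leftMulMatrix_eq_repr_mul, Algebra.leftMulMatrix_eq_repr_mul]
    have hz := bω.sum_repr (y * bω b)
    have h2 : Ψ (y * bω b) = ∑ i, φ (bω.repr (y * bω b) i) • bΨ i := by
      conv_lhs => rw [← hz]
      rw [map_sum]
      refine Finset.sum_congr rfl fun i _ => ?_
      rw [hΨsm]
      simp [bω, bΨ]
    have h3 : Ψ y * bΨ b = Ψ (y * bω b) := by
      rw [map_mul]; simp [bω, bΨ]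
    rw [h3, h2, Module.Basis.repr_sum_self]
  calc φ (Algebra.trace K K' y) = Algebra.trace F⸨X⸩ (∀ Q, Up (L Q)) (Ψ y) := by
        rw [Algebra.trace_eq_matrix_trace bω, Algebra.trace_eq_matrix_trace bΨ, Matrix.trace, Matrix.trace, map_sum]
        exact Finset.sum_congr rfl fun a _ => hmat a a
    _ = _ := trace_pi _ _

end global_

end Groth.Agent.FF
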