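import Mathlib
import Groth.Prelude.Def_W4bk4goldsch23Ext
import Groth.Agent.FF.GlobalTrace

/-! Residues: independence of the expansion and the trace formula. -/

set_option autoImplicit false
set_option linter.style.haveILetI false

namespace Groth.Agent.FF

open FunFld LaurentSeries HahnSeries
open scoped WithZero

universe u v v' w w'

section lin

variable {F : Type w} {L : Type w'} [Field F] [Field L] [Algebra F L] [FiniteDimensional F L] (u : PowerSeries L)
  (hu : PowerSeries.constantCoeff u = 0) (hu0 : u ≠ 0)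

/-- The local trace is linear over the series in the lower parameter. -/
lemma trSub_mul_sub (h : L⸨X⸩) (g : F⸨X⸩) :
    trSub (F := F) u hu hu0 (h * sub (algebraMap F L) u hu hu0 g) = g * trSub (F := F) u hu hu0 h := by
  letI := upAlg' (F := F) u hu hu0
  change Algebra.trace F⸨X⸩ (Up L) (upEquiv (h * sub (algebraMap F L) u hu hu0 g)) =
    g • Algebra.trace F⸨X⸩ (Up L) (upEquiv h)
  rw [map_mul (upEquiv (L := L)), mul_comm, ← map_smul, Algebra.smul_def]
  rfl

/-- The local trace of a series in the lower parameter. -/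
lemma trSub_sub (g : F⸨X⸩) :
    trSub (F := F) u hu hu0 (sub (algebraMap F L) u hu hu0 g) = (eOf u * Module.finrank F L) • g := by
  letI := upAlg' (F := F) u hu hu0
  obtain ⟨-, hr⟩ := finrank_up (F := F) u hu hu0
  rw [← hr, ← Algebra.trace_algebraMap (S := Up L) g]
  rfl

/-- The residue of a pulled back differential. -/
lemma res_pullback (h : L⸨X⸩) (g : F⸨X⸩) :
    Algebra.trace F L ((h * LocRes.D L (sub (algebraMap F L) u hu hu0 g)).coeff (-1)) =
      (trSub (F := F) u hu hu0 h * LocRes.D F g).coeff (-1) := by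
  rw [D_sub, ← mul_assoc, ← res_trSub, trSub_mul_sub, mul_comm]

end lin

variable {k : Type u} {K : Type v} [Field k] [Field K] [Algebra k K]

/-- Residues do not depend on the expansion (comparison with an expansion having a parameter in `K`). -/
theorem locRes_eq (hK : IsFunctionField k K) (hg : IsGeometric k K) {P : Place k K} {F₀ : Type w} [Field F₀]
    [Algebra k F₀] {φ₀ : K →ₐ[k] F₀⸨X⸩} (hφ₀ : LocRes.IsExpansionAt P.1 φ₀) {t : K} (ht : φ₀ t = single 1 1)
    {F : Type w'} [Field F] [Algebra k F] {φ : K →ₐ[k] F⸨X⸩} (hφ : LocRes.IsExpansionAt P.1 φ) (a b : K) :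
    LocRes.locRes φ a b = LocRes.locRes φ₀ a b := by
  have hPP : IsOverWith P P 1 := fun x => by simp
  obtain ⟨ι, u, hu, hu0, he, hsub⟩ := exists_local_data (K' := K) hK hg hφ₀ ht ⟨1, hPP⟩ hφ
  rw [ramIdx_eq hPP] at he
  haveI := finite_coeffField hφ hK
  haveI := finite_coeffField hφ₀ hK
  letI := ι.toRingHom.toAlgebra
  haveI : IsScalarTower k F₀ F := IsScalarTower.of_algebraMap_eq fun c => (ι.commutes c).symm
  haveI : FiniteDimensional F₀ F := Module.Finite.of_restrictScalars_finite k F₀ F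
  have h1 : Module.finrank F₀ F = 1 := by
    obtain ⟨e₁, -⟩ := exists_residue_equiv hφ
    obtain ⟨e₀, -⟩ := exists_residue_equiv hφ₀
    have h := Module.finrank_mul_finrank k F₀ F
    rw [← e₁.toLinearEquiv.finrank_eq, ← e₀.toLinearEquiv.finrank_eq] at h
    have h2 : 0 < P.deg := deg_pos hK P
    rw [Place.deg] at h2
    exact (Nat.mul_eq_left h2.ne').1 h
  have hs : ∀ z : K, φ z = sub (algebraMap F₀ F) u hu hu0 (φ₀ z) := fun z => hsub z
  have key : Algebra.trace F₀ F (LocRes.resExp φ a b) = LocRes.resExp φ₀ a b := by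
    simp only [LocRes.resExp, LocRes.res_apply]
    rw [hs a, hs b, res_pullback, trSub_sub, he, h1, mul_one, one_smul]
  simp only [LocRes.locRes]
  rw [← Algebra.trace_trace (S := F₀) (LocRes.resExp φ a b), key]

/-- At a place of a geometric function field with an expansion, there is an expansion with the parameter in `K`. -/
theorem exists_expansion_param (hK : IsFunctionField k K) (hg : IsGeometric k K) {P : Place k K} {F : Type w} [Field F]
    [Algebra k F] {φ : K →ₐ[k] F⸨X⸩} (hφ : LocRes.IsExpansionAt P.1 φ) :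
    ∃ (φ₀ : K →ₐ[k] (IsLocalRing.ResidueField P.O)⸨X⸩) (t : K),
      LocRes.IsExpansionAt P.1 φ₀ ∧ φ₀ t = single 1 1 := by
  obtain ⟨e, -⟩ := exists_residue_equiv hφ
  haveI := isSeparable_coeffField hφ hK hg
  haveI : Algebra.IsSeparable k (IsLocalRing.ResidueField P.O) := AlgEquiv.Algebra.isSeparable e.symm
  obtain ⟨t, ht⟩ := exists_unif P
  obtain ⟨φ₀, h1, h2, -⟩ := exists_expansion P ht
  exact ⟨φ₀, t, h1, h2⟩

section trace

variable {K' : Type v'} [Field K'] [Algebra K K'] [Algebra k K'] [IsScalarTower k K K'] [FiniteDimensional K K']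

/-- The trace formula for residues, from an expansion with parameter in `K`. -/
theorem locRes_trace_eq_sum_aux (hK : IsFunctionField k K) (hg : IsGeometric k K) {P : Place k K} {F : Type w} [Field F]
    [Algebra k F] {φ₀ : K →ₐ[k] F⸨X⸩} (hφ₀ : LocRes.IsExpansionAt P.1 φ₀) {t : K} (ht : φ₀ t = single 1 1)
    (Qs : Finset (Place k K')) (hQs : ∀ Q, Q ∈ Qs ↔ IsOver Q P)
    {F' : Place k K' → Type w'} [∀ Q, Field (F' Q)] [∀ Q, Algebra k (F' Q)] [∀ Q, FiniteDimensional k (F' Q)]
    {ψ : ∀ Q, K' →ₐ[k] (F' Q)⸨X⸩} (hψ : ∀ Q ∈ Qs, LocRes.IsExpansionAt Q.1 (ψ Q)) (y : K') (x : K) :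
    LocRes.locRes φ₀ (Algebra.trace K K' y) x = ∑ Q ∈ Qs, LocRes.locRes (ψ Q) y (algebraMap K K' x) := by
  classical
  haveI := finite_coeffField hφ₀ hK
  obtain ⟨e₀, -⟩ := exists_residue_equiv hφ₀
  have hloc : ∀ Q : {Q // Q ∈ Qs}, ∃ (ι : F →ₐ[k] F' Q) (u : PowerSeries (F' Q))
      (hu : PowerSeries.constantCoeff u = 0) (hu0 : u ≠ 0), eOf u = ramIdx Q.1 P ∧
        ∀ z : K, ψ Q (algebraMap K K' z) = sub ι.toRingHom u hu hu0 (φ₀ z) := fun Q =>
    exists_local_data hK hg hφ₀ ht ((hQs Q.1).1 Q.2) (hψ Q.1 Q.2)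
  choose ι u hu hu0 he hsub using hloc
  letI : ∀ Q : {Q // Q ∈ Qs}, Algebra F (F' Q) := fun Q => (ι Q).toRingHom.toAlgebra
  haveI : ∀ Q : {Q // Q ∈ Qs}, FiniteDimensional F (F' Q) := fun Q =>
    haveI : IsScalarTower k F (F' Q) :=
      IsScalarTower.of_algebraMap_eq fun c => ((ι Q).commutes c).symm
    Module.Finite.of_restrictScalars_finite k F (F' Q)
  have hPdeg : 0 < P.deg := deg_pos hK P
  have hdim : ∑ Q : {Q // Q ∈ Qs}, eOf (u Q) * Module.finrank F (F' Q) =
      Module.finrank K K' := by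
    refine Nat.eq_of_mul_eq_mul_right hPdeg ?_
    rw [← (finite_over_and_sum (K' := K') hK P).2 Qs hQs, Finset.sum_mul, ← Finset.sum_coe_sort Qs]
    refine Finset.sum_congr rfl fun Q _ => ?_
    obtain ⟨e, -⟩ := exists_residue_equiv (hψ Q.1 Q.2)
    have h2 : Q.1.deg = Module.finrank k (F' Q) := e.toLinearEquiv.finrank_eq
    haveI : IsScalarTower k F (F' Q) :=
      IsScalarTower.of_algebraMap_eq fun c => ((ι Q).commutes c).symm
    have h3 : P.deg = Module.finrank k F := e₀.toLinearEquiv.finrank_eq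
    rw [he, h2, h3, ← Module.finrank_mul_finrank k F (F' Q)]
    ring
  have htr := trace_eq_sum_local φ₀ Qs (L := fun Q => F' Q) (fun Q => ψ Q) (fun Q => hψ Q.1 Q.2) u hu hu0
    (fun Q z => hsub Q z) hdim y
  rw [← Finset.sum_coe_sort Qs]
  simp only [LocRes.locRes, LocRes.resExp, LocRes.res_apply]
  rw [htr, Finset.sum_mul, HahnSeries.coeff_sum, map_sum]
  refine Finset.sum_congr rfl fun Q _ => ?_
  haveI : IsScalarTower k F (F' Q) :=
    IsScalarTower.of_algebraMap_eq fun c => ((ι Q).commutes c).symm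
  rw [← res_pullback, Algebra.trace_trace, show sub (algebraMap F (F' Q)) (u Q) (hu Q)
    (hu0 Q) (φ₀ x) = _ from (hsub Q x).symm]

/-- The trace formula for residues. -/
theorem locRes_trace_eq_sum (hK : IsFunctionField k K) (hg : IsGeometric k K) {P : Place k K} {F : Type w} [Field F]
    [Algebra k F] {φ : K →ₐ[k] F⸨X⸩} (hφ : LocRes.IsExpansionAt P.1 φ)
    (Qs : Finset (Place k K')) (hQs : ∀ Q, Q ∈ Qs ↔ IsOver Q P)
    {F' : Place k K' → Type w'} [∀ Q, Field (F' Q)] [∀ Q, Algebra k (F' Q)] [∀ Q, FiniteDimensional k (F' Q)]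
    {ψ : ∀ Q, K' →ₐ[k] (F' Q)⸨X⸩} (hψ : ∀ Q ∈ Qs, LocRes.IsExpansionAt Q.1 (ψ Q)) (y : K') (x : K) :
    LocRes.locRes φ (Algebra.trace K K' y) x = ∑ Q ∈ Qs, LocRes.locRes (ψ Q) y (algebraMap K K' x) := by
  obtain ⟨φ₀, t, hφ₀, ht⟩ := exists_expansion_param hK hg hφ
  rw [locRes_eq hK hg hφ₀ ht hφ]
  exact locRes_trace_eq_sum_aux hK hg hφ₀ ht Qs hQs hψ y x

end trace

end Groth.Agent.FF
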