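import Mathlib
import Groth.Prelude.Def_LocRes
import Groth.Agent.FF.Residue
import Groth.Agent.FF.Regular
import Groth.Agent.FF.Sep
import Groth.Agent.FF.Degree

/-! The residue theorem. -/

set_option autoImplicit false
set_option linter.style.haveILetI false

namespace Groth.Agent.FF

open FunFld LaurentSeries HahnSeries
open scoped WithZero IntermediateField

attribute [-instance] IsLocalRing.instModuleResidueFieldOfAlgebra

universe u v v' w w'

section power

variable {L : Type*} [Field L]

/-- The residue of `fⁿ df`. -/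
theorem res_zpow_D {f : L⸨X⸩} {o : ℕ} (ho : 0 < o) (hf : Valued.v f = WithZero.exp (-(o : ℤ))) (n : ℤ) :
    (f ^ n * LocRes.D L f).coeff (-1) = if n = -1 then (o : L) else 0 := by
  obtain ⟨u, rfl⟩ := (LaurentSeries.val_le_one_iff_eq_coe L f).1
    (by rw [hf, ← WithZero.exp_zero, WithZero.exp_le_exp]; omega)
  have hu : PowerSeries.constantCoeff u = 0 := by
    have := (v_lt_one_iff_coeff (f := (u : L⸨X⸩))).1
      (by rw [hf, ← WithZero.exp_zero, WithZero.exp_lt_exp]; omega) 0 le_rfl
    rw [PowerSeries.coeff_coe] at this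
    simpa using this
  have hu0 : u ≠ 0 := fun h => by rw [h, map_zero, map_zero] at hf; exact WithZero.exp_ne_zero hf.symm
  have heo : eOf u = o := by
    obtain ⟨-, w, hw, huw⟩ := exists_u_eq u hu hu0
    have h1 : Valued.v (w : L⸨X⸩) = 1 := by
      refine le_antisymm ((LaurentSeries.val_le_one_iff_eq_coe L _).2 ⟨w, rfl⟩) (not_lt.1 fun hlt => ?_)
      have h0 := v_lt_one_iff_coeff.1 hlt 0 le_rfl
      rw [PowerSeries.coeff_coe] at h0
      rw [PowerSeries.isUnit_iff_constantCoeff, isUnit_iff_ne_zero] at hw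
      exact hw (by simpa using h0)
    rw [huw, PowerSeries.coe_mul, map_mul, h1, mul_one, PowerSeries.coe_pow, HahnSeries.ofPowerSeries_X, single_pow,
      one_pow, nsmul_eq_mul, mul_one, LaurentSeries.valuation_single_zpow, WithZero.exp_inj] at hf
    omega
  have hX : sub (algebraMap L L) u hu hu0 (single 1 1) = (u : L⸨X⸩) := sub_X _ u hu hu0
  have hn : sub (algebraMap L L) u hu hu0 (single n 1) = (u : L⸨X⸩) ^ n := by
    rw [sub_single, map_one, map_one, one_mul]
  have h := res_pullback (F := L) u hu hu0 ((u : L⸨X⸩) ^ n) (single 1 1)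
  rw [hX, Algebra.trace_self_apply] at h
  rw [h, ← hn, trSub_sub, Module.finrank_self, mul_one, heo, smul_mul_assoc, HahnSeries.coeff_smul,
    LocRes.D_apply, LaurentSeries.derivative_apply, LaurentSeries.hasseDeriv_single]
  simp only [Nat.cast_one, Ring.choose_one_right, one_smul, sub_self]
  rw [single_mul_single, add_zero, mul_one, HahnSeries.coeff_single]
  rcases eq_or_ne n (-1) with rfl | hne
  · simp
  · rw [if_neg hne.symm, if_neg hne, smul_zero]

end power

section basic

variable {k : Type u} {K : Type v} [Field k] [Field K] [Algebra k K] {F : Type w} [Field F] [Algebra k F]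
  (φ : K →ₐ[k] F⸨X⸩)

lemma locRes_add (a b x : K) : LocRes.locRes φ (a + b) x = LocRes.locRes φ a x + LocRes.locRes φ b x := by
  simp only [LocRes.locRes, LocRes.resExp, map_add, add_mul]

lemma locRes_smul (c : k) (a x : K) : LocRes.locRes φ (c • a) x = c * LocRes.locRes φ a x := by
  simp only [LocRes.locRes, ← LocRes.resOmega_smul_D, smul_assoc, map_smul, smul_eq_mul]

/-- Residues depend only on the differential. -/
lemma locRes_congr {a b x y : K} (h : a • KaehlerDifferential.D k K x = b • KaehlerDifferential.D k K y) :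
    LocRes.locRes φ a x = LocRes.locRes φ b y := by
  simp only [LocRes.locRes, ← LocRes.resOmega_smul_D, h]

lemma locRes_eq_zero_of_integral {P : Place k K} (hφ : LocRes.IsExpansionAt P.1 φ) {a x : K} (ha : P.1 a ≤ 1)
    (hx : P.1 x ≤ 1) : LocRes.locRes φ a x = 0 := by
  obtain ⟨A, hA⟩ := exists_power_series hφ ha
  obtain ⟨B, hB⟩ := exists_power_series hφ hx
  simp only [LocRes.locRes, LocRes.resExp, LocRes.res_apply, hA, hB, LocRes.D_coe, ← PowerSeries.coe_mul,
    PowerSeries.coeff_coe]
  simp

end basic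

variable {k : Type u} {K : Type v} [Field k] [Field K] [Algebra k K]
  {F : Place k K → Type w} [∀ P, Field (F P)] [∀ P, Algebra k (F P)] [∀ P, FiniteDimensional k (F P)]
  {φ : ∀ P, K →ₐ[k] (F P)⸨X⸩} (hφ : ∀ P, LocRes.IsExpansionAt P.1 (φ P))

include hφ

/-- Residues vanish at almost all places. -/
theorem finite_support_locRes (hK : IsFunctionField k K) (a x : K) :
    (Function.support fun P => LocRes.locRes (φ P) a x).Finite := by
  refine ((finite_support hK a).union (finite_support hK x)).subset fun P hP => ?_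
  by_contra h
  simp only [Set.mem_union, Function.mem_support, not_or, not_not] at h
  refine hP (locRes_eq_zero_of_integral _ (hφ P) ?_ ?_)
  · rcases eq_or_ne a 0 with rfl | ha
    · simp
    · exact (v_le_one_iff P ha).2 h.1.ge
  · rcases eq_or_ne x 0 with rfl | hx
    · simp
    · exact (v_le_one_iff P hx).2 h.2.ge

/-- The sum of the residues, as a linear form. -/
noncomputable def resSum (hK : IsFunctionField k K) (x : K) : K →ₗ[k] k where
  toFun a := ∑ᶠ P, LocRes.locRes (φ P) a x
  map_add' a b := by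
    simp only [locRes_add]
    exact finsum_add_distrib (finite_support_locRes hφ hK a x) (finite_support_locRes hφ hK b x)
  map_smul' c a := by
    simp only [locRes_smul, RingHom.id_apply, smul_eq_mul]
    exact (mul_finsum' _ _ (finite_support_locRes hφ hK a x)).symm

lemma resSum_apply (hK : IsFunctionField k K) (a x : K) :
    resSum hφ hK x a = ∑ᶠ P, LocRes.locRes (φ P) a x := rfl

/-- A rational function field: the sum of the residues of `zⁿ dz` is zero. -/
theorem sum_res_zpow (hK : IsFunctionField k K) {z : K} (hz : Transcendental k z) (htop : k⟮z⟯ = ⊤) (n : ℤ) :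
    ∑ᶠ P, LocRes.locRes (φ P) (z ^ n) z = 0 := by
  classical
  have hz0 : z ≠ 0 := fun h => hz (h ▸ isAlgebraic_zero)
  have hzi : Transcendental k z⁻¹ := fun h => hz (by simpa using h.inv)
  have hone : ∀ y : K, Transcendental k y → k⟮y⟯ = ⊤ →
      ∃ P : Place k K, P.deg = 1 ∧ P.ord y = 1 ∧ ∀ Q : Place k K, 0 < Q.ord y → Q = P := by
    intro y hy hy1
    obtain ⟨P, hP⟩ := exists_zero hK hy
    have hy0 : y ≠ 0 := fun h => hy (h ▸ isAlgebraic_zero)
    have hP' := (v_lt_one_iff P hy0).1 hP
    have hd := deg_zeros hK hy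
    rw [hy1, IntermediateField.finrank_top] at hd
    have hS : ∀ S : Finset (Place k K), (∀ Q ∈ S, 0 < Q.ord y) → ∑ Q ∈ S, Q.ord y * Q.deg ≤ 1 := by
      intro S hS
      have h := sum_ord_le hK hy S fun Q hQ => (hS Q hQ).le
      rw [hy1, IntermediateField.finrank_top] at h
      exact_mod_cast h
    have h1 : P.ord y * P.deg ≤ 1 := by
      simpa using hS {P} (by simpa using hP')
    have h2 : (1 : ℤ) ≤ P.deg := by have := deg_pos hK P; omega
    refine ⟨P, ?_, ?_, fun Q hQ => ?_⟩
    · have : (P.deg : ℤ) ≤ 1 := le_trans (le_mul_of_one_le_left (by omega) hP') h1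
      omega
    · have : P.ord y ≤ 1 := le_trans (le_mul_of_one_le_right (by omega) h2) h1
      omega
    · by_contra hne
      have h3 := hS {Q, P} (by simp [hQ, hP'])
      rw [Finset.sum_pair hne] at h3
      have h4 : (1 : ℤ) ≤ Q.deg := by have := deg_pos hK Q; omega
      have h5 : (1 : ℤ) ≤ Q.ord y * Q.deg := one_le_mul_of_one_le_of_one_le hQ h4
      have h6 : (1 : ℤ) ≤ P.ord y * P.deg := one_le_mul_of_one_le_of_one_le hP' h2
      omega
  obtain ⟨P₀, hd₀, ho₀, hu₀⟩ := hone z hz htop
  obtain ⟨P₁, hd₁, ho₁, hu₁⟩ := hone z⁻¹ hzi ((adjoin_inv z).trans htop)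
  rw [ord_inv] at ho₁
  have hne : P₀ ≠ P₁ := fun h => by rw [h] at ho₀; omega
  have htr : ∀ P : Place k K, P.deg = 1 → ∀ m : ℕ, Algebra.trace k (F P) (m : F P) = m := by
    intro P hP m
    obtain ⟨e, -⟩ := exists_residue_equiv (hφ P)
    have h : Module.finrank k (F P) = 1 := e.toLinearEquiv.finrank_eq.symm.trans hP
    rw [← map_natCast (algebraMap k (F P)) m, Algebra.trace_algebraMap, h, one_smul]
  have hv : ∀ (P : Place k K) {y : K}, y ≠ 0 → P.ord y = 1 → Valued.v (φ P y) = WithZero.exp (-((1 : ℕ) : ℤ)) := by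
    intro P y hy ho
    rw [(hφ P).1, (ord_eq_iff P hy).1 ho, Nat.cast_one]
  have e₀ : LocRes.locRes (φ P₀) (z ^ n) z = if n = -1 then 1 else 0 := by
    simp only [LocRes.locRes, LocRes.resExp, LocRes.res_apply, map_zpow₀]
    rw [res_zpow_D Nat.one_pos (hv P₀ hz0 ho₀) n]
    split_ifs
    · rw [htr P₀ hd₀, Nat.cast_one]
    · rw [map_zero]
  have e₁ : LocRes.locRes (φ P₁) (z ^ n) z = -(if n = -1 then 1 else 0) := by
    have hd : KaehlerDifferential.D k K z = (-z ^ 2) • KaehlerDifferential.D k K z⁻¹ := by
      have := (KaehlerDifferential.D k K).leibniz_inv z⁻¹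
      rwa [inv_inv] at this
    have h1 : z ^ n • KaehlerDifferential.D k K z = ((-1 : k) • (z⁻¹) ^ (-n - 2)) • KaehlerDifferential.D k K z⁻¹ := by
      rw [hd, smul_smul]
      congr 1
      rw [neg_one_smul, mul_neg, inv_zpow', ← zpow_natCast, ← zpow_add₀ hz0]
      congr 2
      push_cast
      ring
    rw [locRes_congr _ h1, locRes_smul]
    simp only [LocRes.locRes, LocRes.resExp, LocRes.res_apply, map_zpow₀]
    rw [res_zpow_D Nat.one_pos (hv P₁ (inv_ne_zero hz0) (by rw [ord_inv]; omega)) (-n - 2)]
    rcases eq_or_ne n (-1) with rfl | h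
    · rw [if_pos (by norm_num), if_pos rfl, htr P₁ hd₁, Nat.cast_one, mul_one]
    · rw [if_neg (by omega), if_neg h, map_zero, mul_zero, neg_zero]
  rw [finsum_eq_sum_of_support_subset _ (s := {P₀, P₁}) ?_, Finset.sum_pair hne, e₀, e₁, add_neg_cancel]
  intro P hP
  simp only [Finset.coe_insert, Finset.coe_singleton, Set.mem_insert_iff, Set.mem_singleton_iff]
  by_contra h
  rw [not_or] at h
  refine hP (locRes_eq_zero_of_integral _ (hφ P) ?_ ?_)
  · have h0 : P.ord z = 0 := by
      rcases lt_trichotomy (P.ord z) 0 with hlt | heq | hgt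
      · exact absurd (hu₁ P (by rw [ord_inv]; omega)) h.2
      · exact heq
      · exact absurd (hu₀ P hgt) h.1
    rw [map_zpow₀, (ord_eq_iff P hz0).1 h0, neg_zero, WithZero.exp_zero, one_zpow]
  · have h0 : P.ord z = 0 := by
      rcases lt_trichotomy (P.ord z) 0 with hlt | heq | hgt
      · exact absurd (hu₁ P (by rw [ord_inv]; omega)) h.2
      · exact heq
      · exact absurd (hu₀ P hgt) h.1
    exact (v_le_one_iff P hz0).2 h0.ge

section below

variable (hK : IsFunctionField k K) (K₀ : Type v') [Field K₀] [Algebra k K₀] [Algebra K₀ K] [IsScalarTower k K₀ K]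

include hK

/-- A subfield of a function field with expansions is geometric. -/
theorem isGeometric_below (hK₀ : IsFunctionField k K₀) (hg : IsGeometric k K) : IsGeometric k K₀ := by
  obtain ⟨⟨x, hx, -⟩, hc⟩ := id hK
  obtain ⟨P, -⟩ := exists_zero hK hx
  haveI := isSeparable_coeffField (hφ P) hK hg
  exact isGeometric_of_expansion hK₀ ((φ P).comp (IsScalarTower.toAlgHom k K₀ K))

variable [FiniteDimensional K₀ K]

/-- Expansions at the places below. -/
theorem exists_family_below (hK₀ : IsFunctionField k K₀) (hg : IsGeometric k K) :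
    ∃ φ₀ : ∀ P : Place k K₀, K₀ →ₐ[k] (IsLocalRing.ResidueField P.O)⸨X⸩,
      ∀ P, LocRes.IsExpansionAt P.1 (φ₀ P) := by
  suffices h : ∀ P : Place k K₀, ∃ φ₀ : K₀ →ₐ[k] (IsLocalRing.ResidueField P.O)⸨X⸩,
      LocRes.IsExpansionAt P.1 φ₀ by
    choose f hf using h
    exact ⟨f, hf⟩
  intro P
  obtain ⟨Q, hQ⟩ := exists_over (K' := K) hK₀ P
  obtain ⟨e, -⟩ := exists_residue_equiv (hφ Q)
  haveI := isSeparable_coeffField (hφ Q) hK hg
  haveI : Algebra.IsSeparable k (IsLocalRing.ResidueField Q.O) := AlgEquiv.Algebra.isSeparable e.symm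
  let r : IsLocalRing.ResidueField P.O →ₐ[k] IsLocalRing.ResidueField Q.O :=
    { toRingHom := resOver hQ, commutes' := resOver_algebraMap hQ }
  haveI : Algebra.IsSeparable k (IsLocalRing.ResidueField P.O) := Algebra.IsSeparable.of_algHom k _ r
  obtain ⟨t, ht⟩ := exists_unif P
  obtain ⟨φ₀, h1, -, -⟩ := exists_expansion P ht
  exact ⟨φ₀, h1⟩

/-- Grouping the residues by the places below. -/
theorem sum_locRes_eq (hK₀ : IsFunctionField k K₀) (hg₀ : IsGeometric k K₀)
    {F₀ : Place k K₀ → Type w'} [∀ P, Field (F₀ P)] [∀ P, Algebra k (F₀ P)] [∀ P, FiniteDimensional k (F₀ P)]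
    {φ₀ : ∀ P, K₀ →ₐ[k] (F₀ P)⸨X⸩} (hφ₀ : ∀ P, LocRes.IsExpansionAt P.1 (φ₀ P)) (a : K) (x : K₀) :
    ∑ᶠ Q, LocRes.locRes (φ Q) a (algebraMap K₀ K x) =
      ∑ᶠ P, LocRes.locRes (φ₀ P) (Algebra.trace K₀ K a) x := by
  classical
  choose below hbelow using fun Q : Place k K => exists_isOver (K := K₀) hK₀ Q
  let fib : Place k K₀ → Finset (Place k K) := fun P => (finite_over_and_sum (K' := K) hK₀ P).1.toFinset
  have hfib : ∀ P Q, Q ∈ fib P ↔ IsOver Q P := fun P Q => Set.Finite.mem_toFinset _
  have hkey : ∀ P, LocRes.locRes (φ₀ P) (Algebra.trace K₀ K a) x =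
      ∑ Q ∈ fib P, LocRes.locRes (φ Q) a (algebraMap K₀ K x) := fun P =>
    locRes_trace_eq_sum hK₀ hg₀ (hφ₀ P) (fib P) (hfib P) (fun Q _ => hφ Q) a x
  set S := (finite_support_locRes hφ hK a (algebraMap K₀ K x)).toFinset
  let T := S.image below
  have hT : ∀ Q ∈ S, Q ∈ T.biUnion fib := fun Q hQ =>
    Finset.mem_biUnion.2 ⟨below Q, Finset.mem_image_of_mem _ hQ, (hfib _ _).2 (hbelow Q)⟩
  rw [finsum_eq_sum_of_support_subset _ (s := T.biUnion fib)
      (fun Q hQ => hT Q ((Set.Finite.mem_toFinset _).2 hQ)),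
    finsum_eq_sum_of_support_subset _ (s := T) ?_]
  · rw [Finset.sum_biUnion]
    · exact Finset.sum_congr rfl fun P _ => (hkey P).symm
    · intro P _ P' _ hne
      exact Finset.disjoint_left.2 fun Q h1 h2 => hne (place_below_unique ((hfib _ _).1 h1) ((hfib _ _).1 h2))
  · intro P hP
    rw [Function.mem_support, hkey] at hP
    obtain ⟨Q, hQ, hne⟩ := Finset.exists_ne_zero_of_sum_ne_zero hP
    exact Finset.mem_image.2 ⟨Q, (Set.Finite.mem_toFinset _).2 hne,
      place_below_unique (hbelow Q) ((hfib _ _).1 hQ)⟩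

end below

omit hφ in
/-- The subfield generated by a transcendental element is a function field. -/
theorem isFunctionField_adjoin (hK : IsFunctionField k K) {z : K} (hz : Transcendental k z) :
    IsFunctionField k k⟮z⟯ ∧ Transcendental k (IntermediateField.AdjoinSimple.gen k z) ∧
      IntermediateField.adjoin k {IntermediateField.AdjoinSimple.gen k z} = (⊤ : IntermediateField k k⟮z⟯) := by
  have ht : Transcendental k (IntermediateField.AdjoinSimple.gen k z) := fun h => hz (by
    simpa using h.algebraMap (A := K))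
  have htop : IntermediateField.adjoin k {IntermediateField.AdjoinSimple.gen k z} =
      (⊤ : IntermediateField k k⟮z⟯) := by
    apply IntermediateField.map_injective (IntermediateField.val _)
    rw [IntermediateField.adjoin_map, ← AlgHom.fieldRange_eq_map, IntermediateField.fieldRange_val,
      Set.image_singleton]
    rfl
  refine ⟨⟨⟨_, ht, ?_⟩, fun y hy => ?_⟩, ht, htop⟩
  · rw [htop]
    exact Module.Finite.of_surjective
      (Algebra.linearMap (↥(⊤ : IntermediateField k k⟮z⟯)) k⟮z⟯) (fun a => ⟨⟨a, trivial⟩, rfl⟩)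
  · obtain ⟨c, hc⟩ := hK.2 (y : K) (hy.algebraMap (A := K))
    exact ⟨c, Subtype.ext hc⟩

/-- The residue theorem for a rational function field. -/
theorem sum_res_rational (hK : IsFunctionField k K) (hg : IsGeometric k K) {x : K} (hx : Transcendental k x)
    (htop : k⟮x⟯ = ⊤) (a : K) : ∑ᶠ P, LocRes.locRes (φ P) a x = 0 := by
  classical
  have ev0 : ∀ q : Polynomial k, Polynomial.aeval x q = 0 → q = 0 := fun q hq =>
    transcendental_iff.1 hx q hq
  suffices key : ∀ D : Polynomial k, D ≠ 0 → ∀ N : Polynomial k,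
      resSum hφ hK x (Polynomial.aeval x N / Polynomial.aeval x D) = 0 by
    have ha : a ∈ k⟮x⟯ := htop ▸ IntermediateField.mem_top
    rw [IntermediateField.mem_adjoin_simple_iff] at ha
    obtain ⟨N, D, rfl⟩ := ha
    rw [← resSum_apply hφ hK]
    rcases eq_or_ne D 0 with rfl | hD
    · simp
    · exact key D hD N
  have hpoly : ∀ N : Polynomial k, resSum hφ hK x (Polynomial.aeval x N) = 0 := by
    intro N
    induction N using Polynomial.induction_on' with
    | add p q hp hq => rw [map_add, map_add, hp, hq, add_zero]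
    | monomial n c =>
      rw [Polynomial.aeval_monomial, ← Algebra.smul_def, map_smul, resSum_apply, ← zpow_natCast,
        sum_res_zpow hφ hK hx htop, smul_zero]
  intro D
  induction D using UniqueFactorizationMonoid.induction_on_coprime with
  | h0 => exact fun h => absurd rfl h
  | @h1 u hu =>
    intro _ N
    obtain ⟨v, hv⟩ := hu.exists_right_inv
    have : Polynomial.aeval x N / Polynomial.aeval x u = Polynomial.aeval x (N * v) := by
      have h0 : Polynomial.aeval x u ≠ 0 := fun h => hu.ne_zero (ev0 u h)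
      rw [div_eq_iff h0, ← map_mul, mul_assoc, mul_comm v, hv, mul_one]
    rw [this, hpoly]
  | @hcp D₁ D₂ hco h₁ h₂ =>
    intro hD N
    have hD₁ : D₁ ≠ 0 := left_ne_zero_of_mul hD
    have hD₂ : D₂ ≠ 0 := right_ne_zero_of_mul hD
    obtain ⟨s, t, hst⟩ := (isRelPrime_iff_isCoprime.1 hco)
    have e : Polynomial.aeval x N / Polynomial.aeval x (D₁ * D₂) =
        Polynomial.aeval x (N * t) / Polynomial.aeval x D₁ + Polynomial.aeval x (N * s) / Polynomial.aeval x D₂ := by
      have n₁ : Polynomial.aeval x D₁ ≠ 0 := fun h => hD₁ (ev0 _ h)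
      have n₂ : Polynomial.aeval x D₂ ≠ 0 := fun h => hD₂ (ev0 _ h)
      rw [div_add_div _ _ n₁ n₂, map_mul (Polynomial.aeval x) D₁ D₂]
      congr 1
      rw [← map_mul, ← map_mul, ← map_add]
      congr 1
      linear_combination -N * hst
    rw [e, map_add, h₁ hD₁, h₂ hD₂, add_zero]
  | @hpr p m hp =>
    intro _
    induction m with
    | zero => intro N; simp [hpoly]
    | succ m ih =>
      intro N
      have hp0 : p ≠ 0 := hp.ne_zero
      have hpirr : Irreducible p := hp.irreducible
      set p₁ := p * Polynomial.C p.leadingCoeff⁻¹ with hp₁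
      have hp₁m : p₁.Monic := Polynomial.monic_mul_leadingCoeff_inv hp0
      set d := p₁.natDegree with hd
      set N₁ := N * Polynomial.C (p.leadingCoeff⁻¹ ^ (m + 1))
      have hdiv := Polynomial.modByMonic_add_div (p := N₁) (q := p₁)
      set r := N₁ %ₘ p₁
      have hz : Transcendental k (Polynomial.aeval x p₁) := by
        refine transcendental_of_not_mem hK fun ⟨c, hc⟩ => ?_
        have h := ev0 (p₁ - Polynomial.C c) (by rw [map_sub, Polynomial.aeval_C, hc, sub_self])
        rw [sub_eq_zero] at h
        have h2 : d = 0 := by rw [hd, h, Polynomial.natDegree_C]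
        rw [hd, hp₁, Polynomial.natDegree_mul_C (inv_ne_zero (Polynomial.leadingCoeff_ne_zero.2 hp0))] at h2
        exact hpirr.natDegree_pos.ne' h2
      set z := Polynomial.aeval x p₁ with hzdef
      have hz0 : z ≠ 0 := fun h => hz (h ▸ isAlgebraic_zero)
      have hx0 : x ≠ 0 := fun h => hx (h ▸ isAlgebraic_zero)
      have hdpos : 0 < d := by
        rw [hd, hp₁, Polynomial.natDegree_mul_C (inv_ne_zero (Polynomial.leadingCoeff_ne_zero.2 hp0))]
        exact hpirr.natDegree_pos
      -- the place of `p`
      obtain ⟨P, hP⟩ := exists_zero hK hz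
      have hxP : P.1 x ≤ 1 := by
        by_contra hlt
        rw [not_le] at hlt
        have hlead : P.1 z = P.1 x ^ d := by
          have e : z = x ^ d + ∑ i ∈ Finset.range d, p₁.coeff i • x ^ i := by
            rw [hzdef, Polynomial.aeval_eq_sum_range, Finset.sum_range_succ, hp₁m.coeff_natDegree, one_smul]
            exact add_comm _ _
          rw [e, ← map_pow P.1]
          refine Valuation.map_add_eq_of_lt_left _ ?_
          refine P.1.map_sum_lt (P.1.ne_zero_iff.2 (pow_ne_zero _ hx0)) fun i hi => ?_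
          refine lt_of_le_of_lt (v_smul_le P _ _) ?_
          rw [map_pow, map_pow]
          exact pow_lt_pow_right₀ hlt (Finset.mem_range.1 hi)
        rw [hlead] at hP
        exact absurd (hP.trans (one_lt_pow₀ hlt hdpos.ne')) (lt_irrefl _)
      obtain ⟨e, -⟩ := exists_residue_equiv (hφ P)
      haveI := isSeparable_coeffField (hφ P) hK hg
      set xb : F P := e (IsLocalRing.residue P.O ⟨x, hxP⟩)
      have hxb : Polynomial.aeval xb p₁ = 0 := by
        rw [Polynomial.aeval_algHom_apply e, map_eq_zero_iff e e.injective]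
        let res : P.O →ₐ[k] IsLocalRing.ResidueField P.O :=
          { toRingHom := IsLocalRing.residue P.O, commutes' := fun _ => rfl }
        rw [show IsLocalRing.residue P.O ⟨x, hxP⟩ = res ⟨x, hxP⟩ from rfl, Polynomial.aeval_algHom_apply]
        change IsLocalRing.residue P.O _ = 0
        rw [residue_eq_zero_iff]
        let inc : P.O →ₐ[k] K := { toRingHom := P.O.subtype, commutes' := fun _ => rfl }
        change P.1 (inc (Polynomial.aeval (⟨x, hxP⟩ : P.O) p₁)) < 1
        rw [← Polynomial.aeval_algHom_apply]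
        exact hP
      have hirr₁ : Irreducible p₁ :=
        (associated_mul_unit_right p _ (Polynomial.isUnit_C.2
          (isUnit_iff_ne_zero.2 (inv_ne_zero (Polynomial.leadingCoeff_ne_zero.2 hp0))))).irreducible hpirr
      have hmin : p₁ = minpoly k xb := minpoly.eq_of_irreducible_of_monic hirr₁ hxb hp₁m
      have hsep : p₁.Separable := hmin ▸ Algebra.IsSeparable.isSeparable k xb
      have hder : Polynomial.aeval x (Polynomial.derivative p₁) ≠ 0 := fun h => by
        have := ev0 _ h
        rw [Polynomial.Separable, this, isCoprime_zero_right] at hsep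
        exact hirr₁.not_isUnit hsep
      -- the field `k(z)`
      obtain ⟨hK₁, hgen, hgtop⟩ := isFunctionField_adjoin hK hz
      haveI := finiteDimensional_adjoin hK hz
      set g := IntermediateField.AdjoinSimple.gen k z
      have hdle : d ≤ Module.finrank k⟮z⟯ K := by
        have h1 := sum_ord_le hK hz {P} fun Q hQ => by
          rw [Finset.mem_singleton] at hQ; subst hQ; exact ((v_lt_one_iff _ hz0).1 hP).le
        rw [Finset.sum_singleton] at h1
        have h2 : (1 : ℤ) ≤ P.ord z := (v_lt_one_iff _ hz0).1 hP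
        have h3 : d ≤ P.deg := by
          refine le_of_le_of_eq ?_ (show Module.finrank k (F P) = P.deg from e.toLinearEquiv.finrank_eq.symm)
          rw [hd, hmin]
          exact minpoly.natDegree_le xb
        have h4 : (P.deg : ℤ) ≤ P.ord z * P.deg := le_mul_of_one_le_left (by omega) h2
        omega
      set q : Polynomial k⟮z⟯ := p₁.map (algebraMap k k⟮z⟯) - Polynomial.C g
      have hqd : (Polynomial.C g).degree < (p₁.map (algebraMap k k⟮z⟯)).degree := by
        refine lt_of_le_of_lt Polynomial.degree_C_le ?_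
        rw [Polynomial.degree_map, Polynomial.degree_eq_natDegree hp₁m.ne_zero]
        exact_mod_cast hdpos
      have hqm : q.Monic := (hp₁m.map _).sub_of_left hqd
      have hqn : q.natDegree = d := by
        rw [Polynomial.natDegree_sub_eq_left_of_natDegree_lt, Polynomial.natDegree_map]
        rw [Polynomial.natDegree_C, Polynomial.natDegree_map]; exact hdpos
      have hq0 : Polynomial.aeval x q = 0 := by
        rw [map_sub, Polynomial.aeval_map_algebraMap, Polynomial.aeval_C, sub_eq_zero]
        exact (IntermediateField.AdjoinSimple.algebraMap_gen k z).symm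
      have hxint : IsIntegral k⟮z⟯ x := ⟨q, hqm, hq0⟩
      have htop₁ : IntermediateField.adjoin k⟮z⟯ {x} = ⊤ := by
        rw [eq_top_iff]
        intro y _
        have hy : y ∈ k⟮x⟯ := htop ▸ IntermediateField.mem_top
        have hle : k⟮x⟯ ≤ (IntermediateField.adjoin k⟮z⟯ {x}).restrictScalars k :=
          IntermediateField.adjoin_simple_le_iff.2 (IntermediateField.mem_adjoin_simple_self _ x)
        exact hle hy
      have hrank : Module.finrank k⟮z⟯ K = (minpoly k⟮z⟯ x).natDegree := by
        rw [← IntermediateField.adjoin.finrank hxint, htop₁, IntermediateField.finrank_top']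
      have hqmin : minpoly k⟮z⟯ x = q :=
        (Polynomial.eq_of_monic_of_dvd_of_natDegree_le (minpoly.monic hxint) hqm (minpoly.dvd _ _ hq0)
          (by omega)).symm
      rw [hqmin, hqn] at hrank
      have hder' : Polynomial.aeval x (Polynomial.derivative (minpoly k⟮z⟯ x)) =
          Polynomial.aeval x (Polynomial.derivative p₁) := by
        rw [hqmin, Polynomial.derivative_sub, Polynomial.derivative_C, sub_zero, Polynomial.derivative_map,
          Polynomial.aeval_map_algebraMap]
      haveI : Algebra.IsSeparable k⟮z⟯ K := by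
        have hxs : IsSeparable k⟮z⟯ x := by
          refine (Polynomial.separable_iff_derivative_ne_zero (minpoly.irreducible hxint)).2 fun h => ?_
          rw [h, map_zero] at hder'
          exact hder hder'.symm
        have h := (IntermediateField.isSeparable_adjoin_simple_iff_isSeparable _ _).2 hxs
        rw [htop₁] at h
        exact AlgEquiv.Algebra.isSeparable IntermediateField.topEquiv
      have hadj : Algebra.adjoin k⟮z⟯ {x} = ⊤ := by
        rw [← IntermediateField.adjoin_simple_toSubalgebra_of_isAlgebraic hxint.isAlgebraic, htop₁]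
        rfl
      obtain ⟨φ₁, hφ₁⟩ := exists_family_below hφ hK k⟮z⟯ hK₁ hg
      have hg₁ := isGeometric_below hφ hK k⟮z⟯ hK₁ hg
      haveI : ∀ Q : Place k k⟮z⟯, FiniteDimensional k (IsLocalRing.ResidueField Q.O) := finite_residue hK₁
      have hrdeg : r.natDegree < d := by
        refine Polynomial.natDegree_modByMonic_lt _ hp₁m fun h => ?_
        rw [hd, h, Polynomial.natDegree_one] at hdpos
        exact lt_irrefl _ hdpos
      have hmain : resSum hφ hK x (Polynomial.aeval x r / z ^ (m + 1)) = 0 := by
        rw [Polynomial.aeval_eq_sum_range' hrdeg, Finset.sum_div, map_sum]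
        refine Finset.sum_eq_zero fun i hi => ?_
        rw [Finset.mem_range] at hi
        rw [smul_div_assoc, map_smul, resSum_apply]
        refine smul_eq_zero_of_right _ ?_
        set b : K := algebraMap k⟮z⟯ K (g ^ (-((m : ℤ) + 1))) *
          (x ^ i / Polynomial.aeval x (Polynomial.derivative p₁))
        have hcongr : ∀ Q, LocRes.locRes (φ Q) (x ^ i / z ^ (m + 1)) x =
            LocRes.locRes (φ Q) b (algebraMap k⟮z⟯ K g) := by
          intro Q
          refine locRes_congr _ ?_
          rw [IntermediateField.AdjoinSimple.algebraMap_gen, hzdef, Derivation.map_aeval, smul_smul]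
          congr 1
          simp only [b, map_zpow₀, IntermediateField.AdjoinSimple.algebraMap_gen, ← hzdef, g]
          rw [zpow_neg, ← Int.natCast_succ, zpow_natCast]
          field_simp
        rw [finsum_congr hcongr, sum_locRes_eq hφ hK k⟮z⟯ hK₁ hg₁ hφ₁]
        have htr : Algebra.trace k⟮z⟯ K b = if i + 1 = d then g ^ (-((m : ℤ) + 1)) else 0 := by
          simp only [b, ← Algebra.smul_def, map_smul, smul_eq_mul, ← hder']
          rw [trace_euler hadj (hrank ▸ hi), hrank, mul_ite, mul_one, mul_zero]
        rw [htr]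
        split_ifs
        · exact sum_res_zpow hφ₁ hK₁ hgen hgtop _
        · simp [LocRes.locRes, LocRes.resExp]
      have hp₁0 : Polynomial.aeval x p₁ ≠ 0 := hz0
      have key₁ : ∀ (A R Q Pp l : K), l ≠ 0 → Pp ≠ 0 → ∀ m : ℕ, R + Pp / l * Q = A * l⁻¹ ^ (m + 1) →
          A / Pp ^ (m + 1) = R / (Pp / l) ^ (m + 1) + Q * l ^ m / Pp ^ m := by
        intro A R Q Pp l hl hPp m h
        obtain rfl := eq_sub_of_add_eq h
        rw [_root_.div_pow, inv_pow, pow_succ, pow_succ]
        field_simp
        ring
      have e' : Polynomial.aeval x N / Polynomial.aeval x (p ^ (m + 1)) =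
          Polynomial.aeval x r / z ^ (m + 1) +
            Polynomial.aeval x ((N₁ /ₘ p₁) * Polynomial.C (p.leadingCoeff ^ m)) / Polynomial.aeval x (p ^ m) := by
        have hl : algebraMap k K p.leadingCoeff ≠ 0 :=
          (map_ne_zero _).2 (Polynomial.leadingCoeff_ne_zero.2 hp0)
        have hz' : z = Polynomial.aeval x p / algebraMap k K p.leadingCoeff := by
          rw [hzdef, hp₁, map_mul, Polynomial.aeval_C, map_inv₀, div_eq_mul_inv]
        have hpe : Polynomial.aeval x p ≠ 0 := fun h => hp0 (ev0 p h)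
        have hN := congrArg (Polynomial.aeval x) hdiv
        rw [map_add, map_mul, ← hzdef] at hN
        simp only [N₁, map_mul, map_pow, Polynomial.aeval_C, map_inv₀] at hN ⊢
        rw [hz'] at hN ⊢
        exact key₁ _ _ _ _ _ hl hpe m hN
      rw [e', map_add, hmain, ih (pow_ne_zero _ hp0), add_zero]

/-- The residue theorem for a geometric function field. -/
theorem sum_res_eq_zero (hK : IsFunctionField k K) (hg : IsGeometric k K) (a b : K) :
    ∑ᶠ P, LocRes.locRes (φ P) a b = 0 := by
  obtain ⟨x, hx, hxsep⟩ := exists_separating hK hg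
  haveI := finiteDimensional_adjoin hK hx
  obtain ⟨c, hc⟩ := exists_smul_D_eq_of_ne_zero hK hg (x := x)
    ((D_ne_zero_iff hK hg).2 ⟨hx, hxsep⟩) (KaehlerDifferential.D k K b)
  have h1 : ∀ P, LocRes.locRes (φ P) a b =
      LocRes.locRes (φ P) (a * c) (algebraMap k⟮x⟯ K (IntermediateField.AdjoinSimple.gen k x)) := fun P =>
    locRes_congr _ (by rw [IntermediateField.AdjoinSimple.algebraMap_gen, ← hc, smul_smul])
  obtain ⟨hK₀, hgen, hgtop⟩ := isFunctionField_adjoin hK hx
  obtain ⟨φ₀, hφ₀⟩ := exists_family_below hφ hK k⟮x⟯ hK₀ hg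
  have hg₀ := isGeometric_below hφ hK k⟮x⟯ hK₀ hg
  haveI : ∀ Q : Place k k⟮x⟯, FiniteDimensional k (IsLocalRing.ResidueField Q.O) := finite_residue hK₀
  rw [finsum_congr h1, sum_locRes_eq hφ hK k⟮x⟯ hK₀ hg₀ hφ₀]
  exact sum_res_rational hφ₀ hK₀ hg₀ hgen hgtop _

end Groth.Agent.FF
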