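import Mathlib
import Groth.Agent.FF.ResidueThm
import Groth.Agent.FF.RR

/-! The Weil differential of a differential. -/

set_option autoImplicit false
set_option linter.style.haveILetI false

namespace Groth.Agent.FF

open FunFld LaurentSeries HahnSeries
open scoped WithZero

universe u v w

variable {k : Type u} {K : Type v} [Field k] [Field K] [Algebra k K]
  {F : Place k K → Type w} [∀ P, Field (F P)] [∀ P, Algebra k (F P)] [∀ P, FiniteDimensional k (F P)]
  {φ : ∀ P, K →ₐ[k] (F P)⸨X⸩} (hφ : ∀ P, LocRes.IsExpansionAt P.1 (φ P))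
  (hK : IsFunctionField k K) (hg : IsGeometric k K)

include hφ

lemma vDiff_mul (P : Place k K) (a b x : K) :
    LocRes.vDiff (φ P) (a * b) x = P.1 a * LocRes.vDiff (φ P) b x := by
  simp only [LocRes.vDiff, map_mul, (hφ P).1, mul_assoc]

lemma locRes_eq_zero_of_vDiff_le (P : Place k K) {a x : K} (h : LocRes.vDiff (φ P) a x ≤ 1) :
    LocRes.locRes (φ P) a x = 0 := by
  obtain ⟨G, hG⟩ := (LaurentSeries.val_le_one_iff_eq_coe (F P) _).1 h
  simp only [LocRes.locRes, LocRes.resExp, LocRes.res_apply, ← hG, PowerSeries.coeff_coe]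
  simp

lemma vDiff_le_one_of_integral (P : Place k K) {a x : K} (ha : P.1 a ≤ 1) (hx : P.1 x ≤ 1) :
    LocRes.vDiff (φ P) a x ≤ 1 := by
  obtain ⟨A, hA⟩ := exists_power_series (hφ P) ha
  obtain ⟨B, hB⟩ := exists_power_series (hφ P) hx
  rw [LocRes.vDiff, hA, hB, LocRes.D_coe, ← PowerSeries.coe_mul]
  exact (LaurentSeries.val_le_one_iff_eq_coe _ _).2 ⟨_, rfl⟩

include hK

lemma finite_support_pair {a : Place k K → K} (ha : a ∈ adele k K) (u v : K) :
    (Function.support fun P => LocRes.locRes (φ P) (a P * u) v).Finite := by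
  refine (((mem_adele.1 ha)).union ((finite_support hK u).union (finite_support hK v))).subset fun P hP => ?_
  by_contra h
  simp only [Set.mem_union, Set.mem_setOf_eq, Function.mem_support, not_or, not_not] at h
  refine hP (locRes_eq_zero_of_vDiff_le hφ P (vDiff_le_one_of_integral hφ P ?_ ?_))
  · rw [map_mul]
    rcases eq_or_ne u 0 with rfl | hu
    · simp
    · exact mul_le_one' h.1 ((v_le_one_iff P hu).2 h.2.1.ge)
  · rcases eq_or_ne v 0 with rfl | hv
    · simp
    · exact (v_le_one_iff P hv).2 h.2.2.ge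

/-- The linear form of a differential on repartitions. -/
noncomputable def resPair (u v : K) : Module.Dual k (adele k K) where
  toFun a := ∑ᶠ P, LocRes.locRes (φ P) ((a : Place k K → K) P * u) v
  map_add' a b := by
    simp only [Submodule.coe_add, Pi.add_apply, add_mul, locRes_add]
    exact finsum_add_distrib (finite_support_pair hφ hK a.2 u v) (finite_support_pair hφ hK b.2 u v)
  map_smul' c a := by
    simp only [Submodule.coe_smul, Pi.smul_apply, smul_mul_assoc, locRes_smul, RingHom.id_apply, smul_eq_mul]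
    exact (mul_finsum' _ _ (finite_support_pair hφ hK a.2 u v)).symm

lemma resPair_apply (u v : K) (a : adele k K) :
    resPair hφ hK u v a = ∑ᶠ P, LocRes.locRes (φ P) ((a : Place k K → K) P * u) v := rfl

include hg

lemma vDiff_eq_exp {u v : K} (hu : u ≠ 0) (hv : KaehlerDifferential.D k K v ≠ 0) (P : Place k K) :
    LocRes.vDiff (φ P) u v = WithZero.exp (-LocRes.ordDiff (φ P) u v) := by
  rw [LocRes.ordDiff, neg_neg, WithZero.exp_log (vDiff_ne_zero (hφ P) hK hg hu hv)]

lemma resPair_mem_WD {u v : K} (hu : u ≠ 0) (hv : KaehlerDifferential.D k K v ≠ 0) {D : Divisor k K}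
    (hD : ∀ P, D P ≤ LocRes.ordDiff (φ P) u v) : resPair hφ hK u v ∈ WD D := by
  refine mem_WD.2 fun a ha => ?_
  obtain ⟨b, hb, c, ⟨z, rfl⟩, hbc⟩ := Submodule.mem_sup.1 ha
  have hb' : b ∈ adele k K := AD_le_adele D hb
  have hc' : diag k K z ∈ adele k K := range_diag_le_adele hK ⟨z, rfl⟩
  rw [show a = ⟨b, hb'⟩ + ⟨diag k K z, hc'⟩ from Subtype.ext hbc.symm, map_add]
  have h1 : resPair hφ hK u v ⟨diag k K z, hc'⟩ = 0 := by
    rw [resPair_apply]
    exact sum_res_eq_zero hφ hK hg (z * u) v
  rw [h1, add_zero, resPair_apply]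
  refine finsum_eq_zero_of_forall_eq_zero fun P => locRes_eq_zero_of_vDiff_le hφ P ?_
  rw [vDiff_mul hφ, vDiff_eq_exp hφ hK hg hu hv]
  refine (mul_le_mul_left (hb P) _).trans ?_
  rw [← WithZero.exp_add, ← WithZero.exp_zero, WithZero.exp_le_exp]
  have := hD P
  omega

/-- A test element whose residue against the differential is nonzero. -/
lemma exists_test {u v : K} (hu : u ≠ 0) (hv : KaehlerDifferential.D k K v ≠ 0) (P : Place k K) :
    ∃ y : K, P.1 y ≤ WithZero.exp (LocRes.ordDiff (φ P) u v + 1) ∧ LocRes.locRes (φ P) (y * u) v ≠ 0 := by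
  haveI := isSeparable_coeffField (hφ P) hK hg
  have hg0 : φ P u * LocRes.D (F P) (φ P v) ≠ 0 :=
    mul_ne_zero ((map_ne_zero _).2 hu) (D_exp_ne_zero (hφ P) hK hg hv)
  obtain ⟨G, hG, hgG, hgv⟩ := exists_eq_single_mul hg0
  have ho : (φ P u * LocRes.D (F P) (φ P v)).order = LocRes.ordDiff (φ P) u v := by
    have h1 : LocRes.vDiff (φ P) u v = _ := hgv
    rw [LocRes.ordDiff, h1, WithZero.log_exp, neg_neg]
  obtain ⟨e, he⟩ := Algebra.trace_surjective k (F P) 1
  obtain ⟨y, hy, hy'⟩ := exists_leading (hφ P) (-1 - LocRes.ordDiff (φ P) u v) (e / PowerSeries.constantCoeff G)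
  refine ⟨y, ?_, ?_⟩
  · rw [show LocRes.ordDiff (φ P) u v + 1 = -(-1 - LocRes.ordDiff (φ P) u v) by ring, ← (hφ P).1, v_le_iff]
    intro d hd
    exact hy' d (by omega)
  · have hc : LocRes.resExp (φ P) (y * u) v = e := by
      rw [LocRes.resExp, LocRes.res_apply, map_mul, mul_assoc, hgG, ho]
      obtain ⟨Y, hY⟩ : ∃ Y : PowerSeries (F P),
          φ P y = single (-1 - LocRes.ordDiff (φ P) u v) (1 : F P) * (Y : (F P)⸨X⸩) := by
        refine ⟨PowerSeries.mk fun i => (φ P y).coeff ((-1 - LocRes.ordDiff (φ P) u v) + i), ?_⟩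
        ext d
        rw [coeff_single_mul, PowerSeries.coeff_coe, one_mul]
        split_ifs with hd
        · exact hy' d (by omega)
        · rw [PowerSeries.coeff_mk]
          congr 1
          omega
      have hY0 : PowerSeries.constantCoeff Y = e / PowerSeries.constantCoeff G := by
        rw [← hy, hY, coeff_single_mul, PowerSeries.coeff_coe, sub_self, one_mul]
        simp
      rw [hY, mul_mul_mul_comm, single_mul_single, ← PowerSeries.coe_mul, coeff_single_mul, PowerSeries.coeff_coe]
      simp [hY0, div_mul_cancel₀ _ hG]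
    rw [LocRes.locRes, hc, he]
    exact one_ne_zero

open scoped Classical in
lemma resPair_not_mem {u v : K} (hu : u ≠ 0) (hv : KaehlerDifferential.D k K v ≠ 0) {D : Divisor k K}
    {P : Place k K} (hD : LocRes.ordDiff (φ P) u v < D P) : resPair hφ hK u v ∉ WD D := by
  intro h
  obtain ⟨y, hy, hres⟩ := exists_test hφ hK hg hu hv P
  have hmem : (Pi.single P y : Place k K → K) ∈ AD D := fun Q => by
    rcases eq_or_ne Q P with rfl | hQ
    · rw [Pi.single_eq_same]
      exact hy.trans (WithZero.exp_le_exp.2 (by omega))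
    · rw [Pi.single_eq_of_ne hQ, map_zero]; exact zero_le
  have h0 := mem_WD.1 h ⟨_, AD_le_adele D hmem⟩ (Submodule.mem_sup_left hmem)
  rw [resPair_apply, finsum_eq_single _ P fun Q hQ => ?_] at h0
  · simp only [Pi.single_eq_same] at h0; exact hres h0
  · simp [Pi.single_eq_of_ne hQ, LocRes.locRes, LocRes.resExp]

open scoped Classical in
lemma resPair_ne_zero {u v : K} (hu : u ≠ 0) (hv : KaehlerDifferential.D k K v ≠ 0) : resPair hφ hK u v ≠ 0 := by
  intro h
  obtain ⟨⟨x, hx, -⟩, -⟩ := id hK
  obtain ⟨P, -⟩ := exists_zero hK hx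
  refine resPair_not_mem hφ hK hg hu hv
    (D := Finsupp.single P (LocRes.ordDiff (φ P) u v + 1)) (P := P) (by simp) ?_
  rw [h]
  exact Submodule.zero_mem _

/-- Differentials have finitely many zeros and poles. -/
theorem finite_support_ordDiff {u v : K} (hu : u ≠ 0) (hv : KaehlerDifferential.D k K v ≠ 0) :
    (Function.support fun P => LocRes.ordDiff (φ P) u v).Finite := by
  classical
  obtain ⟨N, hN⟩ := deg_bound_of_mem_WD hK
  set E := ((finite_support hK u).union (finite_support hK v)).toFinset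
  have hnn : ∀ P ∉ E, 0 ≤ LocRes.ordDiff (φ P) u v := fun P hP => by
    simp only [E, Set.Finite.mem_toFinset, Set.mem_union, Function.mem_support, not_or, not_not] at hP
    have h : LocRes.vDiff (φ P) u v ≤ 1 := by
      refine vDiff_le_one_of_integral hφ P ((v_le_one_iff P hu).2 hP.1.ge) ?_
      rcases eq_or_ne v 0 with rfl | hv0
      · simp
      · exact (v_le_one_iff P hv0).2 hP.2.ge
    rw [vDiff_eq_exp hφ hK hg hu hv, ← WithZero.exp_zero, WithZero.exp_le_exp] at h
    omega
  by_contra hinf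
  set c : ℤ := ∑ P ∈ E, LocRes.ordDiff (φ P) u v * P.deg
  obtain ⟨S, hS, hcard⟩ := ((Set.Infinite.sdiff hinf E.finite_toSet)).exists_subset_card_eq (N - c).toNat
  let D : Divisor k K := ∑ P ∈ E ∪ S, Finsupp.single P (LocRes.ordDiff (φ P) u v)
  have hDP : ∀ P, D P = if P ∈ E ∪ S then LocRes.ordDiff (φ P) u v else 0 := fun P => by
    simp [D, Finsupp.finsetSum_apply, Finsupp.single_apply]
  have hdisj : Disjoint E S := Finset.disjoint_left.2 fun P h1 h2 => (hS h2).2 h1
  have h1 := hN D _ (resPair_ne_zero hφ hK hg hu hv) (resPair_mem_WD hφ hK hg hu hv fun P => by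
    rw [hDP]; split_ifs with h
    · exact le_rfl
    · exact hnn P fun h' => h (Finset.mem_union_left _ h'))
  have h2 : D.deg = c + ∑ P ∈ S, LocRes.ordDiff (φ P) u v * P.deg := by
    have hgen : ∀ T : Finset (Place k K), Divisor.deg (∑ P ∈ T, Finsupp.single P (LocRes.ordDiff (φ P) u v)) =
        ∑ P ∈ T, LocRes.ordDiff (φ P) u v * P.deg := fun T => by
      induction T using Finset.induction_on with
      | empty => simp [deg_zero]
      | insert a T ha ih => rw [Finset.sum_insert ha, Finset.sum_insert ha, deg_add, deg_single, ih]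
    rw [show D = _ from rfl, hgen, Finset.sum_union hdisj]
  have h3 : ((N - c).toNat : ℤ) ≤ ∑ P ∈ S, LocRes.ordDiff (φ P) u v * P.deg := by
    rw [← hcard, Finset.card_eq_sum_ones, Nat.cast_sum]
    refine Finset.sum_le_sum fun P hP => ?_
    have a := hnn P (hS hP).2
    have b : LocRes.ordDiff (φ P) u v ≠ 0 := (hS hP).1
    have c : (1 : ℤ) ≤ P.deg := by have := deg_pos hK P; omega
    push_cast
    exact one_le_mul_of_one_le_of_one_le (by omega) c
  have := Int.self_le_toNat (N - c)
  omega

/-- The divisor of the linear form of a differential. -/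
theorem resPair_isDivOf {u v : K} (hu : u ≠ 0) (hv : KaehlerDifferential.D k K v ≠ 0) {C : Divisor k K}
    (hC : ∀ P, C P = LocRes.ordDiff (φ P) u v) : IsDivOf (resPair hφ hK u v) C := fun E => by
  refine ⟨fun h P => ?_, fun h => resPair_mem_WD hφ hK hg hu hv fun P => hC P ▸ h P⟩
  by_contra hP
  exact resPair_not_mem hφ hK hg hu hv (by rw [← hC P]; omega) h

/-- The divisor of a differential. -/
noncomputable def diffDiv {u v : K} (hu : u ≠ 0) (hv : KaehlerDifferential.D k K v ≠ 0) : Divisor k K :=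
  Finsupp.ofSupportFinite _ (finite_support_ordDiff hφ hK hg hu hv)

lemma diffDiv_apply {u v : K} (hu : u ≠ 0) (hv : KaehlerDifferential.D k K v ≠ 0) (P : Place k K) :
    diffDiv hφ hK hg hu hv P = LocRes.ordDiff (φ P) u v := rfl

/-- The divisor of a differential is canonical. -/
theorem diffDiv_isCanonical {u v : K} (hu : u ≠ 0) (hv : KaehlerDifferential.D k K v ≠ 0) :
    IsCanonical k K (diffDiv hφ hK hg hu hv) :=
  ⟨resPair hφ hK u v, resPair_ne_zero hφ hK hg hu hv,
    resPair_isDivOf hφ hK hg hu hv (diffDiv_apply hφ hK hg hu hv)⟩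

/-- Differentials with divisor at least `D`. -/
theorem setOf_vDiff_le {v : K} (hv : KaehlerDifferential.D k K v ≠ 0) (D : Divisor k K) :
    {y : K | ∀ P, LocRes.vDiff (φ P) y v ≤ WithZero.exp (-(D P))} =
      (L (diffDiv hφ hK hg (one_ne_zero' K) hv - D) : Submodule k K) := by
  ext y
  refine forall_congr' fun P => ?_
  have h : LocRes.vDiff (φ P) y v = P.1 y * WithZero.exp (-LocRes.ordDiff (φ P) 1 v) := by
    rw [← vDiff_eq_exp hφ hK hg one_ne_zero hv, ← vDiff_mul hφ, mul_one]
  rw [h, Finsupp.sub_apply, diffDiv_apply, mul_comm, ← le_inv_mul_iff₀ WithZero.exp_pos, ← WithZero.exp_neg,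
    ← WithZero.exp_add]
  congr! 2
  ring

omit hg in
/-- Multiplying the form. -/
theorem mulW_resPair (c u v : K) :
    mulWLin hK (resPair hφ hK u v) c = resPair hφ hK (c * u) v := by
  refine LinearMap.ext fun a => ?_
  change resPair hφ hK u v _ = _
  rw [resPair_apply, resPair_apply]
  exact finsum_congr fun P => congrArg (fun z => LocRes.locRes (φ P) z v)
    (show c * (a : Place k K → K) P * u = (a : Place k K → K) P * (c * u) by ring)

end Groth.Agent.FF
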