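import Mathlib
import Groth.Agent.FF.RatExt
import Groth.Agent.FF.Quadratic
import Groth.Agent.FF.DiffWeil

/-! Regular differentials of a double cover of the line from the divisor of one differential. -/

set_option autoImplicit false
set_option linter.style.haveILetI false

namespace Groth.Agent.FF.Rat

open FunFld Polynomial LaurentSeries
open scoped WithZero IntermediateField

universe u v w

variable {k : Type u} {K : Type v} [Field k] [Field K] [Algebra k K] [Algebra (RatFunc k) K]
  [IsScalarTower k (RatFunc k) K]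
  {F : Place k K → Type w} [∀ P, Field (F P)] [∀ P, Algebra k (F P)] [∀ P, FiniteDimensional k (F P)]
  {φ : ∀ P, K →ₐ[k] (F P)⸨X⸩}

theorem regular_span [Algebra.IsSeparable (RatFunc k) K] (hφ : ∀ P, LocRes.IsExpansionAt P.1 (φ P))
    (hK : IsFunctionField k K) (hdeg : Module.finrank (RatFunc k) K = 2) {u : K} (hu : u ≠ 0) (n : ℤ)
    (hfinite : ∀ (Q : Place k K) (P : Place k (RatFunc k)) (e : ℕ), IsOverWith Q P e →
      0 ≤ P.ord (RatFunc.X : RatFunc k) →
      LocRes.vDiff (φ Q) u (algebraMap (RatFunc k) K RatFunc.X) = 1)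
    (hinfinite : ∀ (Q : Place k K) (P : Place k (RatFunc k)) (e : ℕ), IsOverWith Q P e →
      P.ord (RatFunc.X : RatFunc k) < 0 →
      LocRes.vDiff (φ Q) u (algebraMap (RatFunc k) K RatFunc.X) = WithZero.exp (-((e : ℤ) * n))) :
    n = (genus k K : ℤ) - 1 ∧
    (∀ i : ℕ, i < genus k K → ∀ P,
      LocRes.vDiff (φ P) (algebraMap (RatFunc k) K RatFunc.X ^ i * u) (algebraMap (RatFunc k) K RatFunc.X) ≤ 1) ∧
    ∀ z : K, (∀ P, LocRes.vDiff (φ P) z (algebraMap (RatFunc k) K RatFunc.X) ≤ 1) →
      ∃ a : k[X], a.degree < (genus k K : WithBot ℕ) ∧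
        z = algebraMap (RatFunc k) K (algebraMap k[X] (RatFunc k) a) * u := by
  classical
  have hg := isGeometric_ext (K := K) hK
  have hv := D_X_ne_zero_ext (k := k) (K := K)
  set x := algebraMap (RatFunc k) K RatFunc.X
  obtain ⟨Pinf, hinf⟩ := exists_inf (k := k)
  set W := diffDiv hφ hK hg hu hv
  have hW : W = conorm K (Finsupp.single Pinf n) := by
    refine Finsupp.ext fun Q => ?_
    obtain ⟨P, e, he⟩ := Quad.exists_below isFunctionField hdeg Q
    rw [diffDiv_apply, LocRes.ordDiff]
    by_cases hP : P.ord (RatFunc.X : RatFunc k) < 0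
    · obtain rfl := inf_unique hinf hP
      rw [hinfinite Q _ e he hP, Quad.conorm_single_apply isFunctionField hdeg n he, WithZero.log_exp, neg_neg]
    · rw [hfinite Q P e he (by omega), WithZero.log_one, neg_zero,
        Quad.conorm_single_apply_of_ne isFunctionField hdeg n ⟨e, he⟩ fun h => hP (h ▸ hinf)]
  obtain ⟨hellW, hdegW⟩ := canonical_deg hK (diffDiv_isCanonical hφ hK hg hu hv)
  have hn : n = (genus k K : ℤ) - 1 := by
    change W.deg = _ at hdegW
    rw [hW, Quad.conorm_deg isFunctionField hdeg, deg_single, deg_inf hinf, Nat.cast_one, mul_one] at hdegW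
    omega
  change ell W = _ at hellW
  have key : ∀ c : K, c ∈ L W ↔ ∀ P, LocRes.vDiff (φ P) (c * u) x ≤ 1 := fun c => by
    refine forall_congr' fun Q => ?_
    have hne : LocRes.vDiff (φ Q) u x ≠ 0 := by
      obtain ⟨P, e, he⟩ := Quad.exists_below isFunctionField hdeg Q
      by_cases hP : P.ord (RatFunc.X : RatFunc k) < 0
      · rw [hinfinite Q P e he hP]; exact WithZero.exp_ne_zero
      · rw [hfinite Q P e he (by omega)]; exact one_ne_zero
    rw [vDiff_mul hφ, show W Q = -WithZero.log (LocRes.vDiff (φ Q) u x) from rfl, WithZero.exp_neg,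
      WithZero.exp_log hne, ← le_mul_inv_iff₀ (zero_lt_iff.2 hne), one_mul]
  have hpow : ∀ i : ℕ, i < genus k K → x ^ i ∈ L W := fun i hi => by
    have hg1 : 1 ≤ genus k K := by omega
    intro Q
    obtain ⟨P, e, he⟩ := Quad.exists_below isFunctionField hdeg Q
    rw [hW, ← map_pow, he]
    by_cases hP : P.ord (RatFunc.X : RatFunc k) < 0
    · obtain rfl := inf_unique hinf hP
      rw [Quad.conorm_single_apply isFunctionField hdeg n he, ← nsmul_eq_mul, WithZero.exp_nsmul]
      refine pow_le_pow_left₀ zero_le ?_ e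
      rw [v_le_exp_iff _ (pow_ne_zero _ RatFunc.X_ne_zero), ord_pow, ord_X_inf hP]
      omega
    · rw [Quad.conorm_single_apply_of_ne isFunctionField hdeg n ⟨e, he⟩ fun h => hP (h ▸ hinf), WithZero.exp_zero]
      exact pow_le_one' (by rw [map_pow]; exact pow_le_one' (le_one_of_ord_nonneg (by omega)) i) e
  refine ⟨hn, fun i hi P => (key _).1 (hpow i hi) P, fun z hz => ?_⟩
  have hzW : z / u ∈ L W := (key _).2 fun P => by rw [div_mul_cancel₀ _ hu]; exact hz P
  let Φ : degreeLT k (genus k K) →ₗ[k] K := (Polynomial.aeval x).toLinearMap.comp (Submodule.subtype _)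
  have hinj : Function.Injective Φ := fun a b h =>
    Subtype.ext (transcendental_iff_injective.1 transcendental_X_ext h)
  have hrange : LinearMap.range Φ ≤ L W := by
    rintro _ ⟨⟨p, hp⟩, rfl⟩
    show aeval x p ∈ L W
    rw [mem_degreeLT] at hp
    rcases eq_or_ne p 0 with rfl | hp0
    · simp
    rw [degree_eq_natDegree hp0, Nat.cast_lt] at hp
    rw [aeval_eq_sum_range]
    refine Submodule.sum_mem _ fun i hi => Submodule.smul_mem _ _ (hpow i ?_)
    rw [Finset.mem_range] at hi
    omega
  haveI := finite_L hK W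
  rw [← Submodule.eq_of_le_of_finrank_le hrange (by
    rw [LinearMap.finrank_range_of_inj hinj, (degreeLTEquiv k _).finrank_eq, Module.finrank_fintype_fun_eq_card,
      Fintype.card_fin]
    exact hellW.le)] at hzW
  obtain ⟨⟨a, ha⟩, haz⟩ := hzW
  refine ⟨a, mem_degreeLT.1 ha, ?_⟩
  change aeval x a = z / u at haz
  rw [← aeval_X_eq, ← Polynomial.aeval_algebraMap_apply, haz, div_mul_cancel₀ _ hu]

end Groth.Agent.FF.Rat
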