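import Mathlib
import Groth.Agent.FF.ArtinSchreier
import Groth.Agent.FF.RegularSpan

/-! The genus of `y² + y = f(x)` in characteristic two. -/

set_option autoImplicit false
set_option linter.style.haveILetI false

namespace Groth.Agent.FF.AS

attribute [local instance high] FunFld.Place.algRes
attribute [-instance] IsLocalRing.instModuleResidueFieldOfAlgebra

open FunFld Polynomial LaurentSeries
open scoped WithZero IntermediateField

universe u v w

variable {k : Type u} {K : Type v} [Field k] [Field K] [Algebra k K] [Algebra (RatFunc k) K]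
  [IsScalarTower k (RatFunc k) K] {y : K} {f : RatFunc k}

omit [Algebra k K] [IsScalarTower k (RatFunc k) K] in
lemma adjoin_eq_top (hdeg : Module.finrank (RatFunc k) K = 2) (hy : y ∉ Set.range (algebraMap (RatFunc k) K)) :
    (RatFunc k)⟮y⟯ = ⊤ := by
  haveI : FiniteDimensional (RatFunc k) K := Module.finite_of_finrank_eq_succ hdeg
  have h1 : Module.finrank (RatFunc k) (RatFunc k)⟮y⟯ ≠ 1 := fun h => hy (by
    have hb := IntermediateField.finrank_eq_one_iff.1 h
    have := IntermediateField.mem_adjoin_simple_self (RatFunc k) y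
    rw [hb, IntermediateField.mem_bot] at this
    exact this)
  have h2 : Module.finrank (RatFunc k) (RatFunc k)⟮y⟯ ∣ 2 := hdeg ▸ Dvd.intro _ (Module.finrank_mul_finrank _ _ K)
  refine IntermediateField.eq_of_le_of_finrank_eq le_top ?_
  rw [IntermediateField.finrank_top', hdeg]
  rcases Nat.prime_two.eq_one_or_self_of_dvd _ h2 with h | h
  · exact absurd h h1
  · exact h

omit [IsScalarTower k (RatFunc k) K] [Algebra k K] in
lemma isSeparable (hdeg : Module.finrank (RatFunc k) K = 2) (h2 : ringChar k = 2)
    (hy : y ∉ Set.range (algebraMap (RatFunc k) K)) (heq : y ^ 2 + y = algebraMap (RatFunc k) K f) :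
    Algebra.IsSeparable (RatFunc k) K := by
  haveI : Algebra.IsSeparable (RatFunc k) (RatFunc k)⟮y⟯ := by
    refine (IntermediateField.isSeparable_adjoin_simple_iff_isSeparable _ _).2 ?_
    have hp : (X ^ 2 + X - C f : (RatFunc k)[X]).Separable := by
      rw [Polynomial.separable_def]
      have hder : derivative (X ^ 2 + X - C f : (RatFunc k)[X]) = 1 := by
        rw [derivative_sub, derivative_add, derivative_X_pow, derivative_X, derivative_C, sub_zero,
          Nat.cast_ofNat, two_eq_zero h2 (RatFunc k), map_zero, zero_mul, zero_add]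
      rw [hder]
      exact isCoprime_one_right
    exact Polynomial.Separable.of_dvd hp (minpoly.dvd _ _ (by simp [heq]))
  exact Algebra.IsSeparable.of_algHom (RatFunc k) (RatFunc k)⟮y⟯
    ((IntermediateField.equivOfEq (adjoin_eq_top hdeg hy)).trans IntermediateField.topEquiv).symm.toAlgHom

/-- The genus formula: the degree of the divisor of `dx`. -/
theorem genus_formula [PerfectField k] (hK : IsFunctionField k K) (hdeg : Module.finrank (RatFunc k) K = 2)
    (h2 : ringChar k = 2) (hy : y ∉ Set.range (algebraMap (RatFunc k) K))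
    (heq : y ^ 2 + y = algebraMap (RatFunc k) K f)
    (hodd : ∀ P : Place k (RatFunc k), P.ord f < 0 → Odd (P.ord f)) :
    (genus k K : ℤ) = -1 + ∑ P ∈ (FunFld.div k f).support with FunFld.div k f P < 0,
      (1 - FunFld.div k f P) / 2 * (P.deg : ℤ) := by
  classical
  haveI := isSeparable hdeg h2 hy heq
  have hg := Rat.isGeometric_ext (K := K) hK
  have hv := Rat.D_X_ne_zero_ext (k := k) (K := K)
  haveI hfin : ∀ Q : Place k K, Module.Finite k (IsLocalRing.ResidueField Q.O) := fun Q => finite_residue hK Q
  have hex : ∀ Q : Place k K, ∃ φ : K →ₐ[k] (IsLocalRing.ResidueField Q.O)⸨X⸩, LocRes.IsExpansionAt Q.1 φ := fun Q => by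
    haveI : Algebra.IsAlgebraic k (IsLocalRing.ResidueField Q.O) := Algebra.IsAlgebraic.of_finite _ _
    haveI : Algebra.IsSeparable k (IsLocalRing.ResidueField Q.O) := Algebra.IsAlgebraic.isSeparable_of_perfectField
    obtain ⟨t, ht⟩ := exists_unif Q
    obtain ⟨φ, hφ, -⟩ := exists_expansion Q ht
    exact ⟨φ, hφ⟩
  choose φ hφ using hex
  obtain ⟨Pinf, hinf⟩ := Rat.exists_inf (k := k)
  set T := (FunFld.div k f).support.filter fun P => FunFld.div k f P < 0
  set S : Divisor k (RatFunc k) := Finsupp.single Pinf (-2) + ∑ P ∈ T, Finsupp.single P ((1 - FunFld.div k f P) / 2)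
  have hS : ∀ P, S P = weight f P := fun P => by
    rw [Finsupp.add_apply, Finsupp.finsetSum_apply, weight]
    congr 1
    · by_cases hP : P.ord (RatFunc.X : RatFunc k) < 0
      · rw [if_pos hP, Rat.inf_unique hinf hP, Finsupp.single_eq_same]
      · rw [if_neg hP, Finsupp.single_eq_of_ne fun h => hP (by subst h; exact hinf)]
    · by_cases hf : P.ord f < 0
      · have hPT : P ∈ T := by
          simp only [T, Finset.mem_filter, Finsupp.mem_support_iff, div_apply Rat.isFunctionField]
          omega
        rw [if_pos hf, Finset.sum_eq_single P (fun R _ hR => Finsupp.single_eq_of_ne (Ne.symm hR))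
          (fun h => absurd hPT h), Finsupp.single_eq_same, div_apply Rat.isFunctionField]
      · rw [if_neg hf]
        refine Finset.sum_eq_zero fun R hR => Finsupp.single_eq_of_ne fun h => hf ?_
        subst h
        simpa [T, div_apply Rat.isFunctionField] using (Finset.mem_filter.1 hR).2
  have hW : diffDiv hφ hK hg one_ne_zero hv = conorm K S := by
    refine Finsupp.ext fun Q => ?_
    obtain ⟨P, e, he⟩ := Quad.exists_below Rat.isFunctionField hdeg Q
    haveI : FiniteDimensional (RatFunc k) K := Module.finite_of_finrank_eq_succ hdeg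
    rw [diffDiv_apply, LocRes.ordDiff, vDiff_one, vD_X hdeg h2 hy heq he (hφ Q) (hodd P), WithZero.log_exp, neg_neg,
      conorm_apply Rat.isFunctionField _ ⟨e, he⟩, ramIdx_eq he, hS]
  have hdegW := (canonical_deg hK (diffDiv_isCanonical hφ hK hg one_ne_zero hv)).2
  rw [hW, Quad.conorm_deg Rat.isFunctionField hdeg, deg_add, deg_single, Rat.deg_inf hinf] at hdegW
  have hsum : (∑ P ∈ T, Finsupp.single P ((1 - FunFld.div k f P) / 2) : Divisor k (RatFunc k)).deg =
      ∑ P ∈ T, (1 - FunFld.div k f P) / 2 * (P.deg : ℤ) := by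
    induction T using Finset.induction_on with
    | empty => simp [deg_zero]
    | insert R T hR ih => rw [Finset.sum_insert hR, Finset.sum_insert hR, deg_add, deg_single, ih]
  rw [hsum] at hdegW
  push_cast at hdegW
  omega

end Groth.Agent.FF.AS
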