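import Mathlib
import Groth.Agent.FF.ASGenus

/-! Artin–Schreier covers of the line over an algebraically closed field with prescribed poles. -/

set_option autoImplicit false
set_option linter.style.haveILetI false

namespace Groth.Agent.FF.AS

attribute [local instance high] FunFld.Place.algRes
attribute [-instance] IsLocalRing.instModuleResidueFieldOfAlgebra

open FunFld Polynomial LaurentSeries
open scoped WithZero IntermediateField

universe u v w

variable {k : Type u} [Field k]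

section Line

lemma X_sub_C_ne_zero (β : k) : (RatFunc.X : RatFunc k) - RatFunc.C β ≠ 0 := by
  rw [← RatFunc.algebraMap_X, ← RatFunc.algebraMap_C, ← map_sub]
  exact RatFunc.algebraMap_ne_zero (Polynomial.X_sub_C_ne_zero β)

lemma point_finite {P : Place k (RatFunc k)} {α : k} (h : P.1 ((RatFunc.X : RatFunc k) - RatFunc.C α) < 1) :
    0 ≤ P.ord (RatFunc.X : RatFunc k) := by
  rw [← RatFunc.algebraMap_X, ← RatFunc.algebraMap_C, ← map_sub] at h
  exact Rat.finite_of_poly_lt_one (Polynomial.X_sub_C_ne_zero α) h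

lemma ord_point_poly {P : Place k (RatFunc k)} {α : k} (h : P.1 ((RatFunc.X : RatFunc k) - RatFunc.C α) < 1)
    (p : k[X]) (hp : p ≠ 0) : P.ord (algebraMap k[X] (RatFunc k) p) = (p.rootMultiplicity α : ℤ) := by
  obtain ⟨q, hqi, hq1, hnd⟩ := Rat.exists_irreducible (point_finite h)
  rw [← RatFunc.algebraMap_X, ← RatFunc.algebraMap_C, ← map_sub] at h
  have h1 := Rat.ord_poly_irreducible (Polynomial.irreducible_X_sub_C α) h
  have hdvd : q ∣ (X - C α : k[X]) := by
    by_contra hn
    rw [hnd _ hn] at h1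
    omega
  have hass : Associated q (X - C α : k[X]) := hqi.associated_of_dvd (Polynomial.irreducible_X_sub_C α) hdvd
  obtain ⟨r, hr, hndr⟩ := p.exists_eq_pow_rootMultiplicity_mul_and_not_dvd hp α
  have hr0 : r ≠ 0 := fun h0 => hndr (h0 ▸ dvd_zero _)
  conv_lhs => rw [hr]
  rw [map_mul, map_pow, ord_mul P (pow_ne_zero _ (RatFunc.algebraMap_ne_zero (Polynomial.X_sub_C_ne_zero α)))
    (RatFunc.algebraMap_ne_zero hr0), ord_pow, h1, hnd r fun hq => hndr (hass.dvd_iff_dvd_left.1 hq)]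
  ring

lemma ord_point_self {P : Place k (RatFunc k)} {α : k} (h : P.1 ((RatFunc.X : RatFunc k) - RatFunc.C α) < 1) :
    P.ord ((RatFunc.X : RatFunc k) - RatFunc.C α) = 1 := by
  rw [← RatFunc.algebraMap_X, ← RatFunc.algebraMap_C, ← map_sub,
    ord_point_poly h _ (Polynomial.X_sub_C_ne_zero α), rootMultiplicity_X_sub_C_self, Nat.cast_one]

lemma ord_point_ne {P : Place k (RatFunc k)} {α β : k} (h : P.1 ((RatFunc.X : RatFunc k) - RatFunc.C α) < 1)
    (hne : β ≠ α) : P.ord ((RatFunc.X : RatFunc k) - RatFunc.C β) = 0 := by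
  rw [← RatFunc.algebraMap_X, ← RatFunc.algebraMap_C, ← map_sub,
    ord_point_poly h _ (Polynomial.X_sub_C_ne_zero β), Nat.cast_eq_zero]
  refine rootMultiplicity_eq_zero ?_
  simp [IsRoot.def, sub_eq_zero, Ne.symm hne]

lemma point_unique {P P' : Place k (RatFunc k)} {α : k} (h : P.1 ((RatFunc.X : RatFunc k) - RatFunc.C α) < 1)
    (h' : P'.1 ((RatFunc.X : RatFunc k) - RatFunc.C α) < 1) : P = P' := by
  refine place_eq_of_le P fun z hz => Rat.le_one_of_ord_nonneg ?_
  rcases eq_or_ne z 0 with rfl | hz0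
  · rw [ord_zero]
  have h1 := Rat.ord_nonneg_of_le_one hz
  have key : ∀ (R : Place k (RatFunc k)), R.1 ((RatFunc.X : RatFunc k) - RatFunc.C α) < 1 →
      R.ord z = (z.num.rootMultiplicity α : ℤ) - z.denom.rootMultiplicity α := fun R hR => by
    conv_lhs => rw [← RatFunc.num_div_denom z]
    rw [div_eq_mul_inv, ord_mul R (RatFunc.algebraMap_ne_zero (RatFunc.num_ne_zero hz0))
      (inv_ne_zero (RatFunc.algebraMap_ne_zero z.denom_ne_zero)), ord_inv,
      ord_point_poly hR _ (RatFunc.num_ne_zero hz0), ord_point_poly hR _ z.denom_ne_zero, ← sub_eq_add_neg]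
  rw [key P h] at h1
  rw [key P' h']
  exact h1

lemma point_value {P : Place k (RatFunc k)} {α β : k} (h : P.1 ((RatFunc.X : RatFunc k) - RatFunc.C α) < 1)
    (h' : P.1 ((RatFunc.X : RatFunc k) - RatFunc.C β) < 1) : β = α := by
  by_contra hne
  rw [v_lt_one_iff P (X_sub_C_ne_zero β), ord_point_ne h hne] at h'
  omega

lemma exists_point_over (α : k) : ∃ P : Place k (RatFunc k), P.1 ((RatFunc.X : RatFunc k) - RatFunc.C α) < 1 := by
  obtain ⟨P, hP⟩ := Rat.exists_over_irreducible (Polynomial.irreducible_X_sub_C α)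
  refine ⟨P, ?_⟩
  rw [v_lt_one_iff P (X_sub_C_ne_zero α), ← RatFunc.algebraMap_X, ← RatFunc.algebraMap_C, ← map_sub]
  exact hP

variable [IsAlgClosed k]

lemma exists_point {P : Place k (RatFunc k)} (hP : 0 ≤ P.ord (RatFunc.X : RatFunc k)) :
    ∃ α : k, P.1 ((RatFunc.X : RatFunc k) - RatFunc.C α) < 1 := by
  obtain ⟨q, hqi, hq1, -⟩ := Rat.exists_irreducible hP
  obtain ⟨α, hα⟩ := IsAlgClosed.exists_root q (fun h0 => by
    have := hqi.degree_pos
    rw [h0] at this
    exact lt_irrefl _ this)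
  refine ⟨α, ?_⟩
  rw [v_lt_one_iff P (X_sub_C_ne_zero α), ← RatFunc.algebraMap_X, ← RatFunc.algebraMap_C, ← map_sub]
  obtain ⟨s, hs⟩ := dvd_iff_isRoot.2 hα
  have hs0 : s ≠ 0 := right_ne_zero_of_mul (hs ▸ hqi.ne_zero)
  have hu : IsUnit s := (hqi.isUnit_or_isUnit hs).resolve_left (Polynomial.not_isUnit_X_sub_C α)
  obtain ⟨c, hc, rfl⟩ := Polynomial.isUnit_iff.1 hu
  rw [hs, map_mul, ord_mul P (RatFunc.algebraMap_ne_zero (Polynomial.X_sub_C_ne_zero α))
    (RatFunc.algebraMap_ne_zero hs0), RatFunc.algebraMap_C, ← RatFunc.algebraMap_eq_C, ord_algebraMap, add_zero] at hq1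
  omega

lemma deg_eq_one {K : Type v} [Field K] [Algebra k K] (hK : IsFunctionField k K) (Q : Place k K) : Q.deg = 1 := by
  haveI : Module.Finite k (IsLocalRing.ResidueField Q.O) := finite_residue hK Q
  haveI : Algebra.IsAlgebraic k (IsLocalRing.ResidueField Q.O) := Algebra.IsAlgebraic.of_finite _ _
  show Module.finrank k (IsLocalRing.ResidueField Q.O) = 1
  have hb := IsAlgClosed.algebraMap_bijective_of_isIntegral (k := k) (K := IsLocalRing.ResidueField Q.O)
  rw [← (AlgEquiv.ofBijective (Algebra.ofId k _) hb).toLinearEquiv.finrank_eq, Module.finrank_self]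

end Line

/-- The hypotheses on `f`. -/
structure PoleData (f : RatFunc k) (B : Finset k) (d : k → ℕ) : Prop where
  odd : ∀ α ∈ B, Odd (d α)
  pole : ∀ (p : Place k (RatFunc k)) (α : k), α ∈ B →
    p.1 ((RatFunc.X : RatFunc k) - RatFunc.C α) < 1 → p.ord f = -(d α : ℤ)
  int : ∀ p : Place k (RatFunc k), (∀ α ∈ B, 1 ≤ p.1 ((RatFunc.X : RatFunc k) - RatFunc.C α)) → p.1 f ≤ 1

variable {f : RatFunc k} {B : Finset k} {d : k → ℕ}

lemma PoleData.inf (hf : PoleData f B d) {P : Place k (RatFunc k)} (hP : P.ord (RatFunc.X : RatFunc k) < 0) :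
    0 ≤ P.ord f :=
  Rat.ord_nonneg_of_le_one (hf.int P fun α _ => not_lt.1 fun h => absurd (point_finite h) (not_le.2 hP))

lemma PoleData.pos (hf : PoleData f B d) {α : k} (hα : α ∈ B) : 1 ≤ d α := by
  obtain ⟨i, hi⟩ := hf.odd α hα; omega

lemma PoleData.other (hf : PoleData f B d) {P : Place k (RatFunc k)} {β : k}
    (hβ : P.1 ((RatFunc.X : RatFunc k) - RatFunc.C β) < 1) (hB : β ∉ B) : 0 ≤ P.ord f :=
  Rat.ord_nonneg_of_le_one (hf.int P fun α hα => not_lt.1 fun h => hB (point_value hβ h ▸ hα))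

lemma PoleData.neg_odd [IsAlgClosed k] (hf : PoleData f B d) (P : Place k (RatFunc k)) (h : P.ord f < 0) :
    Odd (P.ord f) := by
  by_cases hP : P.ord (RatFunc.X : RatFunc k) < 0
  · exact absurd (hf.inf hP) (not_le.2 h)
  obtain ⟨β, hβ⟩ := exists_point (not_lt.1 hP)
  by_cases hB : β ∈ B
  · rw [hf.pole P β hB hβ, odd_neg]; exact_mod_cast hf.odd β hB
  · exact absurd (hf.other hβ hB) (not_le.2 h)

lemma PoleData.weight_inf (hf : PoleData f B d) {P : Place k (RatFunc k)}
    (hP : P.ord (RatFunc.X : RatFunc k) < 0) : weight f P = -2 := by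
  rw [weight, if_pos hP, if_neg (not_lt.2 (hf.inf hP)), add_zero]

lemma PoleData.weight_mem (hf : PoleData f B d) {P : Place k (RatFunc k)} {β : k}
    (hβ : P.1 ((RatFunc.X : RatFunc k) - RatFunc.C β) < 1) (hB : β ∈ B) :
    2 * weight f P = (d β : ℤ) + 1 := by
  have := hf.pos hB
  obtain ⟨i, hi⟩ := hf.odd β hB
  rw [weight, if_neg (not_lt.2 (point_finite hβ)), hf.pole P β hB hβ, if_pos (by omega)]
  omega

lemma PoleData.weight_other (hf : PoleData f B d) {P : Place k (RatFunc k)} {β : k}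
    (hβ : P.1 ((RatFunc.X : RatFunc k) - RatFunc.C β) < 1) (hB : β ∉ B) : weight f P = 0 := by
  rw [weight, if_neg (not_lt.2 (point_finite hβ)), if_neg (not_lt.2 (hf.other hβ hB)), add_zero]

section Cover

variable {K : Type v} [Field K] [Algebra k K] [Algebra (RatFunc k) K] [IsScalarTower k (RatFunc k) K]

lemma map_X_sub (α : k) : algebraMap (RatFunc k) K ((RatFunc.X : RatFunc k) - RatFunc.C α) =
    algebraMap (RatFunc k) K RatFunc.X - algebraMap k K α := by
  rw [map_sub, ← RatFunc.algebraMap_eq_C, ← IsScalarTower.algebraMap_apply]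

lemma below_lt_one {Q : Place k K} {P : Place k (RatFunc k)} {e : ℕ} (he : IsOverWith Q P e) (α : k) :
    Q.1 (algebraMap (RatFunc k) K RatFunc.X - algebraMap k K α) < 1 ↔
      P.1 ((RatFunc.X : RatFunc k) - RatFunc.C α) < 1 := by
  rw [← map_X_sub, he, pow_lt_one_iff (pos_of_isOverWith he).ne']

lemma below_inf {Q : Place k K} {P : Place k (RatFunc k)} {e : ℕ} (he : IsOverWith Q P e) :
    1 < Q.1 (algebraMap (RatFunc k) K RatFunc.X) ↔ P.ord (RatFunc.X : RatFunc k) < 0 := by
  rw [he, one_lt_pow_iff (pos_of_isOverWith he).ne', v_eq_exp P RatFunc.X_ne_zero, ← WithZero.exp_zero,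
    WithZero.exp_lt_exp]
  omega

variable {y : K}

lemma at_point (hdeg : Module.finrank (RatFunc k) K = 2) (heq : y ^ 2 + y = algebraMap (RatFunc k) K f)
    (hf : PoleData f B d) {Q : Place k K} {α : k} (hα : α ∈ B)
    (hQ : Q.1 (algebraMap (RatFunc k) K RatFunc.X - algebraMap k K α) < 1) :
    ∃ P : Place k (RatFunc k), P.1 ((RatFunc.X : RatFunc k) - RatFunc.C α) < 1 ∧ IsOverWith Q P 2 ∧
      Q.ord y = -(d α : ℤ) := by
  obtain ⟨P, e, he⟩ := Quad.exists_below Rat.isFunctionField hdeg Q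
  have hP := (below_lt_one he α).1 hQ
  have hneg : P.ord f < 0 := by rw [hf.pole P α hα hP]; have := hf.pos hα; omega
  obtain ⟨rfl, hy⟩ := pole_case hdeg heq he hneg (by rw [hf.pole P α hα hP, odd_neg]; exact_mod_cast hf.odd α hα)
  exact ⟨P, hP, he, hy.trans (hf.pole P α hα hP)⟩

lemma point_Q_unique (hdeg : Module.finrank (RatFunc k) K = 2) (heq : y ^ 2 + y = algebraMap (RatFunc k) K f)
    (hf : PoleData f B d) {Q Q' : Place k K} {α : k} (hα : α ∈ B)
    (hQ : Q.1 (algebraMap (RatFunc k) K RatFunc.X - algebraMap k K α) < 1)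
    (hQ' : Q'.1 (algebraMap (RatFunc k) K RatFunc.X - algebraMap k K α) < 1) : Q' = Q := by
  obtain ⟨P, hP, he, -⟩ := at_point hdeg heq hf hα hQ
  obtain ⟨P', hP', he', -⟩ := at_point hdeg heq hf hα hQ'
  obtain rfl := point_unique hP hP'
  exact (Quad.of_ramified Rat.isFunctionField hdeg he).1 Q' ⟨2, he'⟩

variable [IsAlgClosed k]

/-- The genus. -/
lemma genus_points (hK : IsFunctionField k K) (hdeg : Module.finrank (RatFunc k) K = 2) (h2 : ringChar k = 2)
    (hy : y ∉ Set.range (algebraMap (RatFunc k) K)) (heq : y ^ 2 + y = algebraMap (RatFunc k) K f)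
    (hf : PoleData f B d) : (genus k K : ℤ) = -1 + ∑ α ∈ B, ((d α : ℤ) + 1) / 2 := by
  classical
  rw [genus_formula hK hdeg h2 hy heq hf.neg_odd]
  congr 1
  choose pt hpt using fun α : k => exists_point_over α
  refine (Finset.sum_bij (fun α _ => pt α) (fun α hα => ?_) (fun a _ b _ h => ?_) (fun P hP => ?_) fun α hα => ?_).symm
  · rw [Finset.mem_filter, Finsupp.mem_support_iff, div_apply Rat.isFunctionField, hf.pole _ α hα (hpt α)]
    have := hf.pos hα
    omega
  · exact point_value (h ▸ hpt b) (hpt a)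
  · rw [Finset.mem_filter, Finsupp.mem_support_iff, div_apply Rat.isFunctionField] at hP
    have hfin : 0 ≤ P.ord (RatFunc.X : RatFunc k) := by
      by_contra h
      have := hf.inf (not_le.1 h)
      omega
    obtain ⟨β, hβ⟩ := exists_point hfin
    have hB : β ∈ B := by
      by_contra h
      have := hf.other hβ h
      omega
    exact ⟨β, hB, point_unique (hpt β) hβ⟩
  · rw [div_apply Rat.isFunctionField, hf.pole _ α hα (hpt α), deg_eq_one Rat.isFunctionField, Nat.cast_one,
      mul_one, sub_neg_eq_add, add_comm (1 : ℤ)]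

end Cover

end Groth.Agent.FF.AS
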