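import Mathlib
import Groth.Agent.FF.ASPoints
import Groth.Agent.FF.DiffWeil

/-! Dual bases of regular differentials and of `H¹(O)` for Artin–Schreier covers of the line. -/

set_option autoImplicit false
set_option linter.style.haveILetI false

namespace Groth.Agent.FF.AS

attribute [local instance high] FunFld.Place.algRes
attribute [-instance] IsLocalRing.instModuleResidueFieldOfAlgebra

open FunFld Polynomial LaurentSeries
open scoped WithZero IntermediateField

universe u v w

variable {k : Type u} [Field k] {B : Finset k} {d : k → ℕ}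

/-- The index set of the bases. -/
abbrev Idx (B : Finset k) (d : k → ℕ) : Type u :=
  {a : ↥B × ℕ // 1 ≤ a.2 ∧ 2 * a.2 + 1 ≤ d (a.1 : k)} ⊕ {b : ↥B // (b : k) ≠ 0}

/-- The point of an index. -/
def Idx.pt : Idx B d → k := Sum.elim (fun a => (a.1.1 : k)) fun b => (b.1 : k)

/-- The exponent of an index. -/
def Idx.jj : Idx B d → ℕ := Sum.elim (fun a => a.1.2) fun _ => 0

lemma Idx.mem (i : Idx B d) : i.pt ∈ B := by rcases i with a | b <;> exact Subtype.coe_prop _

lemma Idx.ne_zero {i : Idx B d} (h : i.jj = 0) : i.pt ≠ 0 := by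
  rcases i with a | b
  · exact absurd h (Nat.one_le_iff_ne_zero.1 a.2.1)
  · exact b.2

lemma Idx.ext' {i i' : Idx B d} (h1 : i.pt = i'.pt) (h2 : i.jj = i'.jj) : i = i' := by
  rcases i with a | b <;> rcases i' with a' | b'
  · exact congrArg Sum.inl (Subtype.ext (Prod.ext (Subtype.ext h1) h2))
  · exact absurd h2 (Nat.one_le_iff_ne_zero.1 a.2.1)
  · exact absurd h2.symm (Nat.one_le_iff_ne_zero.1 a'.2.1)
  · exact congrArg Sum.inr (Subtype.ext (Subtype.ext h1))

variable (B d) in
/-- The index set as a sigma type. -/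
def Idx.equiv : {a : ↥B × ℕ // 1 ≤ a.2 ∧ 2 * a.2 + 1 ≤ d (a.1 : k)} ≃ (Σ α : ↥B, Fin ((d (α : k) - 1) / 2)) where
  toFun a := ⟨a.1.1, a.1.2 - 1, by have := a.2; omega⟩
  invFun s := ⟨(s.1, s.2.1 + 1), by have := s.2.2; constructor <;> simp only [] <;> omega⟩
  left_inv a := Subtype.ext (Prod.ext rfl (by have := a.2.1; simp only []; omega))
  right_inv s := Sigma.ext rfl (heq_of_eq (Fin.ext (by simp)))

instance : Finite (Idx B d) :=
  haveI := Finite.of_equiv _ (Idx.equiv B d).symm
  inferInstance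

/-- The function of the differential of an index. -/
noncomputable def wfun (i : Idx B d) : RatFunc k :=
  Sum.elim (fun a : {a : ↥B × ℕ // 1 ≤ a.2 ∧ 2 * a.2 + 1 ≤ d (a.1 : k)} =>
      ((RatFunc.X : RatFunc k) - RatFunc.C (a.1.1 : k))⁻¹ ^ (a.1.2 + 1))
    (fun b : {b : ↥B // (b : k) ≠ 0} =>
      RatFunc.C (b.1 : k) / ((RatFunc.X : RatFunc k) * ((RatFunc.X : RatFunc k) - RatFunc.C (b.1 : k)))) i

lemma ord_b {P : Place k (RatFunc k)} {a : k} (ha : a ≠ 0) :
    P.ord (RatFunc.C a / ((RatFunc.X : RatFunc k) * ((RatFunc.X : RatFunc k) - RatFunc.C a))) =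
      -P.ord (RatFunc.X : RatFunc k) - P.ord ((RatFunc.X : RatFunc k) - RatFunc.C a) := by
  have hC : (RatFunc.C a : RatFunc k) ≠ 0 := (_root_.map_ne_zero _).2 ha
  rw [div_eq_mul_inv, ord_mul P hC (inv_ne_zero (mul_ne_zero RatFunc.X_ne_zero (X_sub_C_ne_zero a))), ord_inv,
    ord_mul P RatFunc.X_ne_zero (X_sub_C_ne_zero a), ← RatFunc.algebraMap_eq_C, ord_algebraMap]
  ring

lemma wfun_ne_zero (i : Idx B d) : wfun i ≠ 0 := by
  rcases i with a | b
  · exact pow_ne_zero _ (inv_ne_zero (X_sub_C_ne_zero _))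
  · exact div_ne_zero ((_root_.map_ne_zero _).2 b.2) (mul_ne_zero RatFunc.X_ne_zero (X_sub_C_ne_zero _))

lemma wfun_self (i : Idx B d) {P : Place k (RatFunc k)}
    (h : P.1 ((RatFunc.X : RatFunc k) - RatFunc.C i.pt) < 1) : P.ord (wfun i) = -((i.jj : ℤ) + 1) := by
  rcases i with a | b
  · simp only [Idx.pt, Sum.elim_inl] at h
    simp only [wfun, Idx.jj, Sum.elim_inl, ord_pow, ord_inv, ord_point_self h]
    push_cast; ring
  · simp only [Idx.pt, Sum.elim_inr] at h
    simp only [wfun, Idx.jj, Sum.elim_inr, ord_b b.2, ord_point_self h]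
    have h0 : P.ord (RatFunc.X : RatFunc k) = 0 := by simpa using ord_point_ne h (Ne.symm b.2)
    rw [h0]; simp

lemma wfun_other (i : Idx B d) {P : Place k (RatFunc k)} {β : k}
    (h : P.1 ((RatFunc.X : RatFunc k) - RatFunc.C β) < 1) (hne : β ≠ i.pt) :
    -1 ≤ P.ord (wfun i) ∧ (β ≠ 0 → 0 ≤ P.ord (wfun i)) := by
  rcases i with a | b
  · simp only [Idx.pt, Sum.elim_inl] at hne
    simp only [wfun, Sum.elim_inl, ord_pow, ord_inv, ord_point_ne h (Ne.symm hne)]
    simp
  · simp only [Idx.pt, Sum.elim_inr] at hne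
    simp only [wfun, Sum.elim_inr, ord_b b.2, ord_point_ne h (Ne.symm hne)]
    rcases eq_or_ne β 0 with rfl | hβ
    · have h0 : P.ord (RatFunc.X : RatFunc k) = 1 := by simpa using ord_point_self h
      exact ⟨by omega, fun h' => absurd rfl h'⟩
    · have h0 : P.ord (RatFunc.X : RatFunc k) = 0 := by simpa using ord_point_ne h (Ne.symm hβ)
      exact ⟨by omega, fun _ => by omega⟩

lemma wfun_inf (i : Idx B d) {P : Place k (RatFunc k)} (h : P.ord (RatFunc.X : RatFunc k) < 0) :
    2 ≤ P.ord (wfun i) := by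
  have hlin : ∀ a : k, P.ord ((RatFunc.X : RatFunc k) - RatFunc.C a) = -1 := fun a => by
    rw [← RatFunc.algebraMap_X, ← RatFunc.algebraMap_C, ← map_sub, Rat.ord_poly_inf h, natDegree_X_sub_C]; rfl
  rcases i with a | b
  · have := a.2.1
    simp only [wfun, Sum.elim_inl, ord_pow, ord_inv, hlin]
    push_cast; omega
  · simp only [wfun, Sum.elim_inr, ord_b b.2, hlin, Rat.ord_X_inf h]
    norm_num

lemma Idx.bound (hpos : ∀ α ∈ B, 1 ≤ d α) (i : Idx B d) : 2 * i.jj + 1 ≤ d i.pt := by
  rcases i with a | b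
  · exact a.2.2
  · simpa [Idx.jj, Idx.pt] using hpos _ b.1.2

variable [IsAlgClosed k] {f : RatFunc k}

/-- The number of indices is the genus. -/
lemma card_idx (hf : PoleData f B d) (h0 : (0 : k) ∈ B) :
    (Nat.card (Idx B d) : ℤ) = -1 + ∑ α ∈ B, ((d α : ℤ) + 1) / 2 := by
  classical
  haveI := Finite.of_equiv _ (Idx.equiv B d).symm
  rw [Nat.card_sum, Nat.card_congr (Idx.equiv B d), Nat.card_sigma]
  simp only [Nat.card_eq_fintype_card, Fintype.card_fin]
  rw [Fintype.card_subtype_compl, Fintype.card_coe,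
    show Fintype.card {x : ↥B // (x : k) = 0} = 1 from Fintype.card_eq_one_iff.2
      ⟨⟨⟨0, h0⟩, rfl⟩, fun x => Subtype.ext (Subtype.ext x.2)⟩,
    Finset.sum_coe_sort B (fun α => (d α - 1) / 2)]
  have hB : 1 ≤ B.card := Finset.card_pos.2 ⟨0, h0⟩
  have hsum : ∀ α ∈ B, ((d α : ℤ) + 1) / 2 = (((d α - 1) / 2 : ℕ) : ℤ) + 1 := fun α hα => by
    obtain ⟨i, hi⟩ := hf.odd α hα; omega
  rw [Finset.sum_congr rfl hsum, Finset.sum_add_distrib, Finset.sum_const, nsmul_eq_mul, mul_one]
  rw [Nat.cast_add, Nat.cast_sub hB]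
  push_cast
  ring

variable {K : Type v} [Field K] [Algebra k K] [Algebra (RatFunc k) K] [IsScalarTower k (RatFunc k) K] {y : K}
  {F : Place k K → Type w} [∀ P, Field (F P)] [∀ P, Algebra k (F P)] [∀ P, FiniteDimensional k (F P)]
  {φ : ∀ P, K →ₐ[k] (F P)⸨X⸩}

/-- The differentials of the indices are regular. -/
lemma regular_wfun (hφ : ∀ P, LocRes.IsExpansionAt P.1 (φ P)) (hdeg : Module.finrank (RatFunc k) K = 2)
    (h2 : ringChar k = 2) (hy : y ∉ Set.range (algebraMap (RatFunc k) K))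
    (heq : y ^ 2 + y = algebraMap (RatFunc k) K f) (hf : PoleData f B d) (h0 : (0 : k) ∈ B) (i : Idx B d)
    (Q : Place k K) :
    LocRes.vDiff (φ Q) (algebraMap (RatFunc k) K (wfun i)) (algebraMap (RatFunc k) K RatFunc.X) ≤ 1 := by
  obtain ⟨P, e, he⟩ := Quad.exists_below Rat.isFunctionField hdeg Q
  rw [LocRes.vDiff, map_mul, (hφ Q).1, vD_X hdeg h2 hy heq he (hφ Q) (hf.neg_odd P),
    v_eq_exp Q ((_root_.map_ne_zero _).2 (wfun_ne_zero i)), ord_of_isOverWith he, ← WithZero.exp_add,
    ← WithZero.exp_zero, WithZero.exp_le_exp]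
  suffices h : 0 ≤ P.ord (wfun i) + weight f P by
    have := mul_nonneg (Int.natCast_nonneg e) h
    rw [mul_add] at this
    omega
  by_cases hP : P.ord (RatFunc.X : RatFunc k) < 0
  · rw [hf.weight_inf hP]; have := wfun_inf i hP; omega
  obtain ⟨β, hβ⟩ := exists_point (not_lt.1 hP)
  by_cases hB : β ∈ B
  · have hw := hf.weight_mem hβ hB
    by_cases hi : β = i.pt
    · subst hi
      rw [wfun_self i hβ]
      have := i.bound fun α hα => hf.pos hα
      omega
    · have := (wfun_other i hβ hi).1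
      have := hf.pos hB
      omega
  · rw [hf.weight_other hβ hB]
    have hne : β ≠ i.pt := fun h => hB (h ▸ i.mem)
    have := (wfun_other i hβ hne).2 fun h => hB (h ▸ h0)
    omega

variable (φ) in
/-- The local pairing at an index. -/
noncomputable def pairing (Pl : k → Place k K) (y : K) (i : Idx B d) : K →ₗ[k] k where
  toFun u := LocRes.locRes (φ (Pl i.pt))
    (y * (algebraMap (RatFunc k) K RatFunc.X - algebraMap k K i.pt) ^ i.jj * u) (algebraMap (RatFunc k) K RatFunc.X)
  map_add' a b := by rw [mul_add, locRes_add]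
  map_smul' c a := by rw [mul_smul_comm, locRes_smul, RingHom.id_apply, smul_eq_mul]

lemma pairing_triangular (hφ : ∀ P, LocRes.IsExpansionAt P.1 (φ P)) (hdeg : Module.finrank (RatFunc k) K = 2)
    (h2 : ringChar k = 2) (hy : y ∉ Set.range (algebraMap (RatFunc k) K))
    (heq : y ^ 2 + y = algebraMap (RatFunc k) K f) (hf : PoleData f B d) {Pl : k → Place k K}
    (hPl : ∀ β ∈ B, (Pl β).1 (algebraMap (RatFunc k) K RatFunc.X - algebraMap k K β) < 1) (i i' : Idx B d) :
    (i = i' → pairing φ Pl y i (algebraMap (RatFunc k) K (wfun i')) ≠ 0) ∧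
    (i ≠ i' → i'.jj ≤ i.jj → pairing φ Pl y i (algebraMap (RatFunc k) K (wfun i')) = 0) := by
  set Q := Pl i.pt with hQdef
  set x := algebraMap (RatFunc k) K RatFunc.X with hxdef
  set u := y * (x - algebraMap k K i.pt) ^ i.jj * algebraMap (RatFunc k) K (wfun i')
  obtain ⟨P, hP, he, hoy⟩ := at_point hdeg heq hf i.mem (hPl _ i.mem)
  have hy0 : y ≠ 0 := fun h => hy ⟨0, by rw [map_zero, h]⟩
  have hxa : x - algebraMap k K i.pt ≠ 0 := by
    rw [hxdef, ← map_X_sub]; exact (_root_.map_ne_zero _).2 (X_sub_C_ne_zero _)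
  have hw : algebraMap (RatFunc k) K (wfun i') ≠ 0 := (_root_.map_ne_zero _).2 (wfun_ne_zero i')
  have hu : u ≠ 0 := mul_ne_zero (mul_ne_zero hy0 (pow_ne_zero _ hxa)) hw
  have hou : Q.ord u = -(d i.pt : ℤ) + 2 * i.jj + 2 * P.ord (wfun i') := by
    rw [ord_mul Q (mul_ne_zero hy0 (pow_ne_zero _ hxa)) hw, ord_mul Q hy0 (pow_ne_zero _ hxa), ord_pow, hoy,
      ord_of_isOverWith he, hxdef, ← map_X_sub, ord_of_isOverWith he, ord_point_self hP]
    push_cast; ring
  have hv : LocRes.vDiff (φ Q) u x = WithZero.exp (-(2 * ((i.jj : ℤ) + P.ord (wfun i')) + 1)) := by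
    rw [LocRes.vDiff, map_mul, (hφ Q).1, hxdef, vD_X hdeg h2 hy heq he (hφ Q) (hf.neg_odd P), v_eq_exp Q hu, hou,
      ← WithZero.exp_add, WithZero.exp_inj]
    have := hf.weight_mem hP i.mem
    push_cast
    omega
  refine ⟨?_, fun hne hle => ?_⟩
  · rintro rfl
    rw [wfun_self i hP] at hv
    have hv' : Valued.v (φ Q u * LocRes.D (F Q) (φ Q x)) = WithZero.exp 1 := by
      rw [← LocRes.vDiff, hv]; congr 1; ring
    have hc : (φ Q u * LocRes.D (F Q) (φ Q x)).coeff (-1) ≠ 0 := fun h => by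
      have h1 : Valued.v (φ Q u * LocRes.D (F Q) (φ Q x)) ≤ 1 := by
        refine v_le_one_iff_coeff.2 fun m hm => ?_
        rcases lt_or_eq_of_le (show m ≤ -1 by omega) with h' | rfl
        · exact v_le_iff.1 (show Valued.v (φ Q u * LocRes.D (F Q) (φ Q x)) ≤ WithZero.exp (-(-1 : ℤ)) by
            rw [hv', neg_neg]) m h'
        · exact h
      rw [hv', ← WithZero.exp_zero, WithZero.exp_le_exp] at h1
      omega
    show Algebra.trace k (F Q) (LocRes.resExp (φ Q) u x) ≠ 0
    obtain ⟨c, hcv⟩ := (IsAlgClosed.algebraMap_bijective_of_isIntegral (k := k) (K := F Q)).2 (LocRes.resExp (φ Q) u x)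
    have hfr : Module.finrank k (F Q) = 1 := by
      rw [← (AlgEquiv.ofBijective (Algebra.ofId k (F Q))
        (IsAlgClosed.algebraMap_bijective_of_isIntegral (k := k) (K := F Q))).toLinearEquiv.finrank_eq,
        Module.finrank_self]
    rw [← hcv, Algebra.trace_algebraMap, hfr, one_smul]
    intro h
    rw [h, map_zero] at hcv
    exact hc hcv.symm
  · refine locRes_eq_zero_of_vDiff_le hφ Q ?_
    show LocRes.vDiff (φ Q) u x ≤ 1
    rw [hv, ← WithZero.exp_zero, WithZero.exp_le_exp]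
    by_cases hp : i.pt = i'.pt
    · have hj : i'.jj < i.jj := lt_of_le_of_ne hle fun h => hne (Idx.ext' hp h.symm)
      rw [hp] at hP
      rw [wfun_self i' hP]
      omega
    · obtain ⟨h1, h1'⟩ := wfun_other i' hP hp
      rcases Nat.eq_zero_or_pos i.jj with h | h
      · have := h1' (Idx.ne_zero h); omega
      · omega

/-- A triangular square matrix has no kernel on either side. -/
lemma triangular_kernel {I : Type*} [Fintype I] (j : I → ℕ) (M : I → I → k) (hd : ∀ i, M i i ≠ 0)
    (hz : ∀ i i', i ≠ i' → j i' ≤ j i → M i i' = 0) (c : I → k) :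
    ((∀ i', ∑ i, c i * M i i' = 0) → c = 0) ∧ ((∀ i, ∑ i', M i i' * c i' = 0) → c = 0) := by
  refine ⟨fun h => ?_, fun h => ?_⟩
  · have key : ∀ n : ℕ, ∀ i, j i = n → c i = 0 := fun n => by
      induction n using Nat.strong_induction_on with
      | _ n ih =>
        intro i hi
        have h' := h i
        rw [Finset.sum_eq_single i (fun b _ hb => ?_) (fun hni => absurd (Finset.mem_univ i) hni)] at h'
        · exact (mul_eq_zero.1 h').resolve_right (hd i)
        · rcases lt_or_ge (j b) (j i) with hlt | hge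
          · rw [ih (j b) (hi ▸ hlt) b rfl, zero_mul]
          · rw [hz b i hb hge, mul_zero]
    exact funext fun i => key _ i rfl
  · obtain ⟨N, hN⟩ : ∃ N, ∀ i, j i ≤ N := ⟨∑ i, j i, fun i => Finset.single_le_sum (fun _ _ => Nat.zero_le _) (Finset.mem_univ i)⟩
    have key : ∀ n : ℕ, ∀ i, N - j i = n → c i = 0 := fun n => by
      induction n using Nat.strong_induction_on with
      | _ n ih =>
        intro i hi
        have h' := h i
        rw [Finset.sum_eq_single i (fun b _ hb => ?_) (fun hni => absurd (Finset.mem_univ i) hni)] at h'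
        · exact (mul_eq_zero.1 h').resolve_left (hd i)
        · rcases lt_or_ge (j i) (j b) with hlt | hge
          · rw [ih (N - j b) (by have := hN b; omega) b rfl, mul_zero]
          · rw [hz i b (Ne.symm hb) hge, zero_mul]
    exact funext fun i => key _ i rfl

end Groth.Agent.FF.AS
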