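import Mathlib
import Groth.Agent.FF.ASBasis

/-! The two bases. -/

set_option autoImplicit false
set_option linter.style.haveILetI false

namespace Groth.Agent.FF.AS

attribute [local instance high] FunFld.Place.algRes
attribute [-instance] IsLocalRing.instModuleResidueFieldOfAlgebra

open FunFld Polynomial LaurentSeries
open scoped WithZero IntermediateField

universe u v w

variable {k : Type u} [Field k] [IsAlgClosed k] {B : Finset k} {d : k → ℕ} {f : RatFunc k}
  {K : Type v} [Field K] [Algebra k K] [Algebra (RatFunc k) K] [IsScalarTower k (RatFunc k) K] {y : K}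

lemma exists_Pl (hdeg : Module.finrank (RatFunc k) K = 2) :
    ∃ Pl : k → Place k K, ∀ β : k, (Pl β).1 (algebraMap (RatFunc k) K RatFunc.X - algebraMap k K β) < 1 := by
  have h : ∀ β : k, ∃ Q : Place k K, Q.1 (algebraMap (RatFunc k) K RatFunc.X - algebraMap k K β) < 1 := fun β => by
    obtain ⟨P, hP⟩ := exists_point_over β
    obtain ⟨Q, e, he⟩ := Quad.exists_above Rat.isFunctionField hdeg P
    exact ⟨Q, (below_lt_one he β).2 hP⟩
  choose Pl hPl using h
  exact ⟨Pl, hPl⟩

lemma exists_expansions (hK : IsFunctionField k K) :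
    ∃ (φ : ∀ Q : Place k K, K →ₐ[k] (IsLocalRing.ResidueField Q.O)⸨X⸩),
      ∀ Q, LocRes.IsExpansionAt Q.1 (φ Q) := by
  haveI hfin : ∀ Q : Place k K, Module.Finite k (IsLocalRing.ResidueField Q.O) := fun Q => finite_residue hK Q
  have hex : ∀ Q : Place k K, ∃ φ : K →ₐ[k] (IsLocalRing.ResidueField Q.O)⸨X⸩, LocRes.IsExpansionAt Q.1 φ := fun Q => by
    haveI : Algebra.IsAlgebraic k (IsLocalRing.ResidueField Q.O) := Algebra.IsAlgebraic.of_finite _ _
    haveI : Algebra.IsSeparable k (IsLocalRing.ResidueField Q.O) := Algebra.IsAlgebraic.isSeparable_of_perfectField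
    obtain ⟨t, ht⟩ := exists_unif Q
    obtain ⟨φ, hφ, -⟩ := exists_expansion Q ht
    exact ⟨φ, hφ⟩
  choose φ hφ using hex
  exact ⟨φ, hφ⟩

/-- The basis of regular differentials. -/
theorem differentials_basis (hK : IsFunctionField k K) (hdeg : Module.finrank (RatFunc k) K = 2) (h2 : ringChar k = 2)
    (hy : y ∉ Set.range (algebraMap (RatFunc k) K)) (heq : y ^ 2 + y = algebraMap (RatFunc k) K f)
    (hf : PoleData f B d) (h0 : (0 : k) ∈ B)
    {F : Place k K → Type w} [∀ P, Field (F P)] [∀ P, Algebra k (F P)] [∀ P, FiniteDimensional k (F P)]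
    {φ : ∀ P, K →ₐ[k] (F P)⸨X⸩} (hφ : ∀ P, LocRes.IsExpansionAt P.1 (φ P)) :
    LinearIndependent k (fun i : Idx B d => algebraMap (RatFunc k) K (wfun i)) ∧
    ∀ z : K, (∀ P, LocRes.vDiff (φ P) z (algebraMap (RatFunc k) K RatFunc.X) ≤ 1) →
      z ∈ Submodule.span k (Set.range fun i : Idx B d => algebraMap (RatFunc k) K (wfun i)) := by
  classical
  haveI := isSeparable hdeg h2 hy heq
  haveI := Fintype.ofFinite (Idx B d)
  have hg := Rat.isGeometric_ext (K := K) hK
  have hv := Rat.D_X_ne_zero_ext (k := k) (K := K)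
  obtain ⟨Pl, hPl⟩ := exists_Pl (K := K) hdeg
  have htri := fun i i' => pairing_triangular hφ hdeg h2 hy heq hf (Pl := Pl) (fun β _ => hPl β) (i : Idx B d) i'
  have hli : LinearIndependent k (fun i : Idx B d => algebraMap (RatFunc k) K (wfun i)) := by
    refine Fintype.linearIndependent_iff.2 fun c hc i => congrFun
      ((triangular_kernel Idx.jj (fun i i' => pairing φ Pl y i (algebraMap (RatFunc k) K (wfun i')))
        (fun i => (htri i i).1 rfl) (fun i i' h h' => (htri i i').2 h h') c).2 fun j => ?_) i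
    have := congrArg (pairing φ Pl y j) hc
    rw [map_sum, map_zero] at this
    simpa [mul_comm] using this
  refine ⟨hli, fun z hz => ?_⟩
  set W := diffDiv hφ hK hg (one_ne_zero' K) hv
  have hset := setOf_vDiff_le hφ hK hg hv 0
  have hmem : ∀ u : K, u ∈ L W ↔ ∀ P, LocRes.vDiff (φ P) u (algebraMap (RatFunc k) K RatFunc.X) ≤ 1 := fun u => by
    rw [← SetLike.mem_coe, show (L W : Set K) = (L (W - 0) : Submodule k K) by rw [sub_zero], ← hset]
    simp
  have hle : Submodule.span k (Set.range fun i : Idx B d => algebraMap (RatFunc k) K (wfun i)) ≤ L W :=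
    Submodule.span_le.2 (Set.range_subset_iff.2 fun i => (hmem _).2 (regular_wfun hφ hdeg h2 hy heq hf h0 i))
  haveI := finite_L hK W
  rw [Submodule.eq_of_le_of_finrank_le hle ?_]
  · exact (hmem z).2 hz
  · rw [finrank_span_eq_card hli]
    have h1 := (canonical_deg hK (diffDiv_isCanonical hφ hK hg (one_ne_zero' K) hv)).1
    change ell W ≤ _
    rw [h1]
    have h3 := genus_points hK hdeg h2 hy heq hf
    have h4 := card_idx hf h0
    rw [Nat.card_eq_fintype_card] at h4
    omega

open scoped Classical in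
/-- The repartition of an index. -/
noncomputable def efun (Pl : k → Place k K) (y : K) (i : Idx B d) : Place k K → K :=
  Pi.single (Pl i.pt) (y * (algebraMap (RatFunc k) K RatFunc.X - algebraMap k K i.pt) ^ i.jj)

omit [IsAlgClosed k] [IsScalarTower k (RatFunc k) K] in
lemma efun_mem (Pl : k → Place k K) (i : Idx B d) : efun Pl y i ∈ adele k K := by
  classical
  refine mem_adele.2 ((Set.finite_singleton (Pl i.pt)).subset fun P hP => ?_)
  by_contra h
  exact hP (by rw [efun, Pi.single_eq_of_ne (by simpa using h), map_zero]; exact zero_le)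

/-- The basis of `H¹(O)`. -/
theorem cohomology_basis (hK : IsFunctionField k K) (hdeg : Module.finrank (RatFunc k) K = 2) (h2 : ringChar k = 2)
    (hy : y ∉ Set.range (algebraMap (RatFunc k) K)) (heq : y ^ 2 + y = algebraMap (RatFunc k) K f)
    (hf : PoleData f B d) (h0 : (0 : k) ∈ B) {Pl : k → Place k K}
    (hPl : ∀ β ∈ B, (Pl β).1 (algebraMap (RatFunc k) K RatFunc.X - algebraMap k K β) < 1) :
    LinearIndependent k (fun i : Idx B d =>
      Submodule.mkQ (AD (0 : Divisor k K) ⊔ LinearMap.range (diag k K)) (efun Pl y i)) ∧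
    ∀ a : Place k K → K, a ∈ adele k K → a ∈ (AD (0 : Divisor k K) ⊔ LinearMap.range (diag k K)) ⊔
      Submodule.span k (Set.range fun i : Idx B d => efun Pl y i) := by
  classical
  haveI := isSeparable hdeg h2 hy heq
  haveI := Fintype.ofFinite (Idx B d)
  have hg := Rat.isGeometric_ext (K := K) hK
  have hv := Rat.D_X_ne_zero_ext (k := k) (K := K)
  obtain ⟨φ, hφ⟩ := exists_expansions (k := k) (K := K) hK
  haveI hfin : ∀ Q : Place k K, Module.Finite k (IsLocalRing.ResidueField Q.O) := fun Q => finite_residue hK Q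
  set x := algebraMap (RatFunc k) K RatFunc.X
  have htri := fun i i' => pairing_triangular hφ hdeg h2 hy heq hf hPl (i : Idx B d) i'
  have hres : ∀ i i' : Idx B d, resPair hφ hK (algebraMap (RatFunc k) K (wfun i')) x ⟨efun Pl y i, efun_mem Pl i⟩ =
      pairing φ Pl y i (algebraMap (RatFunc k) K (wfun i')) := fun i i' => by
    rw [resPair_apply, finsum_eq_single _ (Pl i.pt) fun Q hQ => ?_]
    · simp only [efun, Pi.single_eq_same]; rfl
    · simp [efun, Pi.single_eq_of_ne hQ, LocRes.locRes, LocRes.resExp]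
  have hkey : ∀ c : Idx B d → k, (∑ i, c i • efun Pl y i) ∈ AD (0 : Divisor k K) ⊔ LinearMap.range (diag k K) →
      c = 0 := fun c hc => by
    refine (triangular_kernel Idx.jj (fun i i' => pairing φ Pl y i (algebraMap (RatFunc k) K (wfun i')))
      (fun i => (htri i i).1 rfl) (fun i i' h h' => (htri i i').2 h h') c).1 fun j => ?_
    have hu : algebraMap (RatFunc k) K (wfun j) ≠ 0 := (_root_.map_ne_zero _).2 (wfun_ne_zero j)
    have hW := resPair_mem_WD hφ hK hg hu hv (D := 0) fun P => by
      have := regular_wfun hφ hdeg h2 hy heq hf h0 j P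
      rw [vDiff_eq_exp hφ hK hg hu hv, ← WithZero.exp_zero, WithZero.exp_le_exp] at this
      simp only [Finsupp.coe_zero, Pi.zero_apply]
      omega
    have hz := mem_WD.1 hW (∑ i, c i • ⟨efun Pl y i, efun_mem Pl i⟩) (by simpa using hc)
    rw [map_sum] at hz
    rw [← hz]
    refine Finset.sum_congr rfl fun i _ => ?_
    rw [map_smul, smul_eq_mul, hres]
  refine ⟨Fintype.linearIndependent_iff.2 fun c hc i => congrFun (hkey c ?_) i, fun a ha => ?_⟩
  · have h' : Submodule.mkQ (AD (0 : Divisor k K) ⊔ LinearMap.range (diag k K)) (∑ i, c i • efun Pl y i) = 0 := by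
      rw [map_sum]; simpa using hc
    exact (Submodule.Quotient.mk_eq_zero _).1 h'
  · obtain ⟨hfq, hdim⟩ := finrank_quot_ADK hK (0 : Divisor k K)
    haveI := hfq
    rw [defect_zero hK, sub_zero] at hdim
    let ebar : Idx B d → ↥(adele k K) ⧸ ADK (0 : Divisor k K) := fun i =>
      Submodule.mkQ _ (⟨efun Pl y i, efun_mem Pl i⟩ : adele k K)
    have hli : LinearIndependent k ebar := Fintype.linearIndependent_iff.2 fun c hc i => congrFun (hkey c (by
      have h' : Submodule.mkQ (ADK (0 : Divisor k K))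
          (∑ i, c i • (⟨efun Pl y i, efun_mem Pl i⟩ : adele k K)) = 0 := by
        rw [map_sum]; simp only [LinearMap.map_smul]; exact hc
      simpa [ADK] using (Submodule.Quotient.mk_eq_zero _).1 h')) i
    have hspan : Submodule.span k (Set.range ebar) = ⊤ := by
      refine Submodule.eq_top_of_finrank_eq ?_
      rw [finrank_span_eq_card hli]
      have h3 := genus_points hK hdeg h2 hy heq hf
      have h4 := card_idx hf h0
      rw [Nat.card_eq_fintype_card] at h4
      omega
    have hmem : Submodule.mkQ (ADK (0 : Divisor k K)) (⟨a, ha⟩ : adele k K) ∈ Submodule.span k (Set.range ebar) := by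
      rw [hspan]; exact Submodule.mem_top
    obtain ⟨c, hc⟩ := (Submodule.mem_span_range_iff_exists_fun k).1 hmem
    replace hc : Submodule.mkQ (ADK (0 : Divisor k K))
        (∑ i, c i • (⟨efun Pl y i, efun_mem Pl i⟩ : adele k K)) = Submodule.mkQ _ ⟨a, ha⟩ := by
      rw [map_sum]; simp only [LinearMap.map_smul]; exact hc
    rw [Submodule.mkQ_apply, Submodule.mkQ_apply, Submodule.Quotient.eq] at hc
    have hc' : (∑ i, c i • efun Pl y i) - a ∈ AD (0 : Divisor k K) ⊔ LinearMap.range (diag k K) := by
      simpa [ADK] using hc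
    rw [show a = -((∑ i, c i • efun Pl y i) - a) + ∑ i, c i • efun Pl y i by abel]
    exact Submodule.add_mem_sup (Submodule.neg_mem _ hc')
      ((Submodule.mem_span_range_iff_exists_fun k).2 ⟨c, rfl⟩)

end Groth.Agent.FF.AS
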