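import Groth.Agent.FF.Series

/-! Local rings of projective maps and the nonsingularity criterion. -/

namespace Groth.Agent.FF

open FunFld
open scoped WithZero

variable {k K : Type*} [Field k] [Field K] [Algebra k K] {ι : Type*}

/-- `j` is an entry of least order at `P`. -/
def IsMax (φ : ι → K) (P : Place k K) (j : ι) : Prop := φ j ≠ 0 ∧ ∀ i, P.1 (φ i) ≤ P.1 (φ j)

variable (k) in
/-- The coordinate ring of the chart `j`. -/
noncomputable def chart (φ : ι → K) (j : ι) : Subalgebra k K := Algebra.adjoin k (Set.range fun i => φ i / φ j)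

lemma ratio_mem_chart (φ : ι → K) (j i : ι) : φ i / φ j ∈ chart k φ j := Algebra.subset_adjoin ⟨i, rfl⟩

lemma IsMax.ratio_le {φ : ι → K} {P : Place k K} {j : ι} (h : IsMax φ P j) (i : ι) : P.1 (φ i / φ j) ≤ 1 := by
  rw [map_div₀, div_le_one₀ (zero_lt_iff.2 ((Valuation.ne_zero_iff _).2 h.1))]
  exact h.2 i

lemma IsMax.of_ratio {φ : ι → K} {P : Place k K} {j : ι} (hj : φ j ≠ 0) (h : ∀ i, P.1 (φ i / φ j) ≤ 1) :
    IsMax φ P j := ⟨hj, fun i => by
  have := h i
  rwa [map_div₀, div_le_one₀ (zero_lt_iff.2 ((Valuation.ne_zero_iff _).2 hj))] at this⟩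

lemma exists_isMax [Finite ι] (P : Place k K) (φ : ι → K) (h : ∃ i, φ i ≠ 0) : ∃ j, IsMax φ P j := by
  obtain ⟨i, hi⟩ := h
  haveI : Nonempty ι := ⟨i⟩
  obtain ⟨j, hj⟩ := exists_max P φ
  refine ⟨j, fun h0 => hi ?_, hj⟩
  have := hj i
  rw [h0, map_zero, le_zero_iff, Valuation.zero_iff] at this
  exact this

lemma chart_le_one {φ : ι → K} {P : Place k K} {j : ι} (h : IsMax φ P j) {r : K} (hr : r ∈ chart k φ j) :
    P.1 r ≤ 1 := by
  induction hr using Algebra.adjoin_induction with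
  | mem z hz => obtain ⟨i, rfl⟩ := hz; exact h.ratio_le i
  | algebraMap c => exact P.2.1 c
  | add a b _ _ ha hb => exact (P.1.map_add _ _).trans (max_le ha hb)
  | mul a b _ _ ha hb => rw [map_mul]; exact mul_le_one' ha hb

lemma inLocRing_ratio {φ : ι → K} {P : Place k K} {j : ι} (h : IsMax φ P j) {r : K} (hr : r ∈ chart k φ j) :
    InLocRing φ P r := ⟨j, h.1, h.2, r, hr, 1, Subalgebra.one_mem _, map_one _, mul_one r⟩

/-- `P` and `Q` have the same coordinates in the chart `j`. -/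
def Agree (φ : ι → K) (j : ι) (P Q : Place k K) : Prop :=
  ∀ (i : ι) (c : k), P.1 (φ i / φ j - algebraMap k K c) < 1 → Q.1 (φ i / φ j - algebraMap k K c) < 1

section AlgClosed

variable [IsAlgClosed k] (hK : IsFunctionField k K) {φ : ι → K} {P Q : Place k K} {j : ι}

include hK

lemma Agree.sub_const (hP : IsMax φ P j) (hQ : IsMax φ Q j) (h : Agree φ j P Q) {r : K} (hr : r ∈ chart k φ j) :
    ∃ c : k, P.1 (r - algebraMap k K c) < 1 ∧ Q.1 (r - algebraMap k K c) < 1 := by
  induction hr using Algebra.adjoin_induction with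
  | mem z hz =>
    obtain ⟨i, rfl⟩ := hz
    obtain ⟨c, hc⟩ := exists_const hK P (hP.ratio_le i)
    exact ⟨c, hc, h i c hc⟩
  | algebraMap c => exact ⟨c, by simp, by simp⟩
  | add a b _ _ ha hb =>
    obtain ⟨c, h1, h2⟩ := ha; obtain ⟨d, h3, h4⟩ := hb
    refine ⟨c + d, ?_, ?_⟩ <;> rw [map_add, show a + b - (algebraMap k K c + algebraMap k K d) =
      (a - algebraMap k K c) + (b - algebraMap k K d) by ring]
    exacts [(P.1.map_add _ _).trans_lt (max_lt h1 h3), (Q.1.map_add _ _).trans_lt (max_lt h2 h4)]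
  | mul a b ha' hb' ha hb =>
    obtain ⟨c, h1, h2⟩ := ha; obtain ⟨d, h3, h4⟩ := hb
    refine ⟨c * d, ?_, ?_⟩ <;> rw [map_mul, show a * b - algebraMap k K c * algebraMap k K d =
      a * (b - algebraMap k K d) + (a - algebraMap k K c) * algebraMap k K d by ring]
    · refine (P.1.map_add _ _).trans_lt (max_lt ?_ ?_) <;> rw [map_mul]
      · exact (mul_le_mul' (chart_le_one hP ha') le_rfl).trans_lt (by rwa [one_mul])
      · exact (mul_le_mul' le_rfl (P.2.1 d)).trans_lt (by rwa [mul_one])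
    · refine (Q.1.map_add _ _).trans_lt (max_lt ?_ ?_) <;> rw [map_mul]
      · exact (mul_le_mul' (chart_le_one hQ ha') le_rfl).trans_lt (by rwa [one_mul])
      · exact (mul_le_mul' le_rfl (Q.2.1 d)).trans_lt (by rwa [mul_one])

/-- Places with the same coordinates see the same integrality and vanishing on the local ring of the chart. -/
lemma Agree.loc (hP : IsMax φ P j) (hQ : IsMax φ Q j) (h : Agree φ j P Q) {z u w : K} (hu : u ∈ chart k φ j)
    (hw : w ∈ chart k φ j) (hw1 : P.1 w = 1) (e : z * w = u) : Q.1 z ≤ 1 ∧ (Q.1 z < 1 ↔ P.1 z < 1) := by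
  have key : ∀ r ∈ chart k φ j, (Q.1 r < 1 ↔ P.1 r < 1) := by
    intro r hr
    obtain ⟨c, hc1, hc2⟩ := h.sub_const hK hP hQ hr
    have : ∀ R : Place k K, R.1 (r - algebraMap k K c) < 1 → (R.1 r < 1 ↔ c = 0) := fun R hR => by
      refine ⟨fun hlt => ?_, fun h0 => by rwa [h0, map_zero, sub_zero] at hR⟩
      by_contra hne
      have h2 := (R.1.map_sub r (r - algebraMap k K c)).trans_lt (max_lt hlt hR)
      rw [sub_sub_cancel, v_algebraMap R hne] at h2
      exact lt_irrefl _ h2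
    rw [this P hc1, this Q hc2]
  have hQw : Q.1 w = 1 := le_antisymm (chart_le_one hQ hw) (not_lt.1 fun hlt => by
    rw [(key w hw)] at hlt; exact absurd hw1 hlt.ne)
  have e1 : Q.1 z = Q.1 u := by rw [← e, map_mul, hQw, mul_one]
  have e2 : P.1 z = P.1 u := by rw [← e, map_mul, hw1, mul_one]
  exact ⟨e1 ▸ chart_le_one hQ hu, by rw [e1, e2]; exact key u hu⟩

omit [IsAlgClosed k] hK in
lemma SameImage.chart' (h : SameImage φ P Q) (hP : IsMax φ P j) : IsMax φ Q j ∧ Agree φ j P Q := by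
  obtain ⟨l, hl0, hlP, hlQ, hc⟩ := h
  choose c hcP hcQ using hc
  have hveq : P.1 (φ j) = P.1 (φ l) := le_antisymm (hlP j) (hP.2 l)
  have hcj : c j ≠ 0 := fun h0 => by
    have := hcP j
    rw [h0, map_zero, sub_zero, map_div₀, hveq, div_self ((Valuation.ne_zero_iff _).2 hl0)] at this
    exact lt_irrefl _ this
  have hQj : Q.1 (φ j / φ l) = 1 := by
    rw [← sub_add_cancel (φ j / φ l) (algebraMap k K (c j)),
      Valuation.map_add_eq_of_lt_right _ (by rw [v_algebraMap Q hcj]; exact hcQ j), v_algebraMap Q hcj]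
  have hPj : P.1 (φ j / φ l) = 1 := by
    rw [map_div₀, hveq, div_self ((Valuation.ne_zero_iff _).2 hl0)]
  have hQveq : Q.1 (φ j) = Q.1 (φ l) := by
    rw [map_div₀, div_eq_one_iff_eq ((Valuation.ne_zero_iff _).2 hl0)] at hQj
    exact hQj
  refine ⟨⟨hP.1, fun i => hQveq.symm ▸ hlQ i⟩, fun i d hd => ?_⟩
  -- the constant of `φ i / φ j` is `c i / c j`
  have e : φ i / φ j - algebraMap k K (c i / c j) =
      ((φ i / φ l - algebraMap k K (c i)) - algebraMap k K (c i / c j) * (φ j / φ l - algebraMap k K (c j))) / (φ j / φ l) := by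
    rw [map_div₀]
    have : algebraMap k K (c j) ≠ 0 := by simpa using hcj
    have := hP.1
    field_simp
    ring
  have hcong : ∀ R : Place k K, R.1 (φ j / φ l) = 1 → R.1 (φ i / φ l - algebraMap k K (c i)) < 1 →
      R.1 (φ j / φ l - algebraMap k K (c j)) < 1 → R.1 (φ i / φ j - algebraMap k K (c i / c j)) < 1 := by
    intro R h1 h2 h3
    rw [e, map_div₀, h1, div_one]
    refine (R.1.map_sub _ _).trans_lt (max_lt h2 ?_)
    rw [map_mul]
    exact (mul_le_mul' (R.2.1 _) le_rfl).trans_lt (by rwa [one_mul])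
  have hP' := hcong P hPj (hcP i) (hcP j)
  have hd' : c i / c j = d := by
    by_contra hne
    have h2 := (P.1.map_sub _ _).trans_lt (max_lt hd hP')
    rw [sub_sub_sub_cancel_left, ← map_sub, v_algebraMap P (sub_ne_zero.2 hne)] at h2
    exact lt_irrefl _ h2
  exact hd' ▸ hcong Q hQj (hcQ i) (hcQ j)

lemma sameImage_of_agree (hP : IsMax φ P j) (hQ : IsMax φ Q j) (h : Agree φ j P Q) : SameImage φ P Q :=
  ⟨j, hP.1, hP.2, hQ.2, fun i => by
    obtain ⟨c, hc⟩ := exists_const hK P (hP.ratio_le i)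
    exact ⟨c, hc, h i c hc⟩⟩

lemma sameImage_refl [Finite ι] (P : Place k K) (h : ∃ i, φ i ≠ 0) : SameImage φ P P := by
  obtain ⟨j, hj⟩ := exists_isMax P φ h
  exact sameImage_of_agree hK hj hj fun _ _ hc => hc

/-- No element of exact order one means that the chart is constant modulo `exp (-2)`. -/
lemma chart_mod_sq (hP : IsMax φ P j)
    (h : ∀ f ∈ Submodule.span k (Set.range φ), P.1 (f / φ j) < 1 → P.1 (f / φ j) ≤ WithZero.exp (-2 : ℤ))
    {r : K} (hr : r ∈ chart k φ j) : ∃ c : k, P.1 (r - algebraMap k K c) ≤ WithZero.exp (-2 : ℤ) := by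
  induction hr using Algebra.adjoin_induction with
  | mem z hz =>
    obtain ⟨i, rfl⟩ := hz
    obtain ⟨c, hc⟩ := exists_const hK P (hP.ratio_le i)
    have e : φ i / φ j - algebraMap k K c = (φ i - c • φ j) / φ j := by
      rw [Algebra.smul_def, sub_div, mul_div_assoc, div_self hP.1, mul_one]
    refine ⟨c, ?_⟩
    rw [e] at hc ⊢
    exact h _ (Submodule.sub_mem _ (Submodule.subset_span ⟨i, rfl⟩) (Submodule.smul_mem _ c (Submodule.subset_span ⟨j, rfl⟩))) hc
  | algebraMap c => exact ⟨c, by simp⟩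
  | add a b _ _ ha hb =>
    obtain ⟨c, h1⟩ := ha; obtain ⟨d, h3⟩ := hb
    refine ⟨c + d, ?_⟩
    rw [map_add, show a + b - (algebraMap k K c + algebraMap k K d) =
      (a - algebraMap k K c) + (b - algebraMap k K d) by ring]
    exact (P.1.map_add _ _).trans (max_le h1 h3)
  | mul a b ha' hb' ha hb =>
    obtain ⟨c, h1⟩ := ha; obtain ⟨d, h3⟩ := hb
    refine ⟨c * d, ?_⟩
    rw [map_mul, show a * b - algebraMap k K c * algebraMap k K d =
      a * (b - algebraMap k K d) + (a - algebraMap k K c) * algebraMap k K d by ring]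
    refine (P.1.map_add _ _).trans (max_le ?_ ?_) <;> rw [map_mul]
    · exact (mul_le_mul' (chart_le_one hP ha') h3).trans_eq (one_mul _)
    · exact (mul_le_mul' h1 (P.2.1 d)).trans_eq (mul_one _)

/-- A uniformizer in the local ring forces an element of the span of exact order one. -/
lemma exists_exact_one (hP : IsMax φ P j) {u w t : K} (hu : u ∈ chart k φ j) (hw : w ∈ chart k φ j)
    (hw1 : P.1 w = 1) (e : t * w = u) (ht : P.1 t = WithZero.exp (-1 : ℤ)) :
    ∃ f ∈ Submodule.span k (Set.range φ), P.1 (f / φ j) = WithZero.exp (-1 : ℤ) := by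
  by_contra hcon
  push Not at hcon
  have hsq : ∀ f ∈ Submodule.span k (Set.range φ), P.1 (f / φ j) < 1 → P.1 (f / φ j) ≤ WithZero.exp (-2 : ℤ) := by
    intro f hf hlt
    by_cases h0 : f / φ j = 0
    · simp [h0]
    rw [v_le_exp_iff P h0]
    have h1 := (v_lt_one_iff P h0).1 hlt
    have h2 := hcon f hf
    rw [v_eq_exp P h0] at h2
    by_contra h3
    exact h2 (by congr 1; omega)
  obtain ⟨c, hc⟩ := chart_mod_sq hK hP hsq hu
  have hv : P.1 u = WithZero.exp (-1 : ℤ) := by rw [← e, map_mul, hw1, mul_one, ht]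
  by_cases h0 : c = 0
  · rw [h0, map_zero, sub_zero, hv, WithZero.exp_le_exp] at hc; omega
  · have : P.1 (algebraMap k K c) < 1 := by
      rw [← sub_sub_cancel u (algebraMap k K c)]
      refine (P.1.map_sub _ _).trans_lt (max_lt ?_ ?_)
      · rw [hv, ← WithZero.exp_zero, WithZero.exp_lt_exp]; norm_num
      · refine hc.trans_lt ?_
        rw [← WithZero.exp_zero, WithZero.exp_lt_exp]; norm_num
    rw [v_algebraMap P h0] at this; exact lt_irrefl _ this

end AlgClosed

/-- The separation condition at `P`. -/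
def Sep [Fintype ι] [Nonempty ι] (φ : ι → K) (P : Place k K) : Prop :=
  ∀ Q : Place k K, ∃ f ∈ Submodule.span k (Set.range φ), f ∈ L (mapDiv k φ - Finsupp.single P 1) ∧
    f ∉ L (mapDiv k φ - Finsupp.single P 1 - Finsupp.single Q 1)

section Regular

variable [IsAlgClosed k] [Fintype ι] [Nonempty ι] (hK : IsFunctionField k K) {φ : ι → K} {P Q : Place k K} {j : ι}

local notation "Wsp" => Submodule.span k (Set.range φ)
local notation "Emd" => mapDiv k φ

include hK

omit [IsAlgClosed k] in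
lemma mem_L_sub_single_iff (h0 : ∀ i, φ i ≠ 0) (hP : IsMax φ P j) {f : K} (hf : f ∈ Wsp) (m : ℤ) (hm : 0 ≤ m) :
    f ∈ L (Emd - Finsupp.single P m) ↔ P.1 (f / φ j) ≤ WithZero.exp (-m) := by
  have hE : f ∈ L Emd := span_le_L_mapDiv hK h0 hf
  have key : P.1 f ≤ WithZero.exp (Emd P - m) ↔ P.1 (f / φ j) ≤ WithZero.exp (-m) := by
    rw [map_div₀, div_le_iff₀ (zero_lt_iff.2 ((Valuation.ne_zero_iff _).2 hP.1)), ← exp_mapDiv hK h0 hP.2,
      ← WithZero.exp_add, neg_add_eq_sub]
  rw [← key]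
  refine ⟨fun h => by simpa using h P, fun h R => ?_⟩
  rcases eq_or_ne R P with rfl | hR
  · simpa using h
  · simpa [Finsupp.single_eq_of_ne hR] using hE R

omit [IsAlgClosed k] in
lemma mem_vanish_iff (h0 : ∀ i, φ i ≠ 0) (hP : IsMax φ P j) {f : K} (hf : f ∈ Wsp) :
    f ∈ L (Emd - Finsupp.single P 1) ↔ P.1 (f / φ j) < 1 := by
  rw [mem_L_sub_single_iff hK h0 hP hf 1 zero_le_one]
  by_cases hz : f / φ j = 0
  · simp [hz]
  · rw [v_le_exp_iff P hz, v_lt_one_iff P hz]; omega

omit [IsAlgClosed k] in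
/-- The span has no base point relative to the divisor of the map. -/
lemma not_le_vanish (h0 : ∀ i, φ i ≠ 0) (P : Place k K) : ¬ Wsp ≤ L (Emd - Finsupp.single P 1) := fun h => by
  obtain ⟨j, hj⟩ := exists_isMax P φ ⟨Classical.arbitrary ι, h0 _⟩
  have := (mem_vanish_iff hK h0 hj (Submodule.subset_span ⟨j, rfl⟩)).1 (h (Submodule.subset_span ⟨j, rfl⟩))
  rw [div_self hj.1, map_one] at this
  exact lt_irrefl _ this

omit hK in
lemma finrank_sep_iff (hK : IsFunctionField k K) (h0 : ∀ i, φ i ≠ 0) (P Q : Place k K) :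
    Module.finrank k ↥(Wsp ⊓ L (Emd - Finsupp.single P 1 - Finsupp.single Q 1)) + 2 = Module.finrank k ↥Wsp ↔
      ∃ f ∈ Wsp, f ∈ L (Emd - Finsupp.single P 1) ∧ f ∉ L (Emd - Finsupp.single P 1 - Finsupp.single Q 1) := by
  classical
  have hW := span_le_L_mapDiv hK h0
  haveI := finite_L hK (Emd)
  haveI : FiniteDimensional k Wsp := Submodule.finiteDimensional_of_le hW
  haveI : FiniteDimensional k ↥(Wsp ⊓ L (Emd - Finsupp.single P 1)) := Submodule.finiteDimensional_of_le inf_le_left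
  have hle : Wsp ⊓ L (Emd - Finsupp.single P 1 - Finsupp.single Q 1) ≤ Wsp ⊓ L (Emd - Finsupp.single P 1) :=
    inf_le_inf_left _ (L_mono (sub_le_self _ (Finsupp.single_nonneg.2 zero_le_one)))
  have h1 := finrank_inf_step hK hW P
  have h2 := finrank_inf_step hK (W := Wsp ⊓ L (Emd - Finsupp.single P 1)) (E := Emd - Finsupp.single P 1) inf_le_right Q
  have e : (Wsp ⊓ L (Emd - Finsupp.single P 1)) ⊓ L (Emd - Finsupp.single P 1 - Finsupp.single Q 1) =
      Wsp ⊓ L (Emd - Finsupp.single P 1 - Finsupp.single Q 1) := by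
    rw [inf_assoc, inf_eq_right.2 (L_mono (sub_le_self _ (Finsupp.single_nonneg.2 zero_le_one)))]
  rw [e] at h2
  have hlt := Submodule.finrank_lt_finrank_of_lt
    (lt_of_le_of_ne inf_le_left fun h => not_le_vanish hK h0 P (inf_eq_left.1 h) : Wsp ⊓ L (Emd - Finsupp.single P 1) < Wsp)
  constructor
  · intro h
    have hne : Wsp ⊓ L (Emd - Finsupp.single P 1 - Finsupp.single Q 1) ≠ Wsp ⊓ L (Emd - Finsupp.single P 1) := fun he => by
      rw [he] at h; omega
    obtain ⟨f, hf, hf'⟩ := SetLike.exists_of_lt (lt_of_le_of_ne hle hne)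
    exact ⟨f, hf.1, hf.2, fun hh => hf' ⟨hf.1, hh⟩⟩
  · rintro ⟨f, hfW, hf, hf'⟩
    have := Submodule.finrank_lt_finrank_of_lt (lt_of_le_of_ne hle fun he => hf'
      (Submodule.mem_inf.1 (he ▸ (Submodule.mem_inf.2 ⟨hfW, hf⟩ : f ∈ Wsp ⊓ L (Emd - Finsupp.single P 1)))).2)
    omega

omit [IsAlgClosed k] in
lemma mem_sub_sub_iff (h0 : ∀ i, φ i ≠ 0) (hPQ : P ≠ Q) {f : K} (hf : f ∈ Wsp) :
    f ∈ L (Emd - Finsupp.single P 1 - Finsupp.single Q 1) ↔
      f ∈ L (Emd - Finsupp.single P 1) ∧ f ∈ L (Emd - Finsupp.single Q 1) := by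
  refine ⟨fun h => ⟨L_mono (sub_le_self _ (Finsupp.single_nonneg.2 zero_le_one)) h,
    L_mono (sub_le_sub_right (sub_le_self _ (Finsupp.single_nonneg.2 zero_le_one)) _) h⟩, fun h R => ?_⟩
  rcases eq_or_ne R P with rfl | hR
  · simpa [Finsupp.single_eq_of_ne hPQ] using h.1 R
  · simpa [Finsupp.single_eq_of_ne hR] using h.2 R

/-- Failure of separation at `Q ≠ P` puts `Q` over the same point in every chart at `P`. -/
lemma agree_of_not_sep (h0 : ∀ i, φ i ≠ 0) (hPQ : P ≠ Q) (hP : IsMax φ P j)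
    (h : ∀ f ∈ Wsp, f ∈ L (Emd - Finsupp.single P 1) → f ∈ L (Emd - Finsupp.single P 1 - Finsupp.single Q 1)) :
    IsMax φ Q j ∧ Agree φ j P Q := by
  obtain ⟨l, hl⟩ := exists_isMax Q φ ⟨j, hP.1⟩
  have hQ : IsMax φ Q j := by
    refine ⟨hP.1, fun i => (hl.2 i).trans (not_lt.1 fun hlt => ?_)⟩
    -- otherwise everything vanishes at `Q`
    refine not_le_vanish hK h0 Q (fun f hf => ?_)
    have hj : (φ j) ∈ L (Emd - Finsupp.single Q 1) := by
      rw [mem_vanish_iff hK h0 hl (Submodule.subset_span ⟨j, rfl⟩), map_div₀,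
        div_lt_one₀ (zero_lt_iff.2 ((Valuation.ne_zero_iff _).2 hl.1))]
      exact hlt
    have hfP : P.1 (f / φ j) ≤ 1 := by
      have h1 : f ∈ L (Emd - Finsupp.single P 0) := by simpa using span_le_L_mapDiv hK h0 hf
      simpa using (mem_L_sub_single_iff hK h0 hP hf 0 le_rfl).1 h1
    obtain ⟨c, hc⟩ := exists_const hK P hfP
    have hmem : f - c • φ j ∈ Wsp := Submodule.sub_mem _ hf (Submodule.smul_mem _ c (Submodule.subset_span ⟨j, rfl⟩))
    have h1 : f - c • φ j ∈ L (Emd - Finsupp.single P 1) := by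
      rw [mem_vanish_iff hK h0 hP hmem, sub_div, Algebra.smul_def, mul_div_assoc, div_self hP.1, mul_one]
      exact hc
    have h2 := ((mem_sub_sub_iff hK h0 hPQ hmem).1 (h _ hmem h1)).2
    simpa using Submodule.add_mem _ h2 (Submodule.smul_mem _ c hj)
  refine ⟨hQ, fun i c hc => ?_⟩
  have hmem : φ i - c • φ j ∈ Wsp :=
    Submodule.sub_mem _ (Submodule.subset_span ⟨i, rfl⟩) (Submodule.smul_mem _ c (Submodule.subset_span ⟨j, rfl⟩))
  have e : φ i / φ j - algebraMap k K c = (φ i - c • φ j) / φ j := by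
    rw [Algebra.smul_def, sub_div, mul_div_assoc, div_self hP.1, mul_one]
  rw [e] at hc ⊢
  exact (mem_vanish_iff hK h0 hQ hmem).1
    ((mem_sub_sub_iff hK h0 hPQ hmem).1 (h _ hmem ((mem_vanish_iff hK h0 hP hmem).2 hc))).2

lemma exists_exact_iff (h0 : ∀ i, φ i ≠ 0) (hP : IsMax φ P j) :
    (∃ f ∈ Wsp, f ∈ L (Emd - Finsupp.single P 1) ∧ f ∉ L (Emd - Finsupp.single P 1 - Finsupp.single P 1)) ↔
      ∃ f ∈ Wsp, P.1 (f / φ j) = WithZero.exp (-1 : ℤ) := by
  have e : ∀ f, f ∈ L (Emd - Finsupp.single P 1 - Finsupp.single P 1) ↔ f ∈ L (Emd - Finsupp.single P 2) := fun f => by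
    rw [sub_sub, ← Finsupp.single_add]; norm_num
  constructor
  · rintro ⟨f, hf, h1, h2⟩
    refine ⟨f, hf, ?_⟩
    rw [mem_vanish_iff hK h0 hP hf] at h1
    rw [e, mem_L_sub_single_iff hK h0 hP hf 2 (by norm_num)] at h2
    have hz : f / φ j ≠ 0 := fun h => h2 (by simp [h])
    rw [v_lt_one_iff P hz] at h1
    rw [v_le_exp_iff P hz] at h2
    rw [v_eq_exp P hz]; congr 1; omega
  · rintro ⟨f, hf, h⟩
    refine ⟨f, hf, ?_, ?_⟩
    · rw [mem_L_sub_single_iff hK h0 hP hf 1 zero_le_one, h]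
    · rw [e, mem_L_sub_single_iff hK h0 hP hf 2 (by norm_num), h, WithZero.exp_le_exp]; norm_num

/-- Failure of separation, seen from the local ring. -/
lemma sep_of_locRing (h0 : ∀ i, φ i ≠ 0) (P : Place k K)
    (hfib : ∀ Q : Place k K, (∀ z : K, InLocRing φ P z → Q.1 z ≤ 1) → Q = P)
    (hunif : ∃ t : K, InLocRing φ P t ∧ P.1 t = WithZero.exp (-1 : ℤ)) : Sep φ P := by
  intro Q
  rcases eq_or_ne P Q with rfl | hPQ
  · obtain ⟨t, ⟨j, hj0, hj, u, hu, w, hw, hw1, e⟩, ht⟩ := hunif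
    exact (exists_exact_iff hK h0 (j := j) ⟨hj0, hj⟩).2 (exists_exact_one hK ⟨hj0, hj⟩ hu hw hw1 e ht)
  · by_contra hcon
    push Not at hcon
    refine hPQ (hfib Q fun z ⟨j, hj0, hj, u, hu, w, hw, hw1, e⟩ => ?_).symm
    obtain ⟨hQ, hag⟩ := agree_of_not_sep hK h0 hPQ (j := j) ⟨hj0, hj⟩ hcon
    exact (hag.loc hK ⟨hj0, hj⟩ hQ hu hw hw1 e).1

omit [IsAlgClosed k] in
/-- The functions regular on a chart form a finite module over its coordinate ring. -/
lemma finite_regular (h0 : ∀ i, φ i ≠ 0) (j : ι) (hne : ∃ i, φ i / φ j ∉ Set.range (algebraMap k K)) [Infinite k] :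
    (∃ P : Place k K, ¬ IsMax φ P j) ∧ ∃ G : Set K, G.Finite ∧
      (∀ g ∈ G, g ∈ valAlg (k := k) {P | IsMax φ P j}) ∧
      ∀ a ∈ valAlg (k := k) {P | IsMax φ P j}, a ∈ Submodule.span (chart k φ j) G := by
  classical
  obtain ⟨i, hi⟩ := hne
  have htr := transcendental_of_not_mem hK hi
  obtain ⟨Pinf, hPinf⟩ := exists_zero hK (x := (φ i / φ j)⁻¹) fun h => htr (by simpa using h.inv)
  have hPinf' : ¬ IsMax φ Pinf j := fun h => by
    have := h.ratio_le i
    rw [map_inv₀] at hPinf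
    exact absurd hPinf (not_lt.2 ((one_le_inv₀ (zero_lt_iff.2 ((Valuation.ne_zero_iff _).2
      (div_ne_zero (h0 i) (h0 j))))).2 this))
  refine ⟨⟨Pinf, hPinf'⟩, ?_⟩
  let V : Submodule k K := Submodule.span k (Set.range fun i => φ i / φ j)
  -- the places off the chart
  have hfin : {P : Place k K | ¬ IsMax φ P j}.Finite := by
    refine (Set.finite_iUnion fun i => finite_support hK (φ i / φ j)).subset fun P hP => ?_
    by_contra hn
    simp only [Set.mem_iUnion, not_exists, Function.mem_support, not_not] at hn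
    exact hP (IsMax.of_ratio (h0 j) fun i => (v_le_one_iff P (div_ne_zero (h0 i) (h0 j))).2 (hn i).ge)
  haveI := hfin.fintype
  -- an element with a pole at each of them
  let pole : {P : Place k K | ¬ IsMax φ P j} → Submodule k V := fun P =>
    { carrier := {x | P.1.1 (x : K) ≤ 1}
      add_mem' := fun ha hb => (P.1.1.map_add _ _).trans (max_le ha hb)
      zero_mem' := by simp
      smul_mem' := fun c x hx => (v_smul_le P.1 c _).trans hx }
  obtain ⟨x, hx⟩ : ∃ x : V, ∀ P, x ∉ pole P := by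
    refine Submodule.exists_forall_notMem_of_forall_ne_top pole fun P htop => P.2 ?_
    exact IsMax.of_ratio (h0 j) fun i =>
      htop.symm.le (Submodule.mem_top (x := (⟨φ i / φ j, Submodule.subset_span ⟨i, rfl⟩⟩ : V)))
  have hxR : (x : K) ∈ chart k φ j := (Submodule.span_le.2 fun y ⟨l, hl⟩ => hl ▸ ratio_mem_chart φ j l :
    V ≤ Subalgebra.toSubmodule (chart k φ j)) x.2
  have hxtr : Transcendental k (x : K) := transcendental_of_not_mem hK fun ⟨c, hc⟩ =>
    hx ⟨Pinf, hPinf'⟩ (by change Pinf.1 (x : K) ≤ 1; rw [← hc]; exact Pinf.2.1 c)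
  have hx0 : (x : K) ≠ 0 := fun h => hxtr (h ▸ isAlgebraic_zero)
  set B := zeros (k := k) (x : K)⁻¹ with hB
  have hBP : ∀ P, B P = max (-P.ord (x : K)) 0 := fun P => by rw [hB, zeros_apply hK, ord_inv]
  have hBU : ∀ P, IsMax φ P j → B P = 0 := fun P hP => by
    have := (v_le_one_iff P hx0).1 (chart_le_one hP hxR)
    rw [hBP]; omega
  have hBpos : ∀ P, ¬ IsMax φ P j → 0 < B P := fun P hP => by
    have h := hx ⟨P, hP⟩
    change ¬ P.1 (x : K) ≤ 1 at h
    rw [v_le_one_iff P hx0] at h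
    rw [hBP]; omega
  have hxB : (x : K) ∈ L B := by simpa [hB] using mem_L_zeros_inv hK hx0 1
  set dd := B.deg with hdd
  have hd0 : 0 < dd := by
    by_contra h
    have := hBpos Pinf hPinf'
    rw [eq_zero_of_nonneg_of_deg hK (zeros_nonneg _) (not_lt.1 h) (E := B)] at this
    simp at this
  have hdz : (zeros (k := k) (x : K)).deg = dd := by
    have := deg_div hK (x : K)
    rw [div_eq_zeros_sub hK, deg_sub] at this
    rw [hdd, hB]; omega
  obtain ⟨n₀, hn₀⟩ : ∃ n₀ : ℕ, 2 * (genus k K : ℤ) - 1 ≤ ((n₀ : ℤ) - 1) * dd :=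
    ⟨2 * genus k K + 1, by push_cast; nlinarith⟩
  haveI := finite_L hK ((n₀ : ℤ) • B)
  obtain ⟨G, hG⟩ := (IsNoetherian.noetherian (⊤ : Submodule k (L ((n₀ : ℤ) • B))))
  refine ⟨(G.image Subtype.val : Finset K), Finset.finite_toSet _, ?_, ?_⟩
  · intro g hg
    obtain ⟨g', -, rfl⟩ := Finset.mem_image.1 (Finset.mem_coe.1 hg)
    intro P hP
    have := g'.2 P
    rw [Finsupp.smul_apply, hBU P hP, smul_zero, WithZero.exp_zero] at this
    exact this
  set M := Submodule.span (chart k φ j) ((G.image Subtype.val : Finset K) : Set K) with hM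
  have hbase : L ((n₀ : ℤ) • B) ≤ M.restrictScalars k := by
    intro a ha
    have h1 : (⟨a, ha⟩ : L ((n₀ : ℤ) • B)) ∈ Submodule.span k (G : Set (L ((n₀ : ℤ) • B))) := hG.symm ▸ Submodule.mem_top
    have h2 := Submodule.mem_map_of_mem (f := (L ((n₀ : ℤ) • B)).subtype) h1
    rw [Submodule.map_span] at h2
    refine Submodule.span_le.2 ?_ h2
    rintro _ ⟨g, hg, rfl⟩
    exact Submodule.subset_span (Finset.mem_coe.2 (Finset.mem_image_of_mem _ hg))
  have hstep : ∀ m : ℕ, n₀ ≤ m → L (((m + 1 : ℕ) : ℤ) • B) ≤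
      (L ((m : ℤ) • B)).map (LinearMap.mulLeft k (x : K)) ⊔ L ((m : ℤ) • B) := by
    intro m hm
    have hmd : 2 * (genus k K : ℤ) - 1 ≤ ((m : ℤ) - 1) * dd := by nlinarith
    haveI := finite_L hK ((m : ℤ) • B)
    haveI := finite_L hK (((m + 1 : ℕ) : ℤ) • B)
    haveI := finite_L hK ((m : ℤ) • B - zeros (k := k) (x : K))
    set X := (L ((m : ℤ) • B)).map (LinearMap.mulLeft k (x : K))
    have hXle : X ⊔ L ((m : ℤ) • B) ≤ L (((m + 1 : ℕ) : ℤ) • B) := by
      refine sup_le ?_ (L_mono fun P => ?_)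
      · rintro _ ⟨a, ha, rfl⟩
        have e : ((m + 1 : ℕ) : ℤ) • B = B + (m : ℤ) • B := by push_cast; rw [add_smul, one_smul, add_comm]
        rw [e]; exact mul_mem_L hxB ha
      · simp only [Finsupp.smul_apply, smul_eq_mul]
        have h := zeros_nonneg (k := k) (x : K)⁻¹ P
        rw [← hB] at h
        push_cast
        simp only [Finsupp.coe_zero, Pi.zero_apply] at h
        nlinarith
    refine (Submodule.eq_of_le_of_finrank_le hXle ?_).ge
    have hinf : X ⊓ L ((m : ℤ) • B) ≤ L ((m : ℤ) • B - zeros (k := k) (x : K)) := by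
      rintro _ ⟨⟨a, ha, rfl⟩, hxa⟩ P
      simp only [LinearMap.mulLeft_apply] at hxa ⊢
      rcases le_or_gt (P.ord (x : K)) 0 with h | h
      · rw [Finsupp.sub_apply, zeros_apply hK, max_eq_right h, sub_zero]; exact hxa P
      · rw [Finsupp.sub_apply, zeros_apply hK, max_eq_left h.le, map_mul, sub_eq_add_neg, add_comm,
          WithZero.exp_add, ← v_eq_exp P hx0]
        exact mul_le_mul' le_rfl (ha P)
    haveI : FiniteDimensional k X := inferInstance
    have h1 := Submodule.finrank_sup_add_finrank_inf_eq X (L ((m : ℤ) • B))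
    have h2 := Submodule.finrank_mono hinf
    have h3 : Module.finrank k X = ell ((m : ℤ) • B) :=
      (Submodule.equivMapOfInjective _ (mul_right_injective₀ hx0) _).finrank_eq.symm
    have l1 := ell_of_deg_large hK (D := ((m : ℤ) • B)) (by rw [deg_smul]; nlinarith)
    have l2 := ell_of_deg_large hK (D := (((m + 1 : ℕ) : ℤ) • B)) (by rw [deg_smul]; push_cast; nlinarith)
    have l3 := ell_of_deg_large hK (D := ((m : ℤ) • B - zeros (k := k) (x : K)))
      (by rw [deg_sub, deg_smul, hdz]; linarith)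
    rw [deg_smul] at l1 l2
    rw [deg_sub, deg_smul, hdz] at l3
    simp only [ell] at l1 l2 l3 h3
    push_cast at l2 ⊢
    rw [add_mul, one_mul] at l2
    omega
  have hall : ∀ m : ℕ, n₀ ≤ m → L ((m : ℤ) • B) ≤ M.restrictScalars k := by
    intro m hm
    induction m, hm using Nat.le_induction with
    | base => exact hbase
    | succ m hm ih =>
      refine (hstep m hm).trans (sup_le ?_ ih)
      rintro _ ⟨a, ha, rfl⟩
      exact M.smul_mem (⟨(x : K), hxR⟩ : chart k φ j) (ih ha)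
  intro a ha
  obtain ⟨C, -, hC⟩ := exists_bound hK fun _ : Unit => a
  have hC' := hC ()
  refine hall (n₀ + ∑ P ∈ C.support, (C P).natAbs) (Nat.le_add_right _ _) (fun P => ?_)
  by_cases hP : IsMax φ P j
  · rw [Finsupp.smul_apply, hBU P hP, smul_zero, WithZero.exp_zero]; exact ha P hP
  · refine (hC' P).trans (WithZero.exp_le_exp.2 ?_)
    rw [Finsupp.smul_apply, smul_eq_mul]
    have h1 : C P ≤ (∑ R ∈ C.support, (C R).natAbs : ℕ) := by
      by_cases hm : P ∈ C.support
      · have : (C P).natAbs ≤ ∑ R ∈ C.support, (C R).natAbs := Finset.single_le_sum (f := fun R => (C R).natAbs) (fun _ _ => Nat.zero_le _) hm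
        omega
      · rw [Finsupp.notMem_support_iff.1 hm]; positivity
    have := hBpos P hP
    push_cast at h1 ⊢
    nlinarith [Int.add_one_le_iff.2 this, mul_nonneg (add_nonneg (Int.natCast_nonneg n₀) (Finset.sum_nonneg fun R (_ : R ∈ C.support) => abs_nonneg (C R))) (sub_nonneg.2 (Int.add_one_le_iff.2 this))]

omit [IsAlgClosed k] [Fintype ι] [Nonempty ι] in
/-- Denominators can be cleared by a function regular on the chart and a unit at `P`. -/
lemma exists_clear (j : ι) (Pinf : Place k K) (hPinf : ¬ IsMax φ Pinf j) (hP : IsMax φ P j) {z : K} (hz : P.1 z ≤ 1) :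
    ∃ b ∈ valAlg (k := k) {Q | IsMax φ Q j}, P.1 b = 1 ∧ z * b ∈ valAlg (k := k) {Q | IsMax φ Q j} := by
  classical
  have hfin : {Q : Place k K | ¬ Q.1 z ≤ 1}.Finite := (finite_support hK z).subset fun Q hQ h0 => hQ (by
    rcases eq_or_ne z 0 with rfl | hz0
    · simp
    · exact (v_le_one_iff Q hz0).2 (show (0 : ℤ) ≤ Q.ord z from (show Q.ord z = 0 from h0).ge))
  set S := insert P (hfin.toFinset.filter fun Q => IsMax φ Q j) with hS
  have hPS : Pinf ∉ S := by
    simp only [S, Finset.mem_insert, Finset.mem_filter, not_or]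
    exact ⟨fun h => hPinf (h ▸ hP), fun h => hPinf h.2⟩
  obtain ⟨b, hb, hb'⟩ := strong_approx hK Pinf S hPS (fun Q => if Q = P then 1 else 0)
    (fun Q => if Q = P then -1 else min 0 (Q.ord z))
  have hbP : P.1 b = 1 := by
    have := hb P (Finset.mem_insert_self _ _)
    simp only [if_true] at this
    rw [← sub_add_cancel b 1, Valuation.map_add_eq_of_lt_right _ (by
      rw [map_one]; exact this.trans_lt (by rw [← WithZero.exp_zero, WithZero.exp_lt_exp]; norm_num)), map_one]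
  refine ⟨b, fun Q hQ => ?_, hbP, fun Q hQ => ?_⟩
  · rcases eq_or_ne Q P with rfl | hQP
    · exact hbP.le
    by_cases hQS : Q ∈ S
    · have := hb Q hQS
      simp only [if_neg hQP, sub_zero] at this
      refine this.trans ?_
      rw [← WithZero.exp_zero, WithZero.exp_le_exp]; exact min_le_left _ _
    · exact hb' Q (fun h => hPinf (h ▸ hQ)) hQS
  · rw [map_mul]
    rcases eq_or_ne Q P with rfl | hQP
    · rw [hbP, mul_one]; exact hz
    by_cases hQS : Q ∈ S
    · have h1 := hb Q hQS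
      simp only [if_neg hQP, sub_zero] at h1
      rcases eq_or_ne z 0 with rfl | hz0
      · simp
      refine (mul_le_mul' le_rfl h1).trans ?_
      rw [v_eq_exp Q hz0, ← WithZero.exp_add, ← WithZero.exp_zero, WithZero.exp_le_exp]
      omega
    · refine mul_le_one' (not_not.1 fun h => hQS ?_) (hb' Q (fun h => hPinf (h ▸ hQ)) hQS)
      exact Finset.mem_insert_of_mem (Finset.mem_filter.2 ⟨hfin.mem_toFinset.2 h, hQ⟩)

/-- Separation gives nonsingularity. -/
lemma nonsingular_of_sep (h0 : ∀ i, φ i ≠ 0) (h : Sep φ P) : IsNonsingularAt φ P := by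
  classical
  haveI : Infinite k := IsAlgClosed.instInfinite
  obtain ⟨j, hj⟩ := exists_isMax P φ ⟨Classical.arbitrary ι, h0 _⟩
  obtain ⟨t, htW, ht⟩ := (exists_exact_iff hK h0 hj).1 (h P)
  have hWR : ∀ f ∈ Wsp, f / φ j ∈ chart k φ j := fun f hf => by
    induction hf using Submodule.span_induction with
    | mem z hz => obtain ⟨i, rfl⟩ := hz; exact ratio_mem_chart φ j i
    | zero => simp
    | add a b _ _ ha hb => rw [add_div]; exact add_mem ha hb
    | smul c a _ ha => rw [Algebra.smul_def, mul_div_assoc]; exact mul_mem (Subalgebra.algebraMap_mem _ c) ha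
  have hne : ∃ i, φ i / φ j ∉ Set.range (algebraMap k K) := by
    by_contra hcon
    push Not at hcon
    choose c hc using hcon
    obtain ⟨a, rfl⟩ := (Submodule.mem_span_range_iff_exists_fun k).1 htW
    have e : (∑ i, a i • φ i) / φ j = algebraMap k K (∑ i, a i * c i) := by
      rw [Finset.sum_div, map_sum]
      exact Finset.sum_congr rfl fun i _ => by rw [map_mul, hc, Algebra.smul_def, mul_div_assoc]
    rw [e] at ht
    by_cases h0' : (∑ i, a i * c i) = 0
    · rw [h0', map_zero, map_zero] at ht; exact WithZero.exp_ne_zero ht.symm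
    · rw [v_algebraMap P h0', ← WithZero.exp_zero, WithZero.exp_inj] at ht; norm_num at ht
  obtain ⟨⟨Pinf, hPinf⟩, G, hG, hGA, hAG⟩ := finite_regular hK h0 j hne
  set A := valAlg (k := k) {Q | IsMax φ Q j}
  set R := chart k φ j
  have hRA : ∀ r ∈ R, r ∈ A := fun r hr Q hQ => chart_le_one hQ hr
  let m : Ideal R :=
    { carrier := {r | P.1 (r : K) < 1}
      add_mem' := fun ha hb => (P.1.map_add _ _).trans_lt (max_lt ha hb)
      zero_mem' := by simp
      smul_mem' := fun c r hr => by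
        change P.1 ((c : K) * r) < 1
        rw [map_mul]; exact (mul_le_mul' (chart_le_one hj c.2) le_rfl).trans_lt (by rwa [one_mul]) }
  set t' := t / φ j with ht'
  have ht'0 : t' ≠ 0 := fun h => by rw [h, map_zero] at ht; exact WithZero.exp_ne_zero ht.symm
  have htm : (⟨t', hWR t htW⟩ : R) ∈ m := by
    change P.1 t' < 1
    rw [ht, ← WithZero.exp_zero, WithZero.exp_lt_exp]; norm_num
  -- the other zeros of `t'` on the chart
  have hZfin : {Q : Place k K | IsMax φ Q j ∧ Q ≠ P ∧ 0 < Q.ord t'}.Finite :=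
    (finite_support hK t').subset fun Q hQ h0 => absurd hQ.2.2 (by simp [show Q.ord t' = 0 from h0])
  set Z := hZfin.toFinset
  obtain ⟨s, hsW, hsP, hsZ⟩ : ∃ s ∈ Wsp, P.1 (s / φ j) < 1 ∧ ∀ Q ∈ Z, Q.1 (s / φ j) = 1 := by
    let W' : Submodule k K := Wsp ⊓ L (Emd - Finsupp.single P 1)
    let bad : Z → Submodule k W' := fun Q => Submodule.comap W'.subtype (L (Emd - Finsupp.single (Q : Place k K) 1))
    obtain ⟨s, hs⟩ := Submodule.exists_forall_notMem_of_forall_ne_top bad (fun Q htop => by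
      obtain ⟨hQ, hQP, -⟩ := hZfin.mem_toFinset.1 Q.2
      obtain ⟨f, hf, hfP, hfQ⟩ := h Q
      refine hfQ ((mem_sub_sub_iff hK h0 hQP.symm hf).2 ⟨hfP, ?_⟩)
      exact htop.symm.le (Submodule.mem_top (x := (⟨f, hf, hfP⟩ : W'))))
    refine ⟨s, s.2.1, (mem_vanish_iff hK h0 hj s.2.1).1 s.2.2, fun Q hQ => ?_⟩
    obtain ⟨hQj, -, -⟩ := hZfin.mem_toFinset.1 hQ
    have h1 : ¬ Q.1 ((s : K) / φ j) < 1 := fun hlt => hs ⟨Q, hQ⟩ ((mem_vanish_iff hK h0 hQj s.2.1).2 hlt)
    exact le_antisymm (chart_le_one hQj (hWR _ s.2.1)) (not_lt.1 h1)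
  set s' := s / φ j with hs'
  have hsm : (⟨s', hWR s hsW⟩ : R) ∈ m := hsP
  set N : Submodule R K := Submodule.span R G
  have hNA : ∀ a ∈ N, a ∈ A := by
    intro a ha
    induction ha using Submodule.span_induction with
    | mem z hz => exact hGA z hz
    | zero => exact A.zero_mem
    | add a b _ _ ha hb => exact A.add_mem ha hb
    | smul c a _ ha => exact A.mul_mem (hRA c c.2) ha
  have hideal : ∀ a ∈ A, P.1 a < 1 → a ∈ m • N := by
    intro a ha hlt
    obtain ⟨β, hβ, hβ'⟩ := strong_approx hK Pinf Z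
      (fun h => hPinf (hZfin.mem_toFinset.1 h).1) (fun Q => a / s') (fun Q => -Q.ord t')
    have hβA : β ∈ A := fun Q hQ => by
      by_cases hQZ : Q ∈ Z
      · have h1 : Q.1 (a / s') ≤ 1 := by rw [map_div₀, hsZ Q hQZ, div_one]; exact ha Q hQ
        rw [← sub_add_cancel β (a / s')]
        refine (Q.1.map_add _ _).trans (max_le ((hβ Q hQZ).trans ?_) h1)
        rw [← WithZero.exp_zero, WithZero.exp_le_exp]
        have := (hZfin.mem_toFinset.1 hQZ).2.2
        omega
      · exact hβ' Q (fun h => hPinf (h ▸ hQ)) hQZ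
    have hαA : (a - β * s') / t' ∈ A := fun Q hQ => by
      change Q.1 ((a - β * s') / t') ≤ 1
      rw [map_div₀, div_le_one₀ (zero_lt_iff.2 ((Valuation.ne_zero_iff _).2 ht'0))]
      rcases eq_or_ne Q P with rfl | hQP
      · rw [ht]
        have hlt' : Q.1 (a - β * s') < 1 := (Q.1.map_sub _ _).trans_lt (max_lt hlt (by
          rw [map_mul]; exact (mul_le_mul' (hβA Q hQ) le_rfl).trans_lt (by rwa [one_mul])))
        by_cases h0' : a - β * s' = 0
        · simp [h0']
        · rw [v_le_exp_iff Q h0']; rw [v_lt_one_iff Q h0'] at hlt'; omega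
      by_cases hQZ : Q ∈ Z
      · have e : a - β * s' = (a / s' - β) * s' := by
          have : s' ≠ 0 := fun hz => by
            have := hsZ Q hQZ; rw [hz, map_zero] at this; exact zero_ne_one this
          field_simp
        rw [e, map_mul, hsZ Q hQZ, mul_one, ← Valuation.map_neg, neg_sub, v_eq_exp Q ht'0]
        exact hβ Q hQZ
      · have h1 : Q.ord t' = 0 := by
          have := (v_le_one_iff Q ht'0).1 (chart_le_one hQ (hWR t htW))
          have : ¬ 0 < Q.ord t' := fun h => hQZ (hZfin.mem_toFinset.2 ⟨hQ, hQP, h⟩)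
          omega
        rw [v_eq_exp Q ht'0, h1, neg_zero, WithZero.exp_zero]
        exact (Q.1.map_sub _ _).trans (max_le (ha Q hQ) (by
          rw [map_mul]; exact mul_le_one' (hβA Q hQ) (chart_le_one hQ (hWR s hsW))))
    have e : a = (⟨t', hWR t htW⟩ : R) • ((a - β * s') / t') + (⟨s', hWR s hsW⟩ : R) • β := by
      change a = t' * ((a - β * s') / t') + s' * β
      field_simp; ring
    rw [e]
    exact Submodule.add_mem _ (Submodule.smul_mem_smul htm (hAG _ hαA)) (Submodule.smul_mem_smul hsm (hAG _ hβA))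
  -- Nakayama in `K ⧸ R`
  let Q₁ : Submodule R K := Submodule.span R {1}
  have hfg : (N.map Q₁.mkQ).FG := (Submodule.fg_span hG).map _
  have hle : N.map Q₁.mkQ ≤ m • N.map Q₁.mkQ := by
    rintro _ ⟨a, ha, rfl⟩
    obtain ⟨c, hc⟩ := exists_const hK P (hNA a ha P hj)
    have h1 := hideal (a - algebraMap k K c) (A.sub_mem (hNA a ha) (A.algebraMap_mem c)) hc
    rw [← Submodule.map_smul'']
    refine ⟨_, h1, ?_⟩
    change Submodule.Quotient.mk (a - algebraMap k K c) = Submodule.Quotient.mk a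
    rw [Submodule.Quotient.eq, sub_sub_cancel_left]
    refine Submodule.neg_mem _ (Submodule.mem_span_singleton.2 ⟨⟨algebraMap k K c, R.algebraMap_mem c⟩, ?_⟩)
    change algebraMap k K c * 1 = _
    rw [mul_one]
  obtain ⟨r, hr1, hr⟩ := Submodule.exists_sub_one_mem_and_smul_eq_zero_of_fg_of_le_smul m _ hfg hle
  have hrP : P.1 (r : K) = 1 := by
    rw [← sub_add_cancel (r : K) 1, Valuation.map_add_eq_of_lt_right _ (by rw [map_one]; exact hr1), map_one]
  have hrA : ∀ a ∈ A, (r : K) * a ∈ R := fun a ha => by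
    have h1 : r • Q₁.mkQ a = 0 := hr _ (Submodule.mem_map_of_mem (hAG a ha))
    rw [← map_smul, Submodule.mkQ_apply, Submodule.Quotient.mk_eq_zero, Submodule.mem_span_singleton] at h1
    obtain ⟨c, hc⟩ := h1
    change (c : K) * 1 = (r : K) * a at hc
    rw [← hc, mul_one]; exact c.2
  intro z hz
  obtain ⟨b, hb, hb1, hzb⟩ := exists_clear hK j Pinf hPinf hj hz
  refine ⟨j, hj.1, hj.2, (r : K) * (z * b), hrA _ hzb, (r : K) * b, hrA _ hb, by rw [map_mul, hrP, hb1, one_mul], by ring⟩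

/-- Nonsingularity gives separation. -/
lemma sep_of_nonsingular (h0 : ∀ i, φ i ≠ 0) (h : IsNonsingularAt φ P) : Sep φ P := by
  obtain ⟨t, -, ht⟩ := exists_v_eq P (-1)
  refine sep_of_locRing hK h0 P (fun Q hQ => (place_eq_of_le P fun z hz => hQ z (h z hz)).symm) ⟨t, h t ?_, ht⟩
  rw [ht, ← WithZero.exp_zero, WithZero.exp_le_exp]; norm_num

/-- The criterion: nonsingular iff the span separates `P` from every place and from itself. -/
lemma nonsingular_iff (h0 : ∀ i, φ i ≠ 0) :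
    IsNonsingularAt φ P ↔ ∀ Q : Place k K,
      Module.finrank k ↥(Wsp ⊓ L (Emd - Finsupp.single P 1 - Finsupp.single Q 1)) + 2 = Module.finrank k ↥Wsp :=
  ⟨fun h Q => (finrank_sep_iff hK h0 P Q).2 (sep_of_nonsingular hK h0 h Q),
    fun h => nonsingular_of_sep hK h0 fun Q => (finrank_sep_iff hK h0 P Q).1 (h Q)⟩

omit [IsAlgClosed k] in
/-- A base-point-free system is the divisor of its own basis. -/
lemma mapDiv_eq_of_bpf (h0 : ∀ i, φ i ≠ 0) {D : Divisor k K} (hspan : Wsp = L D)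
    (hbpf : ∀ P, ell (D - Finsupp.single P 1) < ell D) : Emd = D := by
  ext P
  obtain ⟨j, hj⟩ := exists_isMax P φ ⟨Classical.arbitrary ι, h0 _⟩
  obtain ⟨x, hx0, hxL, hxo⟩ := exists_mem_L_ord (hbpf P)
  rw [mapDiv_apply_of_max hK h0 hj.2]
  have h1 := (mem_L_iff_ord (h0 j)).1 (hspan.le (Submodule.subset_span ⟨j, rfl⟩)) P
  have h2 := (mem_L_iff_ord hx0).1 (span_le_L_mapDiv hK h0 (hspan.ge hxL)) P
  rw [mapDiv_apply_of_max hK h0 hj.2] at h2
  omega

end Regular

section Conductor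

variable [IsAlgClosed k] [Fintype ι] [Nonempty ι]

omit [IsAlgClosed k] [Fintype ι] [Nonempty ι] in
lemma adjoin_ratio_eq {φ : ι → K} {i₀ j : ι} (hj : φ j ≠ 0) :
    IntermediateField.adjoin k (Set.range fun i => φ i / φ i₀) ≤ IntermediateField.adjoin k (Set.range fun i => φ i / φ j) := by
  refine IntermediateField.adjoin_le_iff.2 ?_
  rintro _ ⟨i, rfl⟩
  change φ i / φ i₀ ∈ IntermediateField.adjoin k (Set.range fun i => φ i / φ j)
  rw [← div_div_div_cancel_right₀ hj (φ i) (φ i₀)]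
  exact div_mem (IntermediateField.subset_adjoin k _ ⟨i, rfl⟩) (IntermediateField.subset_adjoin k _ ⟨i₀, rfl⟩)

/-- A conductor: a nonzero element of the coordinate ring carrying the regular functions into it. -/
lemma exists_conductor (hK : IsFunctionField k K) {φ : ι → K} (h0 : ∀ i, φ i ≠ 0) (j : ι)
    (hbir : IntermediateField.adjoin k (Set.range fun i => φ i / φ j) = ⊤) :
    (∃ P : Place k K, ¬ IsMax φ P j) ∧
      ∃ d ∈ chart k φ j, d ≠ 0 ∧ ∀ a ∈ valAlg (k := k) {P | IsMax φ P j}, d * a ∈ chart k φ j := by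
  classical
  haveI : Infinite k := IsAlgClosed.instInfinite
  have hne : ∃ i, φ i / φ j ∉ Set.range (algebraMap k K) := by
    by_contra hcon
    push Not at hcon
    obtain ⟨⟨x, hx, -⟩, -⟩ := id hK
    have hbot : IntermediateField.adjoin k (Set.range fun i => φ i / φ j) ≤ ⊥ :=
      IntermediateField.adjoin_le_iff.2 (by rintro _ ⟨i, rfl⟩; exact IntermediateField.mem_bot.2 (hcon i))
    obtain ⟨c, hc⟩ := IntermediateField.mem_bot.1 (hbot (hbir.symm ▸ IntermediateField.mem_top : x ∈ _))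
    exact hx (hc ▸ isAlgebraic_algebraMap c)
  obtain ⟨hPinf, G, hG, -, hAG⟩ := finite_regular hK h0 j hne
  refine ⟨hPinf, ?_⟩
  have hfrac : ∀ g : K, ∃ s ∈ chart k φ j, s ≠ 0 ∧ s * g ∈ chart k φ j := fun g => by
    rcases eq_or_ne g 0 with rfl | hg
    · exact ⟨1, Subalgebra.one_mem _, one_ne_zero, by simp⟩
    obtain ⟨r, hr, s, hs, rfl⟩ := IntermediateField.mem_adjoin_iff_div.1 (hbir.symm ▸ IntermediateField.mem_top :
      g ∈ IntermediateField.adjoin k (Set.range fun i => φ i / φ j))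
    have hs0 : s ≠ 0 := fun h => hg (by rw [h, div_zero])
    exact ⟨s, hs, hs0, by rw [mul_div_cancel₀ r hs0]; exact hr⟩
  choose s hsR hs0 hs using hfrac
  set d := ∏ g ∈ hG.toFinset, s g
  refine ⟨d, prod_mem fun g _ => hsR g, Finset.prod_ne_zero_iff.2 fun g _ => hs0 g, fun a ha => ?_⟩
  have h1 := hAG a ha
  clear ha
  induction h1 using Submodule.span_induction with
  | mem z hz =>
    rw [show d = s z * ∏ g ∈ hG.toFinset.erase z, s g from (Finset.mul_prod_erase _ _ (hG.mem_toFinset.2 hz)).symm,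
      mul_right_comm]
    exact mul_mem (hs z) (prod_mem fun g _ => hsR g)
  | zero => simp
  | add a b _ _ iha ihb => rw [mul_add]; exact add_mem (iha) (ihb)
  | smul c a _ iha =>
    change d * ((c : K) * a) ∈ _
    rw [mul_left_comm]
    exact mul_mem c.2 iha

end Conductor

end Groth.Agent.FF
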