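import Mathlib
import Groth.Prelude.Def_W4bk4goldsch45p2
import Groth.Agent.FF.Diff
import Groth.Agent.FF.AlgClosed
import Groth.Agent.FF.Embed

/-! Hasse families: uniqueness, change of variable, and the rank of Hasse-derivative matrices. -/

set_option autoImplicit false

namespace Groth.Agent.FF

open FunFld LaurentSeries HahnSeries
open scoped WithZero

universe u v

variable {k : Type u} {K : Type v} [Field k] [Field K] [Algebra k K]

lemma isGeometric_algClosed [IsAlgClosed k] (hK : IsFunctionField k K) : IsGeometric k K :=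
  isGeometric_of_perfect hK

/-- The first Hasse derivative as a derivation. -/
noncomputable def hasseDer {s : K} {H : K →ₐ[k] PowerSeries K} (hH : LocRes.IsHasseFamily s H) :
    Derivation k K K :=
  Derivation.mk'
    { toFun := fun y => LocRes.hasseD H 1 y
      map_add' := fun a b => by simp
      map_smul' := fun c a => by simp } fun a b => by
    change PowerSeries.coeff 1 (H (a * b)) = a • PowerSeries.coeff 1 (H b) + b • PowerSeries.coeff 1 (H a)
    rw [map_mul, PowerSeries.coeff_mul, Finset.Nat.sum_antidiagonal_eq_sum_range_succ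
      (fun i j => PowerSeries.coeff i (H a) * PowerSeries.coeff j (H b)), Finset.sum_range_succ, Finset.sum_range_one]
    simp [hH.2]
    ring

lemma hasseDer_apply {s : K} {H : K →ₐ[k] PowerSeries K} (hH : LocRes.IsHasseFamily s H) (y : K) :
    hasseDer hH y = LocRes.hasseD H 1 y := rfl

lemma hasseD_one_self {s : K} {H : K →ₐ[k] PowerSeries K} (hH : LocRes.IsHasseFamily s H) :
    LocRes.hasseD H 1 s = 1 := by
  rw [LocRes.hasseD_apply, hH.1]; simp

lemma hasseD_zero {s : K} {H : K →ₐ[k] PowerSeries K} (hH : LocRes.IsHasseFamily s H) (y : K) :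
    LocRes.hasseD H 0 y = y := by
  rw [LocRes.hasseD_apply, PowerSeries.coeff_zero_eq_constantCoeff_apply, hH.2]

lemma D_ne_zero_of_hasse {s : K} {H : K →ₐ[k] PowerSeries K} (hH : LocRes.IsHasseFamily s H) :
    KaehlerDifferential.D k K s ≠ 0 := by
  intro h
  have e := (hasseDer hH).liftKaehlerDifferential_comp_D s
  rw [h, map_zero, hasseDer_apply, hasseD_one_self hH] at e
  exact zero_ne_one e

section unique

variable (hK : IsFunctionField k K) (hg : IsGeometric k K) {s : K} (hs : KaehlerDifferential.D k K s ≠ 0)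

include hK hg hs in
/-- Homomorphisms into power series lifting the identity are determined by the image of a separating element. -/
theorem hom_ext_series (G₁ G₂ : K →ₐ[k] PowerSeries K) (h₁ : ∀ y, PowerSeries.constantCoeff (G₁ y) = y)
    (h₂ : ∀ y, PowerSeries.constantCoeff (G₂ y) = y) (h : G₁ s = G₂ s) : G₁ = G₂ := by
  refine AlgHom.ext fun y => PowerSeries.ext fun n => ?_
  induction n using Nat.strong_induction_on generalizing y with
  | _ n IH =>
    rcases Nat.eq_zero_or_pos n with rfl | hn
    · rw [PowerSeries.coeff_zero_eq_constantCoeff_apply, PowerSeries.coeff_zero_eq_constantCoeff_apply, h₁, h₂]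
    let δ : K →+ K := AddMonoidHom.mk' (fun y => PowerSeries.coeff n (G₁ y) - PowerSeries.coeff n (G₂ y))
      fun a b => by simp only [map_add]; abel
    have hδk : ∀ c, δ (algebraMap k K c) = 0 := fun c => by
      change PowerSeries.coeff n (G₁ (algebraMap k K c)) - PowerSeries.coeff n (G₂ (algebraMap k K c)) = 0
      rw [G₁.commutes, G₂.commutes, sub_self]
    have hδ : ∀ a b, δ (a * b) = AlgHom.id k K a * δ b + AlgHom.id k K b * δ a := by
      intro a b
      change PowerSeries.coeff n (G₁ (a * b)) - PowerSeries.coeff n (G₂ (a * b)) = _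
      simp only [map_mul, PowerSeries.coeff_mul]
      rw [← Finset.sum_sub_distrib]
      have hne : ((0, n) : ℕ × ℕ) ≠ (n, 0) := by simp; omega
      rw [← Finset.sum_subset (s₁ := {(0, n), (n, 0)}) (by
          intro ij hij
          rcases Finset.mem_insert.1 hij with rfl | hij
          · simp
          · rw [Finset.mem_singleton.1 hij]; simp) (fun ij hij hne' => by
        have hs' := Finset.HasAntidiagonal.mem_antidiagonal.1 hij
        simp only [Finset.mem_insert, Finset.mem_singleton, Prod.ext_iff, not_or, not_and] at hne'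
        rw [IH ij.1 (by omega) a, IH ij.2 (by omega) b, sub_self])]
      rw [Finset.sum_pair hne]
      simp only [PowerSeries.coeff_zero_eq_constantCoeff, h₁, h₂]
      change _ = a * (PowerSeries.coeff n (G₁ b) - PowerSeries.coeff n (G₂ b)) +
        b * (PowerSeries.coeff n (G₁ a) - PowerSeries.coeff n (G₂ a))
      ring
    obtain ⟨c, hc⟩ := exists_smul_D_eq_of_ne_zero hK hg hs (KaehlerDifferential.D k K y)
    have h' := leibniz_smul (AlgHom.id k K) δ hδk hδ hc
    change PowerSeries.coeff n (G₁ y) - PowerSeries.coeff n (G₂ y) =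
      c * (PowerSeries.coeff n (G₁ s) - PowerSeries.coeff n (G₂ s)) at h'
    rw [h, sub_self, mul_zero] at h'
    exact sub_eq_zero.1 h'

include hK hg in
/-- The Hasse family with respect to a separating element exists. -/
theorem exists_hasse_of_ne_zero {x : K} (hx : KaehlerDifferential.D k K x ≠ 0) :
    ∃ H : K →ₐ[k] PowerSeries K, LocRes.IsHasseFamily x H := by
  haveI := isSeparable_of_D_ne_zero hK hg hx
  exact exists_hasse (transcendental_of_D_ne_zero hK hx)

end unique

/-- The change of variable from `s` to `t`. -/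
theorem hasse_change (hK : IsFunctionField k K) (hg : IsGeometric k K) {s t : K} {Hs Ht : K →ₐ[k] PowerSeries K}
    (hHs : LocRes.IsHasseFamily s Hs) (hHt : LocRes.IsHasseFamily t Ht) :
    ∃ u : PowerSeries K, PowerSeries.constantCoeff u = 0 ∧ PowerSeries.coeff 1 u = LocRes.hasseD Ht 1 s ∧
      ∀ y, Ht y = PowerSeries.subst u (Hs y) := by
  set u := Ht s - PowerSeries.C s
  have hu : PowerSeries.constantCoeff u = 0 := by simp [u, hHt.2]
  have hsub := PowerSeries.HasSubst.of_constantCoeff_zero' (S := K) (a := u) hu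
  refine ⟨u, hu, by simp [u, PowerSeries.coeff_C], fun y => ?_⟩
  let G : K →ₐ[k] PowerSeries K := ((PowerSeries.substAlgHom (R := K) hsub).restrictScalars k).comp Hs
  have hG : ∀ z, G z = PowerSeries.subst u (Hs z) := fun z => by
    change PowerSeries.substAlgHom hsub (Hs z) = _
    rw [PowerSeries.coe_substAlgHom]
  have hc : ∀ z, PowerSeries.constantCoeff (G z) = z := fun z => by
    rw [hG, ← PowerSeries.coeff_zero_eq_constantCoeff_apply, PowerSeries.coeff_subst' hsub,
      finsum_eq_single _ 0 (fun d hd => by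
        rw [PowerSeries.coeff_zero_eq_constantCoeff_apply, map_pow, hu, zero_pow hd, smul_zero])]
    simp [hHs.2]
  have hGs : G s = Ht s := by
    rw [hG, hHs.1, PowerSeries.subst_add hsub, PowerSeries.subst_X hsub, PowerSeries.subst_C]
    change PowerSeries.C s + u = Ht s
    simp [u]
  rw [← hom_ext_series hK hg (D_ne_zero_of_hasse hHs) G Ht hc hHt.2 hGs, hG]

section algClosed

variable [IsAlgClosed k] (hK : IsFunctionField k K)

/-- An expansion with values in `k((X))`, in a given local parameter. -/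
theorem exists_expansion_k (hK : IsFunctionField k K) {P : Place k K} {t : K} (ht : P.1 t = WithZero.exp (-1)) :
    ∃ φ : K →ₐ[k] k⸨X⸩, LocRes.IsExpansionAt P.1 φ ∧ φ t = HahnSeries.single 1 1 := by
  have hb := residue_bijective hK P
  haveI hfin : @Module.Finite k (IsLocalRing.ResidueField P.O) _ _ Algebra.toModule := finite_residue hK P
  haveI : Algebra.IsAlgebraic k (IsLocalRing.ResidueField P.O) := Algebra.IsAlgebraic.of_finite _ _
  haveI : Algebra.IsSeparable k (IsLocalRing.ResidueField P.O) := Algebra.IsAlgebraic.isSeparable_of_perfectField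
  obtain ⟨ψ, hψ, hψt, -⟩ := exists_expansion P ht
  let e : IsLocalRing.ResidueField P.O ≃ₐ[k] k :=
    (AlgEquiv.ofBijective (Algebra.ofId k (IsLocalRing.ResidueField P.O)) hb).symm
  let m : (IsLocalRing.ResidueField P.O)⸨X⸩ →+* k⸨X⸩ :=
    { toFun := fun f => f.map e.toAlgHom.toRingHom
      map_zero' := by ext d; simp
      map_one' := by
        ext d
        rw [HahnSeries.map_coeff, HahnSeries.coeff_one, HahnSeries.coeff_one, apply_ite (e.toAlgHom.toRingHom),
          map_one, map_zero]
      map_add' := fun f g => by ext d; simp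
      map_mul' := fun f g => map_mul_series _ f g }
  have hm : ∀ f d, (m f).coeff d = e (f.coeff d) := fun f d => rfl
  let φ : K →ₐ[k] k⸨X⸩ :=
    { toRingHom := m.comp ψ.toRingHom
      commutes' := fun c => by
        change m (ψ (algebraMap k K c)) = algebraMap k k⸨X⸩ c
        ext d
        rw [hm, LocRes.map_algebraMap, LocRes.algebraMap_eq_C, HahnSeries.C_apply, HahnSeries.C_apply,
          HahnSeries.coeff_single, HahnSeries.coeff_single, apply_ite e, map_zero, e.commutes]
        rfl }
  have hφ : ∀ f d, (φ f).coeff d = e ((ψ f).coeff d) := fun f d => rfl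
  refine ⟨φ, ⟨fun f => ?_, fun a => ?_, t, ht⟩, ?_⟩
  · rw [← hψ.1]
    rcases eq_or_ne f 0 with rfl | hf
    · simp
    obtain ⟨u, -, -, h1⟩ := exists_eq_single_mul ((map_ne_zero ψ).2 hf)
    obtain ⟨u', -, -, h2⟩ := exists_eq_single_mul ((map_ne_zero φ).2 hf)
    rw [h1, h2]
    congr 2
    refine le_antisymm (HahnSeries.order_le_of_coeff_ne_zero ?_) (HahnSeries.order_le_of_coeff_ne_zero ?_)
    · rw [hφ, map_ne_zero_iff _ e.injective]
      exact HahnSeries.coeff_order_eq_zero.not.2 ((map_ne_zero ψ).2 hf)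
    · intro h
      exact HahnSeries.coeff_order_eq_zero.not.2 ((map_ne_zero φ).2 hf) (by rw [hφ, h, map_zero])
  · obtain ⟨f, hf, hfa⟩ := hψ.2.1 (algebraMap k _ a)
    exact ⟨f, hf, by rw [hφ, hfa, e.commutes]; rfl⟩
  · ext d
    rw [hφ, hψt, HahnSeries.coeff_single, HahnSeries.coeff_single, apply_ite e, map_one, map_zero]

include hK in
lemma evalP_eq {P : Place k K} {φ : K →ₐ[k] k⸨X⸩} (hφ : LocRes.IsExpansionAt P.1 φ) {z : K} (hz : P.1 z ≤ 1) :
    evalP P z = algebraMap k (IsLocalRing.ResidueField P.O) ((φ z).coeff 0) := by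
  obtain ⟨e, he⟩ := exists_residue_equiv hφ
  rw [evalP, dif_pos hz]
  refine e.injective ?_
  rw [he, e.commutes]
  rfl

include hK in
/-- At a place, with a local parameter, Hasse derivatives read off the expansion. -/
lemma hasseD_at {P : Place k K} {φ : K →ₐ[k] k⸨X⸩} (hφ : LocRes.IsExpansionAt P.1 φ) {t : K}
    (ht : φ t = HahnSeries.single 1 1) {Ht : K →ₐ[k] PowerSeries K} (hHt : LocRes.IsHasseFamily t Ht) {f : K}
    (hf : P.1 f ≤ 1) (j : ℕ) :
    P.1 (LocRes.hasseD Ht j f) ≤ 1 ∧ (φ (LocRes.hasseD Ht j f)).coeff 0 = (φ f).coeff j := by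
  have e := exp_hasseD hK (isGeometric_algClosed hK) φ (D_ne_zero_of_hasse hHt) ht Ht hHt j f
  constructor
  · rw [← hφ.1, e, v_le_one_iff_coeff]
    intro m hm
    rw [LaurentSeries.hasseDeriv_coeff]
    rcases lt_or_ge (m + (j : ℤ)) 0 with h | h
    · rw [coeff_of_lt hφ h hf, smul_zero]
    · lift (m + (j : ℤ)) to ℕ using h with i hi
      rw [Ring.choose_natCast, Nat.choose_eq_zero_of_lt (by omega), Nat.cast_zero, zero_smul]
  · rw [e, LaurentSeries.hasseDeriv_coeff, zero_add, Ring.choose_natCast, Nat.choose_self, Nat.cast_one, one_smul]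

variable {n : ℕ}

include hK in
/-- Values of Hasse derivatives at a place have full rank. -/
theorem rows_indep_at {P : Place k K} {φ : Fin (n + 1) → K} (hφ : LinearIndependent k φ)
    (hint : ∀ i, P.1 (φ i) ≤ 1) {ψ : K →ₐ[k] k⸨X⸩} (hψ : LocRes.IsExpansionAt P.1 ψ) (a : Fin (n + 1) → k)
    (h : ∀ j : ℕ, ∑ r, a r * (ψ (φ r)).coeff j = 0) : a = 0 := by
  have h0 : ψ (∑ r, a r • φ r) = 0 := by
    ext d
    rw [map_sum, HahnSeries.coeff_sum, HahnSeries.coeff_zero]
    have hsm : ∀ r, ψ (a r • φ r) = a r • ψ (φ r) := fun r => by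
      rw [Algebra.smul_def, map_mul, LocRes.map_algebraMap, HahnSeries.C_mul_eq_smul, Algebra.algebraMap_self,
        RingHom.id_apply]
    simp only [hsm]
    rcases lt_or_ge d 0 with hd | hd
    · exact Finset.sum_eq_zero fun r _ => by rw [HahnSeries.coeff_smul, coeff_of_lt hψ hd (hint r), smul_zero]
    · lift d to ℕ using hd
      rw [← h d]
      exact Finset.sum_congr rfl fun r _ => by rw [HahnSeries.coeff_smul, smul_eq_mul]
  funext r
  exact Fintype.linearIndependent_iff.1 hφ a ((map_eq_zero_iff ψ ψ.toRingHom.injective).1 h0) r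

include hK in
/-- The matrix of Hasse derivatives of an independent tuple has full rank. -/
theorem rows_indep {φ : Fin (n + 1) → K} (hφ : LinearIndependent k φ) {s : K} {Hs : K →ₐ[k] PowerSeries K}
    (hHs : LocRes.IsHasseFamily s Hs) (a : Fin (n + 1) → K)
    (h : ∀ j, ∑ r, a r * LocRes.hasseD Hs j (φ r) = 0) : a = 0 := by
  classical
  have hg := isGeometric_algClosed hK
  obtain ⟨P, -⟩ := exists_zero hK (transcendental_of_D_ne_zero hK (D_ne_zero_of_hasse hHs))
  obtain ⟨t, ht⟩ := exists_unif P
  obtain ⟨ψ, hψ, hψt⟩ := exists_expansion_k hK ht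
  obtain ⟨Ht, hHt⟩ := exists_hasse_of_ne_zero hK hg (D_ne_zero_unif hψ ht)
  obtain ⟨u, hu, -, hchg⟩ := hasse_change hK hg hHs hHt
  have hrel : ∑ r, PowerSeries.C (a r) * Hs (φ r) = 0 := by
    ext j
    rw [map_sum, map_zero]
    simpa only [PowerSeries.coeff_C_mul, LocRes.hasseD_apply] using h j
  have hsub := PowerSeries.HasSubst.of_constantCoeff_zero' (S := K) (a := u) hu
  have hrel' : ∑ r, PowerSeries.C (a r) * Ht (φ r) = 0 := by
    have e := congrArg (PowerSeries.substAlgHom (R := K) hsub) hrel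
    rw [map_sum, map_zero] at e
    rw [← e]
    refine Finset.sum_congr rfl fun r _ => ?_
    rw [map_mul, hchg, PowerSeries.coe_substAlgHom, PowerSeries.subst_C]
    rfl
  by_contra ha
  obtain ⟨r₁, hr₁⟩ := Function.ne_iff.1 ha
  obtain ⟨r₀, hr₀⟩ := exists_isMax P a ⟨r₁, hr₁⟩
  obtain ⟨i₀, hi₀⟩ := exists_isMax P φ ⟨0, hφ.ne_zero 0⟩
  let φ' : Fin (n + 1) → K := fun r => (φ i₀)⁻¹ * φ r
  have hint : ∀ r, P.1 (φ' r) ≤ 1 := fun r => by
    change P.1 ((φ i₀)⁻¹ * φ r) ≤ 1
    rw [mul_comm, ← div_eq_mul_inv]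
    exact hi₀.ratio_le r
  let b : Fin (n + 1) → K := fun r => a r / a r₀
  have hb : ∀ r, P.1 (b r) ≤ 1 := fun r => hr₀.ratio_le r
  have hrel'' : ∀ j : ℕ, ∑ r, b r * LocRes.hasseD Ht j (φ' r) = 0 := by
    intro j
    have e : ∑ r, PowerSeries.C (b r) * Ht (φ' r) = 0 := by
      have : ∀ r, PowerSeries.C (b r) * Ht (φ' r) =
          (PowerSeries.C (a r₀)⁻¹ * Ht (φ i₀)⁻¹) * (PowerSeries.C (a r) * Ht (φ r)) := fun r => by
        simp only [b, φ', map_mul, div_eq_mul_inv]
        ring
      rw [Finset.sum_congr rfl fun r _ => this r, ← Finset.mul_sum, hrel', mul_zero]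
    have e' := congrArg (PowerSeries.coeff j) e
    rw [map_sum, map_zero] at e'
    simpa only [PowerSeries.coeff_C_mul, LocRes.hasseD_apply] using e'
  have hφ' : LinearIndependent k φ' :=
    hφ.map' (LinearMap.mulLeft k (φ i₀)⁻¹)
      (LinearMap.ker_eq_bot.2 fun x y hxy => mul_left_cancel₀ (inv_ne_zero hi₀.1) hxy)
  have hzero : (fun r => (ψ (b r)).coeff 0) = 0 := by
    refine rows_indep_at hK hφ' hint hψ _ fun j => ?_
    have e := congrArg (fun z => (ψ z).coeff 0) (hrel'' j)
    simp only [map_sum, HahnSeries.coeff_sum, map_zero, HahnSeries.coeff_zero] at e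
    rw [← e]
    refine Finset.sum_congr rfl fun r _ => ?_
    obtain ⟨hD1, hD2⟩ := hasseD_at hK hψ hψt hHt (hint r) j
    obtain ⟨G1, hG1⟩ := exists_power_series hψ (hb r)
    obtain ⟨G2, hG2⟩ := exists_power_series hψ hD1
    rw [← hD2, map_mul, hG1, hG2, ← PowerSeries.coe_mul, PowerSeries.coeff_coe, PowerSeries.coeff_coe,
      PowerSeries.coeff_coe]
    simp
  have h1 := congrFun hzero r₀
  simp only [b, Pi.zero_apply] at h1
  rw [div_self hr₀.1, map_one, HahnSeries.coeff_one] at h1
  simp at h1

end algClosed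

end Groth.Agent.FF
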