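import Mathlib
import Groth.Prelude.Def_W4bk4goldsch45p2

/-! Jump indices of sequences of vectors, order sequences and Wronskian determinants. -/

set_option autoImplicit false

namespace Groth.Agent.FF

open FunFld
open scoped Classical

universe u

variable {R : Type u} [Field R] {M : Type*} [AddCommGroup M] [Module R M]

/-- The span of the first vectors is spanned by the jumps among them. -/
lemma span_Iio_eq_jumps (c : ℕ → M) (j : ℕ) :
    Submodule.span R (c '' Set.Iio j) = Submodule.span R (c '' {i | i < j ∧ IsJump R c i}) := by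
  refine le_antisymm ?_ (Submodule.span_mono (Set.image_mono fun i hi => hi.1))
  induction j with
  | zero => simp
  | succ j ih =>
    rw [Submodule.span_le]
    rintro _ ⟨i, hi, rfl⟩
    have hmono : Submodule.span R (c '' {i | i < j ∧ IsJump R c i}) ≤
        Submodule.span R (c '' {i | i < j + 1 ∧ IsJump R c i}) :=
      Submodule.span_mono (Set.image_mono fun m hm => ⟨hm.1.trans j.lt_succ_self, hm.2⟩)
    rcases Nat.lt_succ_iff_lt_or_eq.1 hi with hi | rfl
    · exact hmono (ih (Submodule.subset_span ⟨i, hi, rfl⟩))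
    · by_cases hc : IsJump R c i
      · exact Submodule.subset_span ⟨i, ⟨Nat.lt_succ_self _, hc⟩, rfl⟩
      · exact hmono (ih (not_not.1 hc))

/-- Vectors at increasing jump indices are independent. -/
lemma linearIndependent_jumps (c : ℕ → M) :
    ∀ {m : ℕ} (f : Fin m → ℕ), StrictMono f → (∀ i, IsJump R c (f i)) → LinearIndependent R (c ∘ f) := by
  intro m
  induction m with
  | zero => intro f _ _; exact linearIndependent_empty_type
  | succ m ih =>
    intro f hf hj
    rw [linearIndependent_fin_succ']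
    refine ⟨ih (Fin.init f) (fun a b hab => hf (by simpa using hab)) (fun i => hj _), fun h => hj (Fin.last m) ?_⟩
    refine Submodule.span_mono ?_ h
    rintro _ ⟨i, rfl⟩
    exact ⟨f i.castSucc, hf (Fin.castSucc_lt_last i), rfl⟩

/-- Jumps are unchanged by a linear equivalence. -/
lemma isJump_map_iff {M' : Type*} [AddCommGroup M'] [Module R M'] (L : M →ₗ[R] M') (hL : Function.Injective L)
    (c : ℕ → M) (j : ℕ) : IsJump R (fun i => L (c i)) j ↔ IsJump R c j := by
  have h : Submodule.span R ((fun i => L (c i)) '' Set.Iio j) = (Submodule.span R (c '' Set.Iio j)).map L := by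
    rw [Submodule.map_span, Set.image_image]
  rw [IsJump, IsJump, h]
  exact not_congr ⟨fun ⟨x, hx, e⟩ => hL e ▸ hx, fun hx => ⟨_, hx, rfl⟩⟩

/-- Sequences differing triangularly have the same partial spans. -/
lemma span_eq_of_triangular {c c' : ℕ → M} {a : ℕ → R} (ha : ∀ j, a j ≠ 0)
    (h : ∀ j, c' j - a j • c j ∈ Submodule.span R (c '' Set.Iio j)) (j : ℕ) :
    Submodule.span R (c' '' Set.Iio j) = Submodule.span R (c '' Set.Iio j) := by
  induction j using Nat.strong_induction_on with
  | _ j ih =>
    apply le_antisymm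
    · rw [Submodule.span_le]
      rintro _ ⟨i, hi, rfl⟩
      rw [SetLike.mem_coe, ← sub_add_cancel (c' i) (a i • c i)]
      exact add_mem (Submodule.span_mono (Set.image_mono (Set.Iio_subset_Iio (le_of_lt hi))) (h i))
        (Submodule.smul_mem _ _ (Submodule.subset_span ⟨i, hi, rfl⟩))
    · rw [Submodule.span_le]
      rintro _ ⟨i, hi, rfl⟩
      have h1 : a i • c i ∈ Submodule.span R (c' '' Set.Iio j) := by
        rw [show a i • c i = c' i - (c' i - a i • c i) by abel]
        refine sub_mem (Submodule.subset_span ⟨i, hi, rfl⟩)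
          (Submodule.span_mono (Set.image_mono (Set.Iio_subset_Iio (le_of_lt hi))) ?_)
        rw [ih i hi]
        exact h i
      exact (Submodule.smul_mem_iff _ (ha i)).1 h1

lemma isJump_iff_of_triangular {c c' : ℕ → M} {a : ℕ → R} (ha : ∀ j, a j ≠ 0)
    (h : ∀ j, c' j - a j • c j ∈ Submodule.span R (c '' Set.Iio j)) (j : ℕ) :
    IsJump R c' j ↔ IsJump R c j := by
  rw [IsJump, IsJump, span_eq_of_triangular ha h]
  refine not_congr ⟨fun h1 => (Submodule.smul_mem_iff _ (ha j)).1 ?_, fun h1 => ?_⟩
  · rw [show a j • c j = c' j - (c' j - a j • c j) by abel]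
    exact sub_mem h1 (h j)
  · rw [← sub_add_cancel (c' j) (a j • c j)]
    exact add_mem (h j) (Submodule.smul_mem _ _ h1)

lemma isOrders_iff_of_jumps {c c' : ℕ → M} (h : ∀ j, IsJump R c' j ↔ IsJump R c j) {n : ℕ} (J : Fin n → ℕ) :
    IsOrders R c' J ↔ IsOrders R c J := by simp only [IsOrders, h]

/-- Order sequences are unique. -/
lemma isOrders_unique {c : ℕ → M} {n : ℕ} {J J' : Fin n → ℕ} (h : IsOrders R c J) (h' : IsOrders R c J') : J = J' :=
  (StrictMono.range_inj h.1 h'.1).1 (Set.ext fun j => (h.2 j).trans (h'.2 j).symm)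

section square

variable {n : ℕ}

/-- The column indices of a Wronskian matrix. -/
def idxOf (J : Fin n → ℕ) : Fin (n + 1) → ℕ := Fin.cons 0 fun l => J l + 1

lemma idxOf_zero (J : Fin n → ℕ) : idxOf J 0 = 0 := rfl

lemma idxOf_succ (J : Fin n → ℕ) (l : Fin n) : idxOf J l.succ = J l + 1 := rfl

lemma strictMono_idxOf {J : Fin n → ℕ} (hJ : StrictMono J) : StrictMono (idxOf J) := by
  intro a b hab
  induction b using Fin.cases with
  | zero => exact absurd hab (Fin.not_lt_zero a)
  | succ b =>
    induction a using Fin.cases with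
    | zero => exact Nat.succ_pos _
    | succ a => exact Nat.succ_lt_succ (hJ (Fin.succ_lt_succ_iff.1 hab))

variable {c : ℕ → Fin (n + 1) → R}

lemma isJump_zero (h0 : c 0 ≠ 0) : IsJump R c 0 := by
  simp [IsJump, h0]

lemma isJump_idxOf (h0 : c 0 ≠ 0) {J : Fin n → ℕ} (hJ : IsOrders R c J) (i : Fin (n + 1)) :
    IsJump R c (idxOf J i) := by
  induction i using Fin.cases with
  | zero => exact isJump_zero h0
  | succ l => exact (hJ.2 (J l)).1 ⟨l, rfl⟩

lemma span_Iio_le_idxOf {J : Fin n → ℕ} (hJ : IsOrders R c J) (j : ℕ) :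
    Submodule.span R (c '' Set.Iio j) ≤ Submodule.span R ((c ∘ idxOf J) '' {i | idxOf J i < j}) := by
  rw [span_Iio_eq_jumps]
  refine Submodule.span_mono ?_
  rintro _ ⟨i, ⟨hij, hi⟩, rfl⟩
  rcases Nat.eq_zero_or_pos i with rfl | hpos
  · exact ⟨0, hij, rfl⟩
  · obtain ⟨i, rfl⟩ : ∃ i', i = i' + 1 := ⟨i - 1, by omega⟩
    obtain ⟨l, rfl⟩ := (hJ.2 i).2 hi
    exact ⟨l.succ, hij, rfl⟩

/-- The determinant at the order sequence is nonzero. -/
lemma det_ne_zero_of_isOrders (h0 : c 0 ≠ 0) {J : Fin n → ℕ} (hJ : IsOrders R c J) :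
    (Matrix.of fun i l => c (idxOf J l) i).det ≠ 0 := by
  have h := linearIndependent_jumps c (idxOf J) (strictMono_idxOf hJ.1) (isJump_idxOf h0 hJ)
  have h2 : IsUnit (Matrix.of fun i l => c (idxOf J l) i) := by
    rw [← Matrix.linearIndependent_cols_iff_isUnit]
    exact h
  exact ((Matrix.isUnit_iff_isUnit_det _).1 h2).ne_zero

/-- The order sequence is minimal among index sequences with nonzero determinant. -/
lemma isOrders_le {J J' : Fin n → ℕ} (hJ : IsOrders R c J) (hJ' : StrictMono J')
    (hdet : (Matrix.of fun i l => c (idxOf J' l) i).det ≠ 0) (l : Fin n) : J l ≤ J' l := by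
  by_contra hlt
  push Not at hlt
  have hli : LinearIndependent R (c ∘ idxOf J') :=
    Matrix.linearIndependent_cols_iff_isUnit.2 ((Matrix.isUnit_iff_isUnit_det _).2 (isUnit_iff_ne_zero.2 hdet))
  set V := Submodule.span R (c '' Set.Iio (J l + 1))
  have hle : V ≤ Submodule.span R ((c ∘ idxOf J) '' ↑(Finset.Iic l.castSucc)) := by
    refine (span_Iio_le_idxOf hJ _).trans (Submodule.span_mono (Set.image_mono fun i hi => ?_))
    rw [Finset.coe_Iic, Set.mem_Iic]
    by_contra hc
    push Not at hc
    have h2 : idxOf J l.succ ≤ idxOf J i := (strictMono_idxOf hJ.1).monotone (Fin.castSucc_lt_iff_succ_le.1 hc)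
    rw [idxOf_succ] at h2
    have : idxOf J i < J l + 1 := hi
    omega
  have hdim : Module.finrank R V ≤ l + 1 := by
    refine (Submodule.finrank_mono hle).trans ?_
    rw [← Finset.coe_image]
    refine (finrank_span_finset_le_card _).trans (Finset.card_image_le.trans ?_)
    simp [Fin.card_Iic]
  let e : Fin (l + 2) → Fin (n + 1) := fun m => ⟨m, by omega⟩
  have hge : (l : ℕ) + 2 ≤ Module.finrank R V := by
    have hli' := hli.comp e (fun a b hab => Fin.ext (Fin.mk.injEq _ _ _ _ ▸ hab : (a : ℕ) = b))
    have hmem : ∀ m, (c ∘ idxOf J') (e m) ∈ V := by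
      intro m
      refine Submodule.subset_span ⟨idxOf J' (e m), ?_, rfl⟩
      have hm : idxOf J' (e m) ≤ idxOf J' l.succ :=
        (strictMono_idxOf hJ').monotone (Fin.le_iff_val_le_val.2 (by have := m.2; simp [e]; omega))
      rw [idxOf_succ] at hm
      exact lt_of_le_of_lt hm (Nat.succ_lt_succ hlt)
    have hli2 : LinearIndependent R (fun m => (⟨(c ∘ idxOf J') (e m), hmem m⟩ : V)) :=
      LinearIndependent.of_comp V.subtype hli'
    simpa using hli2.fintype_card_le_finrank
  omega

/-- An order sequence exists as soon as all the columns span. -/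
lemma exists_isOrders (h0 : c 0 ≠ 0) (hspan : Submodule.span R (Set.range c) = ⊤) :
    ∃ J : Fin n → ℕ, IsOrders R c J := by
  set S := {j : ℕ | IsJump R c j}
  have hcard : ∀ s : Finset ℕ, ↑s ⊆ S → s.card ≤ n + 1 := by
    intro s hs
    have h := linearIndependent_jumps c (fun i => (s.orderEmbOfFin rfl i)) (OrderEmbedding.strictMono _)
      (fun i => hs (Finset.orderEmbOfFin_mem s rfl i))
    simpa using h.fintype_card_le_finrank
  have hfin : S.Finite := by
    by_contra hinf
    obtain ⟨s, hs, hs'⟩ := Set.Infinite.exists_subset_card_eq hinf (n + 2)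
    have := hcard s hs
    omega
  have hn : hfin.toFinset.card = n + 1 := by
    refine le_antisymm (hcard _ (by simp)) ?_
    have htop : (⊤ : Submodule R (Fin (n + 1) → R)) ≤ Submodule.span R ↑(hfin.toFinset.image c) := by
      rw [← hspan, Submodule.span_le]
      rintro _ ⟨j, rfl⟩
      have h1 : c j ∈ Submodule.span R (c '' Set.Iio (j + 1)) := Submodule.subset_span ⟨j, j.lt_succ_self, rfl⟩
      rw [span_Iio_eq_jumps] at h1
      exact Submodule.span_mono (by rintro _ ⟨i, hi, rfl⟩; simpa using ⟨i, hi.2, rfl⟩) h1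
    have h2 := Submodule.finrank_mono htop
    rw [finrank_top, Module.finrank_fin_fun] at h2
    exact h2.trans ((finrank_span_finset_le_card _).trans Finset.card_image_le)
  set T := (hfin.toFinset.erase 0).image (fun j => j - 1)
  have hT : T.card = n := by
    rw [Finset.card_image_of_injOn (fun a ha b hb hab => by
      simp at ha hb hab; omega), Finset.card_erase_of_mem (by simpa [S] using isJump_zero h0), hn]
    rfl
  refine ⟨fun i => T.orderEmbOfFin hT i, OrderEmbedding.strictMono _, fun j => ?_⟩
  rw [Finset.range_orderEmbOfFin, Finset.mem_coe, Finset.mem_image]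
  constructor
  · rintro ⟨i, hi, rfl⟩
    rw [Finset.mem_erase, Set.Finite.mem_toFinset] at hi
    rw [Nat.sub_add_cancel (Nat.pos_of_ne_zero hi.1)]
    exact hi.2
  · exact fun h => ⟨j + 1, Finset.mem_erase.2 ⟨Nat.succ_ne_zero _, hfin.mem_toFinset.2 h⟩, by simp⟩

/-- Determinants of triangularly related column sequences at the order sequence. -/
lemma det_of_triangular {c' : ℕ → Fin (n + 1) → R} {a : ℕ → R} {J : Fin n → ℕ} (hJ : IsOrders R c J)
    (h : ∀ j, c' j - a j • c j ∈ Submodule.span R (c '' Set.Iio j)) :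
    (Matrix.of fun i l => c' (idxOf J l) i).det =
      (∏ l, a (idxOf J l)) * (Matrix.of fun i l => c (idxOf J l) i).det := by
  have hw : ∀ l : Fin (n + 1), ∃ w : Fin (n + 1) → R, (∀ m, l < m → w m = 0) ∧ w l = a (idxOf J l) ∧
      c' (idxOf J l) = ∑ m, w m • c (idxOf J m) := by
    intro l
    have h1 := span_Iio_le_idxOf hJ _ (h (idxOf J l))
    obtain ⟨f, hf, hfe⟩ := (Finsupp.mem_span_image_iff_linearCombination R).1 h1
    have hsupp : ∀ m, l ≤ m → f m = 0 := fun m hm => by
      by_contra hc
      have := (Finsupp.mem_supported R f).1 hf (Finsupp.mem_support_iff.2 hc)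
      exact (not_lt.2 ((strictMono_idxOf hJ.1).monotone hm)) this
    refine ⟨Function.update (⇑f) l (a (idxOf J l)), fun m hm => ?_, Function.update_self .., ?_⟩
    · rw [Function.update_of_ne hm.ne', hsupp m hm.le]
    · rw [← sub_add_cancel (c' (idxOf J l)) (a (idxOf J l) • c (idxOf J l)), ← hfe,
        Finsupp.linearCombination_apply,
        Finsupp.sum_fintype f (fun i b => b • (c ∘ idxOf J) i) (fun i => zero_smul R _),
        ← Finset.add_sum_erase _ _ (Finset.mem_univ l),
        ← Finset.add_sum_erase Finset.univ (fun m => Function.update (⇑f) l (a (idxOf J l)) m • c (idxOf J m))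
          (Finset.mem_univ l),
        Function.update_self, hsupp l le_rfl, zero_smul, zero_add]
      conv_lhs => rw [add_comm]
      congr 1
      refine Finset.sum_congr rfl fun m hm => ?_
      rw [Function.update_of_ne (Finset.ne_of_mem_erase hm)]
      rfl
  choose w hw0 hwl hwe using hw
  have hM : (Matrix.of fun i l => c' (idxOf J l) i) =
      (Matrix.of fun i l => c (idxOf J l) i) * (Matrix.of fun m l => w l m) := by
    ext i l
    rw [Matrix.mul_apply, Matrix.of_apply, hwe l, Finset.sum_apply]
    exact Finset.sum_congr rfl fun m _ => by simp [mul_comm]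
  rw [hM, Matrix.det_mul, Matrix.det_of_isUpperTriangular (M := Matrix.of fun m l => w l m)
    (fun i j hij => hw0 j i hij), mul_comm]
  simp only [Matrix.of_apply, hwl]

/-- A jump is detected by a relation among the rows. -/
lemma isJump_iff_exists (j : ℕ) :
    IsJump R c j ↔ ∃ a : Fin (n + 1) → R, (∀ i < j, ∑ r, a r * c i r = 0) ∧ ∑ r, a r * c j r ≠ 0 := by
  constructor
  · intro h
    obtain ⟨f, hf1, hf2⟩ := Submodule.exists_le_ker_of_notMem (p := Submodule.span R (c '' Set.Iio j)) h
    have hf : ∀ v : Fin (n + 1) → R, f v = ∑ r, f (fun i => if r = i then 1 else 0) * v r := fun v => by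
      rw [LinearMap.pi_apply_eq_sum_univ f v]
      exact Finset.sum_congr rfl fun r _ => by rw [smul_eq_mul, mul_comm]
    exact ⟨fun r => f (fun i => if r = i then 1 else 0), fun i hi => by
      rw [← hf]; exact LinearMap.mem_ker.1 (hf2 (Submodule.subset_span ⟨i, hi, rfl⟩)), by rw [← hf]; exact hf1⟩
  · rintro ⟨a, ha, ha'⟩ h
    let f : (Fin (n + 1) → R) →ₗ[R] R :=
      { toFun := fun v => ∑ r, a r * v r
        map_add' := fun u v => by simp [mul_add, Finset.sum_add_distrib]
        map_smul' := fun b v => by simp [Finset.mul_sum]; exact Finset.sum_congr rfl fun r _ => by ring }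
    exact ha' ((Submodule.span_le.2 (by rintro _ ⟨i, hi, rfl⟩; exact ha i hi) h : c j ∈ LinearMap.ker f))

/-- Columns span everything when the rows are independent. -/
lemma span_range_eq_top_of_rows (h : ∀ a : Fin (n + 1) → R, (∀ j, ∑ r, a r * c j r = 0) → a = 0) :
    Submodule.span R (Set.range c) = ⊤ := by
  by_contra hne
  obtain ⟨v, hv⟩ : ∃ v, v ∉ Submodule.span R (Set.range c) := by
    by_contra hc; push Not at hc; exact hne (eq_top_iff.2 fun v _ => hc v)
  obtain ⟨f, hf1, hf2⟩ := Submodule.exists_le_ker_of_notMem hv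
  have hf : ∀ v : Fin (n + 1) → R, f v = ∑ r, f (fun i => if r = i then 1 else 0) * v r := fun v => by
    rw [LinearMap.pi_apply_eq_sum_univ f v]
    exact Finset.sum_congr rfl fun r _ => by rw [smul_eq_mul, mul_comm]
  have := h _ fun j => (hf (c j)).symm.trans (LinearMap.mem_ker.1 (hf2 (Submodule.subset_span ⟨j, rfl⟩)))
  refine hf1 ?_
  rw [hf v]
  exact Finset.sum_eq_zero fun r _ => by rw [congrFun this r]; simp

end square

/-- The Wronskian matrix is made of columns of `hcol`. -/
lemma wrMat_eq {k K : Type*} [Field k] [Field K] [Algebra k K] {n : ℕ} (τ : K →ₐ[k] K)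
    (H : K →ₐ[k] PowerSeries K) (φ : Fin (n + 1) → K) (I : Fin n → ℕ) :
    wrMat τ H φ I = Matrix.of fun i l => hcol τ H φ (idxOf I l) i := by
  ext i l
  induction l using Fin.cases with
  | zero => rfl
  | succ l => rfl

end Groth.Agent.FF
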