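import Mathlib
import Groth.Agent.FF.Jumps
import Groth.Agent.FF.HasseFam

/-! Order sequences of projective maps. -/

set_option autoImplicit false

namespace Groth.Agent.FF

open FunFld
open scoped Classical

universe u v

variable {k : Type u} {K : Type v} [Field k] [IsAlgClosed k] [Field K] [Algebra k K]
  {n : ℕ} {τ : K →ₐ[k] K} {φ : Fin (n + 1) → K} {s : K} {H : K →ₐ[k] PowerSeries K}

lemma hcol_zero_ne (τ : K →ₐ[k] K) (H : K →ₐ[k] PowerSeries K) (hφ : LinearIndependent k φ) :
    hcol τ H φ 0 ≠ 0 := fun h =>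
  (map_ne_zero τ).2 (hφ.ne_zero 0) (congrFun h 0)

lemma hcol_span_top (hK : IsFunctionField k K) (hφ : LinearIndependent k φ) (τ : K →ₐ[k] K)
    (hH : LocRes.IsHasseFamily s H) : Submodule.span K (Set.range (hcol τ H φ)) = ⊤ :=
  span_range_eq_top_of_rows fun a ha => rows_indep hK hφ hH a fun j => ha (j + 1)

/-- The order sequence exists and its Wronskian is nonzero. -/
theorem exists_orders (hK : IsFunctionField k K) (hφ : LinearIndependent k φ) (τ : K →ₐ[k] K)
    (hH : LocRes.IsHasseFamily s H) : ∃ J : Fin n → ℕ, IsOrders K (hcol τ H φ) J ∧ (wrMat τ H φ J).det ≠ 0 := by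
  obtain ⟨J, hJ⟩ := exists_isOrders (hcol_zero_ne τ H hφ) (hcol_span_top hK hφ τ hH)
  exact ⟨J, hJ, by rw [wrMat_eq]; exact det_ne_zero_of_isOrders (hcol_zero_ne τ H hφ) hJ⟩

lemma hasseD_mul_eq (H : K →ₐ[k] PowerSeries K) (a b : K) (j : ℕ) :
    LocRes.hasseD H j (a * b) =
      ∑ q ∈ Finset.range (j + 1), LocRes.hasseD H (j - q) a * LocRes.hasseD H q b := by
  rw [LocRes.hasseD_apply, map_mul, PowerSeries.coeff_mul, ← Finset.Nat.sum_antidiagonal_swap,
    Finset.Nat.sum_antidiagonal_eq_sum_range_succ_mk]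
  rfl

/-- The column sequence after scaling by `y`. -/
lemma hcol_smul_triangular (hH : LocRes.IsHasseFamily s H) (τ : K →ₐ[k] K) (φ : Fin (n + 1) → K) (y : K) (j : ℕ) :
    hcol τ H (y • φ) j - (if j = 0 then τ y else y) • hcol τ H φ j ∈
      Submodule.span K (hcol τ H φ '' Set.Iio j) := by
  rcases j with _ | j
  · have e : hcol τ H (y • φ) 0 = τ y • hcol τ H φ 0 := by
      funext i; exact map_mul τ y (φ i)
    simp [e]
  · rw [if_neg (Nat.succ_ne_zero j)]
    have e : hcol τ H (y • φ) (j + 1) = ∑ q ∈ Finset.range (j + 1), LocRes.hasseD H (j - q) y • hcol τ H φ (q + 1) := by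
      funext i
      rw [Finset.sum_apply]
      exact hasseD_mul_eq H y (φ i) j
    rw [e, Finset.sum_range_succ, Nat.sub_self, hasseD_zero hH, add_sub_cancel_right]
    exact Submodule.sum_mem _ fun q hq => Submodule.smul_mem _ _
      (Submodule.subset_span ⟨q + 1, Nat.succ_lt_succ (Finset.mem_range.1 hq), rfl⟩)

/-- The column sequence after a change of variable. -/
lemma hcol_change_triangular (hK : IsFunctionField k K) {t : K} {Hs Ht : K →ₐ[k] PowerSeries K}
    (hHs : LocRes.IsHasseFamily s Hs) (hHt : LocRes.IsHasseFamily t Ht) (τ : K →ₐ[k] K) (φ : Fin (n + 1) → K) (j : ℕ) :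
    hcol τ Ht φ j - (LocRes.hasseD Ht 1 s ^ (j - 1)) • hcol τ Hs φ j ∈
      Submodule.span K (hcol τ Hs φ '' Set.Iio j) := by
  rcases j with _ | j
  · simp [hcol]
  obtain ⟨u, hu, hu1, hchg⟩ := hasse_change hK (isGeometric_algClosed hK) hHs hHt
  have hsub := PowerSeries.HasSubst.of_constantCoeff_zero' (S := K) (a := u) hu
  obtain ⟨w, hw⟩ := PowerSeries.X_dvd_iff.2 hu
  have hcoef : ∀ d, PowerSeries.coeff j (u ^ d) = if d ≤ j then PowerSeries.coeff (j - d) (w ^ d) else 0 := fun d => by
    rw [hw, mul_pow, PowerSeries.coeff_X_pow_mul']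
  have e : hcol τ Ht φ (j + 1) = ∑ q ∈ Finset.range (j + 1), PowerSeries.coeff j (u ^ q) • hcol τ Hs φ (q + 1) := by
    funext i
    rw [Finset.sum_apply]
    change PowerSeries.coeff j (Ht (φ i)) = _
    rw [hchg, PowerSeries.coeff_subst' hsub,
      finsum_eq_sum_of_support_subset _ (s := Finset.range (j + 1)) (fun d hd => by
        by_contra hc
        rw [Finset.mem_coe, Finset.mem_range] at hc
        exact hd (by beta_reduce; rw [hcoef, if_neg (by omega), smul_zero]))]
    exact Finset.sum_congr rfl fun q _ => by rw [smul_eq_mul, mul_comm]; rfl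
  have hlast : PowerSeries.coeff j (u ^ j) = LocRes.hasseD Ht 1 s ^ j := by
    rw [hcoef, if_pos le_rfl, Nat.sub_self, PowerSeries.coeff_zero_eq_constantCoeff_apply, map_pow, ← hu1, hw,
      PowerSeries.coeff_succ_X_mul, PowerSeries.coeff_zero_eq_constantCoeff_apply]
  rw [e, Finset.sum_range_succ, hlast, Nat.add_sub_cancel, add_sub_cancel_right]
  exact Submodule.sum_mem _ fun q hq => Submodule.smul_mem _ _
    (Submodule.subset_span ⟨q + 1, Nat.succ_lt_succ (Finset.mem_range.1 hq), rfl⟩)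

lemma hasseD_one_ne_zero (hK : IsFunctionField k K) {t : K} {Hs Ht : K →ₐ[k] PowerSeries K}
    (hHs : LocRes.IsHasseFamily s Hs) (hHt : LocRes.IsHasseFamily t Ht) : LocRes.hasseD Ht 1 s ≠ 0 := by
  intro h
  have h0 := derivation_eq_zero_of_D_ne_zero hK (isGeometric_algClosed hK) (D_ne_zero_of_hasse hHs) (hasseDer hHt)
    (by rw [hasseDer_apply]; exact h)
  have := DFunLike.congr_fun h0 t
  rw [hasseDer_apply, hasseD_one_self hHt] at this
  exact one_ne_zero this

/-- The first jump is missing exactly for the identity. -/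
theorem not_isJump_one_iff (h0 : φ 0 ≠ 0)
    (hbir : IntermediateField.adjoin k (Set.range fun i => φ i / φ 0) = ⊤) (τ : K →ₐ[k] K)
    (hH : LocRes.IsHasseFamily s H) : ¬ IsJump K (hcol τ H φ) 1 ↔ τ = AlgHom.id k K := by
  have e1 : hcol τ H φ 1 = φ := funext fun i => hasseD_zero hH (φ i)
  have hset : Set.Iio 1 = {(0 : ℕ)} := by ext i; simp
  rw [IsJump, not_not, e1, hset, Set.image_singleton, Submodule.mem_span_singleton]
  constructor
  · rintro ⟨y, hy⟩
    have hy' : ∀ i, y * τ (φ i) = φ i := fun i => congrFun hy i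
    have hy0 : y ≠ 0 := fun h => h0 (by rw [← hy' 0, h, zero_mul])
    have hfix : ∀ i, τ (φ i / φ 0) = φ i / φ 0 := fun i => by
      rw [map_div₀]
      conv_rhs => rw [← hy' i, ← hy' 0, mul_div_mul_left _ _ hy0]
    refine AlgHom.ext fun z => ?_
    have hz : z ∈ IntermediateField.adjoin k (Set.range fun i => φ i / φ 0) := hbir ▸ IntermediateField.mem_top
    induction hz using IntermediateField.adjoin_induction with
    | mem w hw => obtain ⟨i, rfl⟩ := hw; exact hfix i
    | algebraMap w => simp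
    | add a b _ _ ha hb => rw [map_add, map_add, ha, hb]
    | inv a _ ha => rw [map_inv₀, map_inv₀, ha]
    | mul a b _ _ ha hb => rw [map_mul, map_mul, ha, hb]
  · rintro rfl
    exact ⟨1, by rw [one_smul]; rfl⟩

end Groth.Agent.FF
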