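import Mathlib
import Groth.Agent.FF.Orders

/-! Orders of a projective map at a place. -/

set_option autoImplicit false

namespace Groth.Agent.FF

open FunFld LaurentSeries HahnSeries
open scoped WithZero Classical

universe u v

variable {k : Type u} {K : Type v} [Field k] [Field K] [Algebra k K] {P : Place k K}

lemma exp_smul {F : Type*} [Field F] [Algebra k F] (ψ : K →ₐ[k] F⸨X⸩) (c : k) (f : K) (d : ℤ) :
    (ψ (c • f)).coeff d = algebraMap k F c * (ψ f).coeff d := by
  rw [Algebra.smul_def, map_mul, LocRes.map_algebraMap, HahnSeries.C_mul_eq_smul, HahnSeries.coeff_smul, smul_eq_mul]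

lemma exp_sum_smul (ψ : K →ₐ[k] k⸨X⸩) {ι : Type*} (s : Finset ι) (a : ι → k) (f : ι → K) (d : ℤ) :
    (ψ (∑ r ∈ s, a r • f r)).coeff d = ∑ r ∈ s, a r * (ψ (f r)).coeff d := by
  rw [map_sum, HahnSeries.coeff_sum]
  exact Finset.sum_congr rfl fun r _ => by rw [exp_smul, Algebra.algebraMap_self, RingHom.id_apply]

lemma v_eq_iff_coeff {F : Type*} [Field F] [Algebra k F] {ψ : K →ₐ[k] F⸨X⸩} (hψ : LocRes.IsExpansionAt P.1 ψ)
    (f : K) (m : ℤ) :
    P.1 f = WithZero.exp (-m) ↔ (∀ i < m, (ψ f).coeff i = 0) ∧ (ψ f).coeff m ≠ 0 := by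
  rw [← hψ.1]
  rcases eq_or_ne (ψ f) 0 with h | h
  · rw [h]; simp [WithZero.exp_ne_zero.symm]
  obtain ⟨u, -, -, hv⟩ := exists_eq_single_mul h
  rw [hv, WithZero.exp_inj, neg_inj]
  constructor
  · rintro rfl
    exact ⟨fun i hi => HahnSeries.coeff_eq_zero_of_lt_order hi, HahnSeries.coeff_order_eq_zero.not.2 h⟩
  · rintro ⟨h1, h2⟩
    exact le_antisymm (HahnSeries.order_le_of_coeff_ne_zero h2)
      (le_of_not_gt fun hlt => HahnSeries.coeff_order_eq_zero.not.2 h (h1 _ hlt))

/-- A series vanishing below `m` is `X^m` times a power series. -/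
lemma exists_shift {F : Type*} [Field F] (f : F⸨X⸩) (m : ℤ) (h : ∀ i < m, f.coeff i = 0) :
    ∃ G : PowerSeries F, f = single m (1 : F) * (G : F⸨X⸩) ∧ PowerSeries.constantCoeff G = f.coeff m := by
  refine ⟨PowerSeries.mk fun i => f.coeff (m + i), ?_, by simp [← PowerSeries.coeff_zero_eq_constantCoeff_apply]⟩
  ext d
  rw [coeff_single_mul, PowerSeries.coeff_coe, one_mul]
  split_ifs with hd
  · exact h d (by omega)
  · rw [PowerSeries.coeff_mk]
    congr 1
    omega

/-- The Hasse derivative of a series starting in degree `m`. -/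
lemma exists_hasseDeriv_shift {F : Type*} [Field F] (f : F⸨X⸩) (m I : ℕ) (h : ∀ i < (m : ℤ), f.coeff i = 0) :
    ∃ G : PowerSeries F, LaurentSeries.hasseDeriv F I f = single ((m : ℤ) - I) (1 : F) * (G : F⸨X⸩) ∧
      PowerSeries.constantCoeff G = (m.choose I : F) * f.coeff m := by
  obtain ⟨G, hG, hG0⟩ := exists_shift (LaurentSeries.hasseDeriv F I f) ((m : ℤ) - I) fun i hi => by
    rw [LaurentSeries.hasseDeriv_coeff, h _ (by omega), smul_zero]
  refine ⟨G, hG, ?_⟩
  rw [hG0, LaurentSeries.hasseDeriv_coeff, sub_add_cancel, Ring.choose_natCast, natCast_zsmul, nsmul_eq_mul]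

lemma v_coe_le_one {F : Type*} [Field F] (G : PowerSeries F) : Valued.v (G : F⸨X⸩) ≤ 1 :=
  (LaurentSeries.val_le_one_iff_eq_coe F _).2 ⟨G, rfl⟩

lemma v_coe_eq_one_iff {F : Type*} [Field F] (G : PowerSeries F) :
    Valued.v (G : F⸨X⸩) = 1 ↔ PowerSeries.constantCoeff G ≠ 0 := by
  have h0 : (G : F⸨X⸩).coeff 0 = PowerSeries.constantCoeff G := by
    rw [PowerSeries.coeff_coe]; simp
  rw [← h0]
  refine ⟨fun h hc => absurd h (ne_of_lt (v_lt_one_iff_coeff.2 fun m hm => ?_)), fun h =>
    le_antisymm (v_coe_le_one G) (le_of_not_gt fun hlt => h (v_lt_one_iff_coeff.1 hlt 0 le_rfl))⟩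
  rcases lt_or_eq_of_le hm with hm | rfl
  · rw [PowerSeries.coeff_coe, if_pos hm]
  · exact hc

section binom

variable {n : ℕ}

lemma det_of_col_zero {R : Type*} [CommRing R] (A : Matrix (Fin (n + 1)) (Fin (n + 1)) R) (h0 : A 0 0 = 1)
    (h : ∀ r : Fin n, A r.succ 0 = 0) : A.det = (A.submatrix Fin.succ Fin.succ).det := by
  rw [Matrix.det_succ_column_zero, Fin.sum_univ_succ,
    Finset.sum_eq_zero (fun r _ => by rw [h r]; ring), add_zero, h0, Fin.succAbove_zero]
  simp

lemma det_of_row_zero {R : Type*} [CommRing R] (A : Matrix (Fin (n + 1)) (Fin (n + 1)) R) (h0 : A 0 0 = 1)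
    (h : ∀ r : Fin n, A 0 r.succ = 0) : A.det = (A.submatrix Fin.succ Fin.succ).det := by
  rw [Matrix.det_succ_row_zero, Fin.sum_univ_succ,
    Finset.sum_eq_zero (fun r _ => by rw [h r]; ring), add_zero, h0, Fin.succAbove_zero]
  simp

lemma det_binomMat_self (R : Type*) [CommRing R] {J : Fin n → ℕ} (hJ : StrictMono J) :
    (binomMat R J J).det = 1 := by
  rw [Matrix.det_of_isLowerTriangular (binomMat R J J) (fun r s hrs => by
    change (((J r).choose (J s) : ℕ) : R) = 0
    rw [show (J r).choose (J s) = 0 from Nat.choose_eq_zero_of_lt (hJ hrs), Nat.cast_zero])]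
  simp [binomMat]

/-- Small index sequences with nonvanishing binomial determinant. -/
lemma exists_binom_le (J : Fin n → ℕ) (hJ : StrictMono J) (hn : 0 < n) :
    ∃ I : Fin n → ℕ, StrictMono I ∧ (binomMat k J I).det ≠ 0 ∧ ∀ l, I l + J ⟨0, hn⟩ ≤ J l := by
  let J₀ : Fin (n + 1) → ℕ := Fin.cons 0 J
  let c : ℕ → Fin (n + 1) → k := fun
    | 0 => Pi.single 0 1
    | i + 1 => fun r => ((J₀ r).choose i : k)
  have hc0 : c 0 ≠ 0 := by simp [c]
  have hspan : Submodule.span k (Set.range c) = ⊤ := by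
    refine span_range_eq_top_of_rows fun a ha => ?_
    have ha0 : a 0 = 0 := by simpa [c, Pi.single_apply] using ha 0
    have hv : Matrix.vecMul (fun r => a r.succ) (binomMat k J J) = 0 := by
      funext s
      have := ha (J s + 1)
      simp only [c, Fin.sum_univ_succ, ha0, zero_mul, zero_add] at this
      simpa [Matrix.vecMul, dotProduct, binomMat, J₀] using this
    have hz := Matrix.eq_zero_of_vecMul_eq_zero (by rw [det_binomMat_self k hJ]; exact one_ne_zero) hv
    funext r
    induction r using Fin.cases with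
    | zero => exact ha0
    | succ r => exact congrFun hz r
  obtain ⟨I, hI⟩ := exists_isOrders hc0 hspan
  have hdet : (binomMat k J I).det ≠ 0 := by
    have h := det_ne_zero_of_isOrders hc0 hI
    rw [det_of_col_zero _ (by simp [idxOf_zero, c]) (fun r => by simp [idxOf_zero, c, Fin.succ_ne_zero r])] at h
    convert h using 2
    ext r s
    simp [binomMat, idxOf_succ, c, J₀]
  refine ⟨I, hI.1, hdet, fun l => ?_⟩
  have hJ0 : J ⟨0, hn⟩ ≤ J l := hJ.monotone (Fin.le_iff_val_le_val.2 (Nat.zero_le _))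
  suffices h : I l ≤ J l - J ⟨0, hn⟩ by omega
  by_contra hlt
  push Not at hlt
  set d := J l - J ⟨0, hn⟩ with hd
  -- the pairing with the first jump columns has a kernel
  let L : (Fin (l + 2) → k) →ₗ[k] (Fin (l + 1) → k) :=
    { toFun := fun a m => ∑ r : Fin (l + 2), a r * c (idxOf I ⟨m, by omega⟩) ⟨r, by omega⟩
      map_add' := fun a b => by funext m; simp [add_mul, Finset.sum_add_distrib]
      map_smul' := fun b a => by
        funext m
        simp only [Pi.smul_apply, smul_eq_mul, RingHom.id_apply, Finset.mul_sum, mul_assoc] }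
  obtain ⟨a, ha, ha0⟩ : ∃ a, L a = 0 ∧ a ≠ 0 := by
    by_contra hc
    push Not at hc
    have hinj : Function.Injective L := (injective_iff_map_eq_zero L).2 hc
    have h2 := LinearMap.finrank_le_finrank_of_injective hinj
    simp at h2
  have hkill : ∀ i < d + 2, ∑ r : Fin (l + 2), a r * c i ⟨r, by omega⟩ = 0 := by
    intro i hi
    let f : (Fin (n + 1) → k) →ₗ[k] k :=
      { toFun := fun v => ∑ r : Fin (l + 2), a r * v ⟨r, by omega⟩
        map_add' := fun u v => by simp [mul_add, Finset.sum_add_distrib]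
        map_smul' := fun b v => by
          simp only [Pi.smul_apply, smul_eq_mul, RingHom.id_apply, Finset.mul_sum]
          exact Finset.sum_congr rfl fun r _ => by ring }
    have hmem : c i ∈ Submodule.span k (c '' Set.Iio (d + 2)) := Submodule.subset_span ⟨i, hi, rfl⟩
    have hle : Submodule.span k (c '' Set.Iio (d + 2)) ≤ LinearMap.ker f := by
      refine (span_Iio_le_idxOf hI _).trans (Submodule.span_le.2 ?_)
      rintro _ ⟨m, hm, rfl⟩
      have hml : (m : ℕ) ≤ l := by
        by_contra hc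
        push Not at hc
        have h2 : idxOf I l.succ ≤ idxOf I m :=
          (strictMono_idxOf hI.1).monotone (Fin.le_iff_val_le_val.2 (by simpa using hc))
        rw [idxOf_succ] at h2
        have : idxOf I m < d + 2 := hm
        omega
      exact congrFun ha ⟨m, by omega⟩
    exact LinearMap.mem_ker.1 (hle hmem)
  have ha00 : a 0 = 0 := by
    have := hkill 0 (by omega)
    rw [Finset.sum_eq_single (0 : Fin (l + 2))] at this
    · change a 0 * Pi.single (M := fun _ : Fin (n + 1) => k) 0 1 0 = 0 at this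
      rwa [Pi.single_eq_same, mul_one] at this
    · intro r _ hr
      change a r * Pi.single (M := fun _ : Fin (n + 1) => k) 0 1 ⟨r, _⟩ = 0
      rw [Pi.single_apply, if_neg (fun h => hr (Fin.ext (by simpa using congrArg Fin.val h))), mul_zero]
    · simp
  let e : Fin (l + 1) → ℕ := fun r => J ⟨r, by omega⟩ - J ⟨0, hn⟩
  have he : ∀ r, e r ≤ d := fun r => Nat.sub_le_sub_right (hJ.monotone (Fin.le_iff_val_le_val.2 (Nat.le_of_lt_succ r.2))) _
  let Q : Polynomial k := ∑ r : Fin (l + 1), Polynomial.C (a r.succ) * (1 + Polynomial.X) ^ e r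
  have hdeg : Q.natDegree ≤ d := Polynomial.natDegree_sum_le_of_forall_le _ _ fun r _ =>
    (Polynomial.natDegree_C_mul_le _ _).trans (Polynomial.natDegree_pow_le.trans
      (by
        have : (1 + Polynomial.X : Polynomial k).natDegree ≤ 1 := by
          rw [add_comm, ← Polynomial.C_1, Polynomial.natDegree_X_add_C]
        calc e r * (1 + Polynomial.X : Polynomial k).natDegree ≤ e r * 1 := Nat.mul_le_mul_left _ this
          _ ≤ d := by rw [mul_one]; exact he r))
  have hX : (Polynomial.X : Polynomial k) ^ (d + 1) ∣ (1 + Polynomial.X) ^ J ⟨0, hn⟩ * Q := by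
    rw [Polynomial.X_pow_dvd_iff]
    intro i hi
    rw [Finset.mul_sum, Polynomial.finsetSum_coeff]
    have := hkill (i + 1) (by omega)
    rw [Fin.sum_univ_succ, ha00, zero_mul, zero_add] at this
    refine Eq.trans (Finset.sum_congr rfl fun r _ => ?_) this
    rw [mul_left_comm, Polynomial.coeff_C_mul, ← _root_.pow_add, Polynomial.coeff_one_add_X_pow]
    congr 1
    change _ = (((J₀ ⟨(r.succ : Fin (l + 2)), _⟩).choose i : ℕ) : k)
    congr 2
    rw [show (⟨(r.succ : Fin (l + 2)), by omega⟩ : Fin (n + 1)) = (⟨r, by omega⟩ : Fin n).succ from Fin.ext rfl]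
    simp only [J₀, Fin.cons_succ, e]
    have := hJ.monotone (a := ⟨0, hn⟩) (b := ⟨r, by omega⟩) (Fin.le_iff_val_le_val.2 (Nat.zero_le _))
    omega
  have hQ : Q = 0 := by
    have hcop : IsCoprime ((Polynomial.X : Polynomial k) ^ (d + 1)) ((1 + Polynomial.X) ^ J ⟨0, hn⟩) :=
      (IsCoprime.pow (x := (Polynomial.X : Polynomial k)) ⟨-1, 1, by ring⟩)
    refine Polynomial.eq_zero_of_dvd_of_natDegree_lt (hcop.dvd_of_dvd_mul_left hX) ?_
    rw [Polynomial.natDegree_X_pow]
    omega
  have hcomp := congrArg (fun q => q.comp (Polynomial.X - 1)) hQ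
  simp [Q, Polynomial.sum_comp, Polynomial.mul_comp, Polynomial.pow_comp] at hcomp
  refine ha0 (funext fun r => ?_)
  induction r using Fin.cases with
  | zero => exact ha00
  | succ r =>
    have hc2 := congrArg (fun q => Polynomial.coeff q (e r)) hcomp
    simp only [Polynomial.finsetSum_coeff, Polynomial.coeff_zero, Polynomial.coeff_C_mul_X_pow] at hc2
    rw [Finset.sum_eq_single r] at hc2
    · simpa using hc2
    · intro s _ hsr
      rw [if_neg]
      intro h
      refine hsr (Fin.ext ?_)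
      have h1 := hJ.monotone (a := ⟨0, hn⟩) (b := ⟨s, by omega⟩) (Fin.le_iff_val_le_val.2 (Nat.zero_le _))
      have h2 := hJ.monotone (a := ⟨0, hn⟩) (b := ⟨r, by omega⟩) (Fin.le_iff_val_le_val.2 (Nat.zero_le _))
      have h3 := hJ.injective (show J ⟨s, by omega⟩ = J ⟨r, by omega⟩ by simp only [e] at h; omega)
      simpa [Fin.ext_iff] using h3
    · simp

end binom

variable [IsAlgClosed k] {n : ℕ} {φ : Fin (n + 1) → K} {t : K} {Ht : K →ₐ[k] PowerSeries K}

lemma integral_of_mem_span (hnorm : ∀ i, P.1 (φ i) ≤ 1) {f : K} (hf : f ∈ Submodule.span k (Set.range φ)) :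
    P.1 f ≤ 1 := by
  obtain ⟨a, rfl⟩ := (Submodule.mem_span_range_iff_exists_fun k).1 hf
  exact Valuation.map_sum_le _ fun r _ => (v_smul_le P _ _).trans (hnorm r)

/-- The jumps at a place are the orders of functions in the span. -/
theorem isJump_at_iff (hK : IsFunctionField k K) (hnorm : ∀ i, P.1 (φ i) ≤ 1) (ht : P.1 t = WithZero.exp (-1))
    (hHt : LocRes.IsHasseFamily t Ht) (j : ℕ) :
    IsJump (IsLocalRing.ResidueField P.O) (hcolAt P Ht φ) (j + 1) ↔
      1 ≤ j ∧ ∃ f ∈ Submodule.span k (Set.range φ), P.1 f = WithZero.exp (-(j : ℤ)) := by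
  obtain ⟨ψ, hψ, hψt⟩ := exists_expansion_k hK ht
  have hb := residue_bijective hK P
  have hcol0 : ∀ r, hcolAt P Ht φ 0 r = algebraMap k _ ((ψ (φ r)).coeff 0) := fun r => evalP_eq hK hψ (hnorm r)
  have hcol : ∀ (i : ℕ) r, hcolAt P Ht φ (i + 1) r = algebraMap k _ ((ψ (φ r)).coeff i) := fun i r => by
    obtain ⟨h1, h2⟩ := hasseD_at hK hψ hψt hHt (hnorm r) i
    change evalP P (LocRes.hasseD Ht i (φ r)) = _
    rw [evalP_eq hK hψ h1, h2]
  rw [isJump_iff_exists]
  constructor
  · rintro ⟨a, ha, ha'⟩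
    choose c hc using fun r => hb.2 (a r)
    have hj : 1 ≤ j := by
      by_contra hj
      obtain rfl : j = 0 := by omega
      refine ha' ?_
      rw [← ha 0 Nat.one_pos]
      exact Finset.sum_congr rfl fun r _ => by rw [hcol0, hcol]; rfl
    refine ⟨hj, ∑ r, c r • φ r, (Submodule.mem_span_range_iff_exists_fun k).2 ⟨c, rfl⟩,
      (v_eq_iff_coeff hψ _ _).2 ⟨fun i hi => ?_, fun h => ha' ?_⟩⟩
    · rcases lt_or_ge i 0 with h | h
      · exact coeff_of_lt hψ h (integral_of_mem_span hnorm ((Submodule.mem_span_range_iff_exists_fun k).2 ⟨c, rfl⟩))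
      · lift i to ℕ using h
        rw [exp_sum_smul]
        apply hb.1
        rw [map_zero, map_sum, ← ha (i + 1) (by omega)]
        exact Finset.sum_congr rfl fun r _ => by rw [map_mul, hc, hcol]
    · rw [exp_sum_smul] at h
      have h' := congrArg (algebraMap k (IsLocalRing.ResidueField P.O)) h
      rw [map_sum, map_zero] at h'
      rw [← h']
      exact Finset.sum_congr rfl fun r _ => by rw [map_mul, hc, hcol]
  · rintro ⟨hj, f, hf, hv⟩
    obtain ⟨c, rfl⟩ := (Submodule.mem_span_range_iff_exists_fun k).1 hf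
    obtain ⟨hlt, hne⟩ := (v_eq_iff_coeff hψ _ _).1 hv
    refine ⟨fun r => algebraMap k _ (c r), fun i hi => ?_, fun h => hne ?_⟩
    · rcases i with _ | i
      · have h := hlt 0 (by omega)
        rw [exp_sum_smul] at h
        simp only [hcol0, ← map_mul, ← map_sum]
        rw [h, map_zero]
      · have h := hlt i (by omega)
        rw [exp_sum_smul] at h
        simp only [hcol, ← map_mul, ← map_sum]
        rw [h, map_zero]
    · simp only [hcol, ← map_mul, ← map_sum] at h
      rw [exp_sum_smul]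
      exact hb.1 (by rw [h, map_zero])

lemma orders_at_pos (hK : IsFunctionField k K) (hnorm : ∀ i, P.1 (φ i) ≤ 1) (ht : P.1 t = WithZero.exp (-1))
    (hHt : LocRes.IsHasseFamily t Ht) {J : Fin n → ℕ}
    (hJ : IsOrders (IsLocalRing.ResidueField P.O) (hcolAt P Ht φ) J) (l : Fin n) : 1 ≤ J l :=
  ((isJump_at_iff hK hnorm ht hHt (J l)).1 ((hJ.2 (J l)).1 ⟨l, rfl⟩)).1

/-- A basis adapted to the orders at the place, with its transition matrix. -/
theorem exists_adapted_orders (hK : IsFunctionField k K) (hφ : LinearIndependent k φ)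
    (heff : (1 : K) ∈ Submodule.span k (Set.range φ)) (hnorm : ∀ i, P.1 (φ i) ≤ 1) {ψ : K →ₐ[k] k⸨X⸩}
    (hψ : LocRes.IsExpansionAt P.1 ψ) (ht : P.1 t = WithZero.exp (-1)) (hHt : LocRes.IsHasseFamily t Ht)
    {J : Fin n → ℕ} (hJ : IsOrders (IsLocalRing.ResidueField P.O) (hcolAt P Ht φ) J) :
    ∃ (g : Fin (n + 1) → K) (A : Matrix (Fin (n + 1)) (Fin (n + 1)) k), A.det ≠ 0 ∧
      (∀ i, g i = ∑ j, A i j • φ j) ∧ Submodule.span k (Set.range g) = Submodule.span k (Set.range φ) ∧
      g 0 = 1 ∧ ∀ l : Fin n, P.1 (g l.succ) = WithZero.exp (-(J l : ℤ)) ∧ (ψ (g l.succ)).coeff (J l : ℤ) = 1 := by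
  choose f hf hv using fun l : Fin n => ((isJump_at_iff hK hnorm ht hHt (J l)).1 ((hJ.2 (J l)).1 ⟨l, rfl⟩)).2
  let g : Fin (n + 1) → K := Fin.cons 1 fun l => ((ψ (f l)).coeff (J l : ℤ))⁻¹ • f l
  have hne : ∀ l, (ψ (f l)).coeff (J l : ℤ) ≠ 0 := fun l => ((v_eq_iff_coeff hψ _ _).1 (hv l)).2
  have hgv : ∀ l : Fin n, P.1 (g l.succ) = WithZero.exp (-(J l : ℤ)) := fun l => by
    simp only [g, Fin.cons_succ]
    rw [Algebra.smul_def, map_mul, v_algebraMap P (inv_ne_zero (hne l)), one_mul, hv l]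
  have hmem : ∀ i, g i ∈ Submodule.span k (Set.range φ) := by
    intro i
    induction i using Fin.cases with
    | zero => exact heff
    | succ l => simp only [g, Fin.cons_succ]; exact Submodule.smul_mem _ _ (hf l)
  have hg0 : ∀ i, g i ≠ 0 := by
    intro i
    induction i using Fin.cases with
    | zero => exact one_ne_zero
    | succ l => exact fun h => WithZero.exp_ne_zero ((hgv l).symm.trans (by rw [h, map_zero]))
  have hord : ∀ i, P.ord (g i) = ((Fin.cons 0 J : Fin (n + 1) → ℕ) i : ℤ) := by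
    intro i
    induction i using Fin.cases with
    | zero => simp [g, ord_one]
    | succ l => rw [(ord_eq_iff P (hg0 _)).2 (hgv l), Fin.cons_succ]
  have hmono : StrictMono (Fin.cons 0 J : Fin (n + 1) → ℕ) := by
    intro a b hab
    induction b using Fin.cases with
    | zero => exact absurd hab (Fin.not_lt_zero a)
    | succ b =>
      induction a using Fin.cases with
      | zero => exact orders_at_pos hK hnorm ht hHt hJ b
      | succ a => exact hJ.1 (Fin.succ_lt_succ_iff.1 hab)
  have hgli : LinearIndependent k g := linearIndependent_of_ord P g hg0 fun a b h => by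
    simp only [hord] at h
    exact hmono.injective (by exact_mod_cast h)
  choose A hA using fun i => (Submodule.mem_span_range_iff_exists_fun k).1 (hmem i)
  refine ⟨g, Matrix.of A, ?_, fun i => (hA i).symm, ?_, rfl, fun l => ⟨hgv l, ?_⟩⟩
  · intro h
    obtain ⟨v, hv0, hv'⟩ := Matrix.exists_vecMul_eq_zero_iff.2 h
    refine hv0 (funext fun i => Fintype.linearIndependent_iff.1 hgli v ?_ i)
    simp only [← hA, Finset.smul_sum, smul_smul]
    rw [Finset.sum_comm]
    refine Finset.sum_eq_zero fun j _ => ?_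
    rw [← Finset.sum_smul]
    have := congrFun hv' j
    simp only [Matrix.vecMul, dotProduct, Pi.zero_apply, Matrix.of_apply] at this
    rw [this, zero_smul]
  · haveI : FiniteDimensional k (Submodule.span k (Set.range φ)) := FiniteDimensional.span_of_finite k (Set.finite_range φ)
    refine Submodule.eq_of_le_of_finrank_le (Submodule.span_le.2 (by rintro _ ⟨i, rfl⟩; exact hmem i)) ?_
    rw [finrank_span_eq_card hφ, finrank_span_eq_card hgli]
  · simp only [g, Fin.cons_succ]
    rw [exp_smul, Algebra.algebraMap_self, RingHom.id_apply, inv_mul_cancel₀ (hne l)]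

/-- The order of a Wronskian at a fixed point. -/
theorem val_det_wrMat (hK : IsFunctionField k K) {τ : K →ₐ[k] K} (hP : IsFixedPt τ P)
    (ht : P.1 t = WithZero.exp (-1)) {ψ : K →ₐ[k] k⸨X⸩} (hψ : LocRes.IsExpansionAt P.1 ψ)
    (hψt : ψ t = single 1 1) (hHt : LocRes.IsHasseFamily t Ht)
    {g : Fin (n + 1) → K} {J : Fin n → ℕ} (hg0 : g 0 = 1) (hJpos : ∀ l, 1 ≤ J l)
    (hg : ∀ l : Fin n, P.1 (g l.succ) = WithZero.exp (-(J l : ℤ)) ∧ (ψ (g l.succ)).coeff (J l : ℤ) = 1)
    (I : Fin n → ℕ) :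
    P.1 (wrMat τ Ht g I).det ≤ WithZero.exp (-(∑ l, ((J l : ℤ) - I l))) ∧
    (((∀ l, 0 < I l) ∨ IsStrongFixedPt τ P) →
      (P.1 (wrMat τ Ht g I).det = WithZero.exp (-(∑ l, ((J l : ℤ) - I l))) ↔ (binomMat k J I).det ≠ 0)) := by
  let J₀ : Fin (n + 1) → ℕ := Fin.cons 0 J
  let I₀ : Fin (n + 1) → ℕ := Fin.cons 0 I
  have hgJ : ∀ r, (∀ i < (J₀ r : ℤ), (ψ (g r)).coeff i = 0) ∧ (ψ (g r)).coeff (J₀ r : ℤ) = 1 := by
    intro r
    induction r using Fin.cases with
    | zero =>
      simp only [J₀, Fin.cons_zero, hg0, map_one, Nat.cast_zero]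
      refine ⟨fun i hi => ?_, by simp⟩
      rw [HahnSeries.coeff_one, if_neg hi.ne]
    | succ l =>
      simp only [J₀, Fin.cons_succ]
      exact ⟨((v_eq_iff_coeff hψ _ _).1 (hg l).1).1, (hg l).2⟩
  have hτt : P.1 (τ t) < 1 := hP t (by rw [ht, ← WithZero.exp_zero, WithZero.exp_lt_exp]; omega)
  obtain ⟨A1, hA1, hA10⟩ := exists_shift (ψ (τ t)) 1 fun i hi =>
    v_lt_one_iff_coeff.1 (by rw [hψ.1]; exact hτt) i (by omega)
  set a := PowerSeries.constantCoeff A1
  have hcol0 : ∀ r, ∃ G : PowerSeries k, ψ (τ (g r)) = single (J₀ r : ℤ) (1 : k) * (G : k⸨X⸩) ∧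
      PowerSeries.constantCoeff G = a ^ J₀ r := by
    intro r
    set m := J₀ r
    have ht0 : t ≠ 0 := fun h => by rw [h, map_zero] at ht; exact WithZero.exp_ne_zero ht.symm
    set u := g r / t ^ m
    have hgu : g r = t ^ m * u := by rw [mul_div_cancel₀ _ (pow_ne_zero _ ht0)]
    obtain ⟨G, hG, hG0⟩ := exists_shift (ψ (g r)) m (hgJ r).1
    rw [(hgJ r).2] at hG0
    have hψu : ψ u = (G : k⸨X⸩) := by
      rw [map_div₀, map_pow, hψt, hG, single_pow, one_pow, nsmul_eq_mul, mul_one,
        mul_div_cancel_left₀ _ (single_ne_zero one_ne_zero)]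
    have hu : P.1 (u - 1) < 1 := by
      rw [← hψ.1, v_lt_one_iff_coeff, map_sub, map_one, hψu]
      intro i hi
      rw [HahnSeries.coeff_sub, PowerSeries.coeff_coe, HahnSeries.coeff_one]
      rcases lt_or_eq_of_le hi with hi | rfl
      · rw [if_pos hi, if_neg hi.ne, sub_zero]
      · simp [hG0]
    have hτu : P.1 (τ u - 1) < 1 := by rw [← map_one τ, ← map_sub]; exact hP _ hu
    have hτu' : P.1 (τ u) ≤ 1 := by
      rw [← sub_add_cancel (τ u) 1]
      exact (P.1.map_add _ _).trans (max_le hτu.le (by rw [map_one]))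
    obtain ⟨U, hU⟩ := exists_power_series hψ hτu'
    refine ⟨A1 ^ m * U, ?_, ?_⟩
    · rw [hgu, map_mul, map_pow, map_mul, map_pow, hA1, hU, mul_pow, single_pow, one_pow, nsmul_eq_mul, mul_one,
        PowerSeries.coe_mul, PowerSeries.coe_pow, mul_assoc]
    · rw [map_mul, map_pow]
      have : (ψ (τ u - 1)).coeff 0 = 0 := v_lt_one_iff_coeff.1 (by rw [hψ.1]; exact hτu) 0 le_rfl
      rw [map_sub, map_one, HahnSeries.coeff_sub, hU, PowerSeries.coeff_coe, sub_eq_zero] at this
      simp at this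
      rw [this, mul_one]
  choose G0 hG0 hG0c using hcol0
  choose G hG hGc using fun r (l : Fin n) => exists_hasseDeriv_shift (ψ (g r)) (J₀ r) (I l) (hgJ r).1
  let N : Matrix (Fin (n + 1)) (Fin (n + 1)) (PowerSeries k) :=
    Matrix.of fun r => Fin.cons (G0 r) (G r)
  have hM : (wrMat τ Ht g I).map ψ = Matrix.diagonal (fun r => single (J₀ r : ℤ) (1 : k)) *
      N.map (HahnSeries.ofPowerSeries ℤ k) * Matrix.diagonal (fun l => single (-(I₀ l : ℤ)) (1 : k)) := by
    ext1 r l
    rw [Matrix.mul_diagonal, Matrix.diagonal_mul, Matrix.map_apply, Matrix.map_apply]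
    induction l using Fin.cases with
    | zero =>
      simp only [wrMat, Matrix.of_apply, Fin.cases_zero, N, Fin.cons_zero, I₀, Nat.cast_zero, neg_zero]
      rw [hG0 r, show single (0 : ℤ) (1 : k) = 1 from rfl, mul_one]
    | succ l =>
      simp only [wrMat, Matrix.of_apply, Fin.cases_succ, N, Fin.cons_succ, I₀]
      rw [exp_hasseD hK (isGeometric_algClosed hK) ψ (D_ne_zero_of_hasse hHt) hψt Ht hHt, hG r l, mul_right_comm,
        single_mul_single, one_mul, sub_eq_add_neg]
  have hdet : ψ (wrMat τ Ht g I).det = single (∑ l, ((J l : ℤ) - I l)) (1 : k) * (N.det : k⸨X⸩) := by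
    rw [AlgHom.map_det, AlgHom.mapMatrix_apply, hM, Matrix.det_mul, Matrix.det_mul, Matrix.det_diagonal,
      Matrix.det_diagonal, RingHom.map_det, RingHom.mapMatrix_apply, mul_right_comm]
    congr 1
    have hprod : ∀ (s : Finset (Fin (n + 1))) (e : Fin (n + 1) → ℤ),
        ∏ r ∈ s, single (e r) (1 : k) = single (∑ r ∈ s, e r) (1 : k) := by
      intro s e
      induction s using Finset.induction with
      | empty => simp
      | insert a s ha ih => rw [Finset.prod_insert ha, Finset.sum_insert ha, ih, single_mul_single, one_mul]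
    rw [hprod, hprod, single_mul_single, one_mul, Fin.sum_univ_succ, Fin.sum_univ_succ, Finset.sum_sub_distrib]
    simp [J₀, I₀, sub_eq_add_neg]
  have hv : P.1 (wrMat τ Ht g I).det = WithZero.exp (-(∑ l, ((J l : ℤ) - I l))) * Valued.v (N.det : k⸨X⸩) := by
    rw [← hψ.1, hdet, map_mul, LaurentSeries.valuation_single_zpow]
  refine ⟨?_, fun hcase => ?_⟩
  · rw [hv]
    exact mul_le_of_le_one_right' (v_coe_le_one _)
  rw [hv, mul_eq_left₀ WithZero.exp_ne_zero, v_coe_eq_one_iff]
  set N0 := N.map PowerSeries.constantCoeff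
  have h00 : N0 0 0 = 1 := by simp [N0, N, hG0c, J₀]
  have hsub : N0.submatrix Fin.succ Fin.succ = binomMat k J I := by
    ext r s
    simp [N0, N, hGc, binomMat, (hgJ r.succ).2, J₀, (hg r).2]
  rw [RingHom.map_det, RingHom.mapMatrix_apply]
  change N0.det ≠ 0 ↔ _
  rcases hcase with hI | hstrong
  · rw [det_of_row_zero N0 h00, hsub]
    intro s
    simp [N0, N, hGc, J₀, Nat.choose_eq_zero_of_lt (hI s)]
  · have ha : a = 0 := by
      rw [hA10]
      have h2 : Valued.v (ψ (τ t)) ≤ WithZero.exp (-2 : ℤ) := by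
        rw [hψ.1]; exact hstrong t (by rw [ht, ← WithZero.exp_zero, WithZero.exp_lt_exp]; omega)
      exact v_le_iff.1 h2 1 (by norm_num)
    rw [det_of_col_zero N0 h00, hsub]
    intro r
    simp [N0, N, hG0c, ha, J₀, zero_pow (show J r ≠ 0 by have := hJpos r; omega)]

end Groth.Agent.FF
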