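import Mathlib
import Groth.Prelude.Def_W4bk4goldsch45p2
import Groth.Agent.S12596
import Groth.Agent.S12597
import Groth.Agent.S12598
import Groth.Agent.S12605
import Groth.Agent.FF.DiffWeil
import Groth.Agent.FF.Conorm
import Groth.Agent.FF.Orders
import Groth.Agent.FF.OrdersAt
import Groth.Agent.FF.AlgClosed

/-! The Weierstrass divisor of a projective map. -/

set_option autoImplicit false
set_option linter.style.haveILetI false

namespace Groth.Agent.FF

open FunFld HahnSeries LaurentSeries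
open scoped WithZero IntermediateField

universe u v

/-- The field, seen as an extension of itself through an endomorphism. -/
def Twist {k : Type u} {K : Type v} [Field k] [Field K] [Algebra k K] (_ : K →ₐ[k] K) : Type v := K

noncomputable instance instFieldTwist {k : Type u} {K : Type v} [Field k] [Field K] [Algebra k K] (τ : K →ₐ[k] K) :
    Field (Twist τ) := inferInstanceAs (Field K)

noncomputable instance instAlgebraTwistBase {k : Type u} {K : Type v} [Field k] [Field K] [Algebra k K]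
    (τ : K →ₐ[k] K) : Algebra k (Twist τ) := inferInstanceAs (Algebra k K)

noncomputable instance instAlgebraTwist {k : Type u} {K : Type v} [Field k] [Field K] [Algebra k K]
    (τ : K →ₐ[k] K) : Algebra K (Twist τ) := RingHom.toAlgebra (τ.toRingHom : K →+* Twist τ)

instance instTowerTwist {k : Type u} {K : Type v} [Field k] [Field K] [Algebra k K] (τ : K →ₐ[k] K) :
    IsScalarTower k K (Twist τ) := IsScalarTower.of_algebraMap_eq fun c => (τ.commutes c).symm

variable {k : Type u} {K : Type v} [Field k] [IsAlgClosed k] [Field K] [Algebra k K] {n : ℕ}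
  (hK : IsFunctionField k K)

include hK

/-- A local parameter has a Hasse family. -/
lemma exists_hasse_param (P : Place k K) : ∃ (t : K) (Ht : K →ₐ[k] PowerSeries K),
    P.1 t = WithZero.exp (-1) ∧ LocRes.IsHasseFamily t Ht := by
  obtain ⟨t, ht⟩ := exists_unif P
  obtain ⟨ψ, hψ, -⟩ := exists_expansion_k hK ht
  obtain ⟨Ht, hHt⟩ := exists_hasse_of_ne_zero hK (isGeometric_algClosed hK) (D_ne_zero_unif hψ ht)
  exact ⟨t, Ht, ht, hHt⟩

lemma mapDiv_le_of_span_le {φ φ' : Fin (n + 1) → K} (h0 : ∀ i, φ i ≠ 0) (h0' : ∀ i, φ' i ≠ 0)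
    (h : Submodule.span k (Set.range φ') ≤ Submodule.span k (Set.range φ)) : mapDiv k φ' ≤ mapDiv k φ := fun P => by
  obtain ⟨j, hj⟩ := exists_max P φ'
  have := span_le_L_mapDiv hK h0 (h (Submodule.subset_span ⟨j, rfl⟩)) P
  rwa [← exp_mapDiv hK h0' hj, WithZero.exp_le_exp] at this

lemma mapDiv_smul_eq {φ : Fin (n + 1) → K} (h0 : ∀ i, φ i ≠ 0) {y : K} (hy : y ≠ 0) :
    mapDiv k (y • φ) = mapDiv k φ - div k y := by
  ext P
  obtain ⟨j, hj⟩ := exists_max P φ
  rw [Finsupp.sub_apply, div_apply hK, mapDiv_apply_of_max hK h0 hj,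
    mapDiv_apply_of_max hK (φ := y • φ) (fun i => mul_ne_zero hy (h0 i)) (j := j) (fun i => by
      simp only [Pi.smul_apply, smul_eq_mul, map_mul]; exact mul_le_mul_right (hj i) _),
    Pi.smul_apply, smul_eq_mul, ord_mul P hy (h0 j)]
  ring

omit hK in
/-- An equivalent tuple is linearly independent with the same span up to the factor. -/
lemma span_change {φ φ₁ : Fin (n + 1) → K} (hφ : LinearIndependent k φ) {A : Matrix (Fin (n + 1)) (Fin (n + 1)) k}
    (hA : A.det ≠ 0) (hφ₁ : ∀ i, φ₁ i = ∑ j, A i j • φ j) :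
    LinearIndependent k φ₁ ∧ Submodule.span k (Set.range φ₁) = Submodule.span k (Set.range φ) := by
  have hu : IsUnit A := (Matrix.isUnit_iff_isUnit_det _).2 (isUnit_iff_ne_zero.2 hA)
  have hli : LinearIndependent k φ₁ := by
    rw [Fintype.linearIndependent_iff]
    intro c hc i
    simp only [hφ₁, Finset.smul_sum, smul_smul] at hc
    rw [Finset.sum_comm] at hc
    simp only [← Finset.sum_smul] at hc
    have h := Fintype.linearIndependent_iff.1 hφ _ hc
    exact congrFun (Matrix.eq_zero_of_vecMul_eq_zero hA (funext h) : c = 0) i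
  refine ⟨hli, ?_⟩
  haveI : FiniteDimensional k (Submodule.span k (Set.range φ)) := FiniteDimensional.span_of_finite k (Set.finite_range φ)
  refine Submodule.eq_of_le_of_finrank_le (Submodule.span_le.2 ?_) ?_
  · rintro _ ⟨i, rfl⟩
    rw [hφ₁]
    exact Submodule.sum_mem _ fun j _ => Submodule.smul_mem _ _ (Submodule.subset_span ⟨j, rfl⟩)
  · rw [finrank_span_eq_card hφ, finrank_span_eq_card hli]

variable {Φ : Place k K → (K →ₐ[k] k⸨X⸩)} (hΦ : ∀ P, LocRes.IsExpansionAt P.1 (Φ P))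

include hΦ

lemma divDiff_apply {u s : K} (hu : u ≠ 0) (hs : KaehlerDifferential.D k K s ≠ 0) (P : Place k K) :
    divDiff Φ u s P = LocRes.ordDiff (Φ P) u s := by
  rw [divDiff, dif_pos (finite_support_ordDiff hΦ hK (isGeometric_algClosed hK) hu hs)]
  rfl

lemma divDiff_deg {s : K} (hs : KaehlerDifferential.D k K s ≠ 0) :
    (divDiff Φ 1 s).deg = 2 * (genus k K : ℤ) - 2 := by
  have hg := isGeometric_algClosed hK
  have h : divDiff Φ 1 s = diffDiv hΦ hK hg one_ne_zero hs := Finsupp.ext fun P => by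
    rw [divDiff_apply hK hΦ one_ne_zero hs, diffDiv_apply]
  rw [h]
  exact (canonical_deg hK (diffDiv_isCanonical hΦ hK hg one_ne_zero hs)).2

/-- The divisors of the differentials of two variables. -/
lemma divDiff_change {s t : K} {Hs Ht : K →ₐ[k] PowerSeries K} (hHs : LocRes.IsHasseFamily s Hs)
    (hHt : LocRes.IsHasseFamily t Ht) :
    divDiff Φ 1 s = div k (LocRes.hasseD Ht 1 s) + divDiff Φ 1 t := by
  have hg := isGeometric_algClosed hK
  have hc := hasseD_one_ne_zero hK hHs hHt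
  set c := LocRes.hasseD Ht 1 s
  have hds := D_ne_zero_of_hasse hHs
  have hdt := D_ne_zero_of_hasse hHt
  obtain ⟨d, hd⟩ := exists_smul_D_eq_of_ne_zero hK hg hdt (KaehlerDifferential.D k K s)
  have hdc : d = c := by
    have h := congrArg (hasseDer hHt).liftKaehlerDifferential hd
    rw [map_smul, Derivation.liftKaehlerDifferential_comp_D, Derivation.liftKaehlerDifferential_comp_D,
      hasseDer_apply, hasseDer_apply, hasseD_one_self hHt, smul_eq_mul, mul_one] at h
    exact h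
  ext P
  rw [Finsupp.add_apply, div_apply hK, divDiff_apply hK hΦ one_ne_zero hds, divDiff_apply hK hΦ one_ne_zero hdt]
  have e : LocRes.vDiff (Φ P) 1 s = LocRes.vDiff (Φ P) (c * 1) t := by
    rw [mul_one, LocRes.vDiff, LocRes.vDiff, map_one, one_mul]
    congr 1
    letI := (Φ P).toRingHom.toAlgebra
    haveI := LocRes.isScalarTower_exp (Φ P)
    have h2 := congrArg (LocRes.dExp (Φ P)).liftKaehlerDifferential hd
    rw [map_smul, Derivation.liftKaehlerDifferential_comp_D, Derivation.liftKaehlerDifferential_comp_D, hdc] at h2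
    exact h2.symm
  rw [vDiff_mul hΦ, vDiff_eq_exp hΦ hK hg one_ne_zero hdt, vDiff_eq_exp hΦ hK hg one_ne_zero hds,
    v_eq_exp P hc, ← WithZero.exp_add, WithZero.exp_inj] at e
  omega

/-- The Weierstrass divisor does not depend on the variable and is invariant under equivalence. -/
theorem wDiv_eq_of_equiv (φ : Fin (n + 1) → K) (hφ : LinearIndependent k φ) (τ : K →ₐ[k] K)
    {s : K} {Hs : K →ₐ[k] PowerSeries K} (hHs : LocRes.IsHasseFamily s Hs)
    {t : K} {Ht : K →ₐ[k] PowerSeries K} (hHt : LocRes.IsHasseFamily t Ht)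
    {J : Fin n → ℕ} (hJ : IsOrders K (hcol τ Hs φ) J)
    (A : Matrix (Fin (n + 1)) (Fin (n + 1)) k) (hA : A.det ≠ 0) {y : K} (hy : y ≠ 0)
    (φ' : Fin (n + 1) → K) (hφ' : ∀ i, φ' i = y * ∑ j, A i j • φ j) :
    IsOrders K (hcol τ Ht φ') J ∧ wDiv τ Ht Φ t φ' J = wDiv τ Hs Φ s φ J := by
  classical
  set φ₁ : Fin (n + 1) → K := fun i => ∑ j, A i j • φ j with hφ₁
  obtain ⟨hli₁, hsp⟩ := span_change hφ hA (φ₁ := φ₁) fun i => rfl
  obtain rfl : φ' = y • φ₁ := funext hφ'
  obtain ⟨hiffA, hdetA⟩ := Groth.Agent.S12596.result k K hK φ hφ τ t Ht hHt A hA φ₁ fun i => rfl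
  obtain ⟨hiffy, hdety⟩ := Groth.Agent.S12597.result k K hK φ₁ hli₁ τ t Ht hHt y hy
  obtain ⟨hiffs, hdets⟩ := Groth.Agent.S12598.result k K hK φ hφ τ s Hs hHs t Ht hHt
  have hJt : IsOrders K (hcol τ Ht φ) J := (hiffs J).2 hJ
  have hJ₁ : IsOrders K (hcol τ Ht φ₁) J := (hiffA J).2 hJt
  refine ⟨(hiffy J).2 hJ₁, ?_⟩
  have hW : (wrMat τ Hs φ J).det ≠ 0 := by
    rw [wrMat_eq]; exact det_ne_zero_of_isOrders (hcol_zero_ne τ Hs hφ) hJ
  have hc := hasseD_one_ne_zero hK hHs hHt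
  have hdet : (wrMat τ Ht (y • φ₁) J).det = τ y * y ^ n * (algebraMap k K A.det *
      (LocRes.hasseD Ht 1 s ^ (∑ l, J l) * (wrMat τ Hs φ J).det)) := by
    rw [hdety J hJ₁, hdetA, hdets J hJ]
  have hA' : algebraMap k K A.det ≠ 0 := (map_ne_zero _).2 hA
  have hτy : τ y ≠ 0 := (map_ne_zero τ).2 hy
  have hdiv : div k (wrMat τ Ht (y • φ₁) J).det = div k (τ y) + (n : ℤ) • div k y +
      ((∑ l, J l : ℕ) : ℤ) • div k (LocRes.hasseD Ht 1 s) + div k (wrMat τ Hs φ J).det := by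
    rw [hdet, div_mul hK (mul_ne_zero hτy (pow_ne_zero _ hy)) (mul_ne_zero hA' (mul_ne_zero (pow_ne_zero _ hc) hW)),
      div_mul hK hτy (pow_ne_zero _ hy), div_mul hK hA' (mul_ne_zero (pow_ne_zero _ hc) hW),
      div_mul hK (pow_ne_zero _ hc) hW, div_pow hK, div_pow hK, div_algebraMap hK, zero_add]
    abel
  have hm₁ : mapDiv k φ₁ = mapDiv k φ := le_antisymm
    (mapDiv_le_of_span_le hK hφ.ne_zero hli₁.ne_zero hsp.le) (mapDiv_le_of_span_le hK hli₁.ne_zero hφ.ne_zero hsp.ge)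
  have hτli : ∀ ψ : Fin (n + 1) → K, LinearIndependent k ψ → LinearIndependent k (τ ∘ ψ) := fun ψ h =>
    h.map' τ.toLinearMap (LinearMap.ker_eq_bot.2 τ.toRingHom.injective)
  have hτsp : Submodule.span k (Set.range (τ ∘ φ₁)) = Submodule.span k (Set.range (τ ∘ φ)) := by
    rw [Set.range_comp, Set.range_comp, ← AlgHom.coe_toLinearMap, Submodule.span_image, Submodule.span_image, hsp]
  have hm₂ : mapDiv k (τ ∘ φ₁) = mapDiv k (τ ∘ φ) := le_antisymm
    (mapDiv_le_of_span_le hK (hτli φ hφ).ne_zero (hτli φ₁ hli₁).ne_zero hτsp.le)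
    (mapDiv_le_of_span_le hK (hτli φ₁ hli₁).ne_zero (hτli φ hφ).ne_zero hτsp.ge)
  have e : (τ ∘ (y • φ₁) : Fin (n + 1) → K) = τ y • (τ ∘ φ₁) := funext fun i => map_mul τ y (φ₁ i)
  rw [wDiv, wDiv, hdiv, e, mapDiv_smul_eq hK (hτli φ₁ hli₁).ne_zero hτy, mapDiv_smul_eq hK hli₁.ne_zero hy, hm₁, hm₂,
    divDiff_change hK hΦ hHs hHt, Nat.cast_sum, smul_sub, smul_add]
  abel

omit hΦ in
/-- Normalization of a tuple at a place. -/
lemma exists_normalized (P : Place k K) {φ : Fin (n + 1) → K} (hφ : LinearIndependent k φ) :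
    ∃ y : K, y ≠ 0 ∧ LinearIndependent k (y • φ) ∧ (1 : K) ∈ Submodule.span k (Set.range (y • φ)) ∧
      (∀ i, P.1 ((y • φ) i) ≤ 1) := by
  obtain ⟨j, hj⟩ := exists_max P φ
  refine ⟨(φ j)⁻¹, inv_ne_zero (hφ.ne_zero j), ?_, Submodule.subset_span ⟨j, inv_mul_cancel₀ (hφ.ne_zero j)⟩, fun i => ?_⟩
  · exact hφ.map' (LinearMap.mulLeft k (φ j)⁻¹)
      (LinearMap.ker_eq_bot.2 (mul_right_injective₀ (inv_ne_zero (hφ.ne_zero j))))
  · simp only [Pi.smul_apply, smul_eq_mul, map_mul, map_inv₀]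
    rw [inv_mul_le_one₀ (zero_lt_iff.2 ((Valuation.ne_zero_iff _).2 (hφ.ne_zero j)))]
    exact hj i

omit hΦ in
lemma mapDiv_eq_zero_of_normalized {P : Place k K} {φ : Fin (n + 1) → K} (h0 : ∀ i, φ i ≠ 0)
    (heff : (1 : K) ∈ Submodule.span k (Set.range φ)) (hnorm : ∀ i, P.1 (φ i) ≤ 1) : mapDiv k φ P = 0 := by
  obtain ⟨j, hj⟩ := exists_max P φ
  have h1 : P.1 (φ j) = 1 := le_antisymm (hnorm j) (by
    have h := span_le_L_mapDiv hK h0 heff P
    rwa [map_one, exp_mapDiv hK h0 hj] at h)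
  rw [mapDiv_apply_of_max hK h0 hj, (ord_eq_iff P (h0 j)).2 (by rw [h1, neg_zero, WithZero.exp_zero]), neg_zero]

/-- The coefficient at a place where the tuple is normalized, for the local parameter. -/
theorem wDiv_apply_normalized {P : Place k K} {φ : Fin (n + 1) → K} (hφ : LinearIndependent k φ)
    (heff : (1 : K) ∈ Submodule.span k (Set.range φ)) (hnorm : ∀ i, P.1 (φ i) ≤ 1) (τ : K →ₐ[k] K)
    {t : K} (ht : P.1 t = WithZero.exp (-1)) {Ht : K →ₐ[k] PowerSeries K} (hHt : LocRes.IsHasseFamily t Ht)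
    (J : Fin n → ℕ) :
    wDiv τ Ht Φ t φ J P = P.ord (wrMat τ Ht φ J).det + mapDiv k (τ ∘ φ) P := by
  obtain ⟨hd1, hd2⟩ := D_exp_unif_coeff (hΦ P) ht
  have hord : LocRes.ordDiff (Φ P) 1 t = 0 := by
    have : LocRes.vDiff (Φ P) 1 t = 1 := by
      rw [LocRes.vDiff, map_one, one_mul]
      exact le_antisymm (v_le_one_iff_coeff.2 hd2)
        (le_of_not_gt fun h => hd1 (v_lt_one_iff_coeff.1 h 0 le_rfl))
    rw [LocRes.ordDiff, this]
    simp
  simp only [wDiv, Finsupp.add_apply, Finsupp.smul_apply, div_apply hK,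
    mapDiv_eq_zero_of_normalized hK hφ.ne_zero heff hnorm, divDiff_apply hK hΦ one_ne_zero (D_ne_zero_of_hasse hHt),
    hord, smul_zero, add_zero]

omit hΦ in
lemma mapDiv_comp_fixed {P : Place k K} {τ : K →ₐ[k] K} (hP : IsFixedPt τ P) {φ : Fin (n + 1) → K}
    (hφ : LinearIndependent k φ) (heff : (1 : K) ∈ Submodule.span k (Set.range φ)) (hnorm : ∀ i, P.1 (φ i) ≤ 1) :
    mapDiv k (τ ∘ φ) P = 0 := by
  refine mapDiv_eq_zero_of_normalized hK (fun i => (map_ne_zero τ).2 (hφ.ne_zero i)) ?_ fun i => ?_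
  · rw [Set.range_comp, ← AlgHom.coe_toLinearMap, Submodule.span_image]
    exact ⟨1, heff, map_one τ⟩
  · obtain ⟨c, hc⟩ := exists_const hK P (hnorm i)
    have h2 := hP _ hc
    rw [map_sub, τ.commutes] at h2
    change P.1 (τ (φ i)) ≤ 1
    rw [← sub_add_cancel (τ (φ i)) (algebraMap k K c)]
    exact (P.1.map_add _ _).trans (max_le h2.le (P.2.1 c))

/-- The Weierstrass divisor is nonnegative. -/
theorem wDiv_nonneg (φ : Fin (n + 1) → K) (hφ : LinearIndependent k φ) (τ : K →ₐ[k] K)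
    {s : K} {H : K →ₐ[k] PowerSeries K} (hH : LocRes.IsHasseFamily s H)
    {J : Fin n → ℕ} (hJ : IsOrders K (hcol τ H φ) J) : 0 ≤ wDiv τ H Φ s φ J := fun P => by
  classical
  obtain ⟨t, Ht, ht, hHt⟩ := exists_hasse_param hK P
  obtain ⟨y, hy, hli, heff, hnorm⟩ := exists_normalized hK P hφ
  obtain ⟨hJ', hW⟩ := wDiv_eq_of_equiv hK hΦ φ hφ τ hH hHt hJ 1 (by simp) hy (y • φ)
    (fun i => by simp [Matrix.one_apply])
  rw [← hW, Finsupp.coe_zero, Pi.zero_apply, wDiv_apply_normalized hK hΦ hli heff hnorm τ ht hHt]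
  set M := wrMat τ Ht (y • φ) J
  have hM : M.det ≠ 0 := by
    simp only [M, wrMat_eq]; exact det_ne_zero_of_isOrders (hcol_zero_ne τ Ht hli) hJ'
  obtain ⟨j, hj⟩ := exists_max P (τ ∘ (y • φ))
  have h0 : ∀ i, (τ ∘ (y • φ)) i ≠ 0 := fun i => (map_ne_zero τ).2 (hli.ne_zero i)
  obtain ⟨ψ, hψ, hψt⟩ := exists_expansion_k hK ht
  have hint : ∀ i l, P.1 (M i (Fin.succ l)) ≤ 1 := fun i l => by
    simp only [M, wrMat, Matrix.of_apply, Fin.cases_succ]
    exact (hasseD_at hK hψ hψt hHt (hnorm i) _).1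
  have hle : P.1 M.det ≤ WithZero.exp (mapDiv k (τ ∘ (y • φ)) P) := by
    rw [exp_mapDiv hK h0 hj, Matrix.det_succ_column_zero]
    refine P.1.map_sum_le fun i _ => ?_
    rw [map_mul, map_mul, map_pow, Valuation.map_neg, map_one, one_pow, one_mul]
    refine (mul_le_mul' (le_of_eq_of_le (by simp [M, wrMat]) (hj i)) ?_).trans_eq (mul_one _)
    let O : Subring K := P.O.toSubring
    let N : Matrix (Fin n) (Fin n) O := Matrix.of fun a b => ⟨M (i.succAbove a) b.succ, hint _ _⟩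
    have e : (M.submatrix i.succAbove Fin.succ).det = (N.det : K) := by
      rw [← Subring.coe_subtype, RingHom.map_det]
      rfl
    rw [e]
    exact N.det.2
  rw [v_eq_exp P hM, WithZero.exp_le_exp] at hle
  omega

omit hΦ in
/-- The degree of the pull back of a tuple by an endomorphism. -/
lemma deg_mapDiv_comp (τ : K →ₐ[k] K) (φ : Fin (n + 1) → K) :
    (mapDiv k (τ ∘ φ)).deg = (Module.finrank τ.fieldRange K : ℤ) * (mapDiv k φ).deg := by
  obtain ⟨⟨x, hx, -⟩, -⟩ := id hK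
  have hx' : Transcendental k (τ x) := fun h => hx ((isAlgebraic_algHom_iff τ τ.toRingHom.injective).1 h)
  haveI := finiteDimensional_adjoin hK hx'
  have hle : k⟮τ x⟯ ≤ τ.fieldRange := IntermediateField.adjoin_simple_le_iff.2 ⟨x, rfl⟩
  letI : Algebra k⟮τ x⟯ τ.fieldRange := (IntermediateField.inclusion hle).toRingHom.toAlgebra
  haveI : IsScalarTower k⟮τ x⟯ τ.fieldRange K := IsScalarTower.of_algebraMap_eq fun _ => rfl
  haveI : FiniteDimensional τ.fieldRange K := Module.Finite.of_restrictScalars_finite k⟮τ x⟯ τ.fieldRange K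
  have hr : Module.finrank K (Twist τ) = Module.finrank τ.fieldRange K :=
    Algebra.finrank_eq_of_equiv_equiv (R₀ := K) (S₀ := Twist τ) (AlgEquiv.ofInjectiveField τ).toRingEquiv
      (RingEquiv.refl K) (RingHom.ext fun z => rfl)
  haveI : FiniteDimensional K (Twist τ) := Module.finite_of_finrank_pos (by rw [hr]; exact Module.finrank_pos)
  have h1 := congrArg Divisor.deg (mapDiv_eq_conorm (K' := Twist τ) hK φ hK)
  rw [deg_conorm (K' := Twist τ) hK, hr] at h1
  exact h1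

/-- The degree of the Weierstrass divisor. -/
theorem wDiv_deg (φ : Fin (n + 1) → K) (τ : K →ₐ[k] K)
    {s : K} {H : K →ₐ[k] PowerSeries K} (hH : LocRes.IsHasseFamily s H) (J : Fin n → ℕ) :
    (wDiv τ H Φ s φ J).deg =
      ((Module.finrank τ.fieldRange K : ℤ) + n) * (mapDiv k φ).deg +
        (2 * (genus k K : ℤ) - 2) * ∑ l, (J l : ℤ) := by
  rw [wDiv, deg_add, deg_add, deg_add, deg_smul, deg_smul, deg_div hK, deg_mapDiv_comp hK,
    divDiff_deg hK hΦ (D_ne_zero_of_hasse hH)]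
  ring

/-- The coefficient at a fixed point. -/
theorem wDiv_apply_fixed {P : Place k K} {τ : K →ₐ[k] K} (hP : IsFixedPt τ P) {φ : Fin (n + 1) → K}
    (hφ : LinearIndependent k φ) (heff : (1 : K) ∈ Submodule.span k (Set.range φ)) (hnorm : ∀ i, P.1 (φ i) ≤ 1)
    {t : K} (ht : P.1 t = WithZero.exp (-1)) {Ht : K →ₐ[k] PowerSeries K} (hHt : LocRes.IsHasseFamily t Ht)
    {J : Fin n → ℕ} (hJ : IsOrders K (hcol τ Ht φ) J) {J' : Fin n → ℕ}
    (hJ' : IsOrders (IsLocalRing.ResidueField P.O) (hcolAt P Ht φ) J') :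
    (∑ l, ((J' l : ℤ) - J l)) ≤ wDiv τ Ht Φ t φ J P ∧
    ((τ = AlgHom.id k K ∨ IsStrongFixedPt τ P) →
      (wDiv τ Ht Φ t φ J P = ∑ l, ((J' l : ℤ) - J l) ↔ (binomMat k J' J).det ≠ 0)) := by
  rw [wDiv_apply_normalized hK hΦ hφ heff hnorm τ ht hHt, mapDiv_comp_fixed hK hP hφ heff hnorm, add_zero]
  have hM : (wrMat τ Ht φ J).det ≠ 0 := by
    rw [wrMat_eq]; exact det_ne_zero_of_isOrders (hcol_zero_ne τ Ht hφ) hJ
  obtain ⟨hv, hveq⟩ := Groth.Agent.S12605.result k K hK τ P hP φ hφ heff hnorm t ht Ht hHt J' hJ' J hJ.1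
  refine ⟨?_, fun hcase => ?_⟩
  · rw [v_eq_exp P hM, WithZero.exp_le_exp] at hv
    omega
  rw [← hveq (hcase.imp ?_ id), ord_eq_iff P hM]
  rintro rfl l
  by_contra h
  obtain h0 : J l = 0 := by omega
  have h1 := (hJ.2 (J l)).1 ⟨l, rfl⟩
  rw [h0] at h1
  exact h1 (Submodule.subset_span ⟨0, by simp, funext fun i => (hasseD_zero hHt (φ i)).symm⟩)

omit hΦ in
lemma exists_orders_at {P : Place k K} {φ : Fin (n + 1) → K} (hφ : LinearIndependent k φ)
    (heff : (1 : K) ∈ Submodule.span k (Set.range φ)) (hnorm : ∀ i, P.1 (φ i) ≤ 1)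
    {t : K} (ht : P.1 t = WithZero.exp (-1)) {Ht : K →ₐ[k] PowerSeries K} (hHt : LocRes.IsHasseFamily t Ht) :
    ∃ J' : Fin n → ℕ, IsOrders (IsLocalRing.ResidueField P.O) (hcolAt P Ht φ) J' := by
  obtain ⟨ψ, hψ, hψt⟩ := exists_expansion_k hK ht
  have hb := residue_bijective hK P
  refine exists_isOrders (fun h => ?_) (span_range_eq_top_of_rows fun a ha => ?_)
  · have h1 : P.1 (1 : K) < 1 := by
      obtain ⟨c, hc⟩ := (Submodule.mem_span_range_iff_exists_fun k).1 heff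
      rw [← hc]
      refine Valuation.map_sum_lt _ one_ne_zero fun i _ => lt_of_le_of_lt (v_smul_le P _ _) ?_
      have h2 := congrFun h i
      simp only [hcolAt, evalP, dif_pos (hnorm i), Pi.zero_apply] at h2
      exact (residue_eq_zero_iff _).1 h2
    rw [map_one] at h1
    exact lt_irrefl _ h1
  · choose c hc using fun r => hb.2 (a r)
    have h0 : c = 0 := rows_indep_at hK hφ hnorm hψ c fun j => by
      refine hb.1 ?_
      rw [map_zero, map_sum, ← ha (j + 1)]
      refine Finset.sum_congr rfl fun r _ => ?_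
      obtain ⟨h1, h2⟩ := hasseD_at hK hψ hψt hHt (hnorm r) j
      rw [map_mul, hc]
      change _ = _ * evalP P (LocRes.hasseD Ht j (φ r))
      rw [evalP_eq hK hψ h1, h2]
    funext r
    rw [← hc r, h0]
    exact map_zero _

end Groth.Agent.FF
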