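import Mathlib
import Groth.Agent.FF.WDivisor
import Groth.Agent.FF.RH

/-! The canonical map. -/

set_option autoImplicit false

namespace Groth.Agent.FF

open FunFld
open scoped WithZero IntermediateField

universe u v

variable {k : Type u} {K : Type v} [Field k] [IsAlgClosed k] [Field K] [Algebra k K] (hK : IsFunctionField k K)

include hK

/-- In positive genus no function has a single simple pole. -/
lemma ell_single_one (hg : 1 ≤ genus k K) (P : Place k K) : ell (Finsupp.single P (1 : ℤ) : Divisor k K) = 1 := by
  classical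
  set D : Divisor k K := Finsupp.single P (1 : ℤ)
  haveI := finite_L hK D
  have h0 : (0 : Divisor k K) ≤ D := by simp [D]
  have h1 : ell (0 : Divisor k K) ≤ ell D := ell_mono hK h0
  rw [ell_zero hK] at h1
  by_contra hne
  obtain ⟨f, hf, hfc⟩ : ∃ f ∈ L D, f ∉ Set.range (algebraMap k K) := by
    by_contra hall
    push Not at hall
    refine hne (le_antisymm ?_ h1)
    have hle : L D ≤ (1 : Submodule k K) := fun f hf => Submodule.mem_one.2 (hall f hf)
    calc ell D ≤ Module.finrank k ↥(1 : Submodule k K) := by
          haveI : FiniteDimensional k ↥(1 : Submodule k K) := by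
            rw [Submodule.one_eq_span]; exact FiniteDimensional.span_singleton k 1
          exact Submodule.finrank_mono hle
      _ = 1 := by rw [Submodule.one_eq_span, finrank_span_singleton one_ne_zero]
  have ht := transcendental_of_not_mem hK hfc
  have hf0 : f ≠ 0 := fun h => hfc (h ▸ ⟨0, map_zero _⟩)
  have hti : Transcendental k f⁻¹ := fun h => ht (by simpa using h.inv)
  have hz : zeros (k := k) f⁻¹ ≤ D := fun Q => by
    rw [zeros_apply hK, ord_inv]
    have := (mem_L_iff_ord hf0).1 hf Q
    have h2 := h0 Q
    rw [Finsupp.coe_zero, Pi.zero_apply] at h2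
    omega
  have h2 := deg_mono hz
  rw [deg_zeros hK hti, deg_single_ac hK, adjoin_inv] at h2
  haveI := finiteDimensional_adjoin hK ht
  have h3 : 0 < Module.finrank k⟮f⟯ K := Module.finrank_pos
  have := genus_eq_zero_of_finrank_one hK ht (by omega)
  omega

/-- A canonical divisor has no base point. -/
lemma ell_canonical_sub_single (hg : 1 ≤ genus k K) {C : Divisor k K} (hC : IsCanonical k K C) (P : Place k K) :
    ell (C - Finsupp.single P 1) < ell C := by
  obtain ⟨h1, h2⟩ := canonical_deg hK hC
  have h := riemann_roch hK hC (C - Finsupp.single P 1)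
  rw [sub_sub_cancel, ell_single_one hK hg, deg_sub_single hK, h2] at h
  omega

variable {n : ℕ}

omit [IsAlgClosed k] hK in
lemma ell_pos_of_span {C : Divisor k K} {φ : Fin (n + 1) → K} (hφ : LinearIndependent k φ)
    (hspan : Submodule.span k (Set.range φ) = L C) : ell C = n + 1 := by
  rw [ell, ← hspan, finrank_span_eq_card hφ, Fintype.card_fin]

/-- The divisor of the canonical map is canonical. -/
lemma mapDiv_canonical {C : Divisor k K} (hC : IsCanonical k K C) {φ : Fin (n + 1) → K}
    (hφ : LinearIndependent k φ) (hspan : Submodule.span k (Set.range φ) = L C) : mapDiv k φ = C := by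
  have hg : 1 ≤ genus k K := by
    rw [← (canonical_deg hK hC).1, ell_pos_of_span hφ hspan]; omega
  ext P
  obtain ⟨x, hxL, hxn⟩ : ∃ x ∈ L C, x ∉ L (C - Finsupp.single P 1) := by
    by_contra h
    push Not at h
    haveI := finite_L hK (C - Finsupp.single P 1)
    exact (Submodule.finrank_mono (R := k) (fun x hx => h x hx)).not_gt (ell_canonical_sub_single hK hg hC P)
  have hx0 : x ≠ 0 := fun h => hxn (h ▸ Submodule.zero_mem _)
  have hxP : P.ord x = -C P := by
    have h1 := (mem_L_iff_ord hx0).1 hxL P
    by_contra hne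
    refine hxn ((mem_L_iff_ord hx0).2 fun Q => ?_)
    have h3 := (mem_L_iff_ord hx0).1 hxL Q
    rcases eq_or_ne Q P with rfl | hQ
    · rw [Finsupp.sub_apply, Finsupp.single_eq_same]; omega
    · rw [Finsupp.sub_apply, Finsupp.single_eq_of_ne hQ]; omega
  obtain ⟨j, hj⟩ := exists_max P φ
  rw [mapDiv_apply_of_max hK hφ.ne_zero hj]
  have h1 := (mem_L_iff_ord (hφ.ne_zero j)).1 (hspan.le (Submodule.subset_span ⟨j, rfl⟩)) P
  have h2 := (mem_L_iff_ord hx0).1 (span_le_L_mapDiv hK hφ.ne_zero (hspan.ge hxL)) P
  rw [mapDiv_apply_of_max hK hφ.ne_zero hj] at h2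
  omega

end Groth.Agent.FF
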