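import Mathlib
import Groth.Agent.FF.SepGen
import Groth.Agent.FF.DiffWeil
import Groth.Agent.FF.DiffExp
import Groth.Agent.FF.Conorm

/-! The Riemann–Hurwitz formula. -/

set_option autoImplicit false
set_option linter.style.haveILetI false

namespace Groth.Agent.FF

open FunFld LaurentSeries
open scoped WithZero

universe u v w

variable {k k' : Type u} {K K' : Type v} [Field k] [Field k'] [Field K] [Field K']
  [Algebra k k'] [Algebra k K] [Algebra K K'] [Algebra k' K'] [Algebra k K']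
  [IsScalarTower k k' K'] [IsScalarTower k K K'] [FiniteDimensional k k'] [FiniteDimensional K K']
  [Algebra.IsSeparable K K']

lemma D_ne_zero_of_vDiff {L : Type v} [Field L] [Algebra k L] {G : Type w} [Field G] [Algebra k G]
    {φ : L →ₐ[k] G⸨X⸩} {x : L} (hx : LocRes.vDiff φ 1 x ≠ 0) : KaehlerDifferential.D k L x ≠ 0 := by
  intro h
  have h1 : (0 : L) • KaehlerDifferential.D k L x = KaehlerDifferential.D k L x := by rw [zero_smul, h]
  rw [vDiff_one, D_exp_eq φ h1, map_zero, zero_mul, map_zero] at hx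
  exact hx rfl

/-- The degree of the different. -/
theorem riemann_hurwitz (hK : IsFunctionField k K) (hg : IsGeometric k K) (hK' : IsFunctionField k' K')
    {F : Place k K → Type w} [∀ P, Field (F P)] [∀ P, Algebra k (F P)]
    {φ : ∀ P, K →ₐ[k] (F P)⸨X⸩} (hφ : ∀ P, LocRes.IsExpansionAt P.1 (φ P))
    {F' : Place k' K' → Type w} [∀ Q, Field (F' Q)] [∀ Q, Algebra k' (F' Q)]
    {ψ : ∀ Q, K' →ₐ[k'] (F' Q)⸨X⸩} (hψ : ∀ Q, LocRes.IsExpansionAt Q.1 (ψ Q))
    (below : Place k' K' → Place k K) (e : Place k' K' → ℕ)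
    (he : ∀ Q (z : K), Q.1 (algebraMap K K' z) = (below Q).1 z ^ e Q)
    {x : K} (hx : ∀ P, LocRes.vDiff (φ P) 1 x ≠ 0) (hx' : ∀ Q, LocRes.vDiff (ψ Q) 1 (algebraMap K K' x) ≠ 0) :
    (Function.support fun Q => LocRes.diffExp (φ (below Q)) (ψ Q) (e Q) x).Finite ∧
      (Module.finrank k k' : ℤ) * (2 * (genus k' K' : ℤ) - 2) =
        (Module.finrank K K' : ℤ) * (2 * (genus k K : ℤ) - 2) +
        (Module.finrank k k' : ℤ) * ∑ᶠ Q, LocRes.diffExp (φ (below Q)) (ψ Q) (e Q) x * (Q.deg : ℤ) := by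
  classical
  have hg' := isGeometric_ext hK hg hK'
  obtain ⟨⟨x₀, hx₀, -⟩, -⟩ := id hK
  obtain ⟨P₀, -⟩ := exists_zero hK hx₀
  obtain ⟨⟨x₁, hx₁, -⟩, -⟩ := id hK'
  obtain ⟨Q₀, -⟩ := exists_zero hK' hx₁
  haveI : ∀ P, FiniteDimensional k (F P) := fun P => finite_coeffField (hφ P) hK
  haveI : ∀ Q, FiniteDimensional k' (F' Q) := fun Q => finite_coeffField (hψ Q) hK'
  set W := diffDiv hφ hK hg one_ne_zero (D_ne_zero_of_vDiff (hx P₀))
  set W' := diffDiv hψ hK' hg' one_ne_zero (D_ne_zero_of_vDiff (hx' Q₀))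
  have hW := (canonical_deg hK (diffDiv_isCanonical hφ hK hg one_ne_zero (D_ne_zero_of_vDiff (hx P₀)))).2
  have hW' := (canonical_deg hK' (diffDiv_isCanonical hψ hK' hg' one_ne_zero (D_ne_zero_of_vDiff (hx' Q₀)))).2
  set ε := placeEquiv k K' k'
  set C : Divisor k' K' := Finsupp.equivMapDomain ε (conorm K' W)
  have hC : ∀ Q, C Q = (e Q : ℤ) * LocRes.ordDiff (φ (below Q)) 1 x := fun Q => by
    have hQ : IsOverWith (ε.symm Q) (below Q) (e Q) := he Q
    rw [Finsupp.equivMapDomain_apply, conorm_apply hK _ ⟨_, hQ⟩, ramIdx_eq hQ]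
    rfl
  have hCdeg : (Module.finrank k k' : ℤ) * C.deg = Module.finrank K K' * W.deg := by
    rw [← deg_conorm hK, Divisor.deg, Divisor.deg, Finsupp.sum_equivMapDomain, Finsupp.mul_sum]
    refine Finsupp.sum_congr fun Q _ => ?_
    rw [deg_placeEquiv (k' := k') Q]; push_cast; ring
  have hd : ∀ Q, LocRes.diffExp (φ (below Q)) (ψ Q) (e Q) x = (W' - C) Q := fun Q => by
    rw [Finsupp.sub_apply, hC]; rfl
  simp_rw [hd]
  refine ⟨(W' - C).finite_support, ?_⟩
  have hsum : ∑ᶠ Q, (W' - C) Q * (Q.deg : ℤ) = (W' - C).deg := by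
    rw [Divisor.deg, Finsupp.sum, finsum_eq_sum_of_support_subset _ (s := (W' - C).support) fun Q hQ => by
      simp only [Function.mem_support] at hQ
      exact Finsupp.mem_support_iff.2 (left_ne_zero_of_mul hQ)]
  rw [hsum, deg_sub, hW']
  linear_combination hCdeg + (Module.finrank K K' : ℤ) * hW

end Groth.Agent.FF
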