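import Groth.Agent.FF.PowSeries

/-! Plane models: Hilbert function, degree, genus bound. -/

namespace Groth.Agent.FF

open FunFld
open MvPolynomial (aeval restrictTotalDegree)

variable {k : Type*} [Field k]

/-- The number of monomials in two variables of degree at most `m`, doubled. -/
lemma two_mul_finrank_restrict (m : ℕ) :
    FiniteDimensional k (restrictTotalDegree (Fin 2) k m) ∧
      2 * Module.finrank k (restrictTotalDegree (Fin 2) k m) = (m + 1) * (m + 2) := by
  classical
  let S : Finset (Fin 2 →₀ ℕ) := ((Finset.range (m + 1)).sigma fun i => Finset.range (m + 1 - i)).image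
    fun p : (_ : ℕ) × ℕ => Finsupp.single 0 p.1 + Finsupp.single 1 p.2
  have hS : {d : Fin 2 →₀ ℕ | (Multiset.card d.toMultiset) ≤ m} = ↑S := by
    ext d
    simp only [Set.mem_ofPred_eq, Finsupp.card_toMultiset, S, Finset.coe_image, Set.mem_image, Finset.mem_coe,
      Finset.mem_sigma, Finset.mem_range]
    rw [show d.sum (fun _ => id) = d 0 + d 1 by
      rw [Finsupp.sum_fintype _ _ (fun _ => rfl), Fin.sum_univ_two]; rfl]
    constructor
    · intro h
      exact ⟨⟨d 0, d 1⟩, ⟨by simp only; omega, by simp only; omega⟩, by ext i; fin_cases i <;> simp⟩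
    · rintro ⟨⟨a, b⟩, ⟨ha, hb⟩, rfl⟩
      simp at *; omega
  have hcard : 2 * S.card = (m + 1) * (m + 2) := by
    rw [Finset.card_image_of_injective _ (fun p q h => by
      have e0 := DFunLike.congr_fun h 0
      have e1 := DFunLike.congr_fun h 1
      simp at e0 e1
      exact Sigma.ext e0 (heq_of_eq e1)), Finset.card_sigma]
    simp only [Finset.card_range]
    have h := two_mul_sum_range_sub (m + 1) (m + 1) le_rfl
    rw [h]
  have b := (MvPolynomial.basisRestrictSupport k {d : Fin 2 →₀ ℕ | (d.sum fun _ e => e) ≤ m})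
  have hset : {d : Fin 2 →₀ ℕ | (d.sum fun _ e => e) ≤ m} = ↑S := by
    rw [← hS]; ext d
    simp [Finsupp.card_toMultiset]
    rfl
  haveI : Fintype ↥{d : Fin 2 →₀ ℕ | (d.sum fun _ e => e) ≤ m} :=
    Fintype.ofEquiv S (Equiv.subtypeEquivRight fun d => (Set.ext_iff.1 hset d).symm)
  refine ⟨(Module.Finite.of_basis b : FiniteDimensional k (MvPolynomial.restrictSupport k {d : Fin 2 →₀ ℕ | (d.sum fun _ e => e) ≤ m})), ?_⟩
  change 2 * Module.finrank k (MvPolynomial.restrictSupport k {d : Fin 2 →₀ ℕ | (d.sum fun _ e => e) ≤ m}) = _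
  rw [Module.finrank_eq_card_basis b, ← hcard]
  congr 1
  exact (Fintype.card_congr (Equiv.subtypeEquivRight fun d => (Set.ext_iff.1 hset d))).trans (Fintype.card_coe S)

variable {K : Type*} [Field K] [Algebra k K] (x y : K)

local notation "Wxy" => Submodule.span k (Set.range ![(1 : K), x, y])
local notation "T" => fun m => restrictTotalDegree (Fin 2) k m

lemma pow_eq_map (m : ℕ) :
    (Wxy) ^ m = (restrictTotalDegree (Fin 2) k m).map (aeval ![x, y]).toLinearMap := by
  classical
  have h1 : (1 : K) ∈ Wxy := Submodule.subset_span ⟨0, rfl⟩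
  refine le_antisymm ?_ ?_
  · induction m with
    | zero =>
      rw [pow_zero, Submodule.one_le]
      exact ⟨1, by simp [MvPolynomial.mem_restrictTotalDegree], by simp⟩
    | succ m ih =>
      rw [pow_succ, Submodule.mul_le]
      intro a ha b hb
      obtain ⟨p, hp, rfl⟩ := ih ha
      induction hb using Submodule.span_induction with
      | mem z hz =>
        obtain ⟨i, rfl⟩ := hz
        rw [SetLike.mem_coe, MvPolynomial.mem_restrictTotalDegree] at hp
        fin_cases i
        · exact ⟨p, by rw [SetLike.mem_coe, MvPolynomial.mem_restrictTotalDegree]; omega, by simp⟩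
        · refine ⟨p * MvPolynomial.X 0, ?_, by simp⟩
          rw [SetLike.mem_coe, MvPolynomial.mem_restrictTotalDegree]
          exact (MvPolynomial.totalDegree_mul _ _).trans (by rw [MvPolynomial.totalDegree_X]; omega)
        · refine ⟨p * MvPolynomial.X 1, ?_, by simp⟩
          rw [SetLike.mem_coe, MvPolynomial.mem_restrictTotalDegree]
          exact (MvPolynomial.totalDegree_mul _ _).trans (by rw [MvPolynomial.totalDegree_X]; omega)
      | zero => simp
      | add u v _ _ hu hv => rw [mul_add]; exact Submodule.add_mem _ hu hv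
      | smul c u _ hu => rw [mul_smul_comm]; exact Submodule.smul_mem _ c hu
  · rintro _ ⟨p, hp, rfl⟩
    rw [SetLike.mem_coe, MvPolynomial.mem_restrictTotalDegree] at hp
    rw [AlgHom.toLinearMap_apply, p.as_sum, map_sum]
    refine Submodule.sum_mem _ fun d hd => ?_
    rw [MvPolynomial.aeval_monomial, ← Algebra.smul_def]
    refine Submodule.smul_mem _ _ ?_
    rw [Finsupp.prod_fintype _ _ (fun i => pow_zero _), Fin.prod_univ_two]
    have hdm : d 0 + d 1 ≤ m := by
      refine le_trans ?_ ((MvPolynomial.le_totalDegree hd).trans hp)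
      rw [Finsupp.sum_fintype _ _ (fun _ => rfl), Fin.sum_univ_two]
    obtain ⟨e, he⟩ := Nat.exists_eq_add_of_le hdm
    have hmem := Submodule.mul_mem_mul (Submodule.mul_mem_mul
      (Submodule.pow_mem_pow _ (Submodule.subset_span ⟨1, rfl⟩ : ![(1 : K), x, y] 1 ∈ Wxy) (d 0))
      (Submodule.pow_mem_pow _ (Submodule.subset_span ⟨2, rfl⟩ : ![(1 : K), x, y] 2 ∈ Wxy) (d 1)))
      (Submodule.pow_mem_pow _ h1 e)
    rw [← pow_add, ← pow_add, ← he, one_pow, mul_one] at hmem
    exact hmem

variable [IsAlgClosed k] (hK : IsFunctionField k K) (hxy : IntermediateField.adjoin k ({x, y} : Set K) = ⊤)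

include hK

omit [IsAlgClosed k] in
lemma proper_xy : Proper (k := k) ![(1 : K), x, y] := proper_of_one hK (i₀ := 0) rfl

omit [IsAlgClosed k] in
lemma finite_pow (m : ℕ) : FiniteDimensional k ↥((Wxy) ^ m) := by
  haveI := (two_mul_finrank_restrict (k := k) m).1
  rw [pow_eq_map x y m]
  infer_instance

omit [IsAlgClosed k] in
lemma finrank_pow_le_ell (m : ℕ) :
    Module.finrank k ↥((Wxy) ^ m) ≤ ell ((m : ℤ) • mapDiv k ![(1 : K), x, y]) := by
  haveI := finite_L hK ((m : ℤ) • mapDiv k ![(1 : K), x, y])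
  exact Submodule.finrank_mono (pow_le_L (proper_xy x y hK) m)

omit [IsAlgClosed k] in
lemma mapDiv_nonneg : 0 ≤ mapDiv k ![(1 : K), x, y] := fun P => by
  obtain ⟨j, hj⟩ := (proper_xy x y hK).isMax P
  have h := hj.2 0
  rw [← (proper_xy x y hK).2 P j hj, Matrix.cons_val_zero, map_one, ← WithZero.exp_zero, WithZero.exp_le_exp] at h
  exact h

include hxy

omit [IsAlgClosed k] in
lemma exists_transcendental_coord : ∃ i : Fin 2, Transcendental k (![x, y] i) := by
  obtain ⟨⟨t, ht, -⟩, -⟩ := id hK
  by_contra hcon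
  push Not at hcon
  have hbot : IntermediateField.adjoin k ({x, y} : Set K) ≤ ⊥ := IntermediateField.adjoin_le_iff.2 (by
    rintro z (rfl | rfl)
    exacts [IntermediateField.mem_bot.2 ((id hK).2 _ (not_not.1 (hcon 0))),
      IntermediateField.mem_bot.2 ((id hK).2 _ (not_not.1 (hcon 1)))])
  obtain ⟨c, hc⟩ := IntermediateField.mem_bot.1 (hbot (hxy.symm ▸ IntermediateField.mem_top : t ∈ _))
  exact ht (hc ▸ isAlgebraic_algebraMap c)

omit [IsAlgClosed k] in
lemma le_finrank_pow (m : ℕ) : m + 1 ≤ Module.finrank k ↥((Wxy) ^ m) := by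
  haveI := finite_pow x y hK m
  obtain ⟨i, hi⟩ := exists_transcendental_coord x y hK hxy
  have hm : ∀ l : Fin (m + 1), (![x, y] i) ^ (l : ℕ) ∈ (Wxy) ^ m := fun l => by
    obtain ⟨e, he⟩ := Nat.exists_eq_add_of_le (Nat.lt_succ_iff.1 l.isLt)
    have h := Submodule.mul_mem_mul
      (Submodule.pow_mem_pow _ (Submodule.subset_span ⟨i.succ, rfl⟩ : ![(1 : K), x, y] i.succ ∈ Wxy) (l : ℕ))
      (Submodule.pow_mem_pow _ (Submodule.subset_span ⟨0, rfl⟩ : (1 : K) ∈ Wxy) e)
    rw [← pow_add, ← he, one_pow, mul_one] at h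
    simpa [Matrix.cons_val_succ] using h
  have hpow : LinearIndependent k (fun l : ℕ => (![x, y] i) ^ l) := by
    have h := (Polynomial.basisMonomials k).linearIndependent.map' (Polynomial.aeval (![x, y] i)).toLinearMap
      (LinearMap.ker_eq_bot.2 (transcendental_iff_injective.1 hi))
    have e : (fun l : ℕ => (![x, y] i) ^ l) = ⇑(Polynomial.aeval (![x, y] i)).toLinearMap ∘ ⇑(Polynomial.basisMonomials k) := by
      funext l
      simp [Polynomial.coe_basisMonomials]
    rw [e]; exact h
  have hli : LinearIndependent k (fun l : Fin (m + 1) => (⟨(![x, y] i) ^ (l : ℕ), hm l⟩ : ↥((Wxy) ^ m))) :=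
    LinearIndependent.of_comp ((Wxy) ^ m).subtype
      (hpow.comp (fun l : Fin (m + 1) => (l : ℕ)) Fin.val_injective)
  simpa using hli.fintype_card_le_finrank

omit [IsAlgClosed k] in
lemma one_le_deg_mapDiv : 1 ≤ (mapDiv k ![(1 : K), x, y]).deg := by
  by_contra h
  have h1 := le_finrank_pow x y hK hxy 1
  have h2 := finrank_pow_le_ell x y hK 1
  have h3 := eq_zero_of_nonneg_of_deg hK (mapDiv_nonneg x y hK) (by omega)
  rw [h3, smul_zero, ell_zero hK] at h2
  omega

omit [IsAlgClosed k] in
/-- The kernel of evaluation on polynomials is generated by any irreducible relation. -/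
lemma ker_eq_span {f : MvPolynomial (Fin 2) k} (hf : Irreducible f) (hfxy : aeval ![x, y] f = 0)
    {g : MvPolynomial (Fin 2) k} (hg : aeval ![x, y] g = 0) : f ∣ g := by
  by_contra hdiv
  have hg0 : g ≠ 0 := fun h => hdiv (h ▸ dvd_zero f)
  set a := f.totalDegree
  set b := g.totalDegree
  obtain ⟨c, hc⟩ : ∃ c : ℕ, a * b < c + 1 := ⟨a * b, Nat.lt_succ_self _⟩
  set m := a + b + c with hm
  haveI := (two_mul_finrank_restrict (k := k) m).1
  haveI := finite_pow x y hK m
  let ev := ((aeval ![x, y] : MvPolynomial (Fin 2) k →ₐ[k] K).toLinearMap).domRestrict (restrictTotalDegree (Fin 2) k m)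
  have hrange : LinearMap.range ev = (Wxy) ^ m := by
    rw [pow_eq_map x y m, LinearMap.range_domRestrict]
  have hdim := ev.finrank_range_add_finrank_ker
  rw [hrange] at hdim
  let Tm := restrictTotalDegree (Fin 2) k
  let Kf := (Tm (m - a)).map (LinearMap.mulLeft k f)
  let Kg := (Tm (m - b)).map (LinearMap.mulLeft k g)
  have hKle : Kf ⊔ Kg ≤ (LinearMap.ker ev).map (Tm m).subtype := by
    have key : ∀ (h : MvPolynomial (Fin 2) k) (n : ℕ), aeval ![x, y] h = 0 → h.totalDegree + n ≤ m →
        (Tm n).map (LinearMap.mulLeft k h) ≤ (LinearMap.ker ev).map (Tm m).subtype := by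
      rintro h n hh hn _ ⟨p, hp, rfl⟩
      rw [SetLike.mem_coe, MvPolynomial.mem_restrictTotalDegree] at hp
      have hmem : h * p ∈ Tm m := by
        rw [MvPolynomial.mem_restrictTotalDegree]
        exact (MvPolynomial.totalDegree_mul _ _).trans (by omega)
      exact ⟨⟨h * p, hmem⟩, by simp [ev, hh], rfl⟩
    exact sup_le (key f _ hfxy (by omega)) (key g _ hg (by omega))
  have hprime := UniqueFactorizationMonoid.irreducible_iff_prime.1 hf
  have hinf : Kf ⊓ Kg ≤ (Tm (m - a - b)).map (LinearMap.mulLeft k (f * g)) := by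
    rintro _ ⟨⟨p, hp, rfl⟩, ⟨q, hq, hpq⟩⟩
    simp only [LinearMap.mulLeft_apply] at hpq ⊢
    obtain ⟨r, rfl⟩ : f ∣ q := (hprime.dvd_or_dvd (⟨p, hpq⟩ : f ∣ g * q)).resolve_left hdiv
    refine ⟨r, ?_, by simp only [LinearMap.mulLeft_apply]; rw [← hpq]; ring⟩
    rw [SetLike.mem_coe, MvPolynomial.mem_restrictTotalDegree] at hq ⊢
    rcases eq_or_ne r 0 with rfl | hr
    · simp
    rw [MvPolynomial.totalDegree_mul_of_isDomain hf.ne_zero hr] at hq
    omega
  haveI : ∀ n, FiniteDimensional k (Tm n) := fun n => (two_mul_finrank_restrict (k := k) n).1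
  have h1 := Submodule.finrank_sup_add_finrank_inf_eq Kf Kg
  have h2 := Submodule.finrank_mono hinf
  have h3 := Submodule.finrank_mono hKle
  have e : ∀ (h : MvPolynomial (Fin 2) k) (n : ℕ), h ≠ 0 → Module.finrank k ((Tm n).map (LinearMap.mulLeft k h)) = Module.finrank k (Tm n) :=
    fun h n hh => (Submodule.equivMapOfInjective _ (mul_right_injective₀ hh) _).finrank_eq.symm
  have efg := e (f * g) (m - a - b) (mul_ne_zero hf.ne_zero hg0)
  have ef : Module.finrank k Kf = Module.finrank k (Tm (m - a)) := e f (m - a) hf.ne_zero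
  have eg : Module.finrank k Kg = Module.finrank k (Tm (m - b)) := e g (m - b) hg0
  rw [Submodule.finrank_map_subtype_eq] at h3
  have hlow := le_finrank_pow x y hK hxy m
  have t1 := (two_mul_finrank_restrict (k := k) m).2
  have t2 := (two_mul_finrank_restrict (k := k) (m - a)).2
  have t3 := (two_mul_finrank_restrict (k := k) (m - b)).2
  have t4 := (two_mul_finrank_restrict (k := k) (m - a - b)).2
  rw [show m - a = b + c by omega] at t2 ef
  rw [show m - b = a + c by omega] at t3 eg
  rw [show m - a - b = c by omega] at t4 h2 efg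
  have hexp : (m + 1) * (m + 2) + (c + 1) * (c + 2) = (b + c + 1) * (b + c + 2) + (a + c + 1) * (a + c + 2) + 2 * (a * b) := by
    rw [hm]; ring
  simp only [Tm] at *
  omega

/-- There is an irreducible relation. -/
lemma exists_relation : ∃ f : MvPolynomial (Fin 2) k, Irreducible f ∧ aeval ![x, y] f = 0 := by
  have hne : RingHom.ker (aeval ![x, y] : MvPolynomial (Fin 2) k →ₐ[k] K) ≠ ⊥ := by
    intro hbot
    have hinj := (RingHom.injective_iff_ker_eq_bot _).2 hbot
    set e := (mapDiv k ![(1 : K), x, y]).deg.toNat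
    set m := 2 * e + 1
    haveI := (two_mul_finrank_restrict (k := k) m).1
    have h1 : Module.finrank k ↥((Wxy) ^ m) = Module.finrank k (restrictTotalDegree (Fin 2) k m) := by
      rw [pow_eq_map x y m]
      exact (Submodule.equivMapOfInjective _ hinj _).finrank_eq.symm
    have h2 := finrank_pow_le_ell x y hK m
    have hnn : (0 : Divisor k K) ≤ (m : ℤ) • mapDiv k ![(1 : K), x, y] :=
      smul_nonneg (Int.natCast_nonneg m) (mapDiv_nonneg x y hK)
    have h3 := ell_le_deg_add_one hK hnn
    rw [deg_smul, show (mapDiv k ![(1 : K), x, y]).deg = (e : ℤ) from (Int.toNat_of_nonneg (deg_nonneg (mapDiv_nonneg x y hK))).symm, ← Nat.cast_mul] at h3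
    have h4 := (two_mul_finrank_restrict (k := k) m).2
    have h5 : (m + 1) * (m + 2) = 2 * (m * e) + (4 * m + 2) := by simp only [m]; ring
    omega
  obtain ⟨f, hf, hfp⟩ := Ideal.IsPrime.exists_mem_prime_of_ne_bot (RingHom.ker_isPrime _) hne
  exact ⟨f, hfp.irreducible, hf⟩

omit [IsAlgClosed k] in
/-- The Hilbert function of a plane model. -/
lemma two_mul_finrank_pow {f : MvPolynomial (Fin 2) k} (hf : Irreducible f) (hfxy : aeval ![x, y] f = 0)
    {m : ℕ} (hm : f.totalDegree ≤ m) :
    2 * (Module.finrank k ↥((Wxy) ^ m) : ℤ) = 2 * m * f.totalDegree + 3 * f.totalDegree - (f.totalDegree : ℤ) ^ 2 := by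
  set a := f.totalDegree with ha
  haveI := (two_mul_finrank_restrict (k := k) m).1
  haveI := (two_mul_finrank_restrict (k := k) (m - a)).1
  haveI := finite_pow x y hK m
  let ev := ((aeval ![x, y] : MvPolynomial (Fin 2) k →ₐ[k] K).toLinearMap).domRestrict (restrictTotalDegree (Fin 2) k m)
  have hrange : LinearMap.range ev = (Wxy) ^ m := by
    rw [pow_eq_map x y m, LinearMap.range_domRestrict]
  have hker : (LinearMap.ker ev).map (restrictTotalDegree (Fin 2) k m).subtype =
      (restrictTotalDegree (Fin 2) k (m - a)).map (LinearMap.mulLeft k f) := by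
    ext p
    simp only [Submodule.mem_map, LinearMap.mem_ker, LinearMap.mulLeft_apply, Submodule.coe_subtype]
    constructor
    · rintro ⟨⟨q, hq⟩, hq0, rfl⟩
      obtain ⟨r, rfl⟩ := ker_eq_span x y hK hxy hf hfxy (g := q) hq0
      refine ⟨r, ?_, rfl⟩
      rw [MvPolynomial.mem_restrictTotalDegree] at hq ⊢
      rcases eq_or_ne r 0 with rfl | hr
      · simp
      rw [MvPolynomial.totalDegree_mul_of_isDomain hf.ne_zero hr] at hq
      omega
    · rintro ⟨r, hr, rfl⟩
      have hmem : f * r ∈ restrictTotalDegree (Fin 2) k m := by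
        rw [MvPolynomial.mem_restrictTotalDegree] at hr ⊢
        exact (MvPolynomial.totalDegree_mul _ _).trans (by omega)
      exact ⟨⟨f * r, hmem⟩, by simp [ev, hfxy], rfl⟩
  have hdim := ev.finrank_range_add_finrank_ker
  rw [hrange] at hdim
  have h1 := congrArg (fun S : Submodule k (MvPolynomial (Fin 2) k) => Module.finrank k S) hker
  rw [Submodule.finrank_map_subtype_eq,
    ← (Submodule.equivMapOfInjective _ (mul_right_injective₀ hf.ne_zero) _).finrank_eq] at h1
  have t1 := (two_mul_finrank_restrict (k := k) m).2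
  have t2 := (two_mul_finrank_restrict (k := k) (m - a)).2
  obtain ⟨e, rfl⟩ := Nat.exists_eq_add_of_le hm
  rw [Nat.add_sub_cancel_left] at t2 h1
  have : ((Module.finrank k (restrictTotalDegree (Fin 2) k (a + e))) : ℤ) * 2 = ((a + e : ℕ) + 1) * ((a + e : ℕ) + 2) := by
    rw [mul_comm]; exact_mod_cast t1
  have h2 : ((Module.finrank k (restrictTotalDegree (Fin 2) k e)) : ℤ) * 2 = ((e : ℤ) + 1) * ((e : ℤ) + 2) := by
    rw [mul_comm]; exact_mod_cast t2
  have h3 : (Module.finrank k ↥((Wxy) ^ (a + e)) : ℤ) + (Module.finrank k (restrictTotalDegree (Fin 2) k e) : ℤ) =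
      (Module.finrank k (restrictTotalDegree (Fin 2) k (a + e)) : ℤ) := by
    rw [h1] at hdim; exact_mod_cast hdim
  push_cast at this ⊢
  linear_combination this - h2 + 2 * h3

/-- The degree of a plane model is the degree of its equation. -/
lemma deg_mapDiv_eq {f : MvPolynomial (Fin 2) k} (hf : Irreducible f) (hfxy : aeval ![x, y] f = 0) :
    (mapDiv k ![(1 : K), x, y]).deg = f.totalDegree := by
  set φ := ![(1 : K), x, y]
  set e := (mapDiv k φ).deg
  set a := (f.totalDegree : ℤ)
  have hφ := proper_xy (k := k) x y hK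
  obtain ⟨m₀, hgen⟩ := L_le_pow_mul hK hφ
  haveI := finite_L hK ((m₀ : ℤ) • mapDiv k φ)
  have h1mem : (1 : K) ∈ Submodule.span k (Set.range φ) := Submodule.subset_span ⟨0, rfl⟩
  -- a common denominator
  obtain ⟨c, h, hh0, hh⟩ : ∃ (c : ℕ) (h : K), h ≠ 0 ∧
      ∀ g ∈ L ((m₀ : ℤ) • mapDiv k φ), h * g ∈ (Submodule.span k (Set.range φ)) ^ c := by
    have hfrac : ∀ g : K, ∃ (c : ℕ) (s : K), s ≠ 0 ∧ s ∈ (Submodule.span k (Set.range φ)) ^ c ∧
        s * g ∈ (Submodule.span k (Set.range φ)) ^ c := by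
      intro g
      have hchart : ∀ r ∈ Algebra.adjoin k ({x, y} : Set K), ∃ N : ℕ, r ∈ (Submodule.span k (Set.range φ)) ^ N := by
        intro r hr
        induction hr using Algebra.adjoin_induction with
        | mem z hz =>
          rcases hz with rfl | rfl
          exacts [⟨1, by rw [pow_one]; exact Submodule.subset_span ⟨1, rfl⟩⟩, ⟨1, by rw [pow_one]; exact Submodule.subset_span ⟨2, rfl⟩⟩]
        | algebraMap z => exact ⟨0, by rw [pow_zero]; exact Submodule.algebraMap_mem z⟩
        | add u v _ _ hu hv =>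
          obtain ⟨M, hM⟩ := hu; obtain ⟨N, hN⟩ := hv
          refine ⟨M + N, Submodule.add_mem _ ?_ ?_⟩
          · rw [pow_add]; simpa using Submodule.mul_mem_mul hM (Submodule.pow_mem_pow _ h1mem N)
          · rw [add_comm, pow_add]; simpa using Submodule.mul_mem_mul hN (Submodule.pow_mem_pow _ h1mem M)
        | mul u v _ _ hu hv =>
          obtain ⟨M, hM⟩ := hu; obtain ⟨N, hN⟩ := hv
          exact ⟨M + N, by rw [pow_add]; exact Submodule.mul_mem_mul hM hN⟩
      rcases eq_or_ne g 0 with rfl | hg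
      · exact ⟨0, 1, one_ne_zero, by simp, by simp⟩
      obtain ⟨r, hr, s, hs, rfl⟩ := IntermediateField.mem_adjoin_iff_div.1
        (hxy.symm ▸ IntermediateField.mem_top : g ∈ IntermediateField.adjoin k ({x, y} : Set K))
      have hs0 : s ≠ 0 := fun h => hg (by rw [h, div_zero])
      obtain ⟨M, hM⟩ := hchart r hr
      obtain ⟨N, hN⟩ := hchart s hs
      refine ⟨M + N, s, hs0, ?_, ?_⟩
      · rw [add_comm, pow_add]; simpa using Submodule.mul_mem_mul hN (Submodule.pow_mem_pow _ h1mem M)
      · rw [mul_div_cancel₀ r hs0, pow_add]; simpa using Submodule.mul_mem_mul hM (Submodule.pow_mem_pow _ h1mem N)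
    choose cc s hs0 hs hsg using hfrac
    let b := Module.finBasis k (L ((m₀ : ℤ) • mapDiv k φ))
    refine ⟨∑ i, cc (b i : K), ∏ i, s (b i : K), Finset.prod_ne_zero_iff.2 fun i _ => hs0 _, fun g hg => ?_⟩
    have h2 := Submodule.mem_map_of_mem (f := (L ((m₀ : ℤ) • mapDiv k φ)).subtype) (b.mem_span (⟨g, hg⟩ : L _))
    rw [Submodule.map_span] at h2
    change g ∈ _ at h2
    clear hg
    induction h2 using Submodule.span_induction with
    | mem z hz =>
      classical
      obtain ⟨_, ⟨i, rfl⟩, rfl⟩ := hz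
      change (∏ i, s (b i : K)) * (b i : K) ∈ _
      rw [← Finset.mul_prod_erase Finset.univ _ (Finset.mem_univ i), ← Finset.add_sum_erase Finset.univ _ (Finset.mem_univ i),
        pow_add, mul_right_comm]
      refine Submodule.mul_mem_mul (hsg _) ?_
      induction Finset.univ.erase i using Finset.induction_on with
      | empty => simp
      | insert l S hl ih' =>
        rw [Finset.prod_insert hl, Finset.sum_insert hl, pow_add]
        exact Submodule.mul_mem_mul (hs _) ih'
    | zero => simp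
    | add u v _ _ hu hv => rw [mul_add]; exact Submodule.add_mem _ hu hv
    | smul z u _ hu => rw [mul_smul_comm]; exact Submodule.smul_mem _ z hu
  have hub : ∀ n : ℕ, ((m₀ + n : ℕ) : ℤ) * e + 1 - genus k K ≤ (Module.finrank k ↥((Submodule.span k (Set.range φ)) ^ (n + c)) : ℤ) := by
    intro n
    haveI := finite_pow x y hK (n + c)
    haveI := finite_L hK (((m₀ + n : ℕ) : ℤ) • mapDiv k φ)
    have hle : (L (((m₀ + n : ℕ) : ℤ) • mapDiv k φ)).map (LinearMap.mulLeft k h) ≤
        (Submodule.span k (Set.range φ)) ^ (n + c) := by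
      rintro _ ⟨g, hg, rfl⟩
      have hg' := hgen n hg
      clear hg
      induction hg' using Submodule.mul_induction_on' with
      | mem_mul_mem u hu v hv =>
        rw [LinearMap.mulLeft_apply, mul_left_comm, pow_add]
        exact Submodule.mul_mem_mul hu (hh v hv)
      | add u _ v _ hu hv => rw [map_add]; exact Submodule.add_mem _ hu hv
    have h1 := Submodule.finrank_mono hle
    rw [← (Submodule.equivMapOfInjective _ (mul_right_injective₀ hh0) _).finrank_eq] at h1
    have h2 := (genus_spec hK).1 (((m₀ + n : ℕ) : ℤ) • mapDiv k φ)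
    rw [defect, deg_smul] at h2
    simp only [ell] at h2
    have h3 : (Module.finrank k (L (((m₀ + n : ℕ) : ℤ) • mapDiv k φ)) : ℤ) ≤
        (Module.finrank k ↥((Submodule.span k (Set.range φ)) ^ (n + c)) : ℤ) := by exact_mod_cast h1
    linarith
  -- compare the two linear functions
  refine le_antisymm ?_ ?_
  · by_contra hlt
    push Not at hlt
    set n : ℕ := f.totalDegree + (2 * ((c : ℤ) * a) + 3 * a + 2 * genus k K).toNat
    have h1 := hub n
    have h2 := two_mul_finrank_pow x y hK hxy hf hfxy (m := n + c) (by omega)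
    have h3 : (n : ℤ) * (a + 1) ≤ n * e := mul_le_mul_of_nonneg_left hlt (by positivity)
    have h4 : (0 : ℤ) ≤ (m₀ : ℤ) * e := mul_nonneg (by positivity) (deg_nonneg (mapDiv_nonneg x y hK))
    have h5 : 0 ≤ a ^ 2 := sq_nonneg a
    have h6 : (n : ℤ) ≥ 2 * ((c : ℤ) * a) + 3 * a + 2 * genus k K := by simp only [n]; push_cast; omega
    push_cast at h1 h2
    nlinarith
  · by_contra hlt
    push Not at hlt
    set n : ℕ := f.totalDegree + (a ^ 2 + 2).toNat
    have h2 := two_mul_finrank_pow x y hK hxy hf hfxy (m := n) (by omega)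
    have h3 := finrank_pow_le_ell x y hK n
    have hnn : (0 : Divisor k K) ≤ (n : ℤ) • mapDiv k φ := smul_nonneg (Int.natCast_nonneg n) (mapDiv_nonneg x y hK)
    have h4 := ell_le_deg_add_one hK hnn
    rw [deg_smul] at h4
    have h5 : (n : ℤ) * (e + 1) ≤ n * a := mul_le_mul_of_nonneg_left hlt (by positivity)
    have h6 : (n : ℤ) ≥ a ^ 2 + 2 := by simp only [n]; push_cast; omega
    have h3' : (Module.finrank k ↥((Wxy) ^ n) : ℤ) ≤ (ell ((n : ℤ) • mapDiv k φ) : ℤ) := by exact_mod_cast h3
    have h7 : (0 : ℤ) ≤ a := by simp [a]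
    nlinarith

/-- Large powers are the whole space exactly when the genus is the arithmetic genus. -/
lemma genus_plane :
    2 * (genus k K : ℤ) ≤ ((mapDiv k ![(1 : K), x, y]).deg - 1) * ((mapDiv k ![(1 : K), x, y]).deg - 2) ∧
    (2 * (genus k K : ℤ) = ((mapDiv k ![(1 : K), x, y]).deg - 1) * ((mapDiv k ![(1 : K), x, y]).deg - 2) ↔
      ∀ P : Place k K, IsNonsingularAt ![(1 : K), x, y] P) := by
  obtain ⟨f, hf, hfxy⟩ := exists_relation x y hK hxy
  have he := deg_mapDiv_eq x y hK hxy hf hfxy
  have hpos := one_le_deg_mapDiv x y hK hxy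
  have hφ := proper_xy (k := k) x y hK
  set φ := ![(1 : K), x, y]
  set e := (mapDiv k φ).deg
  have key : ∀ m : ℕ, f.totalDegree + 2 * genus k K ≤ m →
      2 * (Module.finrank k ↥((Wxy) ^ m) : ℤ) = 2 * m * e + 3 * e - e ^ 2 ∧
        (ell ((m : ℤ) • mapDiv k φ) : ℤ) = m * e + 1 - genus k K := by
    intro m hm
    refine ⟨by rw [he]; exact two_mul_finrank_pow x y hK hxy hf hfxy (by omega), ?_⟩
    have h : (m : ℤ) * 1 ≤ (m : ℤ) * e := mul_le_mul_of_nonneg_left hpos (by positivity)
    have := ell_of_deg_large hK (D := (m : ℤ) • mapDiv k φ) (by rw [deg_smul]; change _ ≤ (m : ℤ) * e; omega)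
    rwa [deg_smul] at this
  refine ⟨?_, ?_⟩
  · obtain ⟨h1, h2⟩ := key _ le_rfl
    have h3 := finrank_pow_le_ell x y hK (f.totalDegree + 2 * genus k K)
    have h3' : (Module.finrank k ↥((Wxy) ^ (f.totalDegree + 2 * genus k K)) : ℤ) ≤
      (ell (((f.totalDegree + 2 * genus k K : ℕ) : ℤ) • mapDiv k φ) : ℤ) := by exact_mod_cast h3
    linear_combination 2 * h3' - h1 + 2 * h2
  · constructor
    · intro heq P
      refine nonsingular_of_pow_eq_L hK hφ (m₁ := f.totalDegree + 2 * genus k K) (fun m hm => ?_) (by omega) P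
      haveI := finite_L hK ((m : ℤ) • mapDiv k φ)
      refine Submodule.eq_of_le_of_finrank_eq (pow_le_L hφ m) ?_
      obtain ⟨h1, h2⟩ := key m hm
      have h4 : 2 * (Module.finrank k ↥((Wxy) ^ m) : ℤ) = 2 * (ell ((m : ℤ) • mapDiv k φ) : ℤ) := by
        linear_combination h1 - 2 * h2 + heq
      exact_mod_cast mul_left_cancel₀ (two_ne_zero (α := ℤ)) h4
    · intro hns
      obtain ⟨m₁, hm₁⟩ := pow_eq_L hK hφ hns
      obtain ⟨h1, h2⟩ := key (m₁ + (f.totalDegree + 2 * genus k K)) (Nat.le_add_left _ _)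
      have h4 := hm₁ (m₁ + (f.totalDegree + 2 * genus k K)) (Nat.le_add_right _ _)
      simp only [ell] at h2
      rw [← h4] at h2
      linear_combination 2 * h2 - h1

end Groth.Agent.FF
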