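import Groth.Agent.FF.Quadratic
import Groth.Agent.FF.AlgClosed
import Groth.Agent.FF.Misc

/-!
# Fixed places of the involution of a quadratic extension, and the genus
-/

set_option autoImplicit false
set_option linter.style.haveILetI false
set_option maxHeartbeats 800000

namespace Groth.Agent.FF.Quad

attribute [local instance high] FunFld.Place.algRes
attribute [-instance] IsLocalRing.instModuleResidueFieldOfAlgebra

open FunFld
open scoped WithZero

universe u v w

variable {k : Type u} {K : Type v} {K' : Type w} [Field k] [IsAlgClosed k] [Field K] [Field K'] [Algebra k K]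
  [Algebra K K'] [Algebra k K'] [IsScalarTower k K K']

/-- The fixed places are those over the places where the square of an anti-invariant element has odd order. -/
theorem fixed_iff_odd (hK : IsFunctionField k K) (hdeg : Module.finrank K K' = 2) (h2 : (2 : k) ≠ 0)
    (σ : K' ≃ₐ[K] K') {y : K'} (hy0 : y ≠ 0) (hσy : σ y = -y) {c : K} (hc : algebraMap K K' c = y ^ 2)
    {Q : Place k K'} {P : Place k K} {e : ℕ} (h : IsOverWith Q P e) :
    galPlace σ Q = Q ↔ Odd (P.ord c) := by
  classical
  have hc0 : c ≠ 0 := fun h0 => pow_ne_zero 2 hy0 (by rw [← hc, h0, map_zero])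
  have hord : 2 * Q.ord y = e * P.ord c := by
    rw [← ord_of_isOverWith h, hc, ord_pow]; norm_num
  constructor
  · intro hfix
    by_contra hodd
    obtain ⟨m, hm⟩ := Int.not_odd_iff_even.1 hodd
    obtain ⟨t, ht0, ht⟩ := exists_ord_eq P m
    set c₀ := c / t ^ 2 with hc₀
    have hc₀0 : c₀ ≠ 0 := div_ne_zero hc0 (pow_ne_zero _ ht0)
    have hPc : P.1 c₀ = 1 := by
      have h1 : P.ord c₀ = 0 := by
        rw [hc₀, div_eq_mul_inv, ord_mul P hc0 (inv_ne_zero (pow_ne_zero _ ht0)), ord_inv, ord_pow, ht]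
        omega
      rw [v_eq_exp P hc₀0, h1, neg_zero, WithZero.exp_zero]
    obtain ⟨a', ha'⟩ := exists_const hK P hPc.le
    have ha'0 : a' ≠ 0 := fun h0 => by rw [h0, map_zero, sub_zero, hPc] at ha'; exact lt_irrefl _ ha'
    obtain ⟨a, ha⟩ := IsAlgClosed.exists_pow_nat_eq a' zero_lt_two
    have ha0 : a ≠ 0 := fun h0 => ha'0 (by rw [← ha, h0, zero_pow two_ne_zero])
    set y₀ := y / algebraMap K K' t with hy₀
    have hsq : y₀ ^ 2 = algebraMap K K' c₀ := by rw [hy₀, _root_.div_pow, ← hc, ← map_pow, ← map_div₀]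
    have hσy₀ : σ y₀ = -y₀ := by rw [hy₀, map_div₀, hσy, σ.commutes, neg_div]
    have hprod : Q.1 (y₀ - algebraMap k K' a) * Q.1 (y₀ + algebraMap k K' a) < 1 := by
      rw [← map_mul, show (y₀ - algebraMap k K' a) * (y₀ + algebraMap k K' a) = y₀ ^ 2 - algebraMap k K' a ^ 2 by ring,
        ← map_pow, ha, hsq, IsScalarTower.algebraMap_apply k K K', ← map_sub, h]
      exact pow_lt_one₀ zero_le ha' (pos_of_isOverWith h).ne'
    obtain ⟨b, hb0, hb⟩ : ∃ b : k, b ≠ 0 ∧ Q.1 (y₀ - algebraMap k K' b) < 1 := by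
      rcases lt_or_ge (Q.1 (y₀ - algebraMap k K' a)) 1 with h1 | h1
      · exact ⟨a, ha0, h1⟩
      · refine ⟨-a, neg_ne_zero.2 ha0, ?_⟩
        rw [map_neg, sub_neg_eq_add]
        exact lt_of_le_of_lt (le_mul_of_one_le_left zero_le h1) hprod
    have h1 : Q.1 (-y₀ - algebraMap k K' b) < 1 := by
      have := hb
      rw [← hfix, galPlace_apply, map_sub, hσy₀, IsScalarTower.algebraMap_apply k K K', σ.commutes,
        ← IsScalarTower.algebraMap_apply] at this
      exact this
    have h3 : Q.1 (algebraMap k K' (2 * b)) < 1 := by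
      rw [show algebraMap k K' (2 * b) = -((y₀ - algebraMap k K' b) + (-y₀ - algebraMap k K' b)) by
        rw [map_mul, map_ofNat]; ring, Valuation.map_neg]
      exact (Q.1.map_add _ _).trans_lt (max_lt hb h1)
    rw [v_algebraMap Q (mul_ne_zero h2 hb0)] at h3
    exact lt_irrefl _ h3
  · intro hodd
    obtain ⟨rfl, -⟩ := ramified_of_odd hK hdeg h hord hodd
    exact (of_ramified hK hdeg h).1 _ ⟨2, isOverWith_galPlace h⟩

/-- The fixed places correspond to the places of odd order. -/
theorem card_fixed (hK : IsFunctionField k K) (hdeg : Module.finrank K K' = 2) (h2 : (2 : k) ≠ 0)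
    (σ : K' ≃ₐ[K] K') {y : K'} (hy0 : y ≠ 0) (hσy : σ y = -y) {c : K} (hc : algebraMap K K' c = y ^ 2) :
    Nat.card {Q : Place k K' // galPlace σ Q = Q} = Nat.card {P : Place k K // Odd (P.ord c)} := by
  classical
  have hord : ∀ {Q : Place k K'} {P : Place k K} {e : ℕ}, IsOverWith Q P e → 2 * Q.ord y = e * P.ord c :=
    fun h => by rw [← ord_of_isOverWith h, hc, ord_pow]; norm_num
  choose P e hP using exists_below (K' := K') hK hdeg
  refine Nat.card_congr (Equiv.ofBijective
    (fun Q => ⟨P Q.1, (fixed_iff_odd hK hdeg h2 σ hy0 hσy hc (hP Q.1)).1 Q.2⟩) ⟨fun Q R h => ?_, fun R => ?_⟩)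
  · have h' : P Q.1 = P R.1 := congrArg Subtype.val h
    have hodd := (fixed_iff_odd hK hdeg h2 σ hy0 hσy hc (hP Q.1)).1 Q.2
    have h1 := hP Q.1
    obtain ⟨he, -⟩ := ramified_of_odd hK hdeg h1 (hord h1) hodd
    rw [he] at h1
    exact (Subtype.ext ((of_ramified hK hdeg h1).1 R.1 ⟨e R.1, h' ▸ hP R.1⟩)).symm
  · obtain ⟨Q, e', hQ⟩ := exists_above (K' := K') hK hdeg R.1
    refine ⟨⟨Q, (fixed_iff_odd hK hdeg h2 σ hy0 hσy hc hQ).2 R.2⟩, Subtype.ext ?_⟩
    haveI : FiniteDimensional K K' := Module.finite_of_finrank_eq_succ hdeg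
    exact place_below_unique ⟨_, hP Q⟩ ⟨e', hQ⟩

omit [IsAlgClosed k] in
lemma conorm_galPlace (hK : IsFunctionField k K) (hdeg : Module.finrank K K' = 2) (σ : K' ≃ₐ[K] K')
    (D : Divisor k K) (Q : Place k K') : conorm K' D (galPlace σ Q) = conorm K' D Q := by
  haveI : FiniteDimensional K K' := Module.finite_of_finrank_eq_succ hdeg
  obtain ⟨P, e, h⟩ := exists_below (K' := K') hK hdeg Q
  rw [conorm_apply hK D ⟨e, h⟩, conorm_apply hK D ⟨e, isOverWith_galPlace h⟩, ramIdx_eq h,
    ramIdx_eq (isOverWith_galPlace (σ := σ) h)]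

/-- The genus of a quadratic extension in odd characteristic. -/
theorem two_genus_eq (hK : IsFunctionField k K) (hK' : IsFunctionField k K') (hdeg : Module.finrank K K' = 2)
    (h2 : (2 : k) ≠ 0) (σ : K' ≃ₐ[K] K') {y : K'} (hy0 : y ≠ 0) (hσy : σ y = -y) {c : K}
    (hc : algebraMap K K' c = y ^ 2) :
    2 * (genus k K' : ℤ) = 4 * (genus k K : ℤ) - 2 + Nat.card {P : Place k K // Odd (P.ord c)} := by
  classical
  haveI : FiniteDimensional K K' := Module.finite_of_finrank_eq_succ hdeg
  have h2K : (2 : K') ≠ 0 := by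
    rw [← map_ofNat (algebraMap k K') 2]; exact (_root_.map_ne_zero _).2 h2
  have hyr : y ∉ Set.range (algebraMap K K') := by
    rintro ⟨b, hb⟩
    have : -y = y := by rw [← hσy, ← hb, σ.commutes]
    exact hy0 ((mul_eq_zero.1 (show (2 : K') * y = 0 by linear_combination -this)).resolve_left h2K)
  have hc0 : c ≠ 0 := fun h0 => pow_ne_zero 2 hy0 (by rw [← hc, h0, map_zero])
  have hord : ∀ {Q : Place k K'} {P : Place k K} {e : ℕ}, IsOverWith Q P e → 2 * Q.ord y = e * P.ord c :=
    fun h => by rw [← ord_of_isOverWith h, hc, ord_pow]; norm_num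
  set H : Divisor k K := Finsupp.mapRange (fun n : ℤ => n / 2) (by norm_num) (div k c) with hH
  set O : Divisor k K := Finsupp.mapRange (fun n : ℤ => n % 2) (by norm_num) (div k c) with hO
  have hHP : ∀ P, H P = P.ord c / 2 := fun P => by rw [hH, Finsupp.mapRange_apply, div_apply hK]
  have hOP : ∀ P, O P = P.ord c % 2 := fun P => by rw [hO, Finsupp.mapRange_apply, div_apply hK]
  have hr : O.deg = Nat.card {P : Place k K // Odd (P.ord c)} := by
    have hsupp : ∀ P, P ∈ O.support ↔ Odd (P.ord c) := fun P => by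
      rw [Finsupp.mem_support_iff, hOP, Int.odd_iff]; omega
    rw [Nat.card_congr (Equiv.subtypeEquivRight fun P => (hsupp P).symm),
      Nat.card_eq_finsetCard O.support, Divisor.deg, Finsupp.sum, Finset.card_eq_sum_ones, Nat.cast_sum]
    refine Finset.sum_congr rfl fun P hP => ?_
    rw [deg_eq_one hK, hOP, Int.odd_iff.1 ((hsupp P).1 hP)]
    norm_num
  have hHdeg : 2 * H.deg + O.deg = 0 := by
    have e : H + H + O = div k c := by
      ext P; rw [Finsupp.add_apply, Finsupp.add_apply, hHP, hOP, div_apply hK]; omega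
    have := congrArg Divisor.deg e
    rw [deg_add, deg_add, deg_div hK] at this
    omega
  obtain ⟨⟨x, hx, -⟩, -⟩ := id hK
  obtain ⟨P₀, -⟩ := exists_zero hK hx
  set d : ℕ := 2 * genus k K + genus k K' + Nat.card {P : Place k K // Odd (P.ord c)} + 1 with hd
  set D : Divisor k K := Finsupp.single P₀ (d : ℤ) with hD
  have hDdeg : D.deg = d := by rw [hD, deg_single_ac hK]
  set E : Divisor k K := D + H with hE
  have hmem : ∀ a b : K, algebraMap K K' a + algebraMap K K' b * y ∈ L (conorm K' D) ↔ a ∈ L D ∧ b ∈ L E := by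
    intro a b
    have hA : algebraMap K K' a ∈ L (conorm K' D) ↔ a ∈ L D := by
      rcases eq_or_ne a 0 with rfl | ha
      · simp
      rw [mem_L_iff_ord ((_root_.map_ne_zero _).2 ha), mem_L_iff_ord ha]
      constructor
      · intro h P
        obtain ⟨Q, e, hQ⟩ := exists_above (K' := K') hK hdeg P
        have := h Q
        rw [ord_of_isOverWith hQ, conorm_apply hK D ⟨e, hQ⟩, ramIdx_eq hQ, ← mul_add] at this
        exact nonneg_of_mul_nonneg_right this (by exact_mod_cast pos_of_isOverWith hQ)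
      · intro h Q
        obtain ⟨P, e, hQ⟩ := exists_below (K' := K') hK hdeg Q
        rw [ord_of_isOverWith hQ, conorm_apply hK D ⟨e, hQ⟩, ramIdx_eq hQ, ← mul_add]
        exact mul_nonneg (Int.natCast_nonneg _) (h P)
    have hB : algebraMap K K' b * y ∈ L (conorm K' D) ↔ b ∈ L E := by
      rcases eq_or_ne b 0 with rfl | hb
      · simp
      have hb' := (_root_.map_ne_zero (algebraMap K K')).2 hb
      rw [mem_L_iff_ord (mul_ne_zero hb' hy0), mem_L_iff_ord hb]
      constructor
      · intro h P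
        obtain ⟨Q, e, hQ⟩ := exists_above (K' := K') hK hdeg P
        have h' := h Q
        have h1 := hord hQ
        have h3 := e_le_two hK hdeg hQ
        have h4 := pos_of_isOverWith hQ
        rw [ord_mul Q hb' hy0, ord_of_isOverWith hQ, conorm_apply hK D ⟨e, hQ⟩, ramIdx_eq hQ] at h'
        rw [hE, Finsupp.add_apply, hHP]
        rcases (show e = 1 ∨ e = 2 by omega) with rfl | rfl <;> omega
      · intro h Q
        obtain ⟨P, e, hQ⟩ := exists_below (K' := K') hK hdeg Q
        have h' := h P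
        have h1 := hord hQ
        have h3 := e_le_two hK hdeg hQ
        have h4 := pos_of_isOverWith hQ
        rw [hE, Finsupp.add_apply, hHP] at h'
        rw [ord_mul Q hb' hy0, ord_of_isOverWith hQ, conorm_apply hK D ⟨e, hQ⟩, ramIdx_eq hQ]
        rcases (show e = 1 ∨ e = 2 by omega) with rfl | rfl <;> omega
    constructor
    · intro hz
      have hσz : algebraMap K K' a - algebraMap K K' b * y ∈ L (conorm K' D) := by
        intro Q
        have h1 := hz (galPlace σ Q)
        rw [galPlace_apply, map_add, map_mul, σ.commutes, σ.commutes, hσy, conorm_galPlace hK hdeg] at h1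
        rwa [mul_neg, ← sub_eq_add_neg] at h1
      have hhalf : ∀ z : K', (2 : k) • z ∈ L (conorm K' D) → z ∈ L (conorm K' D) := fun z hz => by
        have := Submodule.smul_mem _ (2 : k)⁻¹ hz
        rwa [inv_smul_smul₀ h2] at this
      exact ⟨hA.1 (hhalf _ (by convert add_mem hz hσz using 1; rw [two_smul]; ring)),
        hB.1 (hhalf _ (by convert sub_mem hz hσz using 1; rw [two_smul]; ring))⟩
    · rintro ⟨ha, hb⟩
      exact add_mem (hA.2 ha) (hB.2 hb)
  haveI := finite_L hK D
  haveI := finite_L hK E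
  have hell : ell (conorm K' D) = ell D + ell E := by
    let c' : K →ₗ[k] K' := (IsScalarTower.toAlgHom k K K').toLinearMap
    let Φ : L D × L E →ₗ[k] K' :=
      (c'.comp (Submodule.subtype _)).coprod ((LinearMap.mulRight k y).comp (c'.comp (Submodule.subtype _)))
    have happ : ∀ pq, Φ pq = algebraMap K K' pq.1.1 + algebraMap K K' pq.2.1 * y := fun pq => rfl
    have hinj : Function.Injective Φ := by
      rw [← LinearMap.ker_eq_bot, LinearMap.ker_eq_bot']
      intro pq h
      rw [happ] at h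
      obtain ⟨h1, h2⟩ := repr_zero hyr h
      exact Prod.ext (Subtype.ext h1) (Subtype.ext h2)
    have hrange : LinearMap.range Φ = L (conorm K' D) := by
      refine Submodule.ext fun z => ?_
      rw [LinearMap.mem_range]
      constructor
      · rintro ⟨pq, rfl⟩
        rw [happ]
        exact (hmem _ _).2 ⟨pq.1.2, pq.2.2⟩
      · intro hz
        obtain ⟨a, b, rfl⟩ := exists_repr hdeg hyr z
        exact ⟨(⟨a, ((hmem a b).1 hz).1⟩, ⟨b, ((hmem a b).1 hz).2⟩), happ _⟩
    rw [ell, ← hrange, LinearMap.finrank_range_of_inj hinj, Module.finrank_prod]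
    rfl
  have hEdeg : E.deg = d + H.deg := by rw [hE, deg_add, hDdeg]
  have hcd : (conorm K' D).deg = 2 * d := by rw [conorm_deg hK hdeg, hDdeg]
  have h1 := ell_of_deg_large hK (D := D) (by rw [hDdeg]; omega)
  have h3 := ell_of_deg_large hK (D := E) (by rw [hEdeg]; omega)
  have h4 := ell_of_deg_large hK' (D := conorm K' D) (by rw [hcd]; omega)
  rw [hDdeg] at h1
  rw [hEdeg] at h3
  rw [hcd, hell] at h4
  push_cast at h4
  omega

end Groth.Agent.FF.Quad
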