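import Mathlib
import Groth.Agent.FF.ASGenus

/-! The normal form of Artin–Schreier covers of the line. -/

set_option autoImplicit false
set_option linter.style.haveILetI false

namespace Groth.Agent.FF.AS

attribute [local instance high] FunFld.Place.algRes
attribute [-instance] IsLocalRing.instModuleResidueFieldOfAlgebra

open FunFld Polynomial
open scoped WithZero IntermediateField

universe u v

variable {k : Type u} {K : Type v} [Field k] [Field K] [Algebra (RatFunc k) K]

/-- On the line, every residue class at `P` is that of an element with poles bounded by `n P`. -/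
lemma exists_L_residue (P : Place k (RatFunc k)) {n : ℕ} (hn : 1 ≤ n) {s : RatFunc k}
    (hs : P.1 s = WithZero.exp (-(n : ℤ))) (c : IsLocalRing.ResidueField P.O) :
    ∃ g ∈ L (Finsupp.single P (n : ℤ) : Divisor k (RatFunc k)), ∃ hg : P.1 (s * g) ≤ 1,
      IsLocalRing.residue P.O ⟨s * g, hg⟩ = c := by
  classical
  set D : Divisor k (RatFunc k) := Finsupp.single P (n : ℤ) with hD
  set D' : Divisor k (RatFunc k) := Finsupp.single P ((n : ℤ) - 1) with hD'
  have hs' : P.1 s = WithZero.exp (-D P) := by rw [hD, Finsupp.single_eq_same]; exact hs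
  let Φ : L D →ₗ[k] IsLocalRing.ResidueField P.O :=
    (resMap D P s hs').comp ((diag k (RatFunc k)).restrict diag_mem)
  haveI := finite_L (Rat.isFunctionField (k := k)) D
  haveI := finite_L (Rat.isFunctionField (k := k)) D'
  haveI : Module.Finite k (IsLocalRing.ResidueField P.O) := finite_residue Rat.isFunctionField P
  have hker : LinearMap.ker Φ ≤ Submodule.comap (L D).subtype (L D') := by
    rintro ⟨z, hz⟩ h0 R
    have h0' : P.1 (s * z) < 1 := by
      have h := LinearMap.mem_ker.1 h0
      exact (residue_eq_zero_iff (P := P) _).1 h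
    rcases eq_or_ne R P with rfl | hR
    · rw [v_lt_one_iff_le_exp, map_mul, hs] at h0'
      show R.1 z ≤ WithZero.exp (D' R)
      rw [hD', Finsupp.single_eq_same, show (n : ℤ) - 1 = -1 + (n : ℤ) by ring, WithZero.exp_add]
      calc R.1 z = WithZero.exp (-(n : ℤ)) * R.1 z * WithZero.exp (n : ℤ) := by
            rw [mul_right_comm, ← WithZero.exp_add, neg_add_cancel, WithZero.exp_zero, one_mul]
        _ ≤ _ := mul_le_mul_left h0' _
    · have := hz R
      rw [hD, Finsupp.single_eq_of_ne hR] at this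
      show R.1 z ≤ WithZero.exp (D' R)
      rwa [hD', Finsupp.single_eq_of_ne hR]
  have hdim : Module.finrank k (IsLocalRing.ResidueField P.O) ≤ Module.finrank k (LinearMap.range Φ) := by
    have h1 := LinearMap.finrank_range_add_finrank_ker Φ
    have hle : L D' ≤ L D := L_mono fun R => by
      rcases eq_or_ne R P with rfl | hR
      · rw [hD, hD', Finsupp.single_eq_same, Finsupp.single_eq_same]; omega
      · rw [hD, hD', Finsupp.single_eq_of_ne hR, Finsupp.single_eq_of_ne hR]
    have h2 := Submodule.finrank_mono hker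
    rw [(Submodule.comapSubtypeEquivOfLe hle).finrank_eq] at h2
    have hgen := Rat.genus_eq_zero (k := k)
    have hP := deg_pos (Rat.isFunctionField (k := k)) P
    have h3 := ell_of_deg_large Rat.isFunctionField (D := D) (by rw [hgen, hD, deg_single]; push_cast; nlinarith)
    have h4 := ell_of_deg_large Rat.isFunctionField (D := D') (by rw [hgen, hD', deg_single]; push_cast; nlinarith)
    rw [hgen, hD, deg_single] at h3
    rw [hgen, hD', deg_single] at h4
    change Module.finrank k (LinearMap.range Φ) + _ = ell D at h1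
    change _ ≤ ell D' at h2
    rw [← hD] at h3
    rw [← hD'] at h4
    change P.deg ≤ _
    push_cast at h3 h4
    rw [sub_mul, one_mul] at h4
    omega
  have htop : LinearMap.range Φ = ⊤ := Submodule.eq_top_of_finrank_eq (le_antisymm (Submodule.finrank_le _) hdim)
  obtain ⟨⟨g, hg⟩, hgc⟩ := LinearMap.range_eq_top.1 htop c
  exact ⟨g, hg, _, hgc⟩

/-- Lowering an even pole. -/
lemma exists_reduce [PerfectField k] (h2 : ringChar k = 2) (f : RatFunc k) (P : Place k (RatFunc k)) {n : ℕ}
    (hn : 1 ≤ n) (hf : P.ord f = -(2 * (n : ℤ))) :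
    ∃ g : RatFunc k, P.1 (f + g ^ 2 + g) < P.1 f ∧ ∀ R, R ≠ P → R.1 (f + g ^ 2 + g) ≤ max (R.1 f) 1 := by
  have hf0 : f ≠ 0 := fun h => by rw [h, ord_zero] at hf; omega
  have hPf : P.1 f = WithZero.exp (2 * (n : ℤ)) := by rw [v_eq_exp P hf0, hf, neg_neg]
  obtain ⟨s, hs0, hs⟩ := exists_v_eq P (-(n : ℤ))
  haveI : Module.Finite k (IsLocalRing.ResidueField P.O) := finite_residue Rat.isFunctionField P
  haveI : Algebra.IsAlgebraic k (IsLocalRing.ResidueField P.O) := Algebra.IsAlgebraic.of_finite _ _
  haveI : PerfectField (IsLocalRing.ResidueField P.O) := Algebra.IsAlgebraic.perfectField (K := k)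
  haveI : CharP k 2 := h2 ▸ ringChar.charP k
  haveI : CharP (IsLocalRing.ResidueField P.O) 2 := charP_of_injective_algebraMap
    (algebraMap k (IsLocalRing.ResidueField P.O)).injective 2
  haveI : Fact (Nat.Prime 2) := ⟨Nat.prime_two⟩
  haveI : PerfectRing (IsLocalRing.ResidueField P.O) 2 := PerfectField.toPerfectRing 2
  have hsf : P.1 (s ^ 2 * f) ≤ 1 := by
    rw [map_mul, map_pow, hs, hPf, ← WithZero.exp_nsmul, ← WithZero.exp_add, ← WithZero.exp_zero, WithZero.exp_le_exp]
    rw [nsmul_eq_mul]; push_cast; omega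
  obtain ⟨c, hc⟩ := surjective_frobenius (IsLocalRing.ResidueField P.O) 2 (IsLocalRing.residue P.O ⟨s ^ 2 * f, hsf⟩)
  rw [frobenius_def] at hc
  obtain ⟨g, hgL, hsg, hres⟩ := exists_L_residue P hn hs c
  have hPg : P.1 g ≤ WithZero.exp (n : ℤ) := by
    have := hgL P
    rwa [Finsupp.single_eq_same] at this
  have key : P.1 (f + g ^ 2) < P.1 f := by
    have h0 : IsLocalRing.residue P.O (⟨s ^ 2 * f, hsf⟩ + ⟨s * g, hsg⟩ ^ 2) = 0 := by
      rw [map_add, map_pow, hres, hc, CharTwo.add_self_eq_zero]
    rw [residue_eq_zero_iff] at h0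
    have h1 : P.1 (s ^ 2 * (f + g ^ 2)) < 1 := by
      rw [mul_add, ← mul_pow]; exact h0
    rw [map_mul, map_pow, hs, ← WithZero.exp_nsmul] at h1
    rw [hPf]
    calc P.1 (f + g ^ 2) = WithZero.exp (2 • -(n : ℤ)) * P.1 (f + g ^ 2) * WithZero.exp (2 * (n : ℤ)) := by
          rw [mul_right_comm, ← WithZero.exp_add, show 2 • -(n : ℤ) + 2 * (n : ℤ) = 0 by rw [nsmul_eq_mul]; push_cast; ring,
            WithZero.exp_zero, one_mul]
      _ < 1 * WithZero.exp (2 * (n : ℤ)) := mul_lt_mul_of_pos_right h1 WithZero.exp_pos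
      _ = _ := one_mul _
  refine ⟨g, (P.1.map_add _ _).trans_lt (max_lt key (hPg.trans_lt ?_)), fun R hR => ?_⟩
  · rw [hPf, WithZero.exp_lt_exp]; omega
  · have hg1 : R.1 g ≤ 1 := by
      have := hgL R
      rwa [Finsupp.single_eq_of_ne hR, WithZero.exp_zero] at this
    refine (R.1.map_add _ _).trans (max_le ((R.1.map_add _ _).trans (max_le (le_max_left _ _) ?_)) (hg1.trans (le_max_right _ _)))
    exact le_trans (by rw [map_pow]; exact pow_le_one' hg1 2) (le_max_right _ _)

/-- The pole divisor. -/
lemma zeros_inv_apply (f : RatFunc k) (P : Place k (RatFunc k)) :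
    zeros (k := k) f⁻¹ P = max (-P.ord f) 0 := by
  rw [zeros_apply Rat.isFunctionField, ord_inv]

theorem exists_normal_form [PerfectField k] (h2 : ringChar k = 2) :
    ∀ (N : ℕ) (y : K) (f : RatFunc k), (zeros (k := k) f⁻¹).deg ≤ N → y ∉ Set.range (algebraMap (RatFunc k) K) →
      y ^ 2 + y = algebraMap (RatFunc k) K f →
      ∃ (y' : K) (f' : RatFunc k), y' ∉ Set.range (algebraMap (RatFunc k) K) ∧
        y' ^ 2 + y' = algebraMap (RatFunc k) K f' ∧ ∀ P : Place k (RatFunc k), P.ord f' < 0 → Odd (P.ord f') := by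
  intro N
  induction N using Nat.strong_induction_on with
  | _ N ih =>
    intro y f hN hy heq
    by_cases hall : ∀ P : Place k (RatFunc k), P.ord f < 0 → Odd (P.ord f)
    · exact ⟨y, f, hy, heq, hall⟩
    push Not at hall
    obtain ⟨P, hneg, heven⟩ := hall
    rw [Int.not_odd_iff_even] at heven
    obtain ⟨m, hm⟩ := heven
    obtain ⟨n, hn⟩ : ∃ n : ℕ, m = -(n : ℤ) := ⟨(-m).toNat, by omega⟩
    obtain ⟨g, hgP, hgR⟩ := exists_reduce h2 f P (n := n) (by omega) (by omega)
    set f' := f + g ^ 2 + g
    have hf0 : f ≠ 0 := fun h => by rw [h, ord_zero] at hneg; omega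
    have hle : zeros (k := k) f'⁻¹ + Finsupp.single P 1 ≤ zeros (k := k) f⁻¹ := fun R => by
      rw [Finsupp.add_apply, zeros_inv_apply, zeros_inv_apply]
      rcases eq_or_ne f' 0 with h0 | h0
      · rw [h0, ord_zero, neg_zero, max_self, zero_add]
        rcases eq_or_ne R P with rfl | hR
        · rw [Finsupp.single_eq_same]; exact le_max_of_le_left (by omega)
        · rw [Finsupp.single_eq_of_ne hR]; exact le_max_right _ _
      rcases eq_or_ne R P with rfl | hR
      · rw [Finsupp.single_eq_same]
        rw [v_eq_exp R h0, v_eq_exp R hf0, WithZero.exp_lt_exp] at hgP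
        omega
      · rw [Finsupp.single_eq_of_ne hR, add_zero]
        have h := hgR R hR
        rw [v_eq_exp R h0, v_eq_exp R hf0, ← WithZero.exp_zero] at h
        rcases le_max_iff.1 h with h' | h' <;> rw [WithZero.exp_le_exp] at h' <;> omega
    have hdeg := deg_mono hle
    rw [deg_add, deg_single] at hdeg
    have hnn := deg_nonneg (zeros_nonneg (k := k) f'⁻¹)
    have hP := deg_pos (Rat.isFunctionField (k := k)) P
    obtain ⟨M, hM⟩ : ∃ M : ℕ, (zeros (k := k) f'⁻¹).deg = M := ⟨_, (Int.toNat_of_nonneg hnn).symm⟩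
    refine ih M (by omega) (y + algebraMap (RatFunc k) K g) f' hM.le ?_ ?_
    · rintro ⟨r, hr⟩
      exact hy ⟨r - g, by rw [map_sub, hr, add_sub_cancel_right]⟩
    · haveI : CharP k 2 := h2 ▸ ringChar.charP k
      haveI : CharP (RatFunc k) 2 := charP_of_injective_algebraMap (algebraMap k (RatFunc k)).injective 2
      haveI : CharP K 2 := charP_of_injective_algebraMap (algebraMap (RatFunc k) K).injective 2
      rw [CharTwo.add_sq]
      simp only [f', map_add, map_pow]
      rw [← heq]
      ring

lemma exists_start (hdeg : Module.finrank (RatFunc k) K = 2) (h2 : ringChar k = 2)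
    [Algebra.IsSeparable (RatFunc k) K] :
    ∃ (y : K) (f : RatFunc k), y ∉ Set.range (algebraMap (RatFunc k) K) ∧
      y ^ 2 + y = algebraMap (RatFunc k) K f := by
  haveI : FiniteDimensional (RatFunc k) K := Module.finite_of_finrank_eq_succ hdeg
  obtain ⟨z, hz⟩ : ∃ z : K, z ∉ Set.range (algebraMap (RatFunc k) K) := by
    by_contra! h
    have hbot : (⊥ : IntermediateField (RatFunc k) K) = ⊤ :=
      eq_top_iff.2 fun w _ => IntermediateField.mem_bot.2 (h w)
    have h1 := IntermediateField.finrank_top' (F := RatFunc k) (E := K)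
    rw [← hbot, IntermediateField.finrank_bot, hdeg] at h1
    omega
  obtain ⟨c, d, hrel⟩ := Quad.exists_repr hdeg hz (z ^ 2)
  have h20 : (2 : RatFunc k) = 0 := two_eq_zero h2 (RatFunc k)
  have hd : d ≠ 0 := by
    rintro rfl
    rw [map_zero, zero_mul, add_zero] at hrel
    have hsep : (minpoly (RatFunc k) z).Separable := Algebra.IsSeparable.isSeparable (RatFunc k) z
    have hint : IsIntegral (RatFunc k) z := Algebra.IsIntegral.isIntegral z
    have hd2 : (minpoly (RatFunc k) z).natDegree = 2 := by
      rw [← IntermediateField.adjoin.finrank hint, adjoin_eq_top hdeg hz, IntermediateField.finrank_top', hdeg]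
    have heqp : X ^ 2 - C c = minpoly (RatFunc k) z :=
      Polynomial.eq_of_monic_of_dvd_of_natDegree_le (minpoly.monic hint) (monic_X_pow_sub_C _ two_ne_zero)
        (minpoly.dvd _ _ (by simp [hrel])) (by rw [natDegree_X_pow_sub_C, hd2])
    rw [← heqp, Polynomial.separable_def] at hsep
    rw [derivative_sub, derivative_X_pow, derivative_C, sub_zero, Nat.cast_ofNat, h20, map_zero, zero_mul,
      isCoprime_zero_right] at hsep
    have := Polynomial.natDegree_eq_zero_of_isUnit hsep
    rw [natDegree_X_pow_sub_C] at this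
    omega
  have hdK : algebraMap (RatFunc k) K d ≠ 0 := (_root_.map_ne_zero _).2 hd
  refine ⟨z / algebraMap (RatFunc k) K d, c / d ^ 2, fun ⟨r, hr⟩ => hz ⟨r * d, by
    rw [map_mul, hr, div_mul_cancel₀ _ hdK]⟩, ?_⟩
  have h2K : (2 : K) = 0 := by rw [← map_ofNat (algebraMap (RatFunc k) K) 2, h20, map_zero]
  rw [map_div₀, map_pow]
  field_simp
  linear_combination hrel + (algebraMap (RatFunc k) K d) * z * h2K

end Groth.Agent.FF.AS
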