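import Mathlib
import Groth.Agent.FF.DiffExp
import Groth.Agent.FF.LocalRings

/-! The different exponent through derivatives of minimal polynomials. -/

set_option autoImplicit false
set_option linter.style.haveILetI false

namespace Groth.Agent.FF

open FunFld LaurentSeries HahnSeries
open scoped WithZero

universe u v w w'

variable {k : Type u} {K K' : Type v} [Field k] [Field K] [Field K'] [Algebra k K] [Algebra K K'] [Algebra k K']
  [IsScalarTower k K K'] [FiniteDimensional K K']

lemma exists_special (hK : IsFunctionField k K) (P : Place k K) (Q : Place k K') :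
    ∃ s : K', Q.1 s = WithZero.exp (-1) ∧ ∀ Q' : Place k K', IsOver Q' P → Q' ≠ Q → Q'.1 s = 1 := by
  classical
  obtain ⟨hfin, -⟩ := finite_over_and_sum (K' := K') hK P
  obtain ⟨t, ht⟩ := exists_unif Q
  obtain ⟨s, hs⟩ := approx (insert Q hfin.toFinset) (fun R => if R = Q then t else 1)
    (fun R => if R = Q then -2 else -1)
  refine ⟨s, ?_, fun R hR hne => ?_⟩
  · have h := hs Q (Finset.mem_insert_self _ _)
    simp only [if_pos] at h
    rw [Valuation.map_eq_of_sub_lt Q.1 (x := t) (h.trans_lt (by rw [ht, WithZero.exp_lt_exp]; omega)), ht]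
  · have h := hs R (Finset.mem_insert_of_mem (hfin.mem_toFinset.2 hR))
    simp only [if_neg hne] at h
    rw [Valuation.map_eq_of_sub_lt R.1 (x := 1)
      (h.trans_lt (by rw [map_one, ← WithZero.exp_zero, WithZero.exp_lt_exp]; omega)), map_one]

section conductor

variable {P : Place k K} [Algebra P.O K'] [IsScalarTower P.O K K'] [Algebra.IsSeparable K K']

omit [IsScalarTower k K K'] in
lemma exists_generators :
    ∃ (n : ℕ) (z : Fin n → K'), (∀ i, IsIntegral P.O (z i)) ∧
      ∀ x : K', IsIntegral P.O x → ∃ c : Fin n → P.O, x = ∑ i, algebraMap P.O K' (c i) * z i := by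
  haveI := isPrincipalIdealRing_O P
  haveI : Module.Finite P.O (integralClosure P.O K') := IsIntegralClosure.finite P.O K K' (integralClosure P.O K')
  obtain ⟨n, z, hz⟩ := Module.Finite.exists_fin (R := P.O) (M := integralClosure P.O K')
  refine ⟨n, fun i => (z i : K'), fun i => (z i).2, fun x hx => ?_⟩
  obtain ⟨c, hc⟩ := (Submodule.mem_span_range_iff_exists_fun P.O).1
    (hz ▸ Submodule.mem_top : (⟨x, hx⟩ : integralClosure P.O K') ∈ Submodule.span P.O (Set.range z))
  refine ⟨c, ?_⟩
  have h := congrArg (fun w : integralClosure P.O K' => (w : K')) hc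
  simp only [AddSubmonoidClass.coe_finsetSum] at h
  rw [← h]
  exact Finset.sum_congr rfl fun i _ => by rw [← Algebra.smul_def]; rfl

variable (hK : IsFunctionField k K) {Q : Place k K'} {e : ℕ} (he : IsOverWith Q P e) {s : K'}
include hK he

/-- At a place of residue degree one with a parameter that is a unit at the other places, some element of the
simple extension, a unit at that place, carries all integral elements into it. -/
theorem exists_conductor_special
    (hres : ∀ z : K', Q.1 z ≤ 1 → ∃ c : K, P.1 c ≤ 1 ∧ Q.1 (z - algebraMap K K' c) < 1)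
    (hs : Q.1 s = WithZero.exp (-1)) (hs' : ∀ Q' : Place k K', IsOver Q' P → Q' ≠ Q → Q'.1 s = 1) :
    IsIntegral P.O s ∧ ∃ b ∈ Algebra.adjoin P.O ({s} : Set K'), Q.1 b = 1 ∧
      ∀ z : K', IntOver P z → b * z ∈ Algebra.adjoin P.O ({s} : Set K') := by
  classical
  have hQs : Q.1 s < 1 := by rw [hs, ← WithZero.exp_zero, WithZero.exp_lt_exp]; omega
  have hint : IntOver P s := fun R hR => by
    rcases eq_or_ne R Q with rfl | hne
    · exact hQs.le
    · exact (hs' R hR hne).le
  have hsi := isIntegral_of_intOver hK hint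
  refine ⟨hsi, ?_⟩
  set A := Algebra.adjoin P.O ({s} : Set K') with hA
  have hsA : s ∈ A := Algebra.subset_adjoin rfl
  have hmapA : ∀ c : K, P.1 c ≤ 1 → algebraMap K K' c ∈ A := fun c hc => by
    rw [← algebraMap_O (K' := K') (⟨c, hc⟩ : P.O)]
    exact A.algebraMap_mem _
  obtain ⟨t, ht⟩ := exists_unif P
  have ht0 : t ≠ 0 := fun h => by rw [h, map_zero] at ht; exact WithZero.exp_ne_zero ht.symm
  set T := algebraMap K K' t with hT
  have hT0 : T ≠ 0 := by simpa [hT] using ht0
  have hQT : Q.1 T = WithZero.exp (-(e : ℤ)) := by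
    rw [hT, he t, ht, ← WithZero.exp_nsmul]; congr 1; simp
  have hTle : ∀ {c : K}, P.1 c < 1 → ∀ R : Place k K', IsOver R P → R.1 (algebraMap K K' c) ≤ R.1 T := by
    rintro c hc R ⟨f, hf⟩
    rw [hT, hf c, hf t]
    exact pow_le_pow_left' (((v_lt_one_iff_le_exp P c).1 hc).trans ht.ge) f
  -- approximation by the simple extension at `Q`
  have happ : ∀ N : ℕ, ∀ z : K', Q.1 z ≤ 1 → ∃ a ∈ A, Q.1 (z - a) ≤ WithZero.exp (-(N : ℤ)) := by
    intro N
    induction N with
    | zero => exact fun z hz => ⟨0, A.zero_mem, by simpa using hz⟩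
    | succ N ih =>
      intro z hz
      obtain ⟨a, ha, hza⟩ := ih z hz
      have hsN : Q.1 (s ^ N) = WithZero.exp (-(N : ℤ)) := by
        rw [map_pow, hs, ← WithZero.exp_nsmul]; congr 1; simp
      have hu : Q.1 ((z - a) / s ^ N) ≤ 1 := by
        rw [map_div₀, hsN]
        exact div_le_one_of_le₀ hza zero_le
      obtain ⟨c, hc, hlt⟩ := hres _ hu
      refine ⟨a + algebraMap K K' c * s ^ N, A.add_mem ha (A.mul_mem (hmapA c hc) (A.pow_mem hsA N)), ?_⟩
      have hsN0 : s ^ N ≠ 0 := fun h => by rw [h, map_zero] at hsN; exact WithZero.exp_ne_zero hsN.symm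
      rw [show z - (a + algebraMap K K' c * s ^ N) = ((z - a) / s ^ N - algebraMap K K' c) * s ^ N by
        field_simp; ring, map_mul, hsN]
      refine (mul_le_mul_left ((v_lt_one_iff_le_exp Q _).1 hlt) _).trans ?_
      rw [← WithZero.exp_add, WithZero.exp_le_exp]; push_cast; omega
  -- the multiplier
  set g₀ := minpoly P.O s
  have hex : ∃ m : ℕ, P.1 (g₀.coeff m : K) = 1 :=
    ⟨g₀.natDegree, by rw [(minpoly.monic hsi).coeff_natDegree]; simp⟩
  set m := Nat.find hex
  have hm : m ≤ g₀.natDegree := Nat.find_min' hex (by rw [(minpoly.monic hsi).coeff_natDegree]; simp)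
  obtain ⟨r, hr⟩ : ∃ r, g₀.natDegree = m + r := ⟨g₀.natDegree - m, by omega⟩
  set f : ℕ → K' := fun i => algebraMap K K' (g₀.coeff i : K)
  set low := ∑ i ∈ Finset.range m, f i * s ^ i
  set b := ∑ i ∈ Finset.range (r + 1), f (m + i) * s ^ i with hb
  have hzero : low + s ^ m * b = 0 := by
    have h0 := minpoly.aeval P.O s
    rw [Polynomial.aeval_eq_sum_range, show g₀.natDegree + 1 = m + (r + 1) by omega, Finset.sum_range_add] at h0
    rw [hb, Finset.mul_sum, ← h0]
    congr 1
    · exact Finset.sum_congr rfl fun i _ => by rw [Algebra.smul_def, algebraMap_O]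
    · exact Finset.sum_congr rfl fun i _ => by rw [Algebra.smul_def, algebraMap_O, _root_.pow_add]; ring
  have hfA : ∀ i, f i ∈ A := fun i => hmapA _ (g₀.coeff i).2
  have hbA : b ∈ A := sum_mem fun i _ => A.mul_mem (hfA _) (A.pow_mem hsA _)
  have hQb : Q.1 b = 1 := by
    have hm1 : Q.1 (f m) = 1 := by rw [he, Nat.find_spec hex, one_pow]
    rw [hb, Finset.sum_range_succ']
    simp only [Nat.add_zero, pow_zero, mul_one]
    rw [Valuation.map_eq_of_sub_lt Q.1 (x := f m) ?_, hm1]
    rw [hm1, add_sub_cancel_right]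
    refine Valuation.map_sum_lt _ one_ne_zero fun i _ => ?_
    rw [map_mul, map_pow]
    exact lt_of_le_of_lt (mul_le_of_le_one_left' ((le_one_iff_of_isOver ⟨e, he⟩ _).2 (g₀.coeff _).2))
      (pow_lt_one₀ zero_le hQs (Nat.succ_ne_zero i))
  have hbR : ∀ R : Place k K', IsOver R P → R ≠ Q → R.1 b ≤ R.1 T := fun R hR hne => by
    have h1 : R.1 (s ^ m * b) = R.1 low := by
      rw [eq_neg_of_add_eq_zero_right hzero, Valuation.map_neg]
    rw [map_mul, map_pow, hs' R hR hne, one_pow, one_mul] at h1
    rw [h1]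
    refine Valuation.map_sum_le _ fun i hi => ?_
    rw [map_mul, map_pow, hs' R hR hne, one_pow, mul_one]
    exact hTle (lt_of_le_of_ne (g₀.coeff i).2 (Nat.find_min hex (Finset.mem_range.1 hi))) R hR
  have hstep : ∀ z : K', IntOver P z → ∃ a ∈ A, IntOver P ((b * z - a) / T) := fun z hz => by
    obtain ⟨a, ha, hza⟩ := happ e z (hz Q ⟨e, he⟩)
    refine ⟨b * a, A.mul_mem hbA ha, fun R hR => ?_⟩
    rw [← mul_sub, map_div₀, map_mul]
    refine div_le_one_of_le₀ ?_ zero_le
    rcases eq_or_ne R Q with rfl | hne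
    · rwa [hQb, one_mul, hQT]
    · refine (mul_le_of_le_one_right' ?_).trans (hbR R hR hne)
      exact (R.1.map_sub z a).trans (max_le (hz R hR) (intOver_of_mem_adjoin hsi ha R hR))
  -- Nakayama
  obtain ⟨n, z, hzi, hspan⟩ := exists_generators (K' := K') (P := P)
  choose a haA hrem using fun i => hstep (z i) (intOver_of_isIntegral (hzi i))
  choose c hc using fun i => hspan _ (isIntegral_of_intOver hK (hrem i))
  let tA : A := ⟨T, hmapA t (by rw [ht, ← WithZero.exp_zero, WithZero.exp_le_exp]; omega)⟩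
  let M : Matrix (Fin n) (Fin n) A := Matrix.of fun i j =>
    (if i = j then (⟨b, hbA⟩ : A) else 0) - tA * algebraMap P.O A (c i j)
  let M' : Matrix (Fin n) (Fin n) K' := M.map (fun x : A => (x : K'))
  have hM : M'.mulVec z = a := by
    funext i
    have h1 : b * z i - T * ∑ j, algebraMap P.O K' (c i j) * z j = a i := by
      rw [← hc i, mul_div_cancel₀ _ hT0]; ring
    rw [← h1, Finset.mul_sum, Matrix.mulVec, dotProduct]
    simp only [M', M, Matrix.map_apply, Matrix.of_apply, AddSubgroupClass.coe_sub, MulMemClass.coe_mul,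
      Subalgebra.coe_algebraMap, sub_mul, Finset.sum_sub_distrib]
    congr 1
    · rw [Finset.sum_eq_single i (fun j _ hj => by simp [Ne.symm hj]) (fun h => absurd (Finset.mem_univ i) h)]
      simp
    · exact Finset.sum_congr rfl fun j _ => by rw [mul_assoc]
  refine ⟨(M.det : K'), M.det.2, ?_, fun x hx => ?_⟩
  · let res : A →+* IsLocalRing.ResidueField Q.O := (IsLocalRing.residue Q.O).comp
      (A.toSubring.subtype.codRestrict Q.O fun x => intOver_of_mem_adjoin hsi x.2 Q ⟨e, he⟩)
    have hres0 : ∀ x : A, res x = 0 ↔ Q.1 (x : K') < 1 := fun x => residue_eq_zero_iff _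
    have htA : res tA = 0 := (hres0 _).2 (by
      change Q.1 T < 1
      rw [hQT, ← WithZero.exp_zero, WithZero.exp_lt_exp]; have := pos_of_isOverWith he; omega)
    have hdiag : res.mapMatrix M = Matrix.diagonal fun _ => res ⟨b, hbA⟩ := by
      ext i j
      rw [RingHom.mapMatrix_apply, Matrix.map_apply, Matrix.diagonal_apply]
      simp only [M, Matrix.of_apply, map_sub, map_mul, htA, zero_mul, sub_zero, apply_ite res, map_zero]
    have hne : res M.det ≠ 0 := by
      rw [RingHom.map_det, hdiag, Matrix.det_diagonal, Finset.prod_const]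
      exact pow_ne_zero _ fun h => ((hres0 _).1 h).ne hQb
    exact le_antisymm (intOver_of_mem_adjoin hsi M.det.2 Q ⟨e, he⟩) (le_of_not_gt fun h => hne ((hres0 _).2 h))
  · have hmem : ∀ i, (M.det : K') * z i ∈ A := fun i => by
      have h2 : M'.det = (M.det : K') := (RingHom.map_det A.toSubring.subtype M).symm
      have h3 := congrArg (fun v => M'.adjugate.mulVec v i) hM
      simp only [Matrix.mulVec_mulVec, Matrix.adjugate_mul, Matrix.smul_mulVec, Matrix.one_mulVec, Pi.smul_apply,
        smul_eq_mul, h2] at h3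
      rw [h3, Matrix.mulVec, dotProduct]
      refine sum_mem fun j _ => A.mul_mem ?_ (haA j)
      rw [show M' = A.toSubring.subtype.mapMatrix M from rfl, ← RingHom.map_adjugate]
      exact (M.adjugate i j).2
    obtain ⟨d, rfl⟩ := hspan x (isIntegral_of_intOver hK hx)
    rw [Finset.mul_sum]
    refine sum_mem fun i _ => ?_
    rw [mul_left_comm]
    exact A.mul_mem (A.algebraMap_mem _) (hmem i)

variable {y : K'}

omit [Algebra.IsSeparable K K'] [IsScalarTower k K K'] in
/-- A conductor element describes the local ring. -/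
theorem loc_of_conductor [IsScalarTower k K K'] {b : K'} (hb : b ∈ Algebra.adjoin P.O ({y} : Set K')) (hQb : Q.1 b = 1)
    (hc : ∀ z : K', IntOver P z → b * z ∈ Algebra.adjoin P.O ({y} : Set K')) :
    ∀ z : K', Q.1 z ≤ 1 → ∃ a ∈ Algebra.adjoin P.O ({y} : Set K'), ∃ b' ∈ Algebra.adjoin P.O ({y} : Set K'),
      Q.1 b' = 1 ∧ z * b' = a := by
  classical
  intro z hz
  obtain ⟨hfin, -⟩ := finite_over_and_sum (K' := K') hK P
  obtain ⟨σ, hσ⟩ := approx (insert Q hfin.toFinset) (fun R => if R = Q then 1 else 0)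
    (fun R => if R = Q then -1 else -((R.ord z).natAbs : ℤ))
  have hσQ : Q.1 σ = 1 := by
    have h := hσ Q (Finset.mem_insert_self _ _)
    simp only [if_pos] at h
    rw [Valuation.map_eq_of_sub_lt Q.1 (x := 1)
      (h.trans_lt (by rw [map_one, ← WithZero.exp_zero, WithZero.exp_lt_exp]; omega)), map_one]
  have hσR : ∀ R, IsOver R P → R ≠ Q → R.1 σ ≤ WithZero.exp (-((R.ord z).natAbs : ℤ)) := fun R hR hne => by
    have h := hσ R (Finset.mem_insert_of_mem (hfin.mem_toFinset.2 hR))
    simpa [if_neg hne] using h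
  have hσi : IntOver P σ := fun R hR => by
    rcases eq_or_ne R Q with rfl | hne
    · exact hσQ.le
    · exact (hσR R hR hne).trans (by rw [← WithZero.exp_zero, WithZero.exp_le_exp]; omega)
  have hzσ : IntOver P (z * σ) := fun R hR => by
    rw [map_mul]
    rcases eq_or_ne R Q with rfl | hne
    · rw [hσQ, mul_one]; exact hz
    · rcases eq_or_ne z 0 with rfl | hz0
      · simp
      refine (mul_le_mul' le_rfl (hσR R hR hne)).trans ?_
      rw [v_eq_exp R hz0, ← WithZero.exp_add, ← WithZero.exp_zero, WithZero.exp_le_exp]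
      omega
  exact ⟨b * (z * σ), hc _ hzσ, b * σ, hc _ hσi, by rw [map_mul, hQb, hσQ, one_mul], by ring⟩

omit [IsScalarTower k K K'] in
/-- The local ring describes a conductor element. -/
theorem conductor_of_loc
    (h : ∀ z : K', Q.1 z ≤ 1 → ∃ a ∈ Algebra.adjoin P.O ({y} : Set K'), ∃ b ∈ Algebra.adjoin P.O ({y} : Set K'),
      Q.1 b = 1 ∧ z * b = a) :
    ∃ b ∈ Algebra.adjoin P.O ({y} : Set K'), Q.1 b = 1 ∧
      ∀ z : K', IsIntegral P.O z → b * z ∈ Algebra.adjoin P.O ({y} : Set K') := by
  classical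
  obtain ⟨n, z, hzi, hspan⟩ := exists_generators (K' := K') (P := P)
  choose a haA b hbA hQb hab using fun i => h (z i) (intOver_of_isIntegral (hzi i) Q ⟨e, he⟩)
  refine ⟨∏ i, b i, prod_mem fun i _ => hbA i, ?_, fun x hx => ?_⟩
  · rw [map_prod]; exact Finset.prod_eq_one fun i _ => hQb i
  obtain ⟨d, rfl⟩ := hspan x hx
  rw [Finset.mul_sum]
  refine sum_mem fun i _ => ?_
  rw [mul_left_comm, ← Finset.mul_prod_erase Finset.univ b (Finset.mem_univ i),
    show b i * (∏ j ∈ Finset.univ.erase i, b j) * z i = z i * b i * ∏ j ∈ Finset.univ.erase i, b j by ring, hab]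
  exact Subalgebra.mul_mem _ (Subalgebra.algebraMap_mem _ _) (Subalgebra.mul_mem _ (haA i) (prod_mem fun j _ => hbA j))

omit [Algebra.IsSeparable K K'] [IsScalarTower k K K'] he in
/-- With a conductor element the generator generates the field. -/
theorem adjoin_eq_top_of_conductor [IsScalarTower k K K'] {b : K'}
    (hb : b ∈ Algebra.adjoin P.O ({y} : Set K')) (hQb : Q.1 b = 1)
    (hc : ∀ z : K', IntOver P z → b * z ∈ Algebra.adjoin P.O ({y} : Set K')) :
    IntermediateField.adjoin K ({y} : Set K') = ⊤ := by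
  classical
  set E := IntermediateField.adjoin K ({y} : Set K')
  have hAE : ∀ a ∈ Algebra.adjoin P.O ({y} : Set K'), a ∈ E := fun a ha => by
    induction ha using Algebra.adjoin_induction with
    | mem x hx => exact IntermediateField.subset_adjoin K _ hx
    | algebraMap c => rw [algebraMap_O]; exact E.algebraMap_mem _
    | add x y _ _ hx hy => exact E.add_mem hx hy
    | mul x y _ _ hx hy => exact E.mul_mem hx hy
  obtain ⟨t, ht⟩ := exists_unif P
  have ht0 : t ≠ 0 := fun h => by rw [h, map_zero] at ht; exact WithZero.exp_ne_zero ht.symm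
  obtain ⟨hfin, -⟩ := finite_over_and_sum (K' := K') hK P
  refine eq_top_iff.2 fun z _ => ?_
  set N := hfin.toFinset.sup fun R => (R.ord z).natAbs
  have hint : IntOver P (z * algebraMap K K' t ^ N) := fun R hR => by
    obtain ⟨f, hf⟩ := hR
    rcases eq_or_ne z 0 with rfl | hz0
    · simp
    have hN : (R.ord z).natAbs ≤ N :=
      Finset.le_sup (f := fun R : Place k K' => (R.ord z).natAbs) (hfin.mem_toFinset.2 ⟨f, hf⟩)
    have hfpos := pos_of_isOverWith hf
    have h1 : R.1 (algebraMap K K' t) ^ N ≤ WithZero.exp (-(N : ℤ)) := by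
      rw [hf t, ht, ← WithZero.exp_nsmul, ← WithZero.exp_nsmul, WithZero.exp_le_exp]
      simp only [nsmul_eq_mul, mul_neg, mul_one, neg_le_neg_iff]
      exact le_mul_of_one_le_right (by positivity) (by exact_mod_cast hfpos)
    rw [map_mul, map_pow]
    refine (mul_le_mul' le_rfl h1).trans ?_
    rw [v_eq_exp R hz0, ← WithZero.exp_add, ← WithZero.exp_zero, WithZero.exp_le_exp]
    omega
  have h := hAE _ (hc _ hint)
  have hb0 : b ≠ 0 := fun h => by rw [h, map_zero] at hQb; exact zero_ne_one hQb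
  have ht' : algebraMap K K' t ≠ 0 := by simpa using ht0
  have h2 : z = (b * (z * algebraMap K K' t ^ N)) * (b⁻¹ * (algebraMap K K' t ^ N)⁻¹) := by field_simp
  rw [h2]
  exact E.mul_mem h (E.mul_mem (E.inv_mem (hAE _ hb)) (E.inv_mem (pow_mem (E.algebraMap_mem _) N)))

omit [Algebra.IsSeparable K K'] [IsScalarTower k K K'] in
/-- The constant term of the minimal polynomial of such a parameter is a parameter. -/
theorem v_minpoly_coeff_zero [IsScalarTower k K K'] (hs : Q.1 s = WithZero.exp (-1)) (hsi : IsIntegral P.O s) {b : K'}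
    (hb : b ∈ Algebra.adjoin P.O ({s} : Set K')) (hQb : Q.1 b = 1)
    (hc : ∀ z : K', IntOver P z → b * z ∈ Algebra.adjoin P.O ({s} : Set K')) :
    P.1 ((minpoly K s).coeff 0) = WithZero.exp (-1) := by
  classical
  obtain ⟨t, ht⟩ := exists_unif P
  have hs0 : s ≠ 0 := fun h => by rw [h, map_zero] at hs; exact WithZero.exp_ne_zero hs.symm
  have hQs : Q.1 s < 1 := by rw [hs, ← WithZero.exp_zero, WithZero.exp_lt_exp]; omega
  have hQ : IsOver Q P := ⟨e, he⟩
  have htle : P.1 t ≤ 1 := by rw [ht, ← WithZero.exp_zero, WithZero.exp_le_exp]; omega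
  have hlt : ∀ c : K, Q.1 (algebraMap K K' c) < 1 ↔ P.1 c < 1 := fun c => by
    rw [he c, pow_lt_one_iff (pos_of_isOverWith he).ne']
  have hz : Q.1 (algebraMap K K' t / s) ≤ 1 := by
    rw [map_div₀, hs]
    exact div_le_one_of_le₀ ((v_lt_one_iff_le_exp Q _).1 ((hlt t).2 (by
      rw [ht, ← WithZero.exp_zero, WithZero.exp_lt_exp]; omega))) zero_le
  obtain ⟨a, ha, b', hb', hQb', hab⟩ := loc_of_conductor hK he hb hQb hc _ hz
  rw [Algebra.adjoin_singleton_eq_range_aeval] at ha hb'
  obtain ⟨A, rfl⟩ := ha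
  obtain ⟨B, rfl⟩ := hb'
  set g₀ := minpoly P.O s
  have hp : Polynomial.aeval s (Polynomial.C (⟨t, htle⟩ : P.O) * B - Polynomial.X * A) = 0 := by
    rw [map_sub, map_mul, map_mul, Polynomial.aeval_C, Polynomial.aeval_X, algebraMap_O]
    change algebraMap K K' t * Polynomial.aeval s B - s * Polynomial.aeval s A = 0
    have h1 : algebraMap K K' t / s * Polynomial.aeval s B = Polynomial.aeval s A := hab
    rw [← h1]; field_simp; ring
  haveI : FaithfulSMul P.O K' := (faithfulSMul_iff_algebraMap_injective _ _).2 fun a b h =>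
    Subtype.ext ((algebraMap K K').injective (by rwa [← algebraMap_O, ← algebraMap_O]))
  obtain ⟨q, hq⟩ := minpoly.isIntegrallyClosed_dvd hsi hp
  have h0 : t * (B.coeff 0 : K) = (g₀.coeff 0 : K) * (q.coeff 0 : K) := by
    have := congrArg (fun p : Polynomial P.O => ((p.coeff 0 : P.O) : K)) hq
    simpa [Polynomial.mul_coeff_zero] using this
  have hB0 : P.1 (B.coeff 0 : K) = 1 := by
    refine le_antisymm (B.coeff 0).2 (le_of_not_gt fun hlt' => ?_)
    have h1 : Q.1 (Polynomial.aeval s B) < 1 := by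
      rw [show Polynomial.aeval s B = Polynomial.aeval s (B.divX * Polynomial.X + Polynomial.C (B.coeff 0)) by
          rw [Polynomial.divX_mul_X_add], map_add, map_mul, Polynomial.aeval_X, Polynomial.aeval_C, algebraMap_O]
      refine Valuation.map_add_lt _ ?_ ((hlt _).2 hlt')
      rw [map_mul]
      exact lt_of_le_of_lt (mul_le_of_le_one_left'
        (intOver_of_mem_adjoin hsi (Polynomial.aeval_mem_adjoin_singleton _ _) Q hQ)) hQs
    exact h1.ne hQb'
  have hg0 : P.1 (g₀.coeff 0 : K) < 1 := by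
    rw [← hlt]
    have h1 : Polynomial.aeval s (g₀.divX * Polynomial.X + Polynomial.C (g₀.coeff 0)) = 0 := by
      rw [Polynomial.divX_mul_X_add]; exact minpoly.aeval _ _
    rw [map_add, map_mul, Polynomial.aeval_X, Polynomial.aeval_C, algebraMap_O,
      add_eq_zero_iff_neg_eq] at h1
    rw [← h1, Valuation.map_neg, map_mul]
    exact lt_of_le_of_lt (mul_le_of_le_one_left'
      (intOver_of_mem_adjoin hsi (Polynomial.aeval_mem_adjoin_singleton _ _) Q hQ)) hQs
  rw [minpoly.isIntegrallyClosed_eq_field_fractions' K hsi, Polynomial.coeff_map]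
  refine le_antisymm ((v_lt_one_iff_le_exp P _).1 hg0) ?_
  have h2 := congrArg P.1 h0
  rw [map_mul, map_mul, hB0, mul_one, ht] at h2
  rw [h2]
  exact mul_le_of_le_one_right' (q.coeff 0).2

end conductor

end Groth.Agent.FF
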