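import Mathlib
import Groth.Agent.FF.DiffLocal

/-! The different exponent: trace dual and derivatives. -/

set_option autoImplicit false
set_option linter.style.haveILetI false

namespace Groth.Agent.FF

open FunFld LaurentSeries HahnSeries
open scoped WithZero

attribute [local instance high] FunFld.Place.algRes
attribute [-instance] IsLocalRing.instModuleResidueFieldOfAlgebra

universe u v w w'

variable {k : Type u} {K K' : Type v} [Field k] [Field K] [Field K'] [Algebra k K] [Algebra K K'] [Algebra k K']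
  [IsScalarTower k K K'] [FiniteDimensional K K']
  {F : Type w} [Field F] [Algebra k F] {F' : Type w'} [Field F'] [Algebra k F']
  {φ : K →ₐ[k] F⸨X⸩} {ψ : K' →ₐ[k] F'⸨X⸩} {P : Place k K} {Q : Place k K'} {e : ℕ}

omit [IsScalarTower k K K'] [FiniteDimensional K K'] in
/-- The chain rule in the expansion. -/
lemma D_exp_aeval (s : K') (p : Polynomial K) :
    LocRes.D F' (ψ (Polynomial.aeval s p)) =
      ψ (Polynomial.aeval s p.derivative) * LocRes.D F' (ψ s) +
        p.sum fun i a => LocRes.D F' (ψ (algebraMap K K' a)) * ψ s ^ i := by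
  induction p using Polynomial.induction_on' with
  | add p q hp hq =>
    rw [Polynomial.sum_add_index p q _ (fun i => by simp) (fun i a b => by rw [map_add, map_add, map_add, add_mul]),
      map_add (Polynomial.aeval s), map_add ψ, map_add, hp, hq, Polynomial.derivative_add, map_add (Polynomial.aeval s),
      map_add ψ]
    ring
  | monomial n a =>
    rw [Polynomial.sum_monomial_index _ _ (by simp), Polynomial.derivative_monomial, Polynomial.aeval_monomial,
      Polynomial.aeval_monomial, map_mul ψ, map_pow ψ, Derivation.leibniz, Derivation.leibniz_pow]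
    simp only [smul_eq_mul, nsmul_eq_mul, map_mul, map_natCast, map_pow]
    ring

variable (hK : IsFunctionField k K) (hg : IsGeometric k K) (hφ : LocRes.IsExpansionAt P.1 φ)
  (hψ : LocRes.IsExpansionAt Q.1 ψ) (he : IsOverWith Q P e)
include hK hg hφ hψ he

/-- The derivative of the minimal polynomial at such a parameter. -/
theorem v_derivative_eq {t : K} (ht : P.1 t = WithZero.exp (-1)) {s : K'} (hs : Q.1 s = WithZero.exp (-1))
    (hcoeff : ∀ i, P.1 ((minpoly K s).coeff i) ≤ 1) (h0 : P.1 ((minpoly K s).coeff 0) = WithZero.exp (-1)) :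
    Q.1 (Polynomial.aeval s (Polynomial.derivative (minpoly K s))) =
      Valued.v (LocRes.D F' (ψ (algebraMap K K' t))) := by
  classical
  set g := minpoly K s
  choose c hc1 hc2 using fun i => exists_mul_unif (ψ := ψ) hφ hK hg ht (g.coeff i)
  have hQs : Q.1 s < 1 := by rw [hs, ← WithZero.exp_zero, WithZero.exp_lt_exp]; omega
  have hc : ∀ i, Q.1 (algebraMap K K' (c i)) ≤ 1 := fun i => by
    rw [he, ← hc1]
    refine pow_le_one' ?_ _
    obtain ⟨G, hG⟩ := exists_power_series hφ (hcoeff i)
    rw [hG, LocRes.D_coe]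
    exact (LaurentSeries.val_le_one_iff_eq_coe _ _).2 ⟨_, rfl⟩
  have hsum : (g.sum fun i a => LocRes.D F' (ψ (algebraMap K K' a)) * ψ s ^ i) =
      LocRes.D F' (ψ (algebraMap K K' t)) *
        ψ (∑ i ∈ Finset.range (g.natDegree + 1), algebraMap K K' (c i) * s ^ i) := by
    rw [Polynomial.sum_over_range _ (fun i => by simp), map_sum, Finset.mul_sum]
    refine Finset.sum_congr rfl fun i _ => ?_
    rw [hc2 i, map_mul, map_pow]; ring
  have hc0 : Q.1 (algebraMap K K' (c 0)) = 1 := by rw [he, ← hc1, v_D_unif hφ h0, one_pow]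
  have hW : Q.1 (∑ i ∈ Finset.range (g.natDegree + 1), algebraMap K K' (c i) * s ^ i) = 1 := by
    rw [Finset.sum_range_succ']
    simp only [pow_zero, mul_one]
    rw [Valuation.map_eq_of_sub_lt Q.1 (x := algebraMap K K' (c 0)) ?_, hc0]
    rw [hc0, add_sub_cancel_right]
    refine Valuation.map_sum_lt _ one_ne_zero fun i _ => ?_
    rw [map_mul, map_pow]
    exact lt_of_le_of_lt (mul_le_of_le_one_left' (hc _)) (pow_lt_one₀ zero_le hQs (Nat.succ_ne_zero i))
  have key := D_exp_aeval (F' := F') (ψ := ψ) s g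
  rw [minpoly.aeval, map_zero, map_zero, hsum] at key
  have h := congrArg Valued.v (eq_neg_of_add_eq_zero_left key.symm)
  rwa [map_mul, Valuation.map_neg, map_mul, hψ.1, hψ.1, hW, mul_one, v_D_unif hψ hs, mul_one] at h

section dual

variable [Algebra P.O K'] [IsScalarTower P.O K K'] [Algebra.IsSeparable K K']
  {x : K} (hx : LocRes.vDiff φ 1 x ≠ 0) (hx' : LocRes.vDiff ψ 1 (algebraMap K K' x) ≠ 0)
include hx hx'

/-- A parameter that is a unit at the other places generates the field and computes the different exponent. -/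
theorem special_spec (hres : ∀ z : K', Q.1 z ≤ 1 → ∃ c : K, P.1 c ≤ 1 ∧ Q.1 (z - algebraMap K K' c) < 1)
    {s : K'} (hs : Q.1 s = WithZero.exp (-1)) (hs' : ∀ Q' : Place k K', IsOver Q' P → Q' ≠ Q → Q'.1 s = 1) :
    IsIntegral P.O s ∧ IntermediateField.adjoin K ({s} : Set K') = ⊤ ∧
      Q.1 (Polynomial.aeval s (Polynomial.derivative (minpoly K s))) = WithZero.exp (-LocRes.diffExp φ ψ e x) ∧
      ∃ b ∈ Algebra.adjoin P.O ({s} : Set K'), Q.1 b = 1 ∧
        ∀ z : K', IntOver P z → b * z ∈ Algebra.adjoin P.O ({s} : Set K') := by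
  obtain ⟨hsi, b, hb, hQb, hc⟩ := exists_conductor_special hK he hres hs hs'
  obtain ⟨t, ht⟩ := exists_unif P
  refine ⟨hsi, adjoin_eq_top_of_conductor hK hb hQb hc, ?_, b, hb, hQb, hc⟩
  rw [← diffExp_eq_unif hφ hψ he hK hg ht hx hx']
  refine v_derivative_eq hK hg hφ hψ he ht hs (fun i => ?_) (v_minpoly_coeff_zero hK he hs hsi hb hQb hc)
  rw [minpoly.isIntegrallyClosed_eq_field_fractions' K hsi, Polynomial.coeff_map]
  exact ((minpoly P.O s).coeff i).2

variable (hres : ∀ z : K', Q.1 z ≤ 1 → ∃ c : K, P.1 c ≤ 1 ∧ Q.1 (z - algebraMap K K' c) < 1)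
include hres

/-- The trace dual attains exactly the pole order `d(Q|P)`. -/
theorem dual_spec :
    (∀ w : K', InDual P w → Q.1 w ≤ WithZero.exp (LocRes.diffExp φ ψ e x)) ∧
      ∃ w : K', InDual P w ∧ Q.1 w = WithZero.exp (LocRes.diffExp φ ψ e x) := by
  obtain ⟨s, hs, hs'⟩ := exists_special hK P Q
  obtain ⟨hsi, htop, hval, b, hb, hQb, hc⟩ := special_spec hK hg hφ hψ he hx hx' hres hs hs'
  refine ⟨fun w hw => ?_, b / Polynomial.aeval s (Polynomial.derivative (minpoly K s)),
    inDual_of_conductor htop hsi hc, by rw [map_div₀, hQb, hval, one_div, ← WithZero.exp_neg, neg_neg]⟩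
  have h := v_mul_le_one_of_inDual htop hsi hw (Q := Q) ⟨e, he⟩
  rw [hval] at h
  calc Q.1 w = Q.1 w * WithZero.exp (-LocRes.diffExp φ ψ e x) * WithZero.exp (LocRes.diffExp φ ψ e x) := by
        rw [mul_assoc, ← WithZero.exp_add, neg_add_cancel, WithZero.exp_zero, mul_one]
    _ ≤ 1 * WithZero.exp (LocRes.diffExp φ ψ e x) := mul_le_mul_left h _
    _ = _ := one_mul _

variable {y : K'} (hy : IntermediateField.adjoin K ({y} : Set K') = ⊤) (hyi : IsIntegral P.O y)
include hy hyi

/-- The inequality for an arbitrary integral generator. -/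
theorem diffExp_le_ord :
    LocRes.diffExp φ ψ e x ≤ Q.ord (Polynomial.aeval y (Polynomial.derivative (minpoly K y))) := by
  obtain ⟨w, hw, hQw⟩ := (dual_spec hK hg hφ hψ he hx hx' hres).2
  have h := v_mul_le_one_of_inDual hy hyi hw (Q := Q) ⟨e, he⟩
  rw [hQw, v_eq_exp Q (aeval_derivative_ne_zero y), ← WithZero.exp_add, ← WithZero.exp_zero, WithZero.exp_le_exp] at h
  omega

/-- Equality describes the local ring. -/
theorem loc_of_ord_eq (h : Q.ord (Polynomial.aeval y (Polynomial.derivative (minpoly K y))) = LocRes.diffExp φ ψ e x) :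
    ∀ z : K', Q.1 z ≤ 1 → ∃ a ∈ Algebra.adjoin P.O ({y} : Set K'), ∃ b ∈ Algebra.adjoin P.O ({y} : Set K'),
      Q.1 b = 1 ∧ z * b = a := by
  obtain ⟨w, hw, hQw⟩ := (dual_spec hK hg hφ hψ he hx hx' hres).2
  refine loc_of_conductor hK he (mem_adjoin_of_inDual hy hyi hw) ?_ (conductor_of_inDual hy hyi hw)
  rw [map_mul, hQw, v_eq_exp Q (aeval_derivative_ne_zero y), h, ← WithZero.exp_add, add_neg_cancel, WithZero.exp_zero]

/-- If the generator describes the local ring there is equality. -/
theorem ord_eq_of_loc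
    (h : ∀ z : K', Q.1 z ≤ 1 → ∃ a ∈ Algebra.adjoin P.O ({y} : Set K'), ∃ b ∈ Algebra.adjoin P.O ({y} : Set K'),
      Q.1 b = 1 ∧ z * b = a) :
    Q.ord (Polynomial.aeval y (Polynomial.derivative (minpoly K y))) = LocRes.diffExp φ ψ e x := by
  obtain ⟨b, hb, hQb, hc⟩ := conductor_of_loc hK he h
  refine le_antisymm ?_ (diffExp_le_ord hK hg hφ hψ he hx hx' hres hy hyi)
  have h1 := (dual_spec hK hg hφ hψ he hx hx' hres).1 _
    (inDual_of_conductor hy hyi fun z hz => hc z (isIntegral_of_intOver hK hz))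
  rw [map_div₀, hQb, v_eq_exp Q (aeval_derivative_ne_zero y), one_div, ← WithZero.exp_neg, neg_neg,
    WithZero.exp_le_exp] at h1
  exact h1

end dual

omit hg hφ hψ

/-- Total ramification: one place, residue degree one. -/
theorem total_ramified (hn : e = Module.finrank K K') :
    (∀ Q' : Place k K', IsOver Q' P → Q' = Q) ∧
      ∀ z : K', Q.1 z ≤ 1 → ∃ c : K, P.1 c ≤ 1 ∧ Q.1 (z - algebraMap K K' c) < 1 := by
  classical
  have hQ : IsOver Q P := ⟨e, he⟩
  haveI := finite_constField (K' := K') hK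
  have hK1 := isFunctionField_constField (K' := K') hK
  have hdeg : ∀ R : Place k K', 0 < R.deg := fun R => by
    rw [deg_placeEquiv (k' := algebraicClosure k K') R]
    exact Nat.mul_pos Module.finrank_pos (deg_pos hK1 _)
  haveI : FiniteDimensional k (IsLocalRing.ResidueField Q.O) := Module.finite_of_finrank_pos (show 0 < Module.finrank k (IsLocalRing.ResidueField Q.O) from hdeg Q)
  haveI : FiniteDimensional k (IsLocalRing.ResidueField P.O) := Module.finite_of_finrank_pos (show 0 < Module.finrank k (IsLocalRing.ResidueField P.O) from deg_pos hK P)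
  let r : IsLocalRing.ResidueField P.O →ₐ[k] IsLocalRing.ResidueField Q.O :=
    { toRingHom := resOver hQ, commutes' := resOver_algebraMap hQ }
  have hinj : Function.Injective r.toLinearMap := r.toRingHom.injective
  have hle' : Module.finrank k (IsLocalRing.ResidueField P.O) ≤ Module.finrank k (IsLocalRing.ResidueField Q.O) :=
    LinearMap.finrank_le_finrank_of_injective hinj
  have hle : P.deg ≤ Q.deg := hle'
  obtain ⟨hfin, hsum⟩ := finite_over_and_sum (K' := K') hK P
  have hs := hsum hfin.toFinset fun R => hfin.mem_toFinset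
  rw [← Finset.add_sum_erase _ _ (hfin.mem_toFinset.2 hQ), ramIdx_eq he, hn] at hs
  have hpos : 0 < Module.finrank K K' := Module.finrank_pos
  have h1 : Module.finrank K K' * P.deg ≤ Module.finrank K K' * Q.deg := Nat.mul_le_mul_left _ hle
  have hzero : ∑ R ∈ hfin.toFinset.erase Q, ramIdx R P * R.deg = 0 := by omega
  have heq : P.deg = Q.deg := Nat.eq_of_mul_eq_mul_left hpos (by omega)
  refine ⟨fun R hR => by_contra fun hne => ?_, fun z hz => ?_⟩
  · have := (Finset.sum_eq_zero_iff.1 hzero) R (Finset.mem_erase.2 ⟨hne, hfin.mem_toFinset.2 hR⟩)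
    rcases Nat.mul_eq_zero.1 this with h | h
    · exact (pos_of_isOverWith (isOverWith_ramIdx hR)).ne' h
    · exact (hdeg R).ne' h
  obtain ⟨a, ha⟩ := (LinearMap.injective_iff_surjective_of_finrank_eq_finrank (f := r.toLinearMap) (show Module.finrank k (IsLocalRing.ResidueField P.O) = Module.finrank k (IsLocalRing.ResidueField Q.O) from heq)).1 hinj
    (IsLocalRing.residue Q.O ⟨z, hz⟩)
  obtain ⟨c, rfl⟩ := IsLocalRing.residue_surjective a
  refine ⟨c, c.2, (residue_eq_zero_iff (P := Q) (⟨z, hz⟩ - incOver hQ c)).1 ?_⟩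
  rw [map_sub, sub_eq_zero]
  exact ha.symm

omit hK in
/-- A surjective map of residue fields gives representatives downstairs. -/
lemma hres_of_surjective [P.1.HasExtension Q.1]
    (hf : Function.Surjective (algebraMap (IsLocalRing.ResidueField P.O) (IsLocalRing.ResidueField Q.O))) :
    ∀ z : K', Q.1 z ≤ 1 → ∃ c : K, P.1 c ≤ 1 ∧ Q.1 (z - algebraMap K K' c) < 1 := by
  intro z hz
  obtain ⟨a, ha⟩ := hf (IsLocalRing.residue Q.O ⟨z, hz⟩)
  obtain ⟨c, rfl⟩ := IsLocalRing.residue_surjective a
  refine ⟨c, c.2, (residue_eq_zero_iff (P := Q) (⟨z, hz⟩ - incOver ⟨e, he⟩ c)).1 ?_⟩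
  rw [map_sub, sub_eq_zero, ← ha]
  rfl

end Groth.Agent.FF
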