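import Groth.Prelude.Def_W4bk4goldsch23FF
import Mathlib

/-! Places of a function field: order arithmetic, comparison, the linear independence lemma over `k(x)`. -/

namespace Groth.Agent.FF

open FunFld
open scoped WithZero IntermediateField

variable {k K : Type*} [Field k] [Field K] [Algebra k K]

section ord

variable (P : Place k K)

lemma v_algebraMap {c : k} (hc : c ≠ 0) : P.1 (algebraMap k K c) = 1 := by
  refine le_antisymm (P.2.1 c) ?_
  have h := P.2.1 c⁻¹
  rw [map_inv₀, map_inv₀, inv_le_one₀ (zero_lt_iff.2 ((map_ne_zero _).2 ((map_ne_zero _).2 hc)))] at h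
  exact h

lemma v_smul_le (c : k) (x : K) : P.1 (c • x) ≤ P.1 x := by
  rw [Algebra.smul_def, map_mul]
  exact mul_le_of_le_one_left' (P.2.1 c)

lemma v_eq_exp {x : K} (hx : x ≠ 0) : P.1 x = WithZero.exp (-P.ord x) := by
  rw [Place.ord, neg_neg, WithZero.exp_log ((map_ne_zero _).2 hx)]

lemma ord_eq_iff {x : K} (hx : x ≠ 0) {n : ℤ} : P.ord x = n ↔ P.1 x = WithZero.exp (-n) := by
  rw [v_eq_exp P hx, WithZero.exp_inj]
  omega

lemma v_le_exp_iff {x : K} (hx : x ≠ 0) {n : ℤ} : P.1 x ≤ WithZero.exp n ↔ -n ≤ P.ord x := by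
  rw [v_eq_exp P hx, WithZero.exp_le_exp]
  omega

lemma v_lt_exp_iff {x : K} (hx : x ≠ 0) {n : ℤ} : P.1 x < WithZero.exp n ↔ -n < P.ord x := by
  rw [v_eq_exp P hx, WithZero.exp_lt_exp]
  omega

lemma v_le_one_iff {x : K} (hx : x ≠ 0) : P.1 x ≤ 1 ↔ 0 ≤ P.ord x := by
  have h := v_le_exp_iff P hx (n := 0)
  rwa [WithZero.exp_zero, neg_zero] at h

lemma v_lt_one_iff {x : K} (hx : x ≠ 0) : P.1 x < 1 ↔ 0 < P.ord x := by
  have h := v_lt_exp_iff P hx (n := 0)
  rwa [WithZero.exp_zero, neg_zero] at h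

lemma ord_zero : P.ord 0 = 0 := by simp [Place.ord]

lemma ord_one : P.ord 1 = 0 := by simp [Place.ord]

lemma ord_mul {x y : K} (hx : x ≠ 0) (hy : y ≠ 0) : P.ord (x * y) = P.ord x + P.ord y := by
  simp only [Place.ord, map_mul]
  rw [WithZero.log_mul ((map_ne_zero _).2 hx) ((map_ne_zero _).2 hy)]
  ring

lemma ord_inv (x : K) : P.ord x⁻¹ = -P.ord x := by
  simp [Place.ord, WithZero.log_inv]

lemma ord_pow (x : K) (n : ℕ) : P.ord (x ^ n) = n * P.ord x := by
  simp [Place.ord, WithZero.log_pow]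

lemma ord_zpow (x : K) (n : ℤ) : P.ord (x ^ n) = n * P.ord x := by
  simp [Place.ord, WithZero.log_zpow]

lemma ord_algebraMap (c : k) : P.ord (algebraMap k K c) = 0 := by
  rcases eq_or_ne c 0 with rfl | hc
  · simp [ord_zero]
  · simp [Place.ord, v_algebraMap P hc]

lemma exists_v_eq (n : ℤ) : ∃ t : K, t ≠ 0 ∧ P.1 t = WithZero.exp n := by
  obtain ⟨t, ht⟩ := P.2.2 (WithZero.exp n)
  exact ⟨t, fun h => WithZero.exp_ne_zero (by rw [← ht, h, map_zero]), ht⟩

lemma exists_ord_eq (n : ℤ) : ∃ t : K, t ≠ 0 ∧ P.ord t = n := by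
  obtain ⟨t, h0, ht⟩ := exists_v_eq P (-n)
  exact ⟨t, h0, (ord_eq_iff P h0).2 ht⟩

/-- A place is determined by any smaller-or-equal valuation ring. -/
lemma place_eq_of_le {Q : Place k K} (h : ∀ x : K, P.1 x ≤ 1 → Q.1 x ≤ 1) : P = Q := by
  obtain ⟨t, ht0, ht⟩ := exists_ord_eq P 1
  have hzero : ∀ x : K, x ≠ 0 → P.ord x = 0 → Q.ord x = 0 := fun x hx hP => by
    have h1 := (v_le_one_iff Q hx).1 (h x ((v_le_one_iff P hx).2 hP.ge))
    have h2 := (v_le_one_iff Q (inv_ne_zero hx)).1
      (h x⁻¹ ((v_le_one_iff P (inv_ne_zero hx)).2 (by rw [ord_inv]; omega)))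
    rw [ord_inv] at h2
    omega
  have hlin : ∀ x : K, x ≠ 0 → Q.ord x = P.ord x * Q.ord t := fun x hx => by
    have := hzero (x * t ^ (-P.ord x)) (mul_ne_zero hx (zpow_ne_zero _ ht0))
      (by rw [ord_mul P hx (zpow_ne_zero _ ht0), ord_zpow, ht]; ring)
    rw [ord_mul Q hx (zpow_ne_zero _ ht0), ord_zpow] at this
    linarith
  have he : 0 ≤ Q.ord t := (v_le_one_iff Q ht0).1 (h t ((v_le_one_iff P ht0).2 (by omega)))
  obtain ⟨s, hs0, hs⟩ := exists_ord_eq Q 1
  have h1 := hlin s hs0
  rw [hs] at h1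
  have he1 : Q.ord t = 1 := Int.eq_one_of_mul_eq_one_left he h1.symm
  apply Subtype.ext
  ext x
  rcases eq_or_ne x 0 with rfl | hx
  · simp
  · rw [v_eq_exp P hx, v_eq_exp Q hx, hlin x hx, he1, mul_one]

lemma exists_sep {Q : Place k K} (h : P ≠ Q) : ∃ x : K, P.1 x ≤ 1 ∧ 1 < Q.1 x := by
  by_contra hne
  push Not at hne
  exact h (place_eq_of_le P hne)

end ord

/-- Elements of `R` independent modulo `x R` are independent over `k(x)`. -/
lemma linearIndependent_adjoin_of_mod {ι : Type*} [Fintype ι] (R : Subalgebra k K) {x : K} (hxR : x ∈ R)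
    (hx : Transcendental k x) (z : ι → K) (hz : ∀ i, z i ∈ R)
    (hmod : ∀ c : ι → k, (∃ r ∈ R, ∑ i, c i • z i = x * r) → c = 0) :
    LinearIndependent k⟮x⟯ z := by
  classical
  have hx0 : x ≠ 0 := fun h => hx (h ▸ isAlgebraic_zero)
  have hpoly : ∀ (d : ℕ) (P : ι → Polynomial k), (∀ i, (P i).natDegree ≤ d) →
      ∑ i, Polynomial.aeval x (P i) * z i = 0 → ∀ i, P i = 0 := by
    intro d
    induction d using Nat.strong_induction_on with
    | _ d IH =>
      intro P hd hP
      have hc : (fun i => (P i).coeff 0) = 0 := by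
        refine hmod _ ⟨-∑ i, Polynomial.aeval x (P i).divX * z i, ?_, ?_⟩
        · exact R.neg_mem (R.sum_mem fun i _ => R.mul_mem
            (Algebra.adjoin_le (Set.singleton_subset_iff.2 hxR) (Polynomial.aeval_mem_adjoin_singleton _ _)) (hz i))
        · rw [mul_neg, Finset.mul_sum, eq_neg_iff_add_eq_zero, ← Finset.sum_add_distrib, ← hP]
          refine Finset.sum_congr rfl fun i _ => ?_
          conv_rhs => rw [← Polynomial.X_mul_divX_add (P i)]
          simp [Algebra.smul_def, -Polynomial.X_mul_divX_add]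
          ring
      have hX : ∀ i, P i = Polynomial.X * (P i).divX := fun i => by
        conv_lhs => rw [← Polynomial.X_mul_divX_add (P i)]
        rw [congrFun hc i]; simp
      rcases Nat.eq_zero_or_pos d with rfl | hdpos
      · intro i
        rw [Polynomial.eq_C_of_natDegree_le_zero (hd i), congrFun hc i]; simp
      · have hQ : ∑ i, Polynomial.aeval x (P i).divX * z i = 0 := by
          have h2 : x * ∑ i, Polynomial.aeval x (P i).divX * z i = 0 := by
            rw [← hP, Finset.mul_sum]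
            refine Finset.sum_congr rfl fun i _ => ?_
            conv_rhs => rw [hX i]
            simp [mul_assoc]
          exact (mul_eq_zero.1 h2).resolve_left hx0
        intro i
        rw [hX i, IH (d - 1) (by omega) (fun i => (P i).divX)
          (fun i => by rw [Polynomial.natDegree_divX_eq_natDegree_tsub_one]; have := hd i; omega) hQ i, mul_zero]
  rw [Fintype.linearIndependent_iff]
  intro e he i₀
  have hmem : ∀ i, ∃ p q : Polynomial k, (e i : K) = Polynomial.aeval x p / Polynomial.aeval x q ∧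
      Polynomial.aeval x q ≠ 0 := by
    intro i
    obtain ⟨p, q, hpq⟩ := (IntermediateField.mem_adjoin_simple_iff k (e i : K)).1 (e i).2
    by_cases hq : Polynomial.aeval x q = 0
    · exact ⟨0, 1, by rw [hpq, hq]; simp, by simp⟩
    · exact ⟨p, q, hpq, hq⟩
  choose p q hpq hq using hmem
  let N : ι → Polynomial k := fun i => p i * ∏ j ∈ Finset.univ.erase i, q j
  have h0 : ∑ i, Polynomial.aeval x (N i) * z i = 0 := by
    have e1 : ∀ i, Polynomial.aeval x (N i) = (e i : K) * ∏ j, Polynomial.aeval x (q j) := by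
      intro i
      rw [hpq i, ← Finset.mul_prod_erase _ _ (Finset.mem_univ i)]
      have := hq i
      simp only [N, map_mul, map_prod]
      field_simp
    have he' : ∑ i, (e i : K) * z i = 0 := by simpa [IntermediateField.smul_def] using he
    simp only [e1, mul_right_comm _ (∏ j, Polynomial.aeval x (q j)), ← Finset.sum_mul, he', zero_mul]
  have hN := hpoly (Finset.univ.sup fun i => (N i).natDegree) N
    (fun i => Finset.le_sup (f := fun i => (N i).natDegree) (Finset.mem_univ i)) h0 i₀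
  rcases mul_eq_zero.1 hN with h | h
  · exact Subtype.ext (by rw [hpq i₀, h]; simp)
  · obtain ⟨j, -, hj⟩ := Finset.prod_eq_zero_iff.1 h
    exact absurd (by simp [hj]) (hq j)

/-- The standing facts drawn from `IsFunctionField`. -/
lemma finiteDimensional_adjoin (hK : IsFunctionField k K) {x : K} (hx : Transcendental k x) :
    FiniteDimensional k⟮x⟯ K := by
  obtain ⟨⟨y, hy, hfin⟩, -⟩ := hK
  have hy' : AlgebraicIndependent k (fun _ : Fin 1 => y) :=
    algebraicIndependent_unique_type_iff.2 hy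
  have hx' : AlgebraicIndependent k (fun _ : Fin 1 => x) :=
    algebraicIndependent_unique_type_iff.2 hx
  have h1 : IntermediateField.adjoin k (Set.range fun _ : Fin 1 => y) = k⟮y⟯ := by simp
  haveI : FiniteDimensional k⟮y⟯ K := hfin
  haveI halgy : Algebra.IsAlgebraic k⟮y⟯ K := Algebra.IsAlgebraic.of_finite k⟮y⟯ K
  have hyb : IsTranscendenceBasis k (fun _ : Fin 1 => y) := by
    rw [hy'.isTranscendenceBasis_iff_isAlgebraic, ← IntermediateField.isAlgebraic_adjoin_iff_top, h1]
    exact halgy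
  have hxb : IsTranscendenceBasis k (fun _ : Fin 1 => x) :=
    hx'.isTranscendenceBasis_of_lift_trdeg_le_of_finite (by rw [← hyb.lift_cardinalMk_eq_trdeg])
  haveI halg : Algebra.IsAlgebraic k⟮x⟯ K := by
    have h2 : IntermediateField.adjoin k (Set.range fun _ : Fin 1 => x) = k⟮x⟯ := by simp
    have := hxb.isAlgebraic_field
    rwa [h2] at this
  haveI : FiniteDimensional k⟮x⟯ k⟮x⟯⟮y⟯ :=
    IntermediateField.adjoin.finiteDimensional (halg.isAlgebraic y).isIntegral
  have hle : k⟮y⟯ ≤ k⟮x⟯⟮y⟯.restrictScalars k := by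
    rw [IntermediateField.adjoin_simple_le_iff]
    exact IntermediateField.mem_adjoin_simple_self _ y
  letI : Algebra k⟮y⟯ k⟮x⟯⟮y⟯ := (IntermediateField.inclusion hle).toRingHom.toAlgebra
  haveI : IsScalarTower k⟮y⟯ k⟮x⟯⟮y⟯ K := IsScalarTower.of_algebraMap_eq fun _ => rfl
  haveI : FiniteDimensional k⟮x⟯⟮y⟯ K := Module.Finite.of_restrictScalars_finite k⟮y⟯ k⟮x⟯⟮y⟯ K
  exact Module.Finite.trans k⟮x⟯⟮y⟯ K

lemma transcendental_of_not_mem (hK : IsFunctionField k K) {x : K} (hx : x ∉ Set.range (algebraMap k K)) :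
    Transcendental k x := fun h => hx (hK.2 x h)

end Groth.Agent.FF
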