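import Mathlib

/-! Differentials of plane curves under changes of coordinates. -/

set_option autoImplicit false

namespace Groth.Agent.FF

open MvPolynomial

universe u v w

section

variable {k : Type u} [Field k] {R : Type v} [CommRing R] [Algebra k R] {σ : Type*} [Fintype σ]

/-- The chain rule for a derivation and a polynomial. -/
lemma derivation_mvAeval {M : Type w} [AddCommGroup M] [Module R M] [Module k M] [IsScalarTower k R M]
    (δ : Derivation k R M) (v : σ → R) (f : MvPolynomial σ k) :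
    δ (aeval v f) = ∑ i, aeval v (pderiv i f) • δ (v i) := by
  classical
  induction f using MvPolynomial.induction_on with
  | C c => simp
  | add p q hp hq => simp [hp, hq, add_smul, Finset.sum_add_distrib]
  | mul_X p j hp =>
    rw [map_mul, Derivation.leibniz, aeval_X, hp]
    simp only [pderiv_mul, map_add, map_mul, aeval_X, add_smul, Finset.sum_add_distrib, pderiv_X, Pi.single_apply,
      apply_ite (aeval v), map_one, map_zero, mul_ite, mul_one, mul_zero, ite_smul, zero_smul, Finset.smul_sum,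
      smul_smul, mul_comm (v j)]
    rw [Finset.sum_ite_eq Finset.univ j (fun i => (aeval v) p • δ (v i)), if_pos (Finset.mem_univ j), add_comm]

/-- Values of a homogeneous polynomial at a multiple. -/
lemma aeval_smul_homogeneous {g : MvPolynomial σ k} {d : ℕ} (hg : g.IsHomogeneous d) (c : R) (v : σ → R) :
    aeval (fun i => c * v i) g = c ^ d * aeval v g := by
  classical
  have hsum := g.as_sum
  conv_lhs => rw [hsum]
  conv_rhs => rw [hsum]
  rw [map_sum, map_sum, Finset.mul_sum]
  refine Finset.sum_congr rfl fun m hm => ?_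
  have hd : m.sum (fun _ a => a) = d := by
    have := hg (mem_support_iff.1 hm)
    rwa [Finsupp.weight_apply, show (fun (i : σ) (a : ℕ) => a • (1 : σ → ℕ) i) = fun _ a => a by ext; simp] at this
  rw [aeval_monomial, aeval_monomial, ← hd, Finsupp.prod, Finsupp.sum, ← Finset.prod_pow_eq_pow_sum, mul_left_comm,
    Finsupp.prod, ← Finset.prod_mul_distrib]
  congr 1
  exact Finset.prod_congr rfl fun i _ => mul_pow c (v i) (m i)

end

/-- The differential `dx / f_y` of a plane curve in new coordinates. -/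
theorem plane_differential (k : Type u) (K : Type v) [Field k] [Field K] [Algebra k K]
    (f : MvPolynomial (Fin 3) k) (e : ℕ) (hf : f.IsHomogeneous e)
    (x y : K) (hfxy : aeval ![(1 : K), x, y] f = 0)
    (A : Matrix (Fin 3) (Fin 3) k)
    (u : Fin 3 → K) (hu : ∀ i, ∑ j, algebraMap k K (A i j) * u j = ![(1 : K), x, y] i)
    (hu0 : u 0 ≠ 0)
    (hfy : aeval ![(1 : K), x, y] (pderiv 2 f) ≠ 0)
    (hfy' : aeval ![(1 : K), u 1 / u 0, u 2 / u 0]
      (pderiv 2 (aeval (fun i : Fin 3 => ∑ j, C (A i j) * X j) f)) ≠ 0) :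
    (aeval ![(1 : K), x, y] (pderiv 2 f))⁻¹ • KaehlerDifferential.D k K x =
      (algebraMap k K A.det * (u 0)⁻¹ ^ ((e : ℤ) - 3) *
        (aeval ![(1 : K), u 1 / u 0, u 2 / u 0]
          (pderiv 2 (aeval (fun i : Fin 3 => ∑ j, C (A i j) * X j) f)))⁻¹) •
        KaehlerDifferential.D k K (u 1 / u 0) := by
  classical
  set P : Fin 3 → K := ![(1 : K), x, y]
  set G : Fin 3 → K := fun i => aeval P (pderiv i f) with hG
  set a : Fin 3 → Fin 3 → K := fun i j => algebraMap k K (A i j)
  set d : Fin 3 → Ω[K⁄k] := fun j => KaehlerDifferential.D k K (u j)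
  -- differentials of the old coordinates
  have hP : ∀ i, P i = a i 0 * u 0 + a i 1 * u 1 + a i 2 * u 2 := fun i => by
    rw [← hu i, Fin.sum_univ_three]
  have hdP : ∀ i, KaehlerDifferential.D k K (P i) = a i 0 • d 0 + a i 1 • d 1 + a i 2 • d 2 := fun i => by
    simp [hP i, a, d]
  have h0 : a 0 0 • d 0 + a 0 1 • d 1 + a 0 2 • d 2 = 0 := by
    rw [← hdP 0]; simp [P]
  -- Euler and the relation
  have hrel : G 1 • KaehlerDifferential.D k K x + G 2 • KaehlerDifferential.D k K y = 0 := by
    have := derivation_mvAeval (KaehlerDifferential.D k K) P f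
    rw [hfxy, map_zero, Fin.sum_univ_three] at this
    simpa [P, G] using this.symm
  have heul : G 0 + x * G 1 + y * G 2 = 0 := by
    have := congrArg (aeval P) hf.sum_X_mul_pderiv
    rw [map_sum, map_nsmul, hfxy, smul_zero, Fin.sum_univ_three] at this
    simpa [P, G] using this
  -- the new partial derivative
  have hnew : aeval ![(1 : K), u 1 / u 0, u 2 / u 0] (pderiv 2 (aeval (fun i : Fin 3 => ∑ j, C (A i j) * X j) f)) =
      ((u 0)⁻¹) ^ (e - 1) * (G 0 * a 0 2 + G 1 * a 1 2 + G 2 * a 2 2) := by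
    have hL : ∀ i, pderiv 2 (∑ j, C (A i j) * X j : MvPolynomial (Fin 3) k) = C (A i 2) := fun i => by
      simp [Fin.sum_univ_three, pderiv_X, Pi.single_apply]
    have hv : (fun i => aeval ![(1 : K), u 1 / u 0, u 2 / u 0] (∑ j, C (A i j) * X j : MvPolynomial (Fin 3) k)) =
        fun i => (u 0)⁻¹ * P i := by
      funext i
      simp [Fin.sum_univ_three, hP i, a]
      field_simp
    rw [derivation_mvAeval (pderiv 2) _ f, map_sum, Fin.sum_univ_three]
    simp only [smul_eq_mul, map_mul, hL, aeval_C, ← AlgHom.comp_apply, comp_aeval, hv]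
    simp only [aeval_smul_homogeneous hf.pderiv, G, a]
    ring
  rcases Nat.eq_zero_or_pos e with rfl | he
  · exfalso
    apply hfy
    obtain ⟨c, rfl⟩ : ∃ c, f = C c := ⟨_, totalDegree_eq_zero_iff_eq_C.1 (Nat.le_zero.1 hf.totalDegree_le)⟩
    simp
  set H := G 0 * a 0 2 + G 1 * a 1 2 + G 2 * a 2 2 with hH
  have hH0 : H ≠ 0 := by
    intro h
    rw [hnew, h, mul_zero] at hfy'
    exact hfy' rfl
  have hG2 : G 2 ≠ 0 := hfy
  -- the key identity
  have hdx : KaehlerDifferential.D k K x = a 1 0 • d 0 + a 1 1 • d 1 + a 1 2 • d 2 := by simpa [P] using hdP 1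
  have hdy : KaehlerDifferential.D k K y = a 2 0 • d 0 + a 2 1 • d 1 + a 2 2 • d 2 := by simpa [P] using hdP 2
  have hdet : algebraMap k K A.det = a 0 0 * a 1 1 * a 2 2 - a 0 0 * a 1 2 * a 2 1 - a 0 1 * a 1 0 * a 2 2 +
      a 0 1 * a 1 2 * a 2 0 + a 0 2 * a 1 0 * a 2 1 - a 0 2 * a 1 1 * a 2 0 := by
    rw [Matrix.det_fin_three]
    simp [a]
  have key : H • KaehlerDifferential.D k K x =
      (G 2 * algebraMap k K A.det) • (u 0 • d 1 - u 1 • d 0) := by
    have e1 : H • KaehlerDifferential.D k K x = G 2 •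
        (a 0 2 • (x • KaehlerDifferential.D k K y - y • KaehlerDifferential.D k K x) -
          a 1 2 • KaehlerDifferential.D k K y + a 2 2 • KaehlerDifferential.D k K x) := by
      have hy' : G 2 • KaehlerDifferential.D k K y = -(G 1 • KaehlerDifferential.D k K x) :=
        eq_neg_of_add_eq_zero_right hrel
      have hG0 : G 0 = -(x * G 1) - y * G 2 := by linear_combination heul
      calc H • KaehlerDifferential.D k K x
          = (a 0 2 * x - a 1 2) • (-(G 1 • KaehlerDifferential.D k K x)) +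
              (G 2 * (a 2 2 - a 0 2 * y)) • KaehlerDifferential.D k K x := by rw [hH, hG0]; module
        _ = _ := by rw [← hy']; module
    have ex : x = a 1 0 * u 0 + a 1 1 * u 1 + a 1 2 * u 2 := by simpa [P] using hP 1
    have ey : y = a 2 0 * u 0 + a 2 1 * u 1 + a 2 2 * u 2 := by simpa [P] using hP 2
    have e0 : (1 : K) = a 0 0 * u 0 + a 0 1 * u 1 + a 0 2 * u 2 := by simpa [P] using hP 0
    rw [e1, mul_smul]
    congr 1
    set D0 := a 0 0 • d 0 + a 0 1 • d 1 + a 0 2 • d 2 with hD0
    set Dx := a 1 0 • d 0 + a 1 1 • d 1 + a 1 2 • d 2 with hDx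
    set Dy := a 2 0 • d 0 + a 2 1 • d 1 + a 2 2 • d 2 with hDy
    calc a 0 2 • (x • KaehlerDifferential.D k K y - y • KaehlerDifferential.D k K x) -
          a 1 2 • KaehlerDifferential.D k K y + a 2 2 • KaehlerDifferential.D k K x
        = a 0 2 • (x • Dy - y • Dx) + a 1 2 • (y • D0 - (1 : K) • Dy) +
            a 2 2 • ((1 : K) • Dx - x • D0) := by
          rw [hdx, hdy, h0, one_smul, one_smul, smul_zero, smul_zero, zero_sub, sub_zero, smul_neg, ← sub_eq_add_neg]
      _ = _ := by rw [hdet, hD0, hDx, hDy, e0, ex, ey]; module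
  have hquot : KaehlerDifferential.D k K (u 1 / u 0) = (u 0)⁻¹ ^ 2 • (u 0 • d 1 - u 1 • d 0) := by
    rw [Derivation.leibniz_div]
  rw [hquot, hnew]
  have hkey' : KaehlerDifferential.D k K x = (H⁻¹ * (G 2 * algebraMap k K A.det)) • (u 0 • d 1 - u 1 • d 0) := by
    rw [mul_smul, ← key, smul_smul, inv_mul_cancel₀ hH0, one_smul]
  rw [show aeval P (pderiv 2 f) = G 2 from rfl, hkey', smul_smul, smul_smul]
  congr 1
  rw [mul_inv, ← inv_pow, inv_inv, zpow_sub₀ (inv_ne_zero hu0), zpow_natCast,
    show ((3 : ℤ)) = ((3 : ℕ) : ℤ) from rfl, zpow_natCast]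
  obtain ⟨e', rfl⟩ : ∃ e', e = e' + 1 := ⟨e - 1, by omega⟩
  rw [Nat.add_sub_cancel, inv_pow, inv_pow, inv_pow]
  field_simp
  ring

end Groth.Agent.FF
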