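import Mathlib
import Groth.Agent.FF.PlaneDiff
import Groth.Agent.FF.Basic

/-! Coordinates adapted to a point of a plane curve. -/

set_option autoImplicit false
set_option linter.style.haveILetI false

namespace Groth.Agent.FF

open MvPolynomial FunFld

universe u v

variable {k : Type u} [Field k]

/-- Homogenisation. -/
lemma exists_homog (f : MvPolynomial (Fin 2) k) :
    ∃ F : MvPolynomial (Fin 3) k, F.IsHomogeneous f.totalDegree ∧
      aeval ![(1 : MvPolynomial (Fin 2) k), X 0, X 1] F = f := by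
  classical
  refine ⟨∑ m ∈ f.support, C (f.coeff m) * (X 0 ^ (f.totalDegree - (m 0 + m 1)) * X 1 ^ m 0 * X 2 ^ m 1), ?_, ?_⟩
  · refine IsHomogeneous.sum _ _ _ fun m hm => ?_
    have hle : m 0 + m 1 ≤ f.totalDegree := by
      refine le_trans ?_ (le_totalDegree hm)
      rw [Finsupp.sum_fintype _ _ (fun _ => rfl), Fin.sum_univ_two]
    have h := (((isHomogeneous_X k (0 : Fin 3)).pow (f.totalDegree - (m 0 + m 1))).mul
      ((isHomogeneous_X k (1 : Fin 3)).pow (m 0))).mul ((isHomogeneous_X k (2 : Fin 3)).pow (m 1))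
    have h2 := h.C_mul (f.coeff m)
    rwa [show 1 * (f.totalDegree - (m 0 + m 1)) + 1 * m 0 + 1 * m 1 = f.totalDegree by omega] at h2
  · rw [map_sum]
    conv_rhs => rw [f.as_sum]
    refine Finset.sum_congr rfl fun m _ => ?_
    simp only [map_mul, map_pow, aeval_C, aeval_X, Matrix.cons_val_zero, Matrix.cons_val_one, Matrix.cons_val,
      one_pow, one_mul, algebraMap_eq]
    rw [monomial_eq, Finsupp.prod_fintype _ _ (fun i => pow_zero _), Fin.prod_univ_two]

/-- Evaluations of a homogenisation. -/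
lemma aeval_dehomog {R : Type v} [CommRing R] [Algebra k R] {F : MvPolynomial (Fin 3) k}
    {f : MvPolynomial (Fin 2) k} (h : aeval ![(1 : MvPolynomial (Fin 2) k), X 0, X 1] F = f) (a b : R) :
    aeval ![(1 : R), a, b] F = aeval ![a, b] f ∧
      aeval ![(1 : R), a, b] (pderiv 2 F) = aeval ![a, b] (pderiv 1 f) := by
  have hcomp : ∀ G : MvPolynomial (Fin 3) k,
      aeval ![a, b] (aeval ![(1 : MvPolynomial (Fin 2) k), X 0, X 1] G) = aeval ![(1 : R), a, b] G := fun G => by
    rw [← AlgHom.comp_apply, comp_aeval]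
    congr 2
    funext i
    fin_cases i <;> simp
  refine ⟨by rw [← h, hcomp], ?_⟩
  rw [← hcomp, ← h, derivation_mvAeval, Fin.sum_univ_three]
  simp [pderiv_X]

/-- A homogeneous polynomial on a line. -/
lemma homog_line {g : MvPolynomial (Fin 3) k} {e : ℕ} (hg : g.IsHomogeneous e) {R : Type v} [CommRing R]
    [Algebra k R] (a : R) :
    (aeval ![(1 : Polynomial R), Polynomial.C a, Polynomial.X] g).natDegree ≤ e ∧
      (aeval ![(1 : Polynomial R), Polynomial.C a, Polynomial.X] g).coeff e =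
        algebraMap k R (aeval ![(0 : k), 0, 1] g) := by
  classical
  have hsum : ∀ m ∈ g.support, m 0 + m 1 + m 2 = e := fun m hm => by
    have := hg (mem_support_iff.1 hm)
    rw [Finsupp.weight_apply, Finsupp.sum_fintype _ _ (fun _ => by simp), Fin.sum_univ_three] at this
    simpa using this
  have hterm : ∀ m : Fin 3 →₀ ℕ, aeval ![(1 : Polynomial R), Polynomial.C a, Polynomial.X] (monomial m (g.coeff m)) =
      Polynomial.C (algebraMap k R (g.coeff m) * a ^ m 1) * Polynomial.X ^ m 2 := fun m => by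
    rw [aeval_monomial, Finsupp.prod_fintype _ _ (fun i => pow_zero _), Fin.prod_univ_three]
    simp [IsScalarTower.algebraMap_apply k R (Polynomial R), mul_assoc]
  constructor
  · rw [g.as_sum, map_sum]
    refine Polynomial.natDegree_sum_le_of_forall_le _ _ fun m hm => ?_
    rw [hterm]
    exact (Polynomial.natDegree_C_mul_X_pow_le _ _).trans (by have := hsum m hm; omega)
  · rw [g.as_sum, map_sum, map_sum, map_sum, Polynomial.finsetSum_coeff]
    refine Finset.sum_congr rfl fun m hm => ?_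
    rw [hterm, Polynomial.coeff_C_mul_X_pow, aeval_monomial, Finsupp.prod_fintype _ _ (fun i => pow_zero _),
      Fin.prod_univ_three]
    have := hsum m hm
    by_cases h : e = m 2
    · rw [if_pos h, show m 0 = 0 by omega, show m 1 = 0 by omega]
      simp
    · rw [if_neg h]
      rcases (show m 0 ≠ 0 ∨ m 1 ≠ 0 by omega) with h' | h' <;> simp [zero_pow h']

/-- A change of coordinates sending a given point to `(1 : 0 : 0)` with centre off the curve and off a line. -/
lemma exists_matrix [Infinite k] {K : Type v} [Field K] [Algebra k K] {F : MvPolynomial (Fin 3) k} {e : ℕ}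
    (hF : F.IsHomogeneous e) (hF0 : F ≠ 0) (c : Fin 3 → k) (j : Fin 3) (hcj : c j = 1) (hc : aeval c F = 0)
    (G : Fin 3 → K) (hG : G 2 ≠ 0) :
    ∃ A : Matrix (Fin 3) (Fin 3) k, A.det ≠ 0 ∧ (∀ i, A i 0 = c i) ∧ aeval (fun i => A i 2) F ≠ 0 ∧
      ∑ i, G i * algebraMap k K (A i 2) ≠ 0 := by
  classical
  obtain ⟨ℓ, hℓ⟩ : ∃ ℓ : Module.Dual k K, ℓ (G 2) ≠ 0 := by
    by_contra h
    push Not at h
    exact hG ((Module.forall_dual_apply_eq_zero_iff k _).1 h)
  let L : MvPolynomial (Fin 3) k := ∑ i, C (ℓ (G i)) * X i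
  have hL : ∀ p : Fin 3 → k, eval p L = ℓ (∑ i, G i * algebraMap k K (p i)) := fun p => by
    simp only [L, map_sum, map_mul, eval_C, eval_X]
    refine Finset.sum_congr rfl fun i _ => ?_
    rw [mul_comm (G i), ← Algebra.smul_def, map_smul, smul_eq_mul, mul_comm]
  have hL0 : L ≠ 0 := fun h => hℓ (by
    have := congrArg (eval (Pi.single 2 (1 : k))) h
    rw [hL, map_zero, Fin.sum_univ_three] at this
    simpa using this)
  obtain ⟨p, hp⟩ : ∃ p : Fin 3 → k, eval p (F * L) ≠ 0 := by
    by_contra h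
    push Not at h
    exact mul_ne_zero hF0 hL0 (MvPolynomial.funext fun p => by rw [h p, map_zero])
  rw [map_mul, hL] at hp
  have hFp : aeval p F ≠ 0 := left_ne_zero_of_mul hp
  -- the cross product of `c` and `p`
  set r : Fin 3 → k := ![c 1 * p 2 - c 2 * p 1, c 2 * p 0 - c 0 * p 2, c 0 * p 1 - c 1 * p 0] with hr
  obtain ⟨i₀, hi₀⟩ : ∃ i, r i ≠ 0 := by
    by_contra h
    push Not at h
    refine hFp ?_
    have e0 : c 1 * p 2 - c 2 * p 1 = 0 := h 0
    have e1 : c 2 * p 0 - c 0 * p 2 = 0 := h 1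
    have e2 : c 0 * p 1 - c 1 * p 0 = 0 := h 2
    have hpc : p = fun i => p j * c i := by
      funext i
      fin_cases j <;> fin_cases i <;> simp only [Fin.zero_eta, Fin.mk_one, Fin.reduceFinMk, Fin.isValue] at hcj ⊢ <;>
        grind
    rw [hpc, aeval_smul_homogeneous hF, hc, mul_zero]
  set q : Fin 3 → k := Pi.single i₀ 1
  refine ⟨Matrix.of fun i => ![c i, q i, p i], ?_, fun i => rfl, hFp, fun h => right_ne_zero_of_mul hp ?_⟩
  · have hdet : (Matrix.of fun i => ![c i, q i, p i]).det = -(∑ i, r i * q i) := by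
      rw [Matrix.det_fin_three, Fin.sum_univ_three]
      simp [hr]
      ring
    have hsum : ∑ i, r i * q i = r i₀ := by simp [q, Pi.single_apply]
    rw [hdet, hsum]
    exact neg_ne_zero.2 hi₀
  · rw [show (∑ i, G i * algebraMap k K (p i)) = 0 from h, map_zero]

section fracAt

variable {K : Type v} [Field K] [Algebra k K]

/-- Fractions of elements of a subalgebra with denominator a unit at a place. -/
def fracAt (P : Place k K) (S : Subalgebra k K) : Subalgebra k K where
  carrier := {z | ∃ a ∈ S, ∃ b ∈ S, P.1 b = 1 ∧ z * b = a}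
  mul_mem' := by
    rintro z z' ⟨a, ha, b, hb, h1, e⟩ ⟨a', ha', b', hb', h1', e'⟩
    exact ⟨a * a', S.mul_mem ha ha', b * b', S.mul_mem hb hb', by rw [map_mul, h1, h1', one_mul],
      by rw [← e, ← e']; ring⟩
  add_mem' := by
    rintro z z' ⟨a, ha, b, hb, h1, e⟩ ⟨a', ha', b', hb', h1', e'⟩
    exact ⟨a * b' + a' * b, S.add_mem (S.mul_mem ha hb') (S.mul_mem ha' hb), b * b', S.mul_mem hb hb',
      by rw [map_mul, h1, h1', one_mul], by rw [← e, ← e']; ring⟩
  algebraMap_mem' c := ⟨_, S.algebraMap_mem c, 1, S.one_mem, map_one _, mul_one _⟩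

lemma subset_fracAt (P : Place k K) (S : Subalgebra k K) : S ≤ fracAt P S := fun a ha =>
  ⟨a, ha, 1, S.one_mem, map_one _, mul_one a⟩

lemma div_mem_fracAt {P : Place k K} {S : Subalgebra k K} {u w : K} (hu : u ∈ fracAt P S) (hw : w ∈ fracAt P S)
    (hw1 : P.1 w = 1) : u / w ∈ fracAt P S := by
  obtain ⟨a, ha, b, hb, h1, e⟩ := hu
  obtain ⟨a', ha', b', hb', h1', e'⟩ := hw
  have hw0 : w ≠ 0 := fun h => by rw [h, map_zero] at hw1; exact zero_ne_one hw1
  refine ⟨a * b', S.mul_mem ha hb', b * a', S.mul_mem hb ha', ?_, ?_⟩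
  · rw [map_mul, h1, one_mul, ← e', map_mul, hw1, h1', one_mul]
  · rw [← e, ← e']; field_simp

lemma fracAt_idem {P : Place k K} {S T : Subalgebra k K} (h : S ≤ fracAt P T) : fracAt P S ≤ fracAt P T := by
  rintro z ⟨a, ha, b, hb, h1, e⟩
  have hb0 : b ≠ 0 := fun h => by rw [h, map_zero] at h1; exact zero_ne_one h1
  rw [show z = a / b by rw [← e, mul_div_cancel_right₀ _ hb0]]
  exact div_mem_fracAt (h ha) (h hb) h1

end fracAt

end Groth.Agent.FF
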