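import Mathlib
import Groth.Agent.FF.PlaneChart
import Groth.Agent.FF.Plane
import Groth.Agent.FF.DiffSpec
import Groth.Agent.FF.HasseFam
import Groth.Agent.FF.ResidueThm

/-! The adjoint divisor of a plane model. -/

set_option autoImplicit false
set_option linter.style.haveILetI false

namespace Groth.Agent.FF

open FunFld LaurentSeries
open scoped WithZero IntermediateField

universe u v

variable {k : Type u} {K : Type v} [Field k] [IsAlgClosed k] [Field K] [Algebra k K]

omit [IsAlgClosed k] in
/-- With the centre of projection off the curve the second coordinate has no more poles than the first. -/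
lemma v_le_of_monic {g : MvPolynomial (Fin 3) k} {e : ℕ} (hg : g.IsHomogeneous e)
    (hgm : MvPolynomial.aeval ![(0 : k), 0, 1] g ≠ 0) {X Y : K}
    (hgxy : MvPolynomial.aeval ![(1 : K), X, Y] g = 0) (R : Place k K) : R.1 Y ≤ max 1 (R.1 X) := by
  classical
  by_contra h
  rw [not_le, max_lt_iff] at h
  obtain ⟨h1, hX⟩ := h
  have hsum : ∀ m ∈ g.support, m 0 + m 1 + m 2 = e := fun m hm => by
    have := hg (MvPolynomial.mem_support_iff.1 hm)
    rw [Finsupp.weight_apply, Finsupp.sum_fintype _ _ (fun _ => by simp), Fin.sum_univ_three] at this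
    simpa using this
  obtain ⟨m₀, hm₀, h00, h01, h02⟩ : ∃ m₀ ∈ g.support, m₀ 0 = 0 ∧ m₀ 1 = 0 ∧ m₀ 2 = e := by
    by_contra hcon
    push Not at hcon
    refine hgm ?_
    rw [g.as_sum, map_sum]
    refine Finset.sum_eq_zero fun m hm => ?_
    rw [MvPolynomial.aeval_monomial, Finsupp.prod_fintype _ _ (fun i => pow_zero _), Fin.prod_univ_three]
    have := hsum m hm
    rcases (show m 0 ≠ 0 ∨ m 1 ≠ 0 by
      by_contra h2
      push Not at h2
      exact hcon m hm h2.1 h2.2 (by omega)) with h' | h' <;> simp [zero_pow h']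
  have hY0 : Y ≠ 0 := fun h => by rw [h, map_zero] at h1; exact not_lt_zero h1
  set T : (Fin 3 →₀ ℕ) → K := fun m => algebraMap k K (g.coeff m) * (X ^ m 1 * Y ^ m 2)
  have hval : MvPolynomial.aeval ![(1 : K), X, Y] g = ∑ m ∈ g.support, T m := by
    conv_lhs => rw [g.as_sum]
    rw [map_sum]
    refine Finset.sum_congr rfl fun m _ => ?_
    rw [MvPolynomial.aeval_monomial, Finsupp.prod_fintype _ _ (fun i => pow_zero _), Fin.prod_univ_three]
    simp [T]
  have hT0 : R.1 (T m₀) = R.1 Y ^ e := by
    simp only [T, h01, h02, pow_zero, one_mul, map_mul, map_pow]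
    rw [v_algebraMap R (MvPolynomial.mem_support_iff.1 hm₀), one_mul]
  have hlt : R.1 (∑ m ∈ g.support.erase m₀, T m) < R.1 (T m₀) := by
    rw [hT0]
    refine Valuation.map_sum_lt _ (pow_ne_zero _ ((Valuation.ne_zero_iff _).2 hY0)) fun m hm => ?_
    rw [Finset.mem_erase] at hm
    have hs := hsum m hm.2
    simp only [T, map_mul, map_pow]
    refine lt_of_le_of_lt (mul_le_of_le_one_left' (R.2.1 _)) ?_
    rcases Nat.eq_zero_or_pos (m 1) with h' | h'
    · have hlt' : m 2 < e := by
        by_contra h2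
        refine hm.1 (Finsupp.ext fun i => ?_)
        fin_cases i <;> simp <;> omega
      rw [h', pow_zero, one_mul]
      exact pow_lt_pow_right₀ h1 hlt'
    · calc R.1 X ^ m 1 * R.1 Y ^ m 2 < R.1 Y ^ m 1 * R.1 Y ^ m 2 :=
            mul_lt_mul_of_pos_right (pow_lt_pow_left₀ hX zero_le h'.ne') (pow_pos (zero_lt_one.trans h1) _)
        _ = R.1 Y ^ (m 1 + m 2) := (pow_add _ _ _).symm
        _ ≤ R.1 Y ^ e := pow_le_pow_right₀ h1.le (by omega)
  have hv := congrArg R.1 hgxy
  rw [hval, ← Finset.add_sum_erase _ _ hm₀, Valuation.map_add_eq_of_lt_left _ hlt, hT0, map_zero] at hv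
  exact pow_ne_zero _ ((Valuation.ne_zero_iff _).2 hY0) hv

set_option maxHeartbeats 1000000 in
/-- The adjoint condition at an affine point with good projection. -/
theorem affine_spec (hK : IsFunctionField k K) {g : MvPolynomial (Fin 3) k} {e : ℕ} (hg : g.IsHomogeneous e)
    (hgm : MvPolynomial.aeval ![(0 : k), 0, 1] g ≠ 0) {X Y : K} (hXt : Transcendental k X)
    (hgxy : MvPolynomial.aeval ![(1 : K), X, Y] g = 0)
    (hgy : MvPolynomial.aeval ![(1 : K), X, Y] (MvPolynomial.pderiv 2 g) ≠ 0)
    (htop : IntermediateField.adjoin k ({X, Y} : Set K) = ⊤)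
    (hdeg : (mapDiv k ![(1 : K), X, Y]).deg = e)
    (Q : Place k K) (hQX : Q.1 X < 1) (ΦQ : K →ₐ[k] LaurentSeries k) (hΦQ : LocRes.IsExpansionAt Q.1 ΦQ)
    (hv : LocRes.vDiff ΦQ 1 X ≠ 0) :
    0 ≤ Q.ord (MvPolynomial.aeval ![(1 : K), X, Y] (MvPolynomial.pderiv 2 g)) - LocRes.ordDiff ΦQ 1 X ∧
      (Q.ord (MvPolynomial.aeval ![(1 : K), X, Y] (MvPolynomial.pderiv 2 g)) - LocRes.ordDiff ΦQ 1 X = 0 ↔
        ∀ z : K, Q.1 z ≤ 1 → z ∈ fracAt Q (Algebra.adjoin k ({X, Y} : Set K))) := by
  classical
  haveI := finiteDimensional_adjoin hK hXt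
  obtain ⟨hKE, hgen, hgtop⟩ := isFunctionField_adjoin hK hXt
  set E := k⟮X⟯
  set X₀ : E := IntermediateField.AdjoinSimple.gen k X
  obtain ⟨P, hP⟩ := exists_isOver hKE Q
  obtain ⟨e₀, he₀⟩ := id hP
  have hPX : P.1 X₀ < 1 := by
    have h : Q.1 (algebraMap E K X₀) < 1 := hQX
    rw [he₀, pow_lt_one_iff (pos_of_isOverWith he₀).ne'] at h
    exact h
  have hX0 : X₀ ≠ 0 := fun h => hgen (h ▸ isAlgebraic_zero)
  -- `X` is a parameter below
  have hPord : P.1 X₀ = WithZero.exp (-1) := by
    have hd := deg_zeros hKE hgen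
    rw [hgtop, IntermediateField.finrank_top, Nat.cast_one] at hd
    obtain ⟨R, -, hR⟩ := exists_eq_single_of_deg_one hKE (zeros_nonneg X₀) hd
    have hpos := (v_lt_one_iff P hX0).1 hPX
    have h := DFunLike.congr_fun hR P
    rw [zeros_apply hKE, max_eq_left hpos.le, Finsupp.single_apply] at h
    split_ifs at h with h'
    · rw [v_eq_exp P hX0, h]
    · omega
  letI : Algebra P.O K := ((algebraMap E K).comp P.O.subtype).toAlgebra
  haveI : IsScalarTower P.O E K := IsScalarTower.of_algebraMap_eq fun _ => rfl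
  haveI : IsScalarTower k P.O K := IsScalarTower.of_algebraMap_eq fun _ => rfl
  let Xo : P.O := ⟨X₀, hPX.le⟩
  set q : Polynomial P.O := MvPolynomial.aeval ![(1 : Polynomial P.O), Polynomial.C Xo, Polynomial.X] g with hq
  obtain ⟨hqd, hqc⟩ := homog_line hg (R := P.O) Xo
  set c := MvPolynomial.aeval ![(0 : k), 0, 1] g
  have hcomp : ∀ G : MvPolynomial (Fin 3) k,
      Polynomial.aeval Y (MvPolynomial.aeval ![(1 : Polynomial P.O), Polynomial.C Xo, Polynomial.X] G) =
        MvPolynomial.aeval ![(1 : K), X, Y] G := fun G => by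
    change ((Polynomial.aeval Y).restrictScalars k) _ = _
    rw [← AlgHom.comp_apply, MvPolynomial.comp_aeval]
    congr 2
    funext i
    fin_cases i <;> simp
    rfl
  have hqY : Polynomial.aeval Y q = 0 := by rw [hq, hcomp, hgxy]
  have hqY' : Polynomial.aeval Y (Polynomial.derivative q) =
      MvPolynomial.aeval ![(1 : K), X, Y] (MvPolynomial.pderiv 2 g) := by
    rw [← hcomp]
    congr 1
    have h := derivation_mvAeval ((Polynomial.derivative' (R := P.O)).restrictScalars k)
      ![(1 : Polynomial P.O), Polynomial.C Xo, Polynomial.X] g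
    rw [Fin.sum_univ_three] at h
    simpa [Polynomial.derivative'] using h
  have hyi : IsIntegral P.O Y := by
    refine ⟨Polynomial.C (algebraMap k P.O c⁻¹) * q, ?_, ?_⟩
    · refine Polynomial.monic_of_natDegree_le_of_coeff_eq_one e
        ((Polynomial.natDegree_C_mul_le _ _).trans hqd) ?_
      rw [Polynomial.coeff_C_mul, hq, hqc, ← map_mul, inv_mul_cancel₀ hgm, map_one]
    · rw [← Polynomial.aeval_def, map_mul, hqY, mul_zero]
  have hytop : IntermediateField.adjoin E ({Y} : Set K) = ⊤ := by
    rw [← IntermediateField.restrictScalars_eq_top_iff (K := k), eq_top_iff, ← htop,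
      IntermediateField.adjoin_le_iff]
    rintro z (rfl | rfl)
    · exact IntermediateField.algebraMap_mem (IntermediateField.adjoin E ({Y} : Set K)) X₀
    · exact IntermediateField.mem_adjoin_simple_self E z
  have hfin : Module.finrank E K = e := by
    have hmap : mapDiv k ![(1 : K), X, Y] = zeros (k := k) X⁻¹ := by
      ext R
      have hpr := proper_xy (k := k) X Y hK
      rw [zeros_apply hK, ord_inv]
      have hX0' : X ≠ 0 := fun h => hXt (h ▸ isAlgebraic_zero)
      have hYle := v_le_of_monic hg hgm hgxy R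
      rcases le_total (R.1 X) 1 with h | h
      · have hj : IsMax ![(1 : K), X, Y] R 0 := ⟨one_ne_zero, fun i => by
          fin_cases i <;> simp [h]
          simpa [max_eq_left h] using hYle⟩
        have h2 := hpr.2 R 0 hj
        rw [Matrix.cons_val_zero, map_one, ← WithZero.exp_zero, WithZero.exp_inj] at h2
        have := (v_le_one_iff R hX0').1 h
        omega
      · have hj : IsMax ![(1 : K), X, Y] R 1 := ⟨hX0', fun i => by
          fin_cases i <;> simp [h]
          simpa [max_eq_right h] using hYle⟩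
        have h2 := hpr.2 R 1 hj
        rw [Matrix.cons_val_one, Matrix.cons_val_zero, v_eq_exp R hX0', WithZero.exp_inj] at h2
        rw [v_eq_exp R hX0', ← WithZero.exp_zero, WithZero.exp_le_exp] at h
        omega
    rw [hmap, deg_zeros hK (fun h => hXt (by simpa using h.inv)), Nat.cast_inj] at hdeg
    have hE : k⟮X⁻¹⟯ = E := le_antisymm
      (IntermediateField.adjoin_simple_le_iff.2 (inv_mem (IntermediateField.mem_adjoin_simple_self k X)))
      (IntermediateField.adjoin_simple_le_iff.2 (by
        simpa using inv_mem (IntermediateField.mem_adjoin_simple_self k X⁻¹)))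
    rw [← hdeg, hE]
  -- the minimal polynomial
  set mp := minpoly E Y
  set qE := q.map (algebraMap P.O E)
  have hmpdeg : mp.natDegree = e := by
    rw [← IntermediateField.adjoin.finrank (IsIntegral.of_finite E Y), hytop, IntermediateField.finrank_top', hfin]
  have hqE : qE = Polynomial.C (algebraMap k E c) * mp := by
    have hdvd : mp ∣ qE := minpoly.dvd _ _ (by rw [Polynomial.aeval_map_algebraMap, hqY])
    have hcE : qE.coeff e = algebraMap k E c := by rw [Polynomial.coeff_map, hq, hqc]; rfl
    refine (Polynomial.eq_leadingCoeff_mul_of_monic_of_dvd_of_natDegree_le (minpoly.monic (IsIntegral.of_finite E Y))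
      hdvd ?_).trans ?_
    · rw [hmpdeg]; exact Polynomial.natDegree_map_le.trans hqd
    · congr 2
      rw [Polynomial.leadingCoeff, le_antisymm (Polynomial.natDegree_map_le.trans hqd)
        (Polynomial.le_natDegree_of_ne_zero (by rw [hcE]; simpa using hgm)), hcE]
  have hval : MvPolynomial.aeval ![(1 : K), X, Y] (MvPolynomial.pderiv 2 g) =
      algebraMap k K c * Polynomial.aeval Y (Polynomial.derivative mp) := by
    rw [← hqY', ← Polynomial.aeval_map_algebraMap E, ← Polynomial.derivative_map, show q.map (algebraMap P.O E) = qE from rfl,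
      hqE, Polynomial.derivative_C_mul, map_mul, Polynomial.aeval_C, ← IsScalarTower.algebraMap_apply]
  have hmp' : Polynomial.aeval Y (Polynomial.derivative mp) ≠ 0 := fun h => hgy (by rw [hval, h, mul_zero])
  haveI : Algebra.IsSeparable E K := by
    have hsep : IsSeparable E Y := (Polynomial.separable_iff_derivative_ne_zero
      (minpoly.irreducible (IsIntegral.of_finite E Y))).2 fun h => hmp' (by rw [h, map_zero])
    have h1 := (IntermediateField.isSeparable_adjoin_simple_iff_isSeparable (F := E) (E := K)).2 hsep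
    rw [hytop] at h1
    exact Algebra.IsSeparable.of_algHom _ _ (IntermediateField.topEquiv (F := E) (E := K)).symm.toAlgHom
  have hord : Q.ord (MvPolynomial.aeval ![(1 : K), X, Y] (MvPolynomial.pderiv 2 g)) =
      Q.ord (Polynomial.aeval Y (Polynomial.derivative mp)) := by
    rw [hval, ord_mul Q (by simpa using hgm) hmp', ord_algebraMap, zero_add]
  obtain ⟨φ, hφ, -⟩ := exists_expansion_k hKE hPord
  have hvX : Valued.v (LocRes.D k (φ X₀)) = 1 := v_D_unif hφ hPord
  have hx : LocRes.vDiff φ 1 X₀ ≠ 0 := by rw [vDiff_one, hvX]; exact one_ne_zero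
  have hd : LocRes.diffExp φ ΦQ e₀ X₀ = LocRes.ordDiff ΦQ 1 X := by
    rw [LocRes.diffExp, show LocRes.ordDiff φ 1 X₀ = 0 by rw [LocRes.ordDiff, vDiff_one, hvX, WithZero.log_one, neg_zero],
      mul_zero, sub_zero]
    rfl
  have hgE : IsGeometric k E := isGeometric_algClosed hKE
  have hres : ∀ z : K, Q.1 z ≤ 1 → ∃ a : E, P.1 a ≤ 1 ∧ Q.1 (z - algebraMap E K a) < 1 := fun z hz => by
    obtain ⟨a, ha⟩ := exists_const hK Q hz
    exact ⟨algebraMap k E a, P.2.1 a, by rwa [← IsScalarTower.algebraMap_apply]⟩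
  have hle := diffExp_le_ord hKE hgE hφ hΦQ he₀ hx (x := X₀) hv hres hytop hyi
  rw [hd, ← hord] at hle
  -- the two coordinate rings
  set B := Algebra.adjoin k ({X, Y} : Set K)
  set A := Algebra.adjoin P.O ({Y} : Set K)
  have hBA : B ≤ A.restrictScalars k := Algebra.adjoin_le (by
    rintro z (rfl | rfl)
    · exact A.algebraMap_mem Xo
    · exact Algebra.subset_adjoin rfl)
  have hAB : ∀ a ∈ A, a ∈ fracAt Q B := by
    have hXB : X ∈ B := Algebra.subset_adjoin (Set.mem_insert _ _)
    have hO : ∀ a : P.O, algebraMap P.O K a ∈ fracAt Q B := by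
      intro a
      change ((a : E) : K) ∈ fracAt Q B
      have haQ : Q.1 ((a : E) : K) ≤ 1 := (le_one_iff_of_isOver hP _).2 a.2
      obtain ⟨p, r, hpr⟩ := (IntermediateField.mem_adjoin_simple_iff k _).1 (a : E).2
      rcases eq_or_ne r 0 with rfl | hr
      · rw [hpr, map_zero, div_zero]; exact Subalgebra.zero_mem _
      obtain ⟨p', r', d, hrel, hp', hr'⟩ := UniqueFactorizationMonoid.exists_reduced_factors' p r hr
      have hd0 : Polynomial.aeval X d ≠ 0 := fun h => hr (by
        rw [← hr', transcendental_iff.1 hXt d h, zero_mul])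
      rw [← hp', ← hr', map_mul, map_mul, mul_div_mul_left _ _ hd0] at hpr
      have hmemB : ∀ s : Polynomial k, Polynomial.aeval X s ∈ B := fun s => by
        exact (Algebra.adjoin_mono (Set.singleton_subset_iff.2 (Set.mem_insert X {Y}))) (Polynomial.aeval_mem_adjoin_singleton k X)
      have hvs : ∀ s : Polynomial k, s.coeff 0 ≠ 0 → Q.1 (Polynomial.aeval X s) = 1 := fun s hs => by
        have hle1 : ∀ s : Polynomial k, Q.1 (Polynomial.aeval X s) ≤ 1 := fun s => by
          rw [Polynomial.aeval_eq_sum_range]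
          refine Valuation.map_sum_le _ fun i _ => ?_
          rw [Algebra.smul_def, map_mul, map_pow]
          exact mul_le_one' (Q.2.1 _) (pow_le_one' hQX.le _)
        have e1 : Polynomial.aeval X s = Polynomial.aeval X s.divX * X + algebraMap k K (s.coeff 0) := by
          conv_lhs => rw [← s.divX_mul_X_add]
          simp
        rw [e1, Valuation.map_add_eq_of_lt_right, v_algebraMap Q hs]
        rw [v_algebraMap Q hs, map_mul]
        exact lt_of_le_of_lt (mul_le_of_le_one_left' (hle1 _)) hQX
      have hr0 : r'.coeff 0 ≠ 0 := by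
        intro h0
        have hp0 : p'.coeff 0 ≠ 0 := fun h1 => Polynomial.not_isUnit_X
          (hrel (Polynomial.X_dvd_iff.2 h1) (Polynomial.X_dvd_iff.2 h0))
        have hlt : Q.1 (Polynomial.aeval X r') < 1 := by
          conv_lhs => rw [← r'.divX_mul_X_add, h0, map_zero, add_zero, map_mul, Polynomial.aeval_X, map_mul]
          refine lt_of_le_of_lt (mul_le_of_le_one_left' ?_) hQX
          rw [Polynomial.aeval_eq_sum_range]
          refine Valuation.map_sum_le _ fun i _ => ?_
          rw [Algebra.smul_def, map_mul, map_pow]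
          exact mul_le_one' (Q.2.1 _) (pow_le_one' hQX.le _)
        have hr'0 : Polynomial.aeval X r' ≠ 0 := fun h => hr (by rw [← hr', transcendental_iff.1 hXt _ h, mul_zero])
        rw [hpr, map_div₀, hvs p' hp0, one_div] at haQ
        exact absurd haQ (not_le.2 ((one_lt_inv₀ (zero_lt_iff.2 ((Valuation.ne_zero_iff _).2 hr'0))).2 hlt))
      exact hpr ▸ div_mem_fracAt (subset_fracAt _ _ (hmemB p')) (subset_fracAt _ _ (hmemB r')) (hvs r' hr0)
    intro a ha
    induction ha using Algebra.adjoin_induction with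
    | mem z hz => rw [Set.mem_singleton_iff.1 hz]; exact subset_fracAt _ _ (Algebra.subset_adjoin (Set.mem_insert_of_mem _ rfl))
    | algebraMap c => exact hO c
    | add a b _ _ ha hb => exact Subalgebra.add_mem _ ha hb
    | mul a b _ _ ha hb => exact Subalgebra.mul_mem _ ha hb
  refine ⟨by omega, fun h z hz => ?_, fun h => ?_⟩
  · obtain ⟨a, ha, b, hb, hb1, hab⟩ := loc_of_ord_eq hKE hgE hφ hΦQ he₀ hx (x := X₀) hv hres hytop hyi
      (by rw [hd, ← hord]; omega) z hz
    have hb0 : b ≠ 0 := fun h => by rw [h, map_zero] at hb1; exact zero_ne_one hb1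
    rw [show z = a / b by rw [← hab, mul_div_cancel_right₀ _ hb0]]
    exact div_mem_fracAt (hAB a ha) (hAB b hb) hb1
  · have := ord_eq_of_loc hKE hgE hφ hΦQ he₀ hx (x := X₀) hv hres hytop hyi fun z hz => by
      obtain ⟨a, ha, b, hb, hb1, hab⟩ := h z hz
      exact ⟨a, hBA ha, b, hBA hb, hb1, hab⟩
    rw [hd, ← hord] at this
    omega

end Groth.Agent.FF
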