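import Groth.Agent.FF.GenusZero

/-! Chains of linear series with complementary vanishing at the nodes. -/

namespace Groth.Agent.FF

open FunFld

lemma vd_add_le_succ {k K : Type*} [Field k] [IsAlgClosed k] [Field K] [Algebra k K] (hK : IsFunctionField k K)
    {V : Submodule k K} {D : Divisor k K} (hV : V ≤ L D) {P Q : Place k K} (hPQ : P ≠ Q) {m n : ℤ}
    (h : D.deg ≤ m + n) : vd V D P m + vd V D Q n ≤ Module.finrank k V + 1 := by
  have h1 := vd_step hK (V := V) (D := D) P m
  have h2 := vd_add_le hK hV hPQ (m := m + 1) (n := n) (by omega)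
  omega

variable {k : Type*} [Field k] {N : ℕ} {Z : Fin (N + 1) → Type*} [∀ i, Field (Z i)] [∀ i, Algebra k (Z i)]
  {d r : ℕ} {D : ∀ i, Divisor k (Z i)} {V : ∀ i, Submodule k (Z i)} {A B : ∀ i, Place k (Z i)}

/-- Complementary vanishing at every node. -/
def Compat (d r : ℕ) (D : ∀ i, Divisor k (Z i)) (V : ∀ i, Submodule k (Z i)) (A B : ∀ i, Place k (Z i)) : Prop :=
  ∀ (l : Fin N) (m : ℕ), m ≤ d + 1 →
    vd (V l.castSucc) (D l.castSucc) (B l.castSucc) m + vd (V l.succ) (D l.succ) (A l.succ) ((d : ℤ) + 1 - m) = r + 1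

lemma Compat.wsum_eq (h : Compat d r D V A B) (l : Fin N) :
    wsum d (V l.castSucc) (D l.castSucc) (B l.castSucc) + wsum d (V l.succ) (D l.succ) (A l.succ) = (r + 1) * d := by
  rw [wsum, wsum, ← Finset.sum_range_reflect (fun n : ℕ => vd (V l.succ) (D l.succ) (A l.succ) ((n : ℤ) + 1)),
    ← Finset.sum_add_distrib, Finset.sum_congr rfl (g := fun _ => r + 1) fun n hn => ?_]
  · rw [Finset.sum_const, Finset.card_range, smul_eq_mul, mul_comm]
  · rw [Finset.mem_range] at hn
    have h1 := h l (n + 1) (by omega)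
    rw [show ((d : ℤ) + 1 - ((n + 1 : ℕ) : ℤ)) = ((d - 1 - n : ℕ) : ℤ) + 1 by omega, Nat.cast_succ] at h1
    exact h1

variable (h : Compat d r D V A B) (e : Fin (N + 1) → ℕ)
  (hin : ∀ j : Fin (N + 1), 0 < (j : ℕ) → (j : ℕ) < N →
    wsum d (V j) (D j) (A j) + wsum d (V j) (D j) (B j) + e j ≤ (r + 1) * d)

include h hin

lemma chain_ge (h0 : 0 < N → wsum d (V 0) (D 0) (B 0) + e 0 ≤ (r + 1) * d) (l : Fin (N + 1)) :
    0 < (l : ℕ) → ∑ j ∈ Finset.Iio l, e j ≤ wsum d (V l) (D l) (A l) := by
  induction l using Fin.induction with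
  | zero => simp
  | succ j ih =>
    intro _
    have hj := h.wsum_eq j
    have hI : Finset.Iio j.succ = insert j.castSucc (Finset.Iio j.castSucc) := by
      ext x; simp only [Finset.mem_Iio, Finset.mem_insert, Fin.lt_def, Fin.ext_iff, Fin.val_succ, Fin.val_castSucc]
      omega
    rw [hI, Finset.sum_insert (by simp)]
    rcases Nat.eq_zero_or_pos (j : ℕ) with hj0 | hj0
    · have e0 : j.castSucc = 0 := Fin.ext (by simpa using hj0)
      rw [e0] at hj ⊢
      have := h0 (by have := j.isLt; omega)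
      rw [show Finset.Iio (0 : Fin (N + 1)) = ∅ by ext x; simp, Finset.sum_empty]
      omega
    · have := ih (by simpa using hj0)
      have := hin j.castSucc (by simpa using hj0) (by simp)
      omega

lemma chain_ge' (h0 : 0 < N → wsum d (V (Fin.last N)) (D (Fin.last N)) (A (Fin.last N)) + e (Fin.last N) ≤ (r + 1) * d)
    (l : Fin (N + 1)) : (l : ℕ) < N → ∑ j ∈ Finset.Ioi l, e j ≤ wsum d (V l) (D l) (B l) := by
  induction l using Fin.reverseInduction with
  | last => simp
  | cast j ih =>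
    intro _
    have hj := h.wsum_eq j
    have hI : Finset.Ioi j.castSucc = insert j.succ (Finset.Ioi j.succ) := by
      ext x; simp only [Finset.mem_Ioi, Finset.mem_insert, Fin.lt_def, Fin.ext_iff, Fin.val_succ, Fin.val_castSucc]
      omega
    rw [hI, Finset.sum_insert (by simp)]
    rcases Nat.lt_or_ge ((j : ℕ) + 1) N with hj0 | hj0
    · have := ih (by simpa using hj0)
      have := hin j.succ (by simp) (by simpa using hj0)
      omega
    · have e0 : j.succ = Fin.last N := Fin.ext (by have := j.isLt; simp; omega)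
      rw [e0] at hj ⊢
      have := h0 (by have := j.isLt; omega)
      rw [show Finset.Ioi (Fin.last N) = ∅ by ext x; simp [Fin.le_last], Finset.sum_empty]
      omega

omit hin

variable [IsAlgClosed k] [CharZero k] (hZ : ∀ i, IsFunctionField k (Z i)) (hD : ∀ i, (D i).deg = d)
  (hV : ∀ i, V i ≤ L (D i)) (hVr : ∀ i, Module.finrank k ↥(V i) = r + 1)
  (hAB : ∀ i : Fin (N + 1), 0 < (i : ℕ) → (i : ℕ) < N → A i ≠ B i)
  (T : Finset (Fin (N + 1))) (Q : ∀ i, Place k (Z i))
  (hcusp : ∀ i ∈ T, r ≤ vd (V i) (D i) (Q i) 2)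

include hZ hD hV hVr hcusp

omit h in
/-- A second place, a cusp if there is one, with its lower bound. -/
lemma exists_other (i : Fin (N + 1)) (P : Place k (Z i)) (hP : i ∈ T → Q i ≠ P) :
    wsum d (V i) (D i) P + (r * (r + 1) / 2 + if i ∈ T then r else 0) ≤ (r + 1) * d := by
  have key : ∀ R, R ≠ P → wsum d (V i) (D i) P + wsum d (V i) (D i) R ≤ (r + 1) * d := fun R hR => by
    have := wsum_add_le (hZ i) (hV i) (hD i) (Ne.symm hR)
    rwa [hVr i] at this
  split_ifs with hT
  · have h1 := key _ (hP hT)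
    rcases Nat.eq_zero_or_pos r with hr | hr
    · subst hr; simp at *; omega
    · have := wsum_ge_cusp (hZ i) (hD i) hr (hcusp i hT); omega
  · obtain ⟨R, hR⟩ := exists_place_ne (hZ i) P
    have := key R hR
    have := wsum_ge (hZ i) (hV i) (hD i) (hVr i) R
    omega

include hAB

/-- On a chain of rational curves with cusps `T`, the ramification at the nodes. -/
lemma rational_chain_bounds (hrat : ∀ i, genus k (Z i) = 0) (hQA : ∀ i ∈ T, 0 < (i : ℕ) → Q i ≠ A i)
    (hQB : ∀ i ∈ T, (i : ℕ) < N → Q i ≠ B i) (i : Fin (N + 1)) :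
    (0 < (i : ℕ) → r * (r + 1) / 2 + r * (T.filter (· < i)).card ≤ wsum d (V i) (D i) (A i)) ∧
    ((i : ℕ) < N → r * (r + 1) / 2 + r * (T.filter (i < ·)).card ≤ wsum d (V i) (D i) (B i)) := by
  classical
  let e : Fin (N + 1) → ℕ := fun j => (if (j : ℕ) = 0 ∨ (j : ℕ) = N then r * (r + 1) / 2 else 0) + if j ∈ T then r else 0
  have hin : ∀ j : Fin (N + 1), 0 < (j : ℕ) → (j : ℕ) < N →
      wsum d (V j) (D j) (A j) + wsum d (V j) (D j) (B j) + e j ≤ (r + 1) * d := fun j h1 h2 => by
    simp only [e, if_neg (by omega : ¬((j : ℕ) = 0 ∨ (j : ℕ) = N)), zero_add]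
    have hadd := wsum_add_le (hZ j) (hV j) (hD j) (hAB j h1 h2)
    rw [hVr j] at hadd
    split_ifs with hT
    · rcases Nat.eq_zero_or_pos r with hr | hr
      · omega
      have hne1 := hQA j hT h1
      have hne2 := hQB j hT h2
      have hp := plucker (hZ j) (hrat j) (hD j) (hV j) (hVr j) {A j, B j, Q j} ⟨A j, by simp⟩
      rw [Finset.sum_insert (by simp [hAB j h1 h2, hne1.symm]), Finset.sum_pair hne2.symm,
        Finset.card_insert_of_notMem (by simp [hAB j h1 h2, hne1.symm]), Finset.card_pair hne2.symm] at hp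
      have := wsum_ge_cusp (hZ j) (hD j) hr (hcusp j hT)
      have := half_two_mul r
      omega
    · omega
  have hends : ∀ (j : Fin (N + 1)) (P : Place k (Z j)), ((j : ℕ) = 0 ∨ (j : ℕ) = N) → (j ∈ T → Q j ≠ P) →
      wsum d (V j) (D j) P + e j ≤ (r + 1) * d := fun j P hj hP => by
    simp only [e, if_pos hj]; exact exists_other hZ hD hV hVr T Q hcusp j P hP
  have hcard : ∀ S : Finset (Fin (N + 1)), ∑ j ∈ S, (if j ∈ T then r else 0) = r * (T.filter (· ∈ S)).card := fun S => by
    rw [← Finset.sum_filter, Finset.sum_const, smul_eq_mul, mul_comm]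
    congr 2
    ext x; simp [and_comm]
  constructor
  · intro hi
    have h1 := chain_ge h e hin (fun hN => hends 0 _ (Or.inl rfl) fun hT => hQB 0 hT (by simpa using hN)) i hi
    rw [Finset.sum_add_distrib, hcard] at h1
    refine le_trans (add_le_add ?_ (le_of_eq ?_)) h1
    · refine le_of_eq_of_le (by simp) (Finset.single_le_sum
        (f := fun j : Fin (N + 1) => if (j : ℕ) = 0 ∨ (j : ℕ) = N then r * (r + 1) / 2 else 0)
        (fun _ _ => Nat.zero_le _) (Finset.mem_Iio.2 (Fin.lt_def.2 (by simpa using hi) : (0 : Fin (N + 1)) < i)))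
    · congr 2; ext x; simp
  · intro hi
    have h1 := chain_ge' h e hin (fun hN => hends (Fin.last N) _ (Or.inr rfl) fun hT => hQA _ hT (by simpa using hN)) i hi
    rw [Finset.sum_add_distrib, hcard] at h1
    refine le_trans (add_le_add ?_ (le_of_eq ?_)) h1
    · refine le_of_eq_of_le (by simp) (Finset.single_le_sum
        (f := fun j : Fin (N + 1) => if (j : ℕ) = 0 ∨ (j : ℕ) = N then r * (r + 1) / 2 else 0)
        (fun _ _ => Nat.zero_le _) (Finset.mem_Ioi.2 (Fin.lt_def.2 (by simpa using hi) : i < Fin.last N)))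
    · congr 2; ext x; simp

end Groth.Agent.FF
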