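import Mathlib
import Groth.Agent.FF.Sep

/-! The subfield `k K^p` of a geometric function field. -/

set_option autoImplicit false

namespace Groth.Agent.FF

open FunFld
open scoped IntermediateField

universe u v

variable {k : Type u} {K : Type v} [Field k] [Field K] [Algebra k K]

/-- The subfield `k K^p`. -/
abbrev powField (k : Type u) (K : Type v) [Field k] [Field K] [Algebra k K] (p : ℕ) : IntermediateField k K :=
  IntermediateField.adjoin k (Set.range fun y : K => y ^ p)

variable {p : ℕ} [Fact p.Prime] [CharP K p]

lemma pow_mem_powField (y : K) : y ^ p ∈ powField k K p := IntermediateField.subset_adjoin k _ ⟨y, rfl⟩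

lemma D_eq_zero_of_mem_powField {M : Type*} [AddCommGroup M] [Module K M] [Module k M] [IsScalarTower k K M]
    (D : Derivation k K M) {c : K} (hc : c ∈ powField k K p) : D c = 0 := by
  induction hc using IntermediateField.adjoin_induction with
  | mem z hz =>
    obtain ⟨y, rfl⟩ := hz
    change D (y ^ p) = 0
    rw [Derivation.leibniz_pow, ← Nat.cast_smul_eq_nsmul K, CharP.cast_eq_zero, zero_smul]
  | algebraMap z => exact D.map_algebraMap z
  | add a b _ _ ha hb => rw [map_add, ha, hb, add_zero]
  | inv a _ ha => rw [Derivation.leibniz_inv, ha, smul_zero]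
  | mul a b _ _ ha hb => rw [Derivation.leibniz, ha, hb, smul_zero, smul_zero, add_zero]

lemma isPurelyInseparable_powField : IsPurelyInseparable (powField k K p) K := by
  haveI : ExpChar (powField k K p) p := .prime Fact.out
  rw [isPurelyInseparable_iff_pow_mem (powField k K p) p]
  intro y
  exact ⟨1, ⟨y ^ p, pow_mem_powField y⟩, by simp⟩

lemma natDegree_minpoly_powField {x : K} (hx : x ∉ powField k K p) :
    (minpoly (powField k K p) x).natDegree = p := by
  have hp : p.Prime := Fact.out
  let a : powField k K p := ⟨x ^ p, pow_mem_powField x⟩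
  have hm : (Polynomial.X ^ p - Polynomial.C a).Monic := Polynomial.monic_X_pow_sub_C _ hp.ne_zero
  have hi : Irreducible (Polynomial.X ^ p - Polynomial.C a) := by
    refine X_pow_sub_C_irreducible_of_prime hp fun b hb => hx ?_
    have h1 : (b : K) ^ p = x ^ p := congrArg Subtype.val hb
    rw [← (frobenius_inj K p (show frobenius K p (b : K) = frobenius K p x from h1))]
    exact b.2
  rw [← minpoly.eq_of_irreducible_of_monic hi (x := x) (by simp [a]) hm,
    Polynomial.natDegree_X_pow_sub_C]

variable (hK : IsFunctionField k K) (hg : IsGeometric k K)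

include hK hg in
lemma adjoin_powField_eq_top {x : K} (hx : KaehlerDifferential.D k K x ≠ 0) :
    IntermediateField.adjoin (powField k K p) {x} = ⊤ := by
  set E := IntermediateField.adjoin (powField k K p) {x}
  haveI := isSeparable_of_D_ne_zero hK hg hx
  haveI := isPurelyInseparable_powField (k := k) (K := K) (p := p)
  haveI : IsPurelyInseparable E K := IsPurelyInseparable.tower_top (powField k K p) E K
  have hle : k⟮x⟯ ≤ E.restrictScalars k :=
    IntermediateField.adjoin_simple_le_iff.2 (IntermediateField.mem_adjoin_simple_self _ x)
  haveI : Algebra.IsSeparable E K := by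
    refine ⟨fun y => ?_⟩
    let ι : k⟮x⟯ →+* E := (IntermediateField.inclusion hle).toRingHom
    letI := ι.toAlgebra
    haveI : IsScalarTower k⟮x⟯ E K := IsScalarTower.of_algebraMap_eq fun c => rfl
    exact IsSeparable.tower_top E (Algebra.IsSeparable.isSeparable k⟮x⟯ y)
  rw [eq_top_iff]
  intro y _
  obtain ⟨b, rfl⟩ := IsPurelyInseparable.inseparable E y (Algebra.IsSeparable.isSeparable E y)
  exact b.2

include hK hg in
lemma finrank_powField : Module.finrank (powField k K p) K = p := by
  obtain ⟨x, hx, hsep⟩ := exists_separating hK hg
  have hdx := D_ne_zero_of_separating hx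
  have hxF : x ∉ powField k K p := fun h => hdx (D_eq_zero_of_mem_powField _ h)
  rw [← IntermediateField.finrank_top', ← adjoin_powField_eq_top hK hg hdx,
    IntermediateField.adjoin.finrank]
  · exact natDegree_minpoly_powField hxF
  · exact IsIntegral.of_pow (Fact.out : p.Prime).pos
      (isIntegral_algebraMap (x := (⟨x ^ p, pow_mem_powField x⟩ : powField k K p)))

include hK hg in
lemma mem_powField_iff {x : K} : x ∈ powField k K p ↔ KaehlerDifferential.D k K x = 0 := by
  refine ⟨fun h => D_eq_zero_of_mem_powField _ h, fun h => ?_⟩
  by_contra hx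
  obtain ⟨x₀, hx₀, hsep⟩ := exists_separating hK hg
  refine D_ne_zero_of_separating hx₀ ?_
  have htop : IntermediateField.adjoin (powField k K p) {x} = ⊤ := by
    haveI : FiniteDimensional (powField k K p) K :=
      Module.finite_of_finrank_pos (by rw [finrank_powField hK hg]; exact (Fact.out : p.Prime).pos)
    refine IntermediateField.eq_of_le_of_finrank_le le_top ?_
    rw [IntermediateField.finrank_top', finrank_powField hK hg, IntermediateField.adjoin.finrank
      (IsIntegral.of_finite _ _), natDegree_minpoly_powField hx]
  have hmem : x₀ ∈ IntermediateField.adjoin (powField k K p) {x} := htop ▸ trivial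
  clear hx₀ hsep
  induction hmem using IntermediateField.adjoin_induction with
  | mem z hz => rw [Set.mem_singleton_iff.1 hz]; exact h
  | algebraMap z => exact D_eq_zero_of_mem_powField _ z.2
  | add a b _ _ ha hb => rw [map_add, ha, hb, add_zero]
  | inv a _ ha => rw [Derivation.leibniz_inv, ha, smul_zero]
  | mul a b _ _ ha hb => rw [Derivation.leibniz, ha, hb, smul_zero, smul_zero, add_zero]

end Groth.Agent.FF
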