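import Mathlib
import Groth.Agent.FF.WDivisor

/-! Classicality of order sequences in small degree. -/

set_option autoImplicit false

namespace Groth.Agent.FF

open FunFld
open scoped WithZero

universe u v

section binom

variable {k : Type u} [Field k] {n : ℕ}

/-- Vandermonde with falling factorials. -/
lemma det_descFactorial (v : Fin n → k) :
    (Matrix.of fun r s : Fin n => (descPochhammer k (s : ℕ)).eval (v r)).det = (Matrix.vandermonde v).det :=
  (Matrix.det_eval_matrixOfPolynomials_eq_det_vandermonde v (fun s => descPochhammer k (s : ℕ))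
    (fun s => descPochhammer_natDegree k s) (fun s => monic_descPochhammer k s)).symm

/-- The natural numbers below the characteristic are distinct in `k`. -/
lemma natCast_inj_of_lt {a b B : ℕ} (hB : ringChar k = 0 ∨ B < ringChar k) (ha : a ≤ B) (hb : b ≤ B)
    (h : (a : k) = b) : a = b := by
  rcases hB with h0 | hlt
  · haveI : CharP k 0 := h0 ▸ ringChar.charP k
    haveI := CharP.charP_to_charZero k
    exact_mod_cast h
  · exact Nat.ModEq.eq_of_lt_of_lt ((CharP.natCast_eq_natCast k (ringChar k)).1 h) (by omega) (by omega)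

/-- The binomial determinant at `0, 1, …, n - 1`. -/
lemma det_binomMat_range {J' : Fin n → ℕ} (hJ' : StrictMono J') {B : ℕ} (hle : ∀ l, J' l ≤ B)
    (hB : ringChar k = 0 ∨ B < ringChar k) : (binomMat k J' fun l : Fin n => (l : ℕ)).det ≠ 0 := by
  intro h
  have e : (Matrix.of fun r s : Fin n => (descPochhammer k (s : ℕ)).eval (J' r : k)) =
      binomMat k J' (fun l : Fin n => (l : ℕ)) * Matrix.diagonal (fun s : Fin n => ((s : ℕ).factorial : k)) := by
    ext r s
    rw [Matrix.mul_diagonal, Matrix.of_apply, binomMat, Matrix.of_apply, descPochhammer_eval_eq_descFactorial,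
      ← Nat.cast_mul, mul_comm, ← Nat.descFactorial_eq_factorial_mul_choose]
  have h2 := congrArg Matrix.det e
  rw [det_descFactorial, Matrix.det_mul, h, zero_mul] at h2
  refine Matrix.det_vandermonde_ne_zero_iff.2 (fun a b hab => hJ'.injective ?_) h2
  exact natCast_inj_of_lt hB (hle a) (hle b) hab

/-- The binomial determinant at `1, …, n`. -/
lemma det_binomMat_succ {J' : Fin n → ℕ} (hJ' : StrictMono J') (hpos : ∀ l, 1 ≤ J' l) {B : ℕ} (hle : ∀ l, J' l ≤ B)
    (hB : ringChar k = 0 ∨ B < ringChar k) : (binomMat k J' fun l : Fin n => (l : ℕ) + 1).det ≠ 0 := by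
  intro h
  let v : Fin n → k := fun r => ((J' r - 1 : ℕ) : k)
  have e : Matrix.diagonal (fun r : Fin n => (J' r : k)) *
      (Matrix.of fun r s : Fin n => (descPochhammer k (s : ℕ)).eval (v r)) =
      binomMat k J' (fun l : Fin n => (l : ℕ) + 1) *
        Matrix.diagonal (fun s : Fin n => (((s : ℕ) + 1).factorial : k)) := by
    ext r s
    obtain ⟨j, hj⟩ : ∃ j, J' r = j + 1 := ⟨J' r - 1, by have := hpos r; omega⟩
    rw [Matrix.mul_diagonal, Matrix.diagonal_mul, Matrix.of_apply, binomMat, Matrix.of_apply,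
      descPochhammer_eval_eq_descFactorial, ← Nat.cast_mul, ← Nat.cast_mul, hj, Nat.add_sub_cancel,
      ← Nat.succ_descFactorial_succ, mul_comm _ (Nat.factorial _), ← Nat.descFactorial_eq_factorial_mul_choose]
  have h2 := congrArg Matrix.det e
  rw [Matrix.det_mul, Matrix.det_mul, h, zero_mul, det_descFactorial, Matrix.det_diagonal, mul_eq_zero,
    Finset.prod_eq_zero_iff] at h2
  rcases h2 with ⟨r, -, hr⟩ | h2
  · have := natCast_inj_of_lt (k := k) (a := J' r) (b := 0) hB (hle r) (Nat.zero_le _) (by rw [hr, Nat.cast_zero])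
    have := hpos r
    omega
  · refine Matrix.det_vandermonde_ne_zero_iff.2 (fun a b hab => hJ'.injective ?_) h2
    have := hpos a
    have := hpos b
    have := natCast_inj_of_lt hB (show J' a - 1 ≤ B by have := hle a; omega) (show J' b - 1 ≤ B by have := hle b; omega) hab
    omega

lemma le_of_strictMono {J : Fin n → ℕ} (hJ : StrictMono J) {c : ℕ} (hc : ∀ l, c ≤ J l) (l : Fin n) :
    (l : ℕ) + c ≤ J l := by
  obtain ⟨l, hl⟩ := l
  induction l with
  | zero => simpa using hc _
  | succ l ih =>
    have h1 := ih (by omega)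
    have h2 := hJ (show (⟨l, by omega⟩ : Fin n) < ⟨l + 1, hl⟩ from Nat.lt_succ_self l)
    simp only at h1 ⊢
    omega

end binom

variable {k : Type u} {K : Type v} [Field k] [IsAlgClosed k] [Field K] [Algebra k K] {n : ℕ}
  (hK : IsFunctionField k K)

include hK

/-- Orders at a place are at most the degree of the map. -/
lemma orders_at_le_deg {P : Place k K} {φ : Fin (n + 1) → K} (hφ : LinearIndependent k φ)
    (heff : (1 : K) ∈ Submodule.span k (Set.range φ)) (hnorm : ∀ i, P.1 (φ i) ≤ 1)
    {t : K} (ht : P.1 t = WithZero.exp (-1)) {Ht : K →ₐ[k] PowerSeries K} (hHt : LocRes.IsHasseFamily t Ht)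
    {J' : Fin n → ℕ} (hJ' : IsOrders (IsLocalRing.ResidueField P.O) (hcolAt P Ht φ) J') (l : Fin n) :
    (J' l : ℤ) ≤ (mapDiv k φ).deg := by
  obtain ⟨-, f, hf, hv⟩ := (isJump_at_iff hK hnorm ht hHt (J' l)).1 ((hJ'.2 (J' l)).1 ⟨l, rfl⟩)
  have hf0 : f ≠ 0 := fun h => WithZero.exp_ne_zero (hv.symm.trans (by rw [h, map_zero]))
  have hle := le_add_div_of_mem_L hK hf0 (span_le_L_mapDiv hK hφ.ne_zero hf)
  have h1 : Finsupp.single P (J' l : ℤ) ≤ mapDiv k φ + div k f := fun Q => by
    rcases eq_or_ne Q P with rfl | hQ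
    · rw [Finsupp.single_eq_same, Finsupp.add_apply, mapDiv_eq_zero_of_normalized hK hφ.ne_zero heff hnorm,
        div_apply hK, (ord_eq_iff Q hf0).2 hv, zero_add]
    · rw [Finsupp.single_eq_of_ne hQ]; exact hle Q
  have h2 := deg_mono h1
  rw [deg_single_ac hK, deg_add, deg_div hK, add_zero] at h2
  exact h2

end Groth.Agent.FF
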