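import Mathlib
import Groth.Prelude.Def_LocRes
import Groth.Agent.FF.LocalTrace
import Groth.Agent.FF.Residue

/-! Residues in an extension of complete fields. -/

set_option autoImplicit false
set_option linter.style.haveILetI false

namespace Groth.Agent.FF

open LaurentSeries HahnSeries
open scoped WithZero

universe u v

section approx

variable {k : Type*} {E : Type*} {L : Type*} [CommRing k] [Field E] [Algebra k E] [Field L] [Algebra k L]
  {w : Valuation E (WithZero (Multiplicative ℤ))} {ψ : E →ₐ[k] L⸨X⸩} (hψ : LocRes.IsExpansionAt w ψ)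

include hψ in
/-- The image of an expansion is dense. -/
theorem exists_approx (s : L⸨X⸩) (N : ℕ) : ∃ z : E, ∀ d : ℤ, d < (N : ℤ) → (ψ z - s).coeff d = 0 := by
  obtain ⟨t, ht⟩ := hψ.2.2
  have hlead : ∀ (n : ℤ) (a : L), ∃ y : E, (ψ y).coeff n = a ∧ ∀ m < n, (ψ y).coeff m = 0 := by
    intro n a
    have hv : Valued.v (ψ (t ^ n)) = WithZero.exp (-n) := by
      rw [hψ.1, map_zpow₀, ht, ← WithZero.exp_zsmul, zsmul_eq_mul, mul_neg, mul_one, Int.cast_id]
    have hn0 : ψ (t ^ n) ≠ 0 := fun h => by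
      rw [h, map_zero] at hv; exact WithZero.exp_ne_zero hv.symm
    obtain ⟨c, hc, hfu, hcv⟩ := exists_eq_single_mul hn0
    have ho : (ψ (t ^ n)).order = n := by
      rw [hcv, WithZero.exp_inj] at hv; omega
    rw [ho] at hfu
    obtain ⟨z, hz, hza⟩ := hψ.2.1 (a / PowerSeries.constantCoeff c)
    obtain ⟨G, hG⟩ := (LaurentSeries.val_le_one_iff_eq_coe L (ψ z)).1 (by rw [hψ.1]; exact hz)
    refine ⟨z * t ^ n, ?_, fun m hm => ?_⟩
    · rw [map_mul, hfu, ← hG, ← mul_assoc, mul_comm (G : L⸨X⸩), mul_assoc, ← PowerSeries.coe_mul, coeff_single_mul,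
        PowerSeries.coeff_coe, sub_self, if_neg (lt_irrefl 0), one_mul]
      rw [← hG, PowerSeries.coeff_coe, if_neg (lt_irrefl 0)] at hza
      simp only [Int.natAbs_zero, PowerSeries.coeff_zero_eq_constantCoeff] at hza ⊢
      rw [map_mul, hza, div_mul_cancel₀ _ hc]
    · rw [map_mul, hfu, ← hG, ← mul_assoc, mul_comm (G : L⸨X⸩), mul_assoc, ← PowerSeries.coe_mul, coeff_single_mul,
        PowerSeries.coeff_coe, if_pos (by omega), mul_zero]
  suffices H : ∀ (M : ℕ) (s : L⸨X⸩), (∀ d : ℤ, d < (N : ℤ) - M → s.coeff d = 0) →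
      ∃ z : E, ∀ d : ℤ, d < (N : ℤ) → (ψ z - s).coeff d = 0 by
    exact H (N + s.order.natAbs) s fun d hd =>
      HahnSeries.coeff_eq_zero_of_lt_order (by push_cast at hd; have := neg_abs_le s.order; omega)
  intro M
  induction M with
  | zero =>
    exact fun s hs => ⟨0, fun d hd => by
      rw [map_zero, zero_sub, HahnSeries.coeff_neg, hs d (by push_cast; omega), neg_zero]⟩
  | succ M ih =>
    intro s hs
    obtain ⟨z₀, hz₀, hz₀'⟩ := hlead ((N : ℤ) - (M + 1)) (s.coeff ((N : ℤ) - (M + 1)))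
    obtain ⟨z₁, hz₁⟩ := ih (s - ψ z₀) fun d hd => by
      rw [HahnSeries.coeff_sub]
      rcases lt_or_eq_of_le (show d ≤ (N : ℤ) - (M + 1) by omega) with h | rfl
      · rw [hs d (by push_cast; omega), hz₀' d h, sub_zero]
      · rw [hz₀, sub_self]
    refine ⟨z₁ + z₀, fun d hd => ?_⟩
    have := hz₁ d hd
    rw [sub_sub_eq_add_sub, ← map_add] at this
    exact this

end approx

variable {K L : Type u} {F E : Type v} [Field K] [Field L] [Field F] [Field E] [Algebra K F] [Algebra F E]
  [Algebra K E] [IsScalarTower K F E] [Algebra K L] [Algebra L E] [IsScalarTower K L E] [FiniteDimensional K L]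
  {vF : Valuation F (WithZero (Multiplicative ℤ))} {vE : Valuation E (WithZero (Multiplicative ℤ))}
  [vF.HasExtension vE] {φ : F →ₐ[K] K⸨X⸩} (hφ : LocRes.IsExpansionAt vF φ) (hφs : Function.Surjective φ)
  {ψ : E →ₐ[L] L⸨X⸩} (hψ : LocRes.IsExpansionAt vE ψ)

include hφ hφs hψ in
/-- The trace formula for residues over a complete field. -/
theorem resExp_trace (x : F) (y : E) :
    Algebra.trace K L (LocRes.resExp ψ y (algebraMap F E x)) = LocRes.resExp φ (Algebra.trace F E y) x := by
  classical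
  let e : F ≃+* K⸨X⸩ := RingEquiv.ofBijective φ ⟨φ.toRingHom.injective, hφs⟩
  let θ : K⸨X⸩ →+* L⸨X⸩ := (ψ.toRingHom.comp (algebraMap F E)).comp e.symm.toRingHom
  have hθ : ∀ z : F, θ (φ z) = ψ (algebraMap F E z) := fun z =>
    congrArg (fun z => ψ (algebraMap F E z)) (e.symm_apply_apply z)
  have hval : ∀ g : K⸨X⸩, (Valued.v g ≤ 1 → Valued.v (θ g) ≤ 1) ∧ (Valued.v g < 1 → Valued.v (θ g) < 1) := by
    intro g
    obtain ⟨z, rfl⟩ := hφs g
    rw [hθ, hψ.1, hφ.1, Valuation.HasExtension.val_map_le_one_iff vF vE,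
      Valuation.HasExtension.val_map_lt_one_iff vF vE]
    exact ⟨id, id⟩
  obtain ⟨u, hu'⟩ := (LaurentSeries.val_le_one_iff_eq_coe L (θ (single (1 : ℤ) (1 : K)))).1
    ((hval _).1 (by rw [LaurentSeries.valuation_single_zpow, ← WithZero.exp_zero, WithZero.exp_le_exp]; omega))
  have hu : PowerSeries.constantCoeff u = 0 := by
    have h := (v_lt_one_iff_coeff (f := θ (single (1 : ℤ) (1 : K)))).1
      ((hval _).2 (by rw [LaurentSeries.valuation_single_zpow, ← WithZero.exp_zero, WithZero.exp_lt_exp]; omega))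
      0 le_rfl
    rw [← hu', PowerSeries.coeff_coe] at h
    simpa using h
  have hu0 : u ≠ 0 := fun h => by
    rw [h, map_zero, eq_comm, map_eq_zero] at hu'
    exact one_ne_zero ((HahnSeries.single_eq_zero_iff).1 hu')
  have hC : ∀ a : K, θ (HahnSeries.C a) = HahnSeries.C (algebraMap K L a) := by
    intro a
    have h := LocRes.map_algebraMap φ a
    rw [Algebra.algebraMap_self, RingHom.id_apply] at h
    rw [← h, hθ, ← IsScalarTower.algebraMap_apply K F E,
      IsScalarTower.algebraMap_apply K L E, LocRes.map_algebraMap]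
    rfl
  have hθsub : θ = sub (algebraMap K L) u hu hu0 := by
    refine IsFractionRing.ringHom_ext (A := PowerSeries K) fun G => ?_
    change θ (G : K⸨X⸩) = sub (algebraMap K L) u hu hu0 (G : K⸨X⸩)
    rw [sub_coe]
    obtain ⟨G', hG'⟩ := (LaurentSeries.val_le_one_iff_eq_coe L (θ (G : K⸨X⸩))).1
      ((hval _).1 ((LaurentSeries.val_le_one_iff_eq_coe K _).2 ⟨G, rfl⟩))
    rw [← hG']
    congr 1
    refine eq_of_forall_X_pow_dvd fun N => ?_
    obtain ⟨H, hH⟩ : ∃ H : PowerSeries K, G - (PowerSeries.trunc N G : PowerSeries K) = PowerSeries.X ^ N * H := by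
      refine dvd_iff_exists_eq_mul_right.1 (PowerSeries.X_pow_dvd_iff.2 fun d hd => ?_)
      rw [map_sub, Polynomial.coeff_coe, PowerSeries.coeff_trunc, if_pos hd, sub_self]
    obtain ⟨H', hH'⟩ := (LaurentSeries.val_le_one_iff_eq_coe L (θ (H : K⸨X⸩))).1
      ((hval _).1 ((LaurentSeries.val_le_one_iff_eq_coe K _).2 ⟨H, rfl⟩))
    have h1 : G' - ∑ j ∈ Finset.range N, PowerSeries.C (algebraMap K L (PowerSeries.coeff j G)) * u ^ j =
        u ^ N * H' := by
      apply HahnSeries.ofPowerSeries_injective (Γ := ℤ) (R := L)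
      have e1 : ((PowerSeries.trunc N G : PowerSeries K) : K⸨X⸩) =
          ∑ j ∈ Finset.range N, HahnSeries.C (PowerSeries.coeff j G) * (single (1 : ℤ) (1 : K)) ^ j := by
        rw [show (PowerSeries.trunc N G : PowerSeries K) =
            ∑ j ∈ Finset.range N, PowerSeries.C (PowerSeries.coeff j G) * PowerSeries.X ^ j from ?_, map_sum]
        · exact Finset.sum_congr rfl fun j _ => by
            rw [PowerSeries.coe_mul, PowerSeries.coe_pow, HahnSeries.ofPowerSeries_X, HahnSeries.ofPowerSeries_C]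
        ext d
        rw [Polynomial.coeff_coe, PowerSeries.coeff_trunc, map_sum]
        simp [PowerSeries.coeff_X_pow]
      have e2 : (G : K⸨X⸩) = (∑ j ∈ Finset.range N, HahnSeries.C (PowerSeries.coeff j G) * (single (1 : ℤ) (1 : K)) ^ j) +
          (single (1 : ℤ) (1 : K)) ^ N * (H : K⸨X⸩) := by
        rw [← e1, ← HahnSeries.ofPowerSeries_X, ← PowerSeries.coe_pow, ← PowerSeries.coe_mul, ← hH, map_sub]
        ring
      rw [map_sub, hG', map_sum, PowerSeries.coe_mul, PowerSeries.coe_pow, hH', e2, map_add, map_sum, map_mul,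
        map_pow, ← hu', add_sub_right_comm]
      rw [sub_eq_zero.2 (Finset.sum_congr rfl fun j _ => ?_), zero_add]
      rw [map_mul, map_pow, hC, ← hu', PowerSeries.coe_mul, PowerSeries.coe_pow, HahnSeries.ofPowerSeries_C]
    have h2 := X_pow_dvd_subPS_sub (algebraMap K L) u hu N G
    have h3 : PowerSeries.X ^ N ∣ G' - ∑ j ∈ Finset.range N,
        PowerSeries.C (algebraMap K L (PowerSeries.coeff j G)) * u ^ j := by
      rw [h1]; exact dvd_mul_of_dvd_left (X_pow_dvd_u_pow u hu N) _
    have h4 := dvd_sub h3 h2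
    rwa [sub_sub_sub_cancel_right] at h4
  letI := upAlg' (F := K) u hu hu0
  obtain ⟨B, hB⟩ := exists_small_basis (F := K) u hu hu0
  haveI : Module.Finite K⸨X⸩ (Up L) := Module.Finite.of_basis B
  choose ω hω using fun j => exists_approx hψ (upEquiv.symm (B j)) (eOf u)
  let Ψ : E →+* Up L := (upEquiv (L := L)).toRingHom.comp ψ.toRingHom
  have hΨ : ∀ g : K⸨X⸩, algebraMap K⸨X⸩ (Up L) g = Ψ (algebraMap F E (e.symm g)) := fun g => by
    change upEquiv (sub (algebraMap K L) u hu hu0 g) = upEquiv (θ g)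
    rw [hθsub]
  have hM : (B.toMatrix fun j => Ψ (ω j)).det ≠ 0 := by
    refine det_ne_zero_of_small _ fun a b => ?_
    have hab : B.toMatrix (fun j => Ψ (ω j)) a b - (if a = b then 1 else 0) =
        B.repr (upEquiv (ψ (ω b) - upEquiv.symm (B b))) a := by
      rw [map_sub, RingEquiv.apply_symm_apply, map_sub, Finsupp.sub_apply, Module.Basis.toMatrix_apply,
        Module.Basis.repr_self, Finsupp.single_apply]
      simp only [eq_comm]
      rfl
    rw [hab]
    exact hB _ (hω b) a
  have hbij : Function.Bijective Ψ := by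
    refine ⟨Ψ.injective, fun z => ?_⟩
    have hspan : Submodule.span K⸨X⸩ (Set.range fun j => Ψ (ω j)) = ⊤ :=
      (Module.Basis.is_basis_iff_det B).2 (isUnit_iff_ne_zero.2 (by rw [Module.Basis.det_apply]; exact hM)) |>.2
    have hz : z ∈ Submodule.span K⸨X⸩ (Set.range fun j => Ψ (ω j)) := hspan ▸ Submodule.mem_top
    rw [Submodule.mem_span_range_iff_exists_fun] at hz
    obtain ⟨c, rfl⟩ := hz
    refine ⟨∑ j, algebraMap F E (e.symm (c j)) * ω j, ?_⟩
    rw [map_sum]
    exact Finset.sum_congr rfl fun j _ => by rw [map_mul, Algebra.smul_def, hΨ]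
  have htr : φ (Algebra.trace F E y) = trSub (F := K) u hu hu0 (ψ y) := by
    have he : RingHom.comp (algebraMap K⸨X⸩ (Up L)) (e : F →+* K⸨X⸩) =
        RingHom.comp (RingEquiv.ofBijective Ψ hbij : E →+* Up L) (algebraMap F E) := by
      refine RingHom.ext fun z => ?_
      change algebraMap K⸨X⸩ (Up L) (e z) = Ψ (algebraMap F E z)
      rw [hΨ, RingEquiv.symm_apply_apply]
    rw [Algebra.trace_eq_of_equiv_equiv e (RingEquiv.ofBijective Ψ hbij) he y]
    exact e.apply_symm_apply _
  simp only [LocRes.resExp, LocRes.res_apply]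
  rw [htr, ← hθ, hθsub, res_pullback]

end Groth.Agent.FF
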