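import Groth.Agent.FF.Ext

/-! Algebraic constant extensions, possibly infinite: `K' = k' ⊗ K`. -/

set_option autoImplicit false
set_option linter.style.haveILetI false

namespace Groth.Agent.FF

open FunFld
open scoped WithZero TensorProduct IntermediateField

universe u u' v v'

variable {k : Type u} {k' : Type u'} {K : Type v} {K' : Type v'} [Field k] [Field k'] [Field K] [Field K']
  [Algebra k k'] [Algebra.IsAlgebraic k k'] [Algebra k K] [Algebra K K'] [Algebra k' K'] [Algebra k K']
  [IsScalarTower k k' K'] [IsScalarTower k K K']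
  (h : Function.Bijective (Algebra.TensorProduct.productMap
      (IsScalarTower.toAlgHom k k' K') (IsScalarTower.toAlgHom k K K')))

include h

omit [Algebra.IsAlgebraic k k'] in
/-- A basis of `K` over `k` is one of `K'` over `k'`. -/
lemma exists_extBasis {ι : Type*} (b : Module.Basis ι k K) :
    ∃ b' : Module.Basis ι k' K', ∀ i, b' i = algebraMap K K' (b i) := by
  let g : k' ⊗[k] K →ₐ[k'] K' :=
    Algebra.TensorProduct.lift (Algebra.ofId k' K') (IsScalarTower.toAlgHom k K K') fun _ _ => Commute.all _ _
  have hg : (g : k' ⊗[k] K → K') = Algebra.TensorProduct.productMap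
      (IsScalarTower.toAlgHom k k' K') (IsScalarTower.toAlgHom k K K') := funext fun z => by
    induction z using TensorProduct.induction_on with
    | zero => simp
    | tmul a c => simp [g]
    | add a c ha hc => rw [map_add, map_add, ha, hc]
  have hbij : Function.Bijective g := hg ▸ h
  refine ⟨(b.baseChange k').map (LinearEquiv.ofBijective g.toLinearMap hbij), fun i => ?_⟩
  rw [Module.Basis.map_apply, Module.Basis.baseChange_apply]
  show g ((1 : k') ⊗ₜ[k] b i) = _
  simp [g]

omit [Algebra.IsAlgebraic k k'] in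
/-- Every element needs finitely many constants. -/
lemma exists_finset_mem_adjoin (z : K') :
    ∃ S : Finset k', z ∈ Algebra.adjoin K (algebraMap k' K' '' (S : Set k')) := by
  classical
  obtain ⟨b', hb'⟩ := exists_extBasis h (Module.Free.chooseBasis k K)
  refine ⟨(b'.repr z).support.image (b'.repr z), ?_⟩
  suffices ∑ i ∈ (b'.repr z).support, b'.repr z i • b' i ∈
      Algebra.adjoin K (algebraMap k' K' '' (((b'.repr z).support.image (b'.repr z) : Finset k') : Set k')) by
    convert this using 1
    conv_lhs => rw [← b'.linearCombination_repr z, Finsupp.linearCombination_apply]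
    rfl
  refine Subalgebra.sum_mem _ fun i hi => ?_
  rw [Algebra.smul_def, hb']
  refine Subalgebra.mul_mem _ (Algebra.subset_adjoin ⟨b'.repr z i, ?_, ?_⟩) (Subalgebra.algebraMap_mem _ _)
  · rw [Finset.mem_coe, Finset.mem_image]
    exact ⟨i, hi, rfl⟩
  · rfl

omit h in
lemma adjoin_image_le_of_subset {k₀ : IntermediateField k k'} {S : Set k'} (hS : S ⊆ k₀) :
    Algebra.adjoin K (algebraMap k' K' '' S) ≤
      Algebra.adjoin K (Set.range fun c : k₀ => algebraMap k' K' c) :=
  Algebra.adjoin_mono (by rintro _ ⟨c, hc, rfl⟩; exact ⟨⟨c, hS hc⟩, rfl⟩)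

/-- A transcendental element stays transcendental, and `K'` is finite over `k'(x)`. -/
lemma finite_adjoin_bar {x : K} (hx : Transcendental k x)
    [FiniteDimensional k⟮x⟯ K] :
    Transcendental k' (algebraMap K K' x) ∧ FiniteDimensional k'⟮algebraMap K K' x⟯ K' := by
  classical
  refine ⟨fun hal => hx ((isAlgebraic_algebraMap_iff (algebraMap K K').injective).1 (hal.restrictScalars k)), ?_⟩
  obtain ⟨b', hb'⟩ := exists_extBasis h (Module.Free.chooseBasis k K)
  let c := Module.finBasis k⟮x⟯ K
  let M := Submodule.span k'⟮algebraMap K K' x⟯ (Set.range fun i => algebraMap K K' (c i))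
  have hK : ∀ w : K, algebraMap K K' w ∈ M := fun w => by
    rw [← c.sum_repr w, map_sum]
    refine Submodule.sum_mem _ fun i _ => ?_
    rw [Algebra.smul_def, map_mul]
    have hmem : algebraMap K K' (c.repr w i : K) ∈ k'⟮algebraMap K K' x⟯ := by
      have hle : k⟮x⟯ ≤ ((k'⟮algebraMap K K' x⟯).restrictScalars k).comap (IsScalarTower.toAlgHom k K K') :=
        IntermediateField.adjoin_simple_le_iff.2 (IntermediateField.mem_adjoin_simple_self k' (algebraMap K K' x))
      exact hle (c.repr w i).2
    exact Submodule.smul_mem M (⟨_, hmem⟩ : k'⟮algebraMap K K' x⟯) (Submodule.subset_span ⟨i, rfl⟩)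
  refine Module.Finite.of_surjective
    (Fintype.linearCombination k'⟮algebraMap K K' x⟯ fun i => algebraMap K K' (c i)) fun z => ?_
  have hz : z ∈ M := by
    rw [← b'.linearCombination_repr z, Finsupp.linearCombination_apply, Finsupp.sum]
    refine Submodule.sum_mem _ fun i _ => ?_
    rw [Algebra.smul_def, IsScalarTower.algebraMap_apply k' k'⟮algebraMap K K' x⟯ K', ← Algebra.smul_def, hb']
    exact Submodule.smul_mem _ _ (hK _)
  simp only [M] at hz
  rw [← Fintype.range_linearCombination] at hz
  exact hz

/-- The constant extension to an algebraically closed field. -/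
lemma isFunctionField_bar [IsAlgClosed k'] (hK : IsFunctionField k K) : IsFunctionField k' K' := by
  obtain ⟨⟨x, hx, hfin⟩, -⟩ := id hK
  haveI := hfin
  obtain ⟨ht, hf⟩ := finite_adjoin_bar h hx
  refine ⟨⟨_, ht, hf⟩, fun y hy => ?_⟩
  exact minpoly.mem_range_of_degree_eq_one k' y
    (IsAlgClosed.degree_eq_one_of_irreducible k' (minpoly.irreducible hy.isIntegral))

/-- A place is defined by finitely many constants. -/
lemma exists_def_finset [IsAlgClosed k'] (hK : IsFunctionField k K) (Q : Place k' K') :
    ∃ S : Finset k', (∃ t ∈ Algebra.adjoin K (algebraMap k' K' '' (S : Set k')), Q.1 t = WithZero.exp (-1)) ∧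
      ∃ z ∈ Algebra.adjoin K (algebraMap k' K' '' (S : Set k')), Q.1 z < 1 ∧
        ∀ R : Place k' K', R.1 z < 1 → R = Q := by
  classical
  have hK' := isFunctionField_bar h hK
  obtain ⟨t, ht⟩ := Q.2.2 (WithZero.exp (-1 : ℤ))
  obtain ⟨z, n, hn, hz, hzeros⟩ := exists_zeros_eq_single hK' Q
  have hz0 : z ≠ 0 := fun h0 => hz (h0 ▸ isAlgebraic_zero)
  obtain ⟨S, hS⟩ := exists_finset_mem_adjoin h t
  obtain ⟨T, hT⟩ := exists_finset_mem_adjoin h z
  refine ⟨S ∪ T, ⟨t, Algebra.adjoin_mono (Set.image_mono (by simp)) hS, ht⟩,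
    z, Algebra.adjoin_mono (Set.image_mono (by simp)) hT, ?_, fun R hR => ?_⟩
  · rw [v_lt_one_iff Q hz0]
    have h1 := congrArg (fun D : Divisor k' K' => D Q) hzeros
    simp only [zeros_apply hK', Finsupp.single_eq_same] at h1
    omega
  · by_contra hne
    have h1 := congrArg (fun D : Divisor k' K' => D R) hzeros
    simp only [zeros_apply hK', Finsupp.single_eq_of_ne hne] at h1
    rw [v_lt_one_iff R hz0] at hR
    omega

end Groth.Agent.FF
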