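import Mathlib
import Groth.Agent.FF.LocalRings
import Groth.Agent.FF.GaloisPlaces

/-! A basis of the elements integral above a place (no separability needed). -/

set_option autoImplicit false
set_option linter.style.haveILetI false

namespace Groth.Agent.FF

attribute [local instance high] FunFld.Place.algRes
attribute [-instance] IsLocalRing.instModuleResidueFieldOfAlgebra

open FunFld
open scoped WithZero

universe u v v'

variable {k : Type u} {K : Type v} {K' : Type v'} [Field k] [Field K] [Field K'] [Algebra k K] [Algebra K K'] [Algebra k K']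
  [IsScalarTower k K K'] [FiniteDimensional K K']

/-- Lifts of a residue basis at one place above. -/
lemma exists_residue_lifts (hK : IsFunctionField k K) {Q : Place k K'} {P : Place k K} (hQ : IsOver Q P) :
    ∃ (f : ℕ) (l : Fin f → K'), f * P.deg = Q.deg ∧ (∀ a, Q.1 (l a) ≤ 1) ∧
      ∀ c : Fin f → K, (∀ a, P.1 (c a) ≤ 1) → Q.1 (∑ a, algebraMap K K' (c a) * l a) < 1 → ∀ a, P.1 (c a) < 1 := by
  classical
  letI algPQ : Algebra (IsLocalRing.ResidueField P.O) (IsLocalRing.ResidueField Q.O) := (resOver hQ).toAlgebra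
  letI algP : Algebra k (IsLocalRing.ResidueField P.O) := Place.algRes P
  letI algQ : Algebra k (IsLocalRing.ResidueField Q.O) := Place.algRes Q
  haveI tow : IsScalarTower k (IsLocalRing.ResidueField P.O) (IsLocalRing.ResidueField Q.O) :=
    IsScalarTower.of_algebraMap_eq fun c => (resOver_algebraMap hQ c).symm
  have hQpos : 0 < Module.finrank k (IsLocalRing.ResidueField Q.O) := deg_pos_over (K' := K') hK Q
  haveI : Module.Finite k (IsLocalRing.ResidueField Q.O) := Module.finite_of_finrank_pos hQpos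
  haveI : Module.Finite (IsLocalRing.ResidueField P.O) (IsLocalRing.ResidueField Q.O) :=
    Module.Finite.of_restrictScalars_finite k _ _
  let bb := Module.finBasis (IsLocalRing.ResidueField P.O) (IsLocalRing.ResidueField Q.O)
  choose l hl using fun a => IsLocalRing.residue_surjective (bb a)
  refine ⟨_, fun a => (l a : K'), ?_, fun a => (l a).2, fun c hc hlt a => ?_⟩
  · show _ * Module.finrank k (IsLocalRing.ResidueField P.O) = Module.finrank k (IsLocalRing.ResidueField Q.O)
    rw [mul_comm, Module.finrank_mul_finrank]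
  · let S : Q.O := ∑ a, incOver hQ ⟨c a, hc a⟩ * l a
    have hS : (S : K') = ∑ a, algebraMap K K' (c a) * (l a : K') := by
      simp only [S, AddSubmonoidClass.coe_finsetSum, MulMemClass.coe_mul]
      rfl
    have h0 : IsLocalRing.residue Q.O S = 0 := (residue_eq_zero_iff _).2 (by rw [hS]; exact hlt)
    have hsum : ∑ a, IsLocalRing.residue P.O ⟨c a, hc a⟩ • bb a = 0 := by
      rw [← h0, map_sum]
      refine Finset.sum_congr rfl fun a _ => ?_
      rw [map_mul, hl, Algebra.smul_def]
      rfl
    exact (residue_eq_zero_iff _).1 (Fintype.linearIndependent_iff.1 bb.linearIndependent _ hsum a)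

/-- A basis of `K'/K` adapted to the places above `P`. -/
theorem exists_intBasis (hK : IsFunctionField k K) (P : Place k K) :
    ∃ (ι : Type v') (_ : Fintype ι) (b : Module.Basis ι K K'),
      (∀ i, IntOver P (b i)) ∧
      (∀ u : K', IntOver P u ↔ ∀ i, P.1 (b.repr u i) ≤ 1) ∧
      ∀ Q : Place k K', IsOver Q P → ∃ T : Finset ι, T.card * P.deg = Q.deg ∧
        ∀ u : K', IntOver P u → Q.1 u < 1 → ∀ i ∈ T, P.1 (b.repr u i) < 1 := by
  classical
  obtain ⟨hfin, hsum⟩ := finite_over_and_sum (K' := K') hK P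
  set Qs := hfin.toFinset
  have hmemQ : ∀ Q, Q ∈ Qs ↔ IsOver Q P := fun Q => hfin.mem_toFinset
  have hres : ∀ Q : Qs, ∃ (f : ℕ) (l : Fin f → K'), f * P.deg = (Q : Place k K').deg ∧ (∀ a, (Q : Place k K').1 (l a) ≤ 1) ∧
      ∀ c : Fin f → K, (∀ a, P.1 (c a) ≤ 1) → (Q : Place k K').1 (∑ a, algebraMap K K' (c a) * l a) < 1 →
        ∀ a, P.1 (c a) < 1 := fun Q => exists_residue_lifts hK ((hmemQ _).1 Q.2)
  choose f l hfdeg hl hindep using hres
  choose π hπ using fun Q : Qs => exists_unif (Q : Place k K')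
  set e : Qs → ℕ := fun Q => ramIdx (Q : Place k K') P
  have he : ∀ Q : Qs, IsOverWith (Q : Place k K') P (e Q) := fun Q => isOverWith_ramIdx ((hmemQ _).1 Q.2)
  let ι := Σ Q : Qs, Fin (e Q) × Fin (f Q)
  let target : ι → Place k K' → K' := fun i R =>
    if R = (i.1 : Place k K') then π i.1 ^ (i.2.1 : ℕ) * l i.1 i.2.2 else 0
  have hex : ∀ i : ι, ∃ z : K', ∀ R ∈ Qs, R.1 (z - target i R) ≤
      WithZero.exp (if h : R ∈ Qs then -(e ⟨R, h⟩ : ℤ) else 0) := fun i =>
    approx Qs (target i) fun R => if h : R ∈ Qs then -(e ⟨R, h⟩ : ℤ) else 0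
  choose z hz using hex
  have hzR : ∀ (i : ι) (R : Qs), (R : Place k K').1 (z i - target i R) ≤ WithZero.exp (-(e R : ℤ)) := fun i R => by
    have := hz i R R.2
    rwa [dif_pos R.2] at this
  have hπpow : ∀ (R : Qs) (n : ℕ), (R : Place k K').1 (π R ^ n) = WithZero.exp (-(n : ℤ)) := fun R n => by
    rw [map_pow, hπ, ← WithZero.exp_nsmul]; simp
  have htgt : ∀ (i : ι) (R : Qs), (R : Place k K').1 (target i R) ≤
      if R = i.1 then WithZero.exp (-((i.2.1 : ℕ) : ℤ)) else 0 := fun i R => by
    by_cases h : R = i.1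
    · subst h
      rw [if_pos rfl]
      simp only [target, if_pos]
      rw [map_mul, hπpow]
      exact mul_le_of_le_one_right' (hl _ _)
    · rw [if_neg h]
      simp only [target, if_neg fun h' : (R : Place k K') = (i.1 : Place k K') => h (Subtype.ext h'), map_zero, le_refl]
  have hint : ∀ i, IntOver P (z i) := fun i R hR => by
    have h1 := hzR i ⟨R, (hmemQ R).2 hR⟩
    have h2 := htgt i ⟨R, (hmemQ R).2 hR⟩
    rw [show z i = (z i - target i R) + target i R by ring]
    refine (R.1.map_add _ _).trans (max_le (h1.trans ?_) (h2.trans ?_))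
    · rw [← WithZero.exp_zero, WithZero.exp_le_exp]; omega
    · split
      · rw [← WithZero.exp_zero, WithZero.exp_le_exp]; omega
      · exact zero_le
  have hsplit : ∀ (c : ι → K) (R : Qs), (∑ i, algebraMap K K' (c i) * target i R) =
      ∑ j' : Fin (e R), π R ^ (j' : ℕ) * ∑ a, algebraMap K K' (c ⟨R, j', a⟩) * l R a := by
    intro c R
    rw [Fintype.sum_sigma, Finset.sum_eq_single R]
    · rw [Fintype.sum_prod_type]
      refine Finset.sum_congr rfl fun j' _ => ?_
      rw [Finset.mul_sum]
      refine Finset.sum_congr rfl fun a _ => ?_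
      simp only [target, if_pos]
      ring
    · intro R' _ hne
      refine Finset.sum_eq_zero fun x _ => ?_
      simp only [target]
      rw [if_neg fun h => hne (Subtype.ext h.symm), mul_zero]
    · exact fun h => absurd (Finset.mem_univ _) h
  have key : ∀ c : ι → K, (∀ i, P.1 (c i) ≤ 1) →
      (∀ R : Qs, (R : Place k K').1 (∑ i, algebraMap K K' (c i) * z i) ≤ WithZero.exp (-(e R : ℤ))) →
      ∀ i, P.1 (c i) < 1 := by
    intro c hc hsmall
    have hαc : ∀ (R : Qs) i, (R : Place k K').1 (algebraMap K K' (c i)) ≤ 1 := fun R i =>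
      (le_one_iff_of_isOver ((hmemQ _).1 R.2) _).2 (hc i)
    have hαlt : ∀ (R : Qs) i, P.1 (c i) < 1 → (R : Place k K').1 (algebraMap K K' (c i)) ≤ WithZero.exp (-(e R : ℤ)) := fun R i h => by
      rw [he R, show (-(e R : ℤ)) = (e R) • (-1 : ℤ) by simp, WithZero.exp_nsmul]
      exact pow_le_pow_left₀ zero_le ((v_lt_one_iff_le_exp P _).1 h) _
    suffices hj : ∀ (n : ℕ) (R : Qs) (j : Fin (e R)), (j : ℕ) = n → ∀ a, P.1 (c ⟨R, j, a⟩) < 1 from
      fun i => hj _ i.1 i.2.1 rfl i.2.2
    intro n
    induction n using Nat.strong_induction_on with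
    | _ n ih =>
      intro R j hjn
      have htot : (R : Place k K').1 (∑ i, algebraMap K K' (c i) * target i R) ≤ WithZero.exp (-(e R : ℤ)) := by
        rw [show (∑ i, algebraMap K K' (c i) * target i R) = (∑ i, algebraMap K K' (c i) * z i) -
          ∑ i, algebraMap K K' (c i) * (z i - target i R) by
          rw [← Finset.sum_sub_distrib]; exact Finset.sum_congr rfl fun i _ => by ring]
        refine ((R : Place k K').1.map_sub _ _).trans (max_le (hsmall R) (Valuation.map_sum_le _ fun i _ => ?_))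
        rw [map_mul]
        exact (mul_le_of_le_one_left' (hαc R i)).trans (hzR i R)
      rw [hsplit c R, ← Finset.add_sum_erase _ _ (Finset.mem_univ j)] at htot
      have hjlt : (j : ℤ) + 1 ≤ e R := by have := j.2; omega
      have hrest : (R : Place k K').1 (∑ j' ∈ Finset.univ.erase j, π R ^ (j' : ℕ) *
          ∑ a, algebraMap K K' (c ⟨R, j', a⟩) * l R a) ≤ WithZero.exp (-((j : ℤ) + 1)) := by
        refine Valuation.map_sum_le _ fun j' hj' => ?_
        rw [map_mul, hπpow]
        rcases lt_or_gt_of_ne (Fin.val_ne_of_ne (Finset.ne_of_mem_erase hj')) with h | h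
        · have hs : (R : Place k K').1 (∑ a, algebraMap K K' (c ⟨R, j', a⟩) * l R a) ≤ WithZero.exp (-(e R : ℤ)) :=
            Valuation.map_sum_le _ fun a _ => by
              rw [map_mul]
              exact (mul_le_of_le_one_right' (hl R a)).trans (hαlt R _ (ih _ (hjn ▸ h) R j' rfl a))
          refine (mul_le_mul' le_rfl hs).trans ?_
          rw [← WithZero.exp_add, WithZero.exp_le_exp]; omega
        · have hs : (R : Place k K').1 (∑ a, algebraMap K K' (c ⟨R, j', a⟩) * l R a) ≤ 1 :=
            Valuation.map_sum_le _ fun a _ => by rw [map_mul]; exact mul_le_one' (hαc R _) (hl R a)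
          refine (mul_le_of_le_one_right' hs).trans ?_
          rw [WithZero.exp_le_exp]; omega
      have hmain : (R : Place k K').1 (π R ^ (j : ℕ) * ∑ a, algebraMap K K' (c ⟨R, j, a⟩) * l R a) ≤
          WithZero.exp (-((j : ℤ) + 1)) := by
        rw [show (π R ^ (j : ℕ) * ∑ a, algebraMap K K' (c ⟨R, j, a⟩) * l R a) =
          ((π R ^ (j : ℕ) * ∑ a, algebraMap K K' (c ⟨R, j, a⟩) * l R a) +
            ∑ j' ∈ Finset.univ.erase j, π R ^ (j' : ℕ) * ∑ a, algebraMap K K' (c ⟨R, j', a⟩) * l R a) -
          (∑ j' ∈ Finset.univ.erase j, π R ^ (j' : ℕ) * ∑ a, algebraMap K K' (c ⟨R, j', a⟩) * l R a) by ring]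
        refine ((R : Place k K').1.map_sub _ _).trans (max_le (htot.trans ?_) hrest)
        rw [WithZero.exp_le_exp]; omega
      refine hindep R _ (fun a => hc _) ((v_lt_one_iff_le_exp _ _).2 ?_)
      rw [map_mul, hπpow, show (-((j : ℤ) + 1)) = (-((j : ℕ) : ℤ)) + (-1) by ring, WithZero.exp_add] at hmain
      exact (mul_le_mul_iff_right₀ WithZero.exp_pos).1 hmain
  obtain ⟨t, ht⟩ := exists_unif P
  have ht0 : t ≠ 0 := fun h => by rw [h, map_zero] at ht; exact WithZero.exp_ne_zero ht.symm
  have hbound : ∀ a : ι → K, IntOver P (∑ i, algebraMap K K' (a i) * z i) → ∀ i, P.1 (a i) ≤ 1 := by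
    intro a ha
    by_contra hcon
    push Not at hcon
    obtain ⟨i₀, hi₀⟩ := hcon
    obtain ⟨i₁, -, hmax⟩ := Finset.exists_max_image (Finset.univ : Finset ι) (fun i => P.1 (a i)) ⟨i₀, Finset.mem_univ _⟩
    have hgt : 1 < P.1 (a i₁) := hi₀.trans_le (hmax _ (Finset.mem_univ _))
    have ha0 : a i₁ ≠ 0 := fun h => by rw [h, map_zero] at hgt; exact not_lt.2 zero_le hgt
    set m := -P.ord (a i₁)
    have hm : P.1 (a i₁) = WithZero.exp m := v_eq_exp P ha0
    have hm1 : 0 < m := by rw [hm, ← WithZero.exp_zero, WithZero.exp_lt_exp] at hgt; exact hgt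
    have htm : P.1 (t ^ m) = WithZero.exp (-m) := by
      rw [map_zpow₀, ht, ← WithZero.exp_zsmul]; simp
    have hc1 : ∀ i, P.1 (t ^ m * a i) ≤ 1 := fun i => by
      rw [map_mul, htm]
      calc WithZero.exp (-m) * P.1 (a i) ≤ WithZero.exp (-m) * WithZero.exp m :=
            mul_le_mul' le_rfl (hm ▸ hmax i (Finset.mem_univ _))
        _ = 1 := by rw [← WithZero.exp_add, neg_add_cancel, WithZero.exp_zero]
    have := key _ hc1 (fun R => by
      rw [show (∑ i, algebraMap K K' (t ^ m * a i) * z i) = algebraMap K K' (t ^ m) * ∑ i, algebraMap K K' (a i) * z i by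
        rw [Finset.mul_sum]; exact Finset.sum_congr rfl fun i _ => by rw [map_mul]; ring, map_mul, he R, htm]
      refine (mul_le_of_le_one_right' (ha _ ((hmemQ _).1 R.2))).trans ?_
      rw [← WithZero.exp_nsmul, WithZero.exp_le_exp, nsmul_eq_mul]
      nlinarith) i₁
    rw [map_mul, htm, hm, ← WithZero.exp_add, neg_add_cancel, WithZero.exp_zero] at this
    exact lt_irrefl _ this
  have hli : LinearIndependent K z := by
    rw [Fintype.linearIndependent_iff]
    intro a ha i
    by_contra hne
    obtain ⟨s, hs0, hs⟩ := exists_v_eq P (P.ord (a i) + 1)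
    have h0 : ∑ i, algebraMap K K' (s * a i) * z i = 0 := by
      rw [← mul_zero (algebraMap K K' s), ← ha, Finset.mul_sum]
      exact Finset.sum_congr rfl fun i _ => by rw [map_mul, Algebra.smul_def]; ring
    have := hbound (fun i => s * a i) (fun R _ => by rw [h0, map_zero]; exact zero_le) i
    rw [map_mul, hs, v_eq_exp P hne, ← WithZero.exp_add, ← WithZero.exp_zero, WithZero.exp_le_exp] at this
    omega
  have hcard : Fintype.card ι = Module.finrank K K' := by
    have h1 := hsum Qs hmemQ
    have h2 : (Fintype.card ι) * P.deg = Module.finrank K K' * P.deg := by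
      rw [← h1, Fintype.card_sigma, Finset.sum_mul, ← Finset.sum_coe_sort Qs]
      refine Finset.sum_congr rfl fun R _ => ?_
      rw [Fintype.card_prod, Fintype.card_fin, Fintype.card_fin, mul_assoc, hfdeg]
    exact Nat.eq_of_mul_eq_mul_right (deg_pos hK P) h2
  have hspan := hli.span_eq_top_of_card_eq_finrank' hcard
  let b := Module.Basis.mk hli hspan.ge
  have hb : ∀ i, b i = z i := fun i => Module.Basis.mk_apply hli hspan.ge i
  have hrepr : ∀ u, u = ∑ i, algebraMap K K' (b.repr u i) * z i := fun u => by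
    conv_lhs => rw [← b.sum_repr u]
    exact Finset.sum_congr rfl fun i _ => by rw [hb, Algebra.smul_def]
  refine ⟨ι, inferInstance, b, fun i => by rw [hb]; exact hint i, fun u => ⟨fun hu => ?_, fun hu R hR => ?_⟩, fun Q hQ => ?_⟩
  · exact hbound (fun i => b.repr u i) (by rw [← hrepr]; exact hu)
  · rw [hrepr u]
    exact Valuation.map_sum_le _ fun i _ => by
      rw [map_mul]; exact mul_le_one' ((le_one_iff_of_isOver hR _).2 (hu i)) (hint i R hR)
  · set R : Qs := ⟨Q, (hmemQ Q).2 hQ⟩
    have hepos : 0 < e R := pos_of_isOverWith (he R)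
    refine ⟨(Finset.univ : Finset (Fin (f R))).map
      ⟨fun a => (⟨R, ⟨0, hepos⟩, a⟩ : ι), fun a a' h => (Prod.ext_iff.1 (eq_of_heq (Sigma.mk.inj_iff.1 h).2)).2⟩, ?_, fun u hu hlt i hi => ?_⟩
    · rw [Finset.card_map, Finset.card_univ, Fintype.card_fin]; exact hfdeg R
    obtain ⟨a₀, -, rfl⟩ := Finset.mem_map.1 hi
    have hc := hbound (fun i => b.repr u i) (by rw [← hrepr]; exact hu)
    refine hindep R _ (fun a => hc _) ?_ a₀
    have hexp : WithZero.exp (-(1 : ℤ)) < 1 := by rw [← WithZero.exp_zero, WithZero.exp_lt_exp]; omega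
    have hz1 : Q.1 (∑ i : ι, algebraMap K K' (b.repr u i) * target i R) < 1 := by
      rw [show (∑ i, algebraMap K K' (b.repr u i) * target i R) = u -
        ∑ i, algebraMap K K' (b.repr u i) * (z i - target i R) by
        conv_rhs => arg 1; rw [hrepr u]
        rw [← Finset.sum_sub_distrib]; exact Finset.sum_congr rfl fun i _ => by ring]
      refine (Q.1.map_sub _ _).trans_lt (max_lt hlt ((Valuation.map_sum_le _ fun i _ => ?_).trans_lt hexp))
      rw [map_mul]
      refine (mul_le_of_le_one_left' ((le_one_iff_of_isOver hQ _).2 (hc i))).trans ((hzR i R).trans ?_)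
      rw [WithZero.exp_le_exp]; omega
    rw [hsplit (fun i => b.repr u i) R, ← Finset.add_sum_erase _ _ (Finset.mem_univ (⟨0, hepos⟩ : Fin (e R)))] at hz1
    simp only [pow_zero, one_mul] at hz1
    show Q.1 (∑ a, algebraMap K K' (b.repr u ⟨R, ⟨0, hepos⟩, a⟩) * l R a) < 1
    rw [← add_sub_cancel_right (∑ a, algebraMap K K' (b.repr u ⟨R, ⟨0, hepos⟩, a⟩) * l R a)
      (∑ j' ∈ Finset.univ.erase (⟨0, hepos⟩ : Fin (e R)), π R ^ (j' : ℕ) *
        ∑ a, algebraMap K K' (b.repr u ⟨R, j', a⟩) * l R a)]
    refine (Q.1.map_sub _ _).trans_lt (max_lt hz1 ((Valuation.map_sum_le _ fun j' hj' => ?_).trans_lt hexp))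
    rw [map_mul]
    refine (mul_le_of_le_one_right' (Valuation.map_sum_le _ fun a _ => ?_)).trans ?_
    · rw [map_mul]; exact mul_le_one' ((le_one_iff_of_isOver hQ _).2 (hc _)) (hl R a)
    · show (R : Place k K').1 (π R ^ (j' : ℕ)) ≤ _
      rw [hπpow, WithZero.exp_le_exp]
      have : (j' : ℕ) ≠ 0 := fun h => Finset.ne_of_mem_erase hj' (Fin.ext h)
      omega

end Groth.Agent.FF
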