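import Mathlib
import Groth.Agent.FF.IntBasis

/-! The ring `O_P[k']` in a constant extension `K' = k' ⊗ K`. -/

set_option autoImplicit false
set_option linter.style.haveILetI false

namespace Groth.Agent.FF

attribute [local instance high] FunFld.Place.algRes
attribute [-instance] IsLocalRing.instModuleResidueFieldOfAlgebra

open FunFld
open scoped WithZero TensorProduct

universe u u' v v'

variable {k : Type u} {k' : Type u'} {K : Type v} {K' : Type v'} [Field k] [Field k'] [Field K] [Field K']
  [Algebra k k'] [FiniteDimensional k k'] [Algebra k K] [Algebra K K'] [Algebra k' K'] [Algebra k K']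
  [IsScalarTower k k' K'] [IsScalarTower k K K']

/-- A basis of constants is a basis of `K'` over `K`. -/
lemma exists_constBasis (h : Function.Bijective (Algebra.TensorProduct.productMap
      (IsScalarTower.toAlgHom k k' K') (IsScalarTower.toAlgHom k K K'))) :
    ∃ b : Module.Basis (Fin (Module.finrank k k')) K K', ∀ i, b i = algebraMap k' K' (Module.finBasis k k' i) := by
  let g : K ⊗[k] k' →ₐ[K] K' :=
    Algebra.TensorProduct.lift (Algebra.ofId K K') (IsScalarTower.toAlgHom k k' K') fun _ _ => Commute.all _ _
  have hg' : ∀ z, g z = Algebra.TensorProduct.productMap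
      (IsScalarTower.toAlgHom k k' K') (IsScalarTower.toAlgHom k K K') (Algebra.TensorProduct.comm k K k' z) := fun z => by
    induction z using TensorProduct.induction_on with
    | zero => simp
    | tmul a b => simp [g, mul_comm]
    | add a b ha hb => simp only [map_add, ha, hb]
  have hb : Function.Bijective g := by
    rw [show (g : K ⊗[k] k' → K') = _ from funext hg']
    exact h.comp (Algebra.TensorProduct.comm k K k').bijective
  refine ⟨((Module.finBasis k k').baseChange K).map (LinearEquiv.ofBijective g.toLinearMap hb), fun i => ?_⟩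
  rw [Module.Basis.map_apply, Module.Basis.baseChange_apply]
  show g ((1 : K) ⊗ₜ[k] Module.finBasis k k' i) = _
  simp [g]

lemma finite_of_bijective (h : Function.Bijective (Algebra.TensorProduct.productMap
      (IsScalarTower.toAlgHom k k' K') (IsScalarTower.toAlgHom k K K'))) : FiniteDimensional K K' := by
  obtain ⟨b, -⟩ := exists_constBasis h
  exact Module.Finite.of_basis b

variable {b : Module.Basis (Fin (Module.finrank k k')) K K'}
  (hb : ∀ i, b i = algebraMap k' K' (Module.finBasis k k' i)) (P : Place k K) [Algebra P.O K'] [IsScalarTower P.O K K']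

include hb

/-- Membership in `O_P[k']` by coordinates. -/
lemma mem_constRing_iff (u : K') :
    u ∈ Algebra.adjoin P.O (Set.range (algebraMap k' K')) ↔ ∀ i, P.1 (b.repr u i) ≤ 1 := by
  have hclosure : Submonoid.closure (Set.range (algebraMap k' K')) = MonoidHom.mrange (algebraMap k' K' : k' →* K') :=
    (Submonoid.closure_eq (MonoidHom.mrange (algebraMap k' K' : k' →* K')))
  rw [← Subalgebra.mem_toSubmodule, Algebra.adjoin_eq_span, hclosure]
  constructor
  · intro hu i
    induction hu using Submodule.span_induction with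
    | mem z hz =>
      obtain ⟨c, rfl⟩ := hz
      show P.1 (b.repr (algebraMap k' K' c) i) ≤ 1
      have hc : algebraMap k' K' c = ∑ j, algebraMap k K ((Module.finBasis k k').repr c j) • b j := by
        conv_lhs => rw [← (Module.finBasis k k').sum_repr c]
        rw [map_sum]
        refine Finset.sum_congr rfl fun j _ => ?_
        rw [hb, Algebra.smul_def, Algebra.smul_def, map_mul, ← IsScalarTower.algebraMap_apply,
          ← IsScalarTower.algebraMap_apply]
      rw [hc, b.repr_sum_self]
      exact P.2.1 _
    | zero => simp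
    | add x y _ _ hx hy => rw [map_add, Finsupp.add_apply]; exact (P.1.map_add _ _).trans (max_le hx hy)
    | smul a x _ hx =>
      rw [Algebra.smul_def, algebraMap_O, ← Algebra.smul_def, map_smul, Finsupp.smul_apply, smul_eq_mul, map_mul]
      exact mul_le_one' a.2 hx
  · intro hu
    rw [← b.sum_repr u]
    refine Submodule.sum_mem _ fun i _ => ?_
    have : b.repr u i • b i = (⟨b.repr u i, hu i⟩ : P.O) • b i := by
      rw [Algebra.smul_def, Algebra.smul_def, algebraMap_O]
    rw [this, hb]
    exact Submodule.smul_mem _ _ (Submodule.subset_span ⟨_, rfl⟩)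

omit hb in
lemma constRing_le_integralClosure :
    Algebra.adjoin P.O (Set.range (algebraMap k' K')) ≤ integralClosure P.O K' := by
  refine Algebra.adjoin_le ?_
  rintro _ ⟨c, rfl⟩
  show IsIntegral P.O (algebraMap k' K' c)
  haveI : IsScalarTower k P.O K' := IsScalarTower.of_algebraMap_eq fun a => by
    rw [algebraMap_O, IsScalarTower.algebraMap_apply k K K']; rfl
  exact (Algebra.IsIntegral.isIntegral (R := k) c).algebraMap.tower_top

omit hb [FiniteDimensional k k'] in
/-- Separable residue field: the special fibre is reduced. -/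
lemma isReduced_residue_tensor [FiniteDimensional k k'] [Algebra.IsSeparable k (IsLocalRing.ResidueField P.O)]
    [Module.Finite k (IsLocalRing.ResidueField P.O)] :
    IsReduced (IsLocalRing.ResidueField P.O ⊗[k] k') := by
  haveI : Algebra.FormallyEtale k (IsLocalRing.ResidueField P.O) := Algebra.FormallyEtale.of_isSeparable _ _
  haveI : IsReduced (k' ⊗[k] IsLocalRing.ResidueField P.O) :=
    Algebra.FormallyUnramified.isReduced_of_field k' _
  exact isReduced_of_injective (Algebra.TensorProduct.comm k (IsLocalRing.ResidueField P.O) k').toRingEquiv.toRingHom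
    (Algebra.TensorProduct.comm k (IsLocalRing.ResidueField P.O) k').injective

/-- Nilpotency modulo a uniformizer forces divisibility. -/
lemma dvd_of_pow_dvd [IsReduced (IsLocalRing.ResidueField P.O ⊗[k] k')] {a : K'}
    (ha : ∀ i, P.1 (b.repr a i) ≤ 1) {n : ℕ} (hn : ∀ i, P.1 (b.repr (a ^ n) i) < 1) :
    ∀ i, P.1 (b.repr a i) < 1 := by
  classical
  haveI : IsScalarTower k P.O K' := IsScalarTower.of_algebraMap_eq fun c => by
    rw [algebraMap_O, IsScalarTower.algebraMap_apply k K K']; rfl
  haveI : IsScalarTower k P.O (IsLocalRing.ResidueField P.O) := IsScalarTower.of_algebraMap_eq fun _ => rfl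
  let res : P.O →ₐ[k] IsLocalRing.ResidueField P.O := ⟨IsLocalRing.residue P.O, fun _ => rfl⟩
  let Φ : P.O ⊗[k] k' →ₐ[k] K' :=
    Algebra.TensorProduct.lift (IsScalarTower.toAlgHom k P.O K') (IsScalarTower.toAlgHom k k' K')
      fun _ _ => Commute.all _ _
  let Ψ : P.O ⊗[k] k' →ₐ[k] IsLocalRing.ResidueField P.O ⊗[k] k' := Algebra.TensorProduct.map res (AlgHom.id k k')
  let BO := (Module.finBasis k k').baseChange P.O
  let BF := (Module.finBasis k k').baseChange (IsLocalRing.ResidueField P.O)
  have hΦ : ∀ x : P.O ⊗[k] k', ∀ i, b.repr (Φ x) i = ((BO.repr x i : P.O) : K) := by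
    intro x i
    have hx : Φ x = ∑ j, ((BO.repr x j : P.O) : K) • b j := by
      conv_lhs => rw [← BO.sum_repr x]
      rw [map_sum]
      refine Finset.sum_congr rfl fun j _ => ?_
      rw [Module.Basis.baseChange_apply, TensorProduct.smul_tmul', smul_eq_mul, mul_one,
        Algebra.TensorProduct.lift_tmul, hb, Algebra.smul_def]
      show algebraMap P.O K' _ * algebraMap k' K' _ = _
      rw [algebraMap_O]
    rw [hx, b.repr_sum_self]
  have hΨ : ∀ x : P.O ⊗[k] k', ∀ i, BF.repr (Ψ x) i = IsLocalRing.residue P.O (BO.repr x i) := by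
    intro x i
    have hx : Ψ x = ∑ j, IsLocalRing.residue P.O (BO.repr x j) • BF j := by
      conv_lhs => rw [← BO.sum_repr x]
      rw [map_sum]
      refine Finset.sum_congr rfl fun j _ => ?_
      rw [Module.Basis.baseChange_apply, Module.Basis.baseChange_apply, TensorProduct.smul_tmul', smul_eq_mul, mul_one,
        TensorProduct.smul_tmul', smul_eq_mul, mul_one]
      rfl
    rw [hx, BF.repr_sum_self]
  set x : P.O ⊗[k] k' := ∑ j, (⟨b.repr a j, ha j⟩ : P.O) • BO j with hxdef
  have hxa : Φ x = a := b.repr.injective (Finsupp.ext fun i => by rw [hΦ, hxdef, BO.repr_sum_self])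
  have hzero : Ψ x ^ n = 0 := by
    rw [← map_pow]
    refine BF.repr.injective (Finsupp.ext fun i => ?_)
    rw [hΨ, map_zero, Finsupp.zero_apply, residue_eq_zero_iff]
    have := hn i
    rwa [← hxa, ← map_pow, hΦ] at this
  have hx0 : Ψ x = 0 := IsReduced.eq_zero _ ⟨n, hzero⟩
  intro i
  have := hΨ x i
  rw [hx0, map_zero, Finsupp.zero_apply, eq_comm, residue_eq_zero_iff] at this
  rwa [← hΦ, hxa] at this

/-- A place with separable residue field is nonsingular. -/
theorem constRing_eq_of_separable [IsReduced (IsLocalRing.ResidueField P.O ⊗[k] k')] :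
    integralClosure P.O K' = Algebra.adjoin P.O (Set.range (algebraMap k' K')) := by
  classical
  refine le_antisymm (fun r hr => ?_) (constRing_le_integralClosure P)
  obtain ⟨t, ht⟩ := exists_unif P
  have ht0 : t ≠ 0 := fun h => by rw [h, map_zero] at ht; exact WithZero.exp_ne_zero ht.symm
  let tO : P.O := ⟨t, show P.1 t ≤ 1 by rw [ht, ← WithZero.exp_zero, WithZero.exp_le_exp]; omega⟩
  have htK : algebraMap P.O K' tO = algebraMap K K' t := algebraMap_O _
  have hcoord : ∀ (u : K') i, b.repr (algebraMap P.O K' tO * u) i = t * b.repr u i := fun u i => by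
    rw [htK, ← Algebra.smul_def, map_smul, Finsupp.smul_apply, smul_eq_mul]
  have hstep : ∀ u : K', IsIntegral P.O u →
      algebraMap P.O K' tO * u ∈ Algebra.adjoin P.O (Set.range (algebraMap k' K')) →
      u ∈ Algebra.adjoin P.O (Set.range (algebraMap k' K')) := by
    intro u hu hta
    set a := algebraMap P.O K' tO * u
    obtain ⟨p, hp, hpu⟩ := hu
    have ha := (mem_constRing_iff hb P a).1 hta
    have hkey : ∀ i, P.1 (b.repr (a ^ p.natDegree) i) < 1 := by
      have heq : a ^ p.natDegree = algebraMap P.O K' tO *
          -∑ j ∈ Finset.range p.natDegree, algebraMap P.O K' (p.coeff j * tO ^ (p.natDegree - 1 - j)) * a ^ j := by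
        rw [Polynomial.eval₂_eq_sum_range, Finset.sum_range_succ, hp.coeff_natDegree, map_one, one_mul] at hpu
        have hu' : u ^ p.natDegree = -∑ j ∈ Finset.range p.natDegree, algebraMap P.O K' (p.coeff j) * u ^ j := by
          linear_combination hpu
        rw [mul_pow, hu', mul_neg, mul_neg, Finset.mul_sum, Finset.mul_sum]
        congr 1
        refine Finset.sum_congr rfl fun j hj => ?_
        rw [Finset.mem_range] at hj
        rw [map_mul, map_pow, mul_pow]
        have : algebraMap P.O K' tO ^ p.natDegree =
            algebraMap P.O K' tO * algebraMap P.O K' tO ^ (p.natDegree - 1 - j) * algebraMap P.O K' tO ^ j := by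
          rw [← pow_succ', ← pow_add]; congr 1; omega
        rw [this]; ring
      intro i
      have hmem : -∑ j ∈ Finset.range p.natDegree, algebraMap P.O K' (p.coeff j * tO ^ (p.natDegree - 1 - j)) * a ^ j ∈
          Algebra.adjoin P.O (Set.range (algebraMap k' K')) :=
        neg_mem (sum_mem fun j _ => mul_mem (Subalgebra.algebraMap_mem _ _) (pow_mem hta j))
      rw [heq, hcoord, map_mul, ht]
      refine (mul_le_of_le_one_right' ((mem_constRing_iff hb P _).1 hmem i)).trans_lt ?_
      rw [← WithZero.exp_zero, WithZero.exp_lt_exp]; omega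
    refine (mem_constRing_iff hb P u).2 fun i => ?_
    have h1 := (v_lt_one_iff_le_exp P _).1 (dvd_of_pow_dvd hb P ha hkey i)
    rw [hcoord, map_mul, ht] at h1
    exact le_of_mul_le_mul_left (h1.trans_eq (mul_one _).symm) WithZero.exp_pos
  obtain ⟨N, hN⟩ : ∃ N : ℕ, ∀ i, P.1 (b.repr r i) ≤ WithZero.exp (N : ℤ) := by
    refine ⟨∑ i, (-P.ord (b.repr r i)).toNat, fun i => ?_⟩
    rcases eq_or_ne (b.repr r i) 0 with h | h
    · rw [h, map_zero]; exact zero_le
    · rw [v_eq_exp P h, WithZero.exp_le_exp]
      have := Finset.single_le_sum (f := fun i => (-P.ord (b.repr r i)).toNat) (fun _ _ => Nat.zero_le _)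
        (Finset.mem_univ i)
      omega
  have hind : ∀ m : ℕ, algebraMap P.O K' tO ^ m * r ∈ Algebra.adjoin P.O (Set.range (algebraMap k' K')) →
      r ∈ Algebra.adjoin P.O (Set.range (algebraMap k' K')) := by
    intro m
    induction m with
    | zero => intro h; rwa [pow_zero, one_mul] at h
    | succ m ih =>
      intro h
      refine ih (hstep _ ((isIntegral_algebraMap.pow m).mul hr) ?_)
      rwa [← mul_assoc, ← pow_succ']
  refine hind N ((mem_constRing_iff hb P _).2 fun i => ?_)
  rw [← map_pow, algebraMap_O, ← Algebra.smul_def, map_smul, Finsupp.smul_apply, smul_eq_mul, map_mul,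
    SubmonoidClass.coe_pow, map_pow, show ((tO : P.O) : K) = t from rfl, ht, ← WithZero.exp_nsmul]
  refine (mul_le_mul' le_rfl (hN i)).trans ?_
  rw [← WithZero.exp_add, ← WithZero.exp_zero, WithZero.exp_le_exp]; simp

end Groth.Agent.FF
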