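import Mathlib
import Groth.Agent.FF.GaloisPlaces

/-! The orders of the decomposition and inertia groups. -/

set_option autoImplicit false
set_option linter.style.haveILetI false

namespace Groth.Agent.FF

open FunFld
open scoped WithZero

attribute [local instance high] FunFld.Place.algRes
attribute [-instance] IsLocalRing.instModuleResidueFieldOfAlgebra

universe u v w

variable {k : Type u} {K : Type v} {K' : Type w} [Field k] [Field K] [Field K'] [Algebra k K] [Algebra K K']
  [Algebra k K'] [IsScalarTower k K K'] [FiniteDimensional K K'] [IsGalois K K'] (hK : IsFunctionField k K)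
  {Q : Place k K'} {P : Place k K}
include hK

/-- The number of places above, times the order of the decomposition group. -/
theorem card_over_mul_card_decomp (hQ : IsOver Q P) :
    Nat.card {Q' : Place k K' // IsOver Q' P} * Nat.card (ramGroup K Q 0) = Module.finrank K K' := by
  classical
  rw [← IsGalois.card_aut_eq_finrank K K', Subgroup.card_eq_card_quotient_mul_card_subgroup (ramGroup K Q 0)]
  congr 1
  have key : ∀ σ τ : K' ≃ₐ[K] K', galPlace σ⁻¹ Q = galPlace τ⁻¹ Q ↔ σ⁻¹ * τ ∈ ramGroup K Q 0 := fun σ τ => by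
    rw [ramGroup_zero_iff, galPlace_mul]
    exact ⟨fun h => by rw [h, ← galPlace_mul, inv_mul_cancel, galPlace_one], fun h => by
      conv_rhs => rw [← h]
      rw [← galPlace_mul, ← galPlace_mul, mul_inv_cancel, mul_one]⟩
  refine (Nat.card_eq_of_bijective (fun q : (K' ≃ₐ[K] K') ⧸ ramGroup K Q 0 =>
    Quotient.liftOn' q (fun σ => (⟨galPlace σ⁻¹ Q, isOver_galPlace hQ⟩ : {Q' : Place k K' // IsOver Q' P}))
      fun σ τ h => Subtype.ext ((key σ τ).2 (QuotientGroup.leftRel_apply.1 h))) ⟨?_, ?_⟩).symm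
  · intro a b
    induction a, b using Quotient.inductionOn₂' with
    | h σ τ => exact fun h => Quotient.sound' (QuotientGroup.leftRel_apply.2 ((key σ τ).1 (congrArg Subtype.val h)))
  · rintro ⟨R, hR⟩
    obtain ⟨σ, hσ⟩ := exists_galPlace_eq hK hQ hR
    exact ⟨QuotientGroup.mk σ⁻¹, Subtype.ext (by change galPlace σ⁻¹⁻¹ Q = R; rw [inv_inv, hσ])⟩

variable {e : ℕ} (he : IsOverWith Q P e)
include he

/-- All places above share `e` and `f`. -/
theorem same_ef {Q' : Place k K'} (hQ' : IsOver Q' P) : IsOverWith Q' P e ∧ Q'.deg = Q.deg := by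
  obtain ⟨σ, rfl⟩ := exists_galPlace_eq hK ⟨e, he⟩ hQ'
  exact ⟨isOverWith_galPlace he, deg_galPlace σ Q⟩

/-- The order of the decomposition group is `e f`. -/
theorem card_decomp : Nat.card (ramGroup K Q 0) * P.deg = e * Q.deg := by
  classical
  obtain ⟨hfin, hsum⟩ := finite_over_and_sum (K' := K') hK P
  have h := hsum hfin.toFinset fun R => hfin.mem_toFinset
  rw [Finset.sum_congr rfl (g := fun _ => e * Q.deg) fun R hR => by
      obtain ⟨h1, h2⟩ := same_ef hK he (hfin.mem_toFinset.1 hR)
      rw [ramIdx_eq h1, h2],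
    Finset.sum_const, smul_eq_mul, ← card_over_mul_card_decomp hK (Q := Q) ⟨e, he⟩] at h
  have hc : hfin.toFinset.card = Nat.card {R : Place k K' // IsOver R P} := by
    rw [← Set.ncard_eq_toFinset_card _ hfin]; rfl
  rw [hc, mul_assoc] at h
  have hne : Nonempty {R : Place k K' // IsOver R P} := ⟨⟨Q, e, he⟩⟩
  haveI := hfin.to_subtype
  haveI : Finite {R : Place k K' // IsOver R P} := hfin.to_subtype
  exact (Nat.eq_of_mul_eq_mul_left Nat.card_pos h).symm

/-- The order of the inertia group is `e` when the residue field is separable over the constants. -/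
theorem card_inertia_eq [Algebra.IsSeparable k (IsLocalRing.ResidueField Q.O)] :
    Nat.card (ramGroup K Q 1) = e := by
  classical
  have hQ : IsOver Q P := ⟨e, he⟩
  letI : Algebra (IsLocalRing.ResidueField P.O) (IsLocalRing.ResidueField Q.O) := (resOver hQ).toAlgebra
  haveI : IsScalarTower k (IsLocalRing.ResidueField P.O) (IsLocalRing.ResidueField Q.O) :=
    IsScalarTower.of_algebraMap_eq fun c => (resOver_algebraMap hQ c).symm
  have hQpos := deg_pos_over (K' := K') hK Q
  haveI : Module.Finite k (IsLocalRing.ResidueField Q.O) :=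
    Module.finite_of_finrank_pos (show 0 < Module.finrank k (IsLocalRing.ResidueField Q.O) from hQpos)
  haveI : Module.Finite (IsLocalRing.ResidueField P.O) (IsLocalRing.ResidueField Q.O) :=
    Module.Finite.of_restrictScalars_finite k _ _
  haveI : Algebra.IsSeparable (IsLocalRing.ResidueField P.O) (IsLocalRing.ResidueField Q.O) :=
    Algebra.isSeparable_tower_top_of_isSeparable k _ _
  -- a nonzero primitive residue
  obtain ⟨α, hα, hα0⟩ : ∃ α : IsLocalRing.ResidueField Q.O,
      IntermediateField.adjoin (IsLocalRing.ResidueField P.O) {α} = ⊤ ∧ α ≠ 0 := by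
    obtain ⟨α, hα⟩ := Field.exists_primitive_element (IsLocalRing.ResidueField P.O) (IsLocalRing.ResidueField Q.O)
    rcases eq_or_ne α 0 with rfl | h
    · refine ⟨1, ?_, one_ne_zero⟩
      rw [IntermediateField.adjoin_one, ← IntermediateField.adjoin_zero, hα]
    · exact ⟨α, hα, h⟩
  set h := minpoly (IsLocalRing.ResidueField P.O) α
  have hirr : Irreducible h := minpoly.irreducible (IsIntegral.of_finite _ α)
  have hdegf : Q.deg = P.deg * h.natDegree := by
    rw [← IntermediateField.adjoin.finrank (IsIntegral.of_finite _ α), hα, IntermediateField.finrank_top']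
    exact (Module.finrank_mul_finrank k (IsLocalRing.ResidueField P.O) (IsLocalRing.ResidueField Q.O)).symm
  -- a lift vanishing at the other places
  obtain ⟨⟨z₀, hz₀⟩, hz₀α⟩ := IsLocalRing.residue_surjective α
  obtain ⟨hfin, -⟩ := finite_over_and_sum (K' := K') hK P
  obtain ⟨z, hz⟩ := approx hfin.toFinset (fun R => if R = Q then z₀ else 0) (fun _ => -1)
  have hzR : ∀ R : Place k K', IsOver R P → R ≠ Q → R.1 z < 1 := fun R hR hne => by
    have h1 := hz R (hfin.mem_toFinset.2 hR)
    simp only [if_neg hne, sub_zero] at h1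
    exact (v_lt_one_iff_le_exp R z).2 h1
  have hzQ' : Q.1 (z - z₀) < 1 := by
    have h1 := hz Q (hfin.mem_toFinset.2 hQ)
    simp only [if_pos] at h1
    exact (v_lt_one_iff_le_exp Q _).2 h1
  have hzQ : Q.1 z ≤ 1 := by
    rw [show z = (z - z₀) + z₀ by ring]
    exact (Q.1.map_add _ _).trans (max_le hzQ'.le hz₀)
  have hzα : IsLocalRing.residue Q.O ⟨z, hzQ⟩ = α := by
    rw [← hz₀α, ← sub_eq_zero, ← map_sub, residue_eq_zero_iff]; exact hzQ'
  have hzle : ∀ σ : K' ≃ₐ[K] K', Q.1 (σ z) ≤ 1 := fun σ => by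
    rcases eq_or_ne (galPlace σ Q) Q with h1 | h1
    · rw [← galPlace_apply, h1]; exact hzQ
    · exact (hzR _ (isOver_galPlace hQ) h1).le
  let res : (K' ≃ₐ[K] K') → IsLocalRing.ResidueField Q.O := fun σ => IsLocalRing.residue Q.O ⟨σ z, hzle σ⟩
  -- the polynomial with the conjugates as roots
  set G : Polynomial Q.O := ∏ σ : K' ≃ₐ[K] K', (Polynomial.X - Polynomial.C ⟨σ z, hzle σ⟩) with hG
  have hGK : G.map Q.O.subtype = ∏ σ : K' ≃ₐ[K] K', (Polynomial.X - Polynomial.C (σ z)) := by
    rw [hG, Polynomial.map_prod]; simp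
  obtain ⟨G₀, hG₀⟩ : ∃ G₀ : Polynomial P.O, G₀.map (incOver hQ) = G := by
    refine (Polynomial.mem_lifts _).1 ((Polynomial.lifts_iff_coeff_lifts _).2 fun n => ?_)
    have hfix : ∀ τ : K' ≃ₐ[K] K', τ ((G.coeff n : Q.O) : K') = ((G.coeff n : Q.O) : K') := fun τ => by
      have h2 : (G.map Q.O.subtype).map (τ : K' →+* K') = G.map Q.O.subtype := by
        rw [hGK, Polynomial.map_prod]
        simp only [Polynomial.map_sub, Polynomial.map_X, Polynomial.map_C, RingHom.coe_coe]
        exact Fintype.prod_equiv (Equiv.mulLeft τ) _ _ fun σ => rfl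
      have h3 := congrArg (fun p => Polynomial.coeff p n) h2
      simpa [Polynomial.coeff_map] using h3
    obtain ⟨c, hc⟩ := (IsGalois.mem_range_algebraMap_iff_fixed _).2 hfix
    have hcP : P.1 c ≤ 1 := (le_one_iff_of_isOver hQ c).1 (by rw [hc]; exact (G.coeff n).2)
    exact ⟨⟨c, hcP⟩, Subtype.ext hc⟩
  set Gb := G₀.map (IsLocalRing.residue P.O)
  have hGb : Gb.map (algebraMap _ (IsLocalRing.ResidueField Q.O)) =
      ∏ σ : K' ≃ₐ[K] K', (Polynomial.X - Polynomial.C (res σ)) := by
    rw [Polynomial.map_map, show (algebraMap (IsLocalRing.ResidueField P.O) (IsLocalRing.ResidueField Q.O)).comp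
      (IsLocalRing.residue P.O) = (IsLocalRing.residue Q.O).comp (incOver hQ) from rfl,
      ← Polynomial.map_map, hG₀, hG, Polynomial.map_prod]
    simp [res]
  have hsplitP : ((∏ σ : K' ≃ₐ[K] K', (Polynomial.X - Polynomial.C (res σ))) : Polynomial _).Splits :=
    Polynomial.Splits.prod fun σ _ => Polynomial.Splits.X_sub_C _
  have hP0 : (∏ σ : K' ≃ₐ[K] K', (Polynomial.X - Polynomial.C (res σ))) ≠ 0 :=
    Finset.prod_ne_zero_iff.2 fun σ _ => Polynomial.X_sub_C_ne_zero _
  have hdvd : h ∣ Gb := minpoly.dvd _ _ (by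
    rw [← Polynomial.aeval_map_algebraMap (IsLocalRing.ResidueField Q.O), hGb, map_prod]
    refine Finset.prod_eq_zero (Finset.mem_univ 1) ?_
    simp [res, hzα])
  have hdvd' : h.map (algebraMap _ (IsLocalRing.ResidueField Q.O)) ∣
      ∏ σ : K' ≃ₐ[K] K', (Polynomial.X - Polynomial.C (res σ)) := hGb ▸ Polynomial.map_dvd _ hdvd
  have hsplit : (h.map (algebraMap _ (IsLocalRing.ResidueField Q.O))).Splits := hsplitP.of_dvd hP0 hdvd'
  -- roots are the conjugates under the decomposition group
  have hfwd : ∀ σ ∈ ramGroup K Q 0, res σ ∈ h.rootSet (IsLocalRing.ResidueField Q.O) := fun σ hσ => by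
    obtain ⟨H, hH⟩ := Polynomial.map_surjective _ IsLocalRing.residue_surjective h
    rw [Polynomial.mem_rootSet_of_ne hirr.ne_zero, ← hH]
    have hcomm : ∀ (w : Q.O), Polynomial.aeval (IsLocalRing.residue Q.O w) (H.map (IsLocalRing.residue P.O)) =
        IsLocalRing.residue Q.O (Polynomial.eval₂ (incOver hQ) w H) := fun w => by
      rw [Polynomial.aeval_def, Polynomial.eval₂_map, Polynomial.hom_eval₂]; rfl
    have hval : ∀ (w : Q.O), ((Polynomial.eval₂ (incOver hQ) w H : Q.O) : K') =
        Polynomial.eval₂ ((algebraMap K K').comp P.O.subtype) (w : K') H := fun w => by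
      change Q.O.subtype _ = _
      rw [Polynomial.hom_eval₂]; rfl
    have h1 : IsLocalRing.residue Q.O (Polynomial.eval₂ (incOver hQ) ⟨z, hzQ⟩ H) = 0 := by
      rw [← hcomm, hzα, hH, minpoly.aeval]
    rw [hcomm, residue_eq_zero_iff, hval]
    rw [residue_eq_zero_iff, hval] at h1
    have h2 : Polynomial.eval₂ ((algebraMap K K').comp P.O.subtype) (σ z) H =
        σ (Polynomial.eval₂ ((algebraMap K K').comp P.O.subtype) z H) := by
      change _ = (σ : K' →+* K') _
      rw [Polynomial.hom_eval₂]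
      congr 1
      exact RingHom.ext fun c => (σ.commutes _).symm
    change Q.1 (Polynomial.eval₂ ((algebraMap K K').comp P.O.subtype) (σ z) H) < 1
    rw [h2, ← galPlace_apply, ramGroup_zero_iff.1 hσ]
    exact h1
  have hbwd : ∀ β ∈ h.rootSet (IsLocalRing.ResidueField Q.O), ∃ σ ∈ ramGroup K Q 0, res σ = β := fun β hβ => by
    rw [Polynomial.mem_rootSet_of_ne hirr.ne_zero, ← Polynomial.aeval_map_algebraMap (IsLocalRing.ResidueField Q.O)] at hβ
    obtain ⟨c, hc⟩ := hdvd'
    have h0 : Polynomial.aeval β (∏ σ : K' ≃ₐ[K] K', (Polynomial.X - Polynomial.C (res σ))) = 0 := by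
      rw [hc, map_mul, hβ, zero_mul]
    rw [map_prod, Finset.prod_eq_zero_iff] at h0
    obtain ⟨σ, -, hσ⟩ := h0
    simp only [map_sub, Polynomial.aeval_X, Polynomial.aeval_C, Algebra.algebraMap_self, RingHom.id_apply,
      sub_eq_zero] at hσ
    refine ⟨σ, ramGroup_zero_iff.2 ?_, hσ.symm⟩
    by_contra hne
    have hz0 : res σ = 0 := (residue_eq_zero_iff _).2 (hzR _ (isOver_galPlace hQ) hne)
    rw [Polynomial.aeval_map_algebraMap, hσ, hz0] at hβ
    have h3 : h = Polynomial.X := by
      have hdX : Polynomial.X ∣ h := Polynomial.X_dvd_iff.2 (by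
        rw [← Polynomial.coeff_zero_eq_aeval_zero' (A := IsLocalRing.ResidueField Q.O)] at hβ
        exact (map_eq_zero _).1 hβ)
      exact (Polynomial.eq_of_monic_of_associated Polynomial.monic_X (minpoly.monic (IsIntegral.of_finite _ α))
        ((Polynomial.irreducible_X).associated_of_dvd hirr hdX)).symm
    have h4 := minpoly.aeval (IsLocalRing.ResidueField P.O) α
    rw [show minpoly (IsLocalRing.ResidueField P.O) α = Polynomial.X from h3, Polynomial.aeval_X] at h4
    exact hα0 h4
  -- fibres are cosets of inertia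
  have hker : ∀ σ τ, σ ∈ ramGroup K Q 0 → τ ∈ ramGroup K Q 0 → (res σ = res τ ↔ σ⁻¹ * τ ∈ ramGroup K Q 1) := by
    intro σ τ hσ hτ
    set ρ := σ⁻¹ * τ
    have hρ : ρ ∈ ramGroup K Q 0 := mul_mem (inv_mem hσ) hτ
    have hσv : ∀ a : K', Q.1 (σ a) = Q.1 a := fun a => by rw [← galPlace_apply, ramGroup_zero_iff.1 hσ]
    have hτe : τ z = σ (ρ z) := by rw [← AlgEquiv.mul_apply, mul_inv_cancel_left]
    have h1 : (res σ = res τ) ↔ Q.1 (ρ z - z) < 1 := by
      rw [← sub_eq_zero, ← map_sub, residue_eq_zero_iff]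
      change Q.1 (σ z - τ z) < 1 ↔ _
      rw [hτe, ← map_sub, hσv, Q.1.map_sub_swap]
    rw [h1]
    refine ⟨fun h2 x hx => ?_, fun h2 => (v_lt_one_iff_le_exp Q _).2 (by simpa using h2 z hzQ)⟩
    rw [Nat.cast_one, ← v_lt_one_iff_le_exp]
    have hxmem : IsLocalRing.residue Q.O ⟨x, hx⟩ ∈ Algebra.adjoin (IsLocalRing.ResidueField P.O) {α} := by
      rw [← IntermediateField.adjoin_simple_toSubalgebra_of_isAlgebraic (IsIntegral.of_finite _ α).isAlgebraic, hα]
      trivial
    rw [Algebra.adjoin_singleton_eq_range_aeval] at hxmem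
    obtain ⟨p, hp⟩ := hxmem
    obtain ⟨Hp, rfl⟩ := Polynomial.map_surjective _ IsLocalRing.residue_surjective p
    set w : Q.O := Polynomial.eval₂ (incOver hQ) ⟨z, hzQ⟩ Hp with hw
    have hxw : Q.1 (x - (w : K')) < 1 := by
      refine (residue_eq_zero_iff (P := Q) (⟨x, hx⟩ - w)).1 ?_
      rw [map_sub, sub_eq_zero, ← hp, hw, Polynomial.hom_eval₂, hzα]
      exact Polynomial.eval₂_map ..
    have hρv : ∀ a : K', Q.1 (ρ a) = Q.1 a := fun a => by rw [← galPlace_apply, ramGroup_zero_iff.1 hρ]
    have hρw : Q.1 (ρ (w : K') - (w : K')) < 1 := by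
      have hval : (w : K') = Polynomial.eval₂ ((algebraMap K K').comp P.O.subtype) z Hp := by
        change Q.O.subtype _ = _
        rw [Polynomial.hom_eval₂]; rfl
      set w' : Q.O := Polynomial.eval₂ (incOver hQ) ⟨ρ z, hzle ρ⟩ Hp with hw'
      have hval' : (w' : K') = ρ (w : K') := by
        rw [hval]
        change Q.O.subtype _ = (ρ : K' →+* K') _
        rw [Polynomial.hom_eval₂, Polynomial.hom_eval₂]
        congr 1
        exact RingHom.ext fun c => (ρ.commutes _).symm
      rw [← hval']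
      refine (residue_eq_zero_iff (P := Q) (w' - w)).1 ?_
      rw [map_sub, sub_eq_zero, hw', hw, Polynomial.hom_eval₂, Polynomial.hom_eval₂]
      congr 1
      rw [← sub_eq_zero, ← map_sub, residue_eq_zero_iff]
      exact h2
    rw [show ρ x - x = ρ (x - (w : K')) + (ρ (w : K') - (w : K')) + ((w : K') - x) by rw [map_sub]; ring]
    refine Valuation.map_add_lt _ (Valuation.map_add_lt _ ?_ hρw) (by rw [Q.1.map_sub_swap]; exact hxw)
    rw [hρv]; exact hxw
  -- count
  have hI : ramGroup K Q 1 ≤ ramGroup K Q 0 := ramGroup_anti Q zero_le_one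
  set I := (ramGroup K Q 1).subgroupOf (ramGroup K Q 0)
  have hIcard : Nat.card I = Nat.card (ramGroup K Q 1) := Nat.card_congr (Subgroup.subgroupOfEquivOfLe hI).toEquiv
  have hq : Nat.card (ramGroup K Q 0 ⧸ I) = h.natDegree := by
    rw [← Polynomial.card_rootSet_eq_natDegree (K := IsLocalRing.ResidueField Q.O)
      (Algebra.IsSeparable.isSeparable _ α) hsplit, ← Nat.card_eq_fintype_card]
    refine Nat.card_eq_of_bijective (fun q : ramGroup K Q 0 ⧸ I =>
      Quotient.liftOn' q (fun σ => (⟨res σ.1, hfwd σ.1 σ.2⟩ : h.rootSet (IsLocalRing.ResidueField Q.O)))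
        fun σ τ hr => Subtype.ext ((hker σ.1 τ.1 σ.2 τ.2).2
          (Subgroup.mem_subgroupOf.1 (QuotientGroup.leftRel_apply.1 hr)))) ⟨?_, ?_⟩
    · intro a b
      induction a, b using Quotient.inductionOn₂' with
      | h σ τ => exact fun h1 => Quotient.sound' (QuotientGroup.leftRel_apply.2
          (Subgroup.mem_subgroupOf.2 ((hker σ.1 τ.1 σ.2 τ.2).1 (congrArg Subtype.val h1))))
    · rintro ⟨β, hβ⟩
      obtain ⟨σ, hσ, hres⟩ := hbwd β hβ
      exact ⟨QuotientGroup.mk ⟨σ, hσ⟩, Subtype.ext hres⟩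
  have hD := card_decomp hK he
  rw [Subgroup.card_eq_card_quotient_mul_card_subgroup I, hq, hIcard, hdegf] at hD
  have hpos : 0 < h.natDegree * P.deg := by
    rw [mul_comm, ← hdegf]; exact hQpos
  have hD' : h.natDegree * P.deg * Nat.card (ramGroup K Q 1) = h.natDegree * P.deg * e := by
    calc _ = h.natDegree * Nat.card (ramGroup K Q 1) * P.deg := by ring
      _ = e * (P.deg * h.natDegree) := hD
      _ = _ := by ring
  exact Nat.eq_of_mul_eq_mul_left hpos hD'

end Groth.Agent.FF
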