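import Mathlib
import Groth.Agent.FF.GaloisCard
import Groth.Agent.FF.Expansion

/-! The higher ramification groups. -/

set_option autoImplicit false
set_option linter.style.haveILetI false

namespace Groth.Agent.FF

open FunFld
open scoped WithZero

attribute [local instance high] FunFld.Place.algRes
attribute [-instance] IsLocalRing.instModuleResidueFieldOfAlgebra

universe u v w

variable {k : Type u} {K : Type v} {K' : Type w} [Field k] [Field K] [Field K'] [Algebra k K] [Algebra K K']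
  [Algebra k K'] [IsScalarTower k K K'] [FiniteDimensional K K'] {Q : Place k K'}
  [Algebra.IsSeparable k (IsLocalRing.ResidueField Q.O)]

omit [Field K] [Algebra k K] [Algebra K K'] [IsScalarTower k K K'] [FiniteDimensional K K'] in
/-- Approximate roots lifting a separable residue. -/
lemma exists_approx_root {t : K'} (ht : Q.1 t = WithZero.exp (-1)) (z : Q.O) (N : ℕ) :
    ∃ (f : Polynomial k) (c : Q.O), Q.1 ((z : K') - (c : K')) < 1 ∧
      Q.1 ((Polynomial.aeval c f : Q.O) : K') ≤ WithZero.exp (-(N : ℤ)) ∧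
      Q.1 ((Polynomial.aeval c f.derivative : Q.O) : K') = 1 := by
  set α := IsLocalRing.residue Q.O z
  obtain ⟨c, hc⟩ := Ideal.Quotient.mk_surjective (sec Q ht N α)
  have hcα : IsLocalRing.residue Q.O c = α := by
    have h := truncRes_sec Q ht N α
    rw [← hc, truncRes_mk] at h
    exact h
  refine ⟨minpoly k α, c, ?_, ?_, ?_⟩
  · refine (residue_eq_zero_iff (P := Q) (z - c)).1 ?_
    rw [map_sub, hcα, sub_self]
  · have h0 : Polynomial.aeval (sec Q ht N α) (minpoly k α) = 0 := by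
      rw [Polynomial.aeval_algHom_apply, minpoly.aeval, map_zero]
    rw [← hc, ← Ideal.Quotient.mkₐ_eq_mk k, Polynomial.aeval_algHom_apply, Ideal.Quotient.mkₐ_eq_mk,
      Ideal.Quotient.eq_zero_iff_mem, mem_span_unif_pow] at h0
    exact h0.trans (WithZero.exp_le_exp.2 (by push_cast; omega))
  · refine le_antisymm (Polynomial.aeval c (minpoly k α).derivative).2 (le_of_not_gt fun h => ?_)
    have h1 := (residue_eq_zero_iff _).2 h
    let r : Q.O →ₐ[k] IsLocalRing.ResidueField Q.O := { toRingHom := IsLocalRing.residue Q.O, commutes' := fun _ => rfl }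
    change r (Polynomial.aeval c (minpoly k α).derivative) = 0 at h1
    rw [← Polynomial.aeval_algHom_apply, show r c = α from hcα] at h1
    exact (Algebra.IsSeparable.isSeparable k α).aeval_derivative_ne_zero (minpoly.aeval _ _) h1

/-- An inertial automorphism nearly fixes such an element. -/
lemma exists_nearly_fixed {t : K'} (ht : Q.1 t = WithZero.exp (-1)) {σ : K' ≃ₐ[K] K'} (hσ : σ ∈ ramGroup K Q 1)
    {x : K'} (hx : Q.1 x ≤ 1) (N : ℕ) :
    ∃ c : K', Q.1 c ≤ 1 ∧ Q.1 (x - c) < 1 ∧ Q.1 (σ c - c) ≤ WithZero.exp (-(N : ℤ)) := by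
  obtain ⟨f, c, h1, h2, h3⟩ := exists_approx_root ht ⟨x, hx⟩ N
  refine ⟨c, c.2, h1, ?_⟩
  have hσc : Q.1 (σ (c : K')) ≤ 1 := preserves_of_mem_ramGroup hσ c.2
  let d : Q.O := ⟨σ (c : K'), hσc⟩ - c
  have hd : Q.1 (d : K') < 1 := (v_lt_one_iff_le_exp Q _).2 (by have := hσ (c : K') c.2; rw [Nat.cast_one] at this; exact this)
  obtain ⟨r, hr⟩ := Polynomial.binomExpansion (f.map (algebraMap k Q.O)) c d
  simp only [Polynomial.eval_map_algebraMap, Polynomial.derivative_map] at hr
  rw [show c + d = ⟨σ (c : K'), hσc⟩ by simp [d]] at hr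
  have hev : ((Polynomial.aeval (⟨σ (c : K'), hσc⟩ : Q.O) f : Q.O) : K') =
      σ ((Polynomial.aeval c f : Q.O) : K') := by
    let val : Q.O →ₐ[k] K' := { toRingHom := Q.O.subtype, commutes' := fun _ => rfl }
    change val _ = (σ.restrictScalars k).toAlgHom (val _)
    rw [← Polynomial.aeval_algHom_apply, ← Polynomial.aeval_algHom_apply, ← Polynomial.aeval_algHom_apply]
    rfl
  have hσv : ∀ a : K', Q.1 (σ a) = Q.1 a := fun a => by
    rw [← galPlace_apply, ramGroup_zero_iff.1 (ramGroup_anti Q zero_le_one hσ)]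
  have hr' := congrArg (fun w : Q.O => (w : K')) hr
  simp only [AddMemClass.coe_add, MulMemClass.coe_mul, SubmonoidClass.coe_pow, hev] at hr'
  set a := ((Polynomial.aeval c f.derivative : Q.O) : K')
  have hu : Q.1 (a + (r : K') * (d : K')) = 1 := by
    rw [Valuation.map_add_eq_of_lt_left]
    · exact h3
    · rw [h3, map_mul]
      exact lt_of_le_of_lt (mul_le_of_le_one_left' r.2) hd
  have heq : (d : K') * (a + (r : K') * (d : K')) =
      σ ((Polynomial.aeval c f : Q.O) : K') - ((Polynomial.aeval c f : Q.O) : K') := by rw [hr']; ring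
  have h4 := congrArg Q.1 heq
  rw [map_mul, hu, mul_one] at h4
  refine le_trans (le_of_eq h4) ((Q.1.map_sub _ _).trans (max_le ?_ h2))
  rw [hσv]; exact h2

/-- The criterion on a parameter. -/
theorem mem_ramGroup_iff_unif {t : K'} (ht : Q.1 t = WithZero.exp (-1)) {σ : K' ≃ₐ[K] K'}
    (hσ : σ ∈ ramGroup K Q 1) (j : ℕ) :
    σ ∈ ramGroup K Q j ↔ Q.1 (σ t - t) ≤ WithZero.exp (-(j : ℤ)) := by
  have ht1 : Q.1 t ≤ 1 := by rw [ht, ← WithZero.exp_zero, WithZero.exp_le_exp]; omega
  refine ⟨fun h => h t ht1, fun hj => ?_⟩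
  suffices H : ∀ i, i ≤ j → σ ∈ ramGroup K Q i from H j le_rfl
  intro i
  induction i with
  | zero => exact fun _ => ramGroup_anti Q zero_le_one hσ
  | succ i ih =>
    intro hi x hx
    obtain ⟨c, hc, hxc, hσc⟩ := exists_nearly_fixed ht hσ hx (i + 1)
    have ht0 : t ≠ 0 := fun h => by rw [h, map_zero] at ht; exact WithZero.exp_ne_zero ht.symm
    set x' := (x - c) / t with hx'
    have hx'1 : Q.1 x' ≤ 1 := by
      rw [hx', map_div₀, ht]
      exact div_le_one_of_le₀ ((v_lt_one_iff_le_exp Q _).1 hxc) zero_le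
    have he : x = c + t * x' := by rw [hx', mul_div_cancel₀ _ ht0]; ring
    rw [he, map_add, map_mul, show σ c + σ t * σ x' - (c + t * x') =
      (σ c - c) + (σ t - t) * σ x' + t * (σ x' - x') by ring]
    refine (Q.1.map_add _ _).trans (max_le ((Q.1.map_add _ _).trans (max_le hσc ?_)) ?_)
    · rw [map_mul]
      refine (mul_le_of_le_one_right' (preserves_of_mem_ramGroup hσ hx'1)).trans (hj.trans ?_)
      rw [WithZero.exp_le_exp]; omega
    · rw [map_mul, ht]
      refine (mul_le_mul_right (ih (by omega) x' hx'1) _).trans ?_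
      rw [← WithZero.exp_add, WithZero.exp_le_exp]; push_cast; omega

/-- The first quotient is cyclic. -/
theorem exists_generator_inertia :
    ∃ σ₀ ∈ ramGroup K Q 1, ∀ σ ∈ ramGroup K Q 1, ∃ n : ℕ, (σ₀ ^ n)⁻¹ * σ ∈ ramGroup K Q 2 := by
  classical
  obtain ⟨t, ht⟩ := exists_unif Q
  have ht0 : t ≠ 0 := fun h => by rw [h, map_zero] at ht; exact WithZero.exp_ne_zero ht.symm
  have hv : ∀ σ ∈ ramGroup K Q 1, ∀ a : K', Q.1 (σ a) = Q.1 a := fun σ hσ a => by
    rw [← galPlace_apply, ramGroup_zero_iff.1 (ramGroup_anti Q zero_le_one hσ)]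
  let q : ramGroup K Q 1 → Q.O := fun σ => ⟨σ.1 t / t, show Q.1 (σ.1 t / t) ≤ 1 by
    rw [map_div₀, hv _ σ.2, div_self ((Valuation.ne_zero_iff _).2 ht0)]⟩
  let θ : ramGroup K Q 1 →* IsLocalRing.ResidueField Q.O :=
    { toFun := fun σ => IsLocalRing.residue Q.O (q σ)
      map_one' := by
        rw [show q 1 = 1 from Subtype.ext (by simp [q, div_self ht0]), map_one]
      map_mul' := fun σ τ => by
        rw [← map_mul, ← sub_eq_zero, ← map_sub, residue_eq_zero_iff, v_lt_one_iff_le_exp]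
        change Q.1 ((σ.1 * τ.1) t / t - σ.1 t / t * (τ.1 t / t)) ≤ _
        have e : (σ.1 * τ.1) t / t - σ.1 t / t * (τ.1 t / t) =
            (σ.1 (τ.1 t / t) - τ.1 t / t) * (σ.1 t / t) := by
          rw [AlgEquiv.mul_apply, map_div₀]
          have hσt : σ.1 t ≠ 0 := by simpa using ht0
          field_simp
        rw [e, map_mul]
        refine (mul_le_of_le_one_right' (q σ).2).trans ?_
        have h := σ.2 _ (q τ).2
        rw [Nat.cast_one] at h
        exact h }
  haveI : Finite (MonoidHom.range θ.toHomUnits) := inferInstance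
  obtain ⟨⟨g, σ₀, hσ₀⟩, hgen⟩ := IsCyclic.exists_generator (α := MonoidHom.range θ.toHomUnits)
  refine ⟨σ₀.1, σ₀.2, fun σ hσ => ?_⟩
  obtain ⟨n, hn⟩ := mem_powers_iff_mem_zpowers.2 (hgen ⟨θ.toHomUnits ⟨σ, hσ⟩, ⟨σ, hσ⟩, rfl⟩)
  refine ⟨n, ?_⟩
  set ρ : ramGroup K Q 1 := (σ₀ ^ n)⁻¹ * ⟨σ, hσ⟩
  have hρ : θ.toHomUnits ρ = 1 := by
    have h := congrArg (fun w : MonoidHom.range θ.toHomUnits => (w : (IsLocalRing.ResidueField Q.O)ˣ)) hn
    simp only [SubmonoidClass.coe_pow] at h
    rw [map_mul, map_inv, map_pow, hσ₀, h, inv_mul_cancel]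
  have h2 : IsLocalRing.residue Q.O (q ρ - 1) = 0 := by
    have h := congrArg (fun w : (IsLocalRing.ResidueField Q.O)ˣ => (w : IsLocalRing.ResidueField Q.O)) hρ
    rw [map_sub, map_one, sub_eq_zero]
    exact h
  rw [residue_eq_zero_iff, v_lt_one_iff_le_exp] at h2
  change (ρ : K' ≃ₐ[K] K') ∈ _
  rw [mem_ramGroup_iff_unif ht ρ.2]
  rw [show ρ.1 t - t = (ρ.1 t / t - 1) * t by field_simp, map_mul, ht]
  refine (mul_le_mul_left h2 _).trans ?_
  rw [← WithZero.exp_add, WithZero.exp_le_exp]; norm_num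

/-- The higher quotients embed in the additive group of the residue field. -/
theorem exists_additive (i : ℕ) (hi : 2 ≤ i) :
    ∃ θ : ramGroup K Q i →* Multiplicative (IsLocalRing.ResidueField Q.O),
      ∀ σ, θ σ = 1 ↔ σ.1 ∈ ramGroup K Q (i + 1) := by
  classical
  obtain ⟨t, ht⟩ := exists_unif Q
  have ht0 : t ≠ 0 := fun h => by rw [h, map_zero] at ht; exact WithZero.exp_ne_zero ht.symm
  have ht1 : Q.1 t ≤ 1 := by rw [ht, ← WithZero.exp_zero, WithZero.exp_le_exp]; omega
  have hti : Q.1 (t ^ i) = WithZero.exp (-(i : ℤ)) := by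
    rw [map_pow, ht, ← WithZero.exp_nsmul]; congr 1; simp
  have hle : ∀ σ ∈ ramGroup K Q i, σ ∈ ramGroup K Q 1 := fun σ h => ramGroup_anti Q (by omega) h
  have hv : ∀ σ ∈ ramGroup K Q i, ∀ a : K', Q.1 (σ a) = Q.1 a := fun σ hσ a => by
    rw [← galPlace_apply, ramGroup_zero_iff.1 (ramGroup_anti Q (Nat.zero_le i) hσ)]
  let a : ramGroup K Q i → Q.O := fun σ => ⟨(σ.1 t - t) / t ^ i, show Q.1 ((σ.1 t - t) / t ^ i) ≤ 1 by
    rw [map_div₀, hti]; exact div_le_one_of_le₀ (σ.2 t ht1) zero_le⟩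
  let θ : ramGroup K Q i →* Multiplicative (IsLocalRing.ResidueField Q.O) :=
    { toFun := fun σ => Multiplicative.ofAdd (IsLocalRing.residue Q.O (a σ))
      map_one' := by rw [show a 1 = 0 from Subtype.ext (by simp [a]), map_zero]; rfl
      map_mul' := fun σ τ => by
        rw [← ofAdd_add]
        congr 1
        rw [← map_add, ← sub_eq_zero, ← map_sub, residue_eq_zero_iff, v_lt_one_iff_le_exp]
        change Q.1 (((σ.1 * τ.1) t - t) / t ^ i - ((σ.1 t - t) / t ^ i + (τ.1 t - t) / t ^ i)) ≤ _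
        rw [AlgEquiv.mul_apply]
        have e : (σ.1 (τ.1 t) - t) / t ^ i - ((σ.1 t - t) / t ^ i + (τ.1 t - t) / t ^ i) =
            (σ.1 (τ.1 t - t) - (τ.1 t - t)) / t ^ i := by rw [map_sub]; ring
        have hb : σ.1 (τ.1 t - t) - (τ.1 t - t) =
            σ.1 (t ^ i) * (σ.1 (a τ : K') - (a τ : K')) + (a τ : K') * (σ.1 (t ^ i) - t ^ i) := by
          have e2 : τ.1 t - t = (a τ : K') * t ^ i := by
            change _ = (τ.1 t - t) / t ^ i * t ^ i
            rw [div_mul_cancel₀ _ (pow_ne_zero _ ht0)]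
          rw [e2, map_mul]; ring
        rw [e, hb, map_div₀, hti]
        refine (div_le_iff₀ WithZero.exp_pos).2 ?_
        rw [← WithZero.exp_add]
        refine (Q.1.map_add _ _).trans (max_le ?_ ?_)
        · rw [map_mul, hv _ σ.2, hti]
          refine (mul_le_mul_right (σ.2 _ (a τ).2) _).trans ?_
          rw [← WithZero.exp_add, WithZero.exp_le_exp]; omega
        · rw [map_mul]
          refine (mul_le_of_le_one_left' (a τ).2).trans ?_
          rw [map_pow, ← geom_sum₂_mul, map_mul]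
          refine (mul_le_mul' (c := Q.1 (σ.1 t - t))
            (b := WithZero.exp (-((i - 1 : ℕ) : ℤ))) ?_ le_rfl).trans ?_
          · refine Valuation.map_sum_le _ fun l hl => ?_
            rw [map_mul, map_pow, map_pow, hv _ σ.2, ← pow_add, ht, ← WithZero.exp_nsmul, WithZero.exp_le_exp,
              nsmul_eq_mul]
            have := Finset.mem_range.1 hl
            have : l + (i - 1 - l) = i - 1 := by omega
            rw [this]; simp
          · refine (mul_le_mul_right (σ.2 t ht1) _).trans ?_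
            rw [← WithZero.exp_add, WithZero.exp_le_exp]; omega }
  refine ⟨θ, fun σ => ?_⟩
  rw [mem_ramGroup_iff_unif ht (hle _ σ.2)]
  change IsLocalRing.residue Q.O (a σ) = 0 ↔ _
  rw [residue_eq_zero_iff, v_lt_one_iff_le_exp]
  change Q.1 ((σ.1 t - t) / t ^ i) ≤ _ ↔ _
  rw [map_div₀, hti, div_le_iff₀ WithZero.exp_pos, ← WithZero.exp_add]
  rw [show (-1 : ℤ) + -(i : ℤ) = -((i + 1 : ℕ) : ℤ) by push_cast; ring]

end Groth.Agent.FF
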