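import Mathlib
import Groth.Agent.FF.RamGroups

/-! The inertia field. -/

set_option autoImplicit false
set_option linter.style.haveILetI false

namespace Groth.Agent.FF

open FunFld
open scoped WithZero

attribute [local instance high] FunFld.Place.algRes
attribute [-instance] IsLocalRing.instModuleResidueFieldOfAlgebra

universe u v w

variable {k : Type u} {K : Type v} {K' : Type w} [Field k] [Field K] [Field K'] [Algebra k K] [Algebra K K']
  [Algebra k K'] [IsScalarTower k K K'] [FiniteDimensional K K'] [IsGalois K K'] (hK : IsFunctionField k K)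
  (E : IntermediateField K K')
include hK

/-- The place of an intermediate field below a place, with its ramification index. -/
theorem exists_below_intermediate (Q : Place k K') [Algebra.IsSeparable k (IsLocalRing.ResidueField Q.O)] :
    ∃ Q₁ : Place k E, IsOverWith Q Q₁ (Nat.card (ramGroup K Q 1 ⊓ E.fixingSubgroup : Subgroup (K' ≃ₐ[K] K'))) := by
  classical
  haveI : IsScalarTower k E K' := IsScalarTower.of_algebraMap_eq fun c => rfl
  haveI := finite_constField (K' := E) hK
  have hKE := isFunctionField_constField (K' := E) hK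
  set k1 := algebraicClosure k E
  haveI : IsScalarTower k k1 K' := IsScalarTower.of_algebraMap_eq fun c => by
    change algebraMap k K' c = algebraMap E K' (algebraMap k E c)
    exact IsScalarTower.algebraMap_apply k E K' c
  let Q' : Place k1 K' := upPlace Q
  obtain ⟨Q₁, e₁, he₁⟩ := exists_isOver hKE Q'
  letI : Algebra k1 (IsLocalRing.ResidueField Q'.O) := Place.algRes Q'
  letI : Algebra k (IsLocalRing.ResidueField Q'.O) := Place.algRes Q
  haveI : IsScalarTower k k1 (IsLocalRing.ResidueField Q'.O) := IsScalarTower.of_algebraMap_eq fun c => by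
    change IsLocalRing.residue Q.O _ = IsLocalRing.residue Q.O _
    exact congrArg _ (Subtype.ext (IsScalarTower.algebraMap_apply k k1 K' c))
  haveI : Algebra.IsSeparable k (IsLocalRing.ResidueField Q'.O) :=
    (inferInstance : Algebra.IsSeparable k (IsLocalRing.ResidueField Q.O))
  haveI : Algebra.IsSeparable k1 (IsLocalRing.ResidueField Q'.O) := Algebra.isSeparable_tower_top_of_isSeparable k _ _
  have hcard := card_inertia_eq hKE (Q := Q') he₁
  have hE : e₁ = Nat.card (ramGroup K Q 1 ⊓ E.fixingSubgroup : Subgroup (K' ≃ₐ[K] K')) := by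
    rw [← hcard]
    refine Nat.card_congr
      { toFun := fun σ => ⟨(σ.1).restrictScalars K, Subgroup.mem_inf.2 ⟨σ.2,
          (IntermediateField.mem_fixingSubgroup_iff _ _).2 fun x hx => σ.1.commutes ⟨x, hx⟩⟩⟩
        invFun := fun σ => ⟨IntermediateField.fixingSubgroupEquiv E ⟨σ.1, (Subgroup.mem_inf.1 σ.2).2⟩,
          (Subgroup.mem_inf.1 σ.2).1⟩
        left_inv := fun σ => Subtype.ext (AlgEquiv.ext fun _ => rfl)
        right_inv := fun σ => Subtype.ext (AlgEquiv.ext fun _ => rfl) }
  exact ⟨downPlace Q₁, fun z => hE ▸ he₁ z⟩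

/-- The place below in an intermediate field is unramified exactly when the field lies in the inertia field. -/
theorem range_comap_eq_iff (Q : Place k K') [Algebra.IsSeparable k (IsLocalRing.ResidueField Q.O)] :
    Set.range (Q.1.comap (algebraMap E K')) = Set.range (Q.1.comap (algebraMap K K')) ↔
      E ≤ IntermediateField.fixedField (ramGroup K Q 1) := by
  classical
  obtain ⟨P, e, he⟩ := exists_isOver hK Q
  obtain ⟨Q₁, hQ₁⟩ := exists_below_intermediate hK E Q
  set e₁ := Nat.card (ramGroup K Q 1 ⊓ E.fixingSubgroup : Subgroup (K' ≃ₐ[K] K'))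
  have hcard := card_inertia_eq hK (Q := Q) he
  have hle : e₁ ≤ e := hcard ▸ Subgroup.card_le_of_le inf_le_left
  have hiff : E ≤ IntermediateField.fixedField (ramGroup K Q 1) ↔ e₁ = e := by
    rw [IntermediateField.le_iff_le]
    refine ⟨fun h => ?_, fun h => ?_⟩
    · rw [← hcard]; simp only [e₁]; rw [inf_eq_left.2 h]
    have := Subgroup.eq_of_le_of_card_ge (H := ramGroup K Q 1 ⊓ E.fixingSubgroup) (K := ramGroup K Q 1) inf_le_left (le_of_eq (by rw [hcard]; exact h.symm))
    rw [← this]; exact inf_le_right
  rw [hiff]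
  constructor
  · intro h
    obtain ⟨u, hu0, hu⟩ := exists_v_eq Q₁ (-1)
    have h1 : Q.1 (algebraMap E K' u) ∈ Set.range (Q.1.comap (algebraMap K K')) := h ▸ ⟨u, rfl⟩
    obtain ⟨c, hc⟩ := h1
    change Q.1 (algebraMap K K' c) = Q.1 (algebraMap E K' u) at hc
    rw [he c, hQ₁ u, hu] at hc
    have hc0 : c ≠ 0 := fun h0 => by
      rw [h0, map_zero, zero_pow (pos_of_isOverWith he).ne'] at hc
      exact pow_ne_zero _ WithZero.exp_ne_zero hc.symm
    rw [v_eq_exp P hc0, ← WithZero.exp_nsmul, ← WithZero.exp_nsmul, WithZero.exp_inj] at hc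
    simp only [nsmul_eq_mul] at hc
    have hdvd : (e : ℤ) ∣ (e₁ : ℤ) := ⟨P.ord c, by linarith⟩
    exact le_antisymm hle (Nat.le_of_dvd (pos_of_isOverWith hQ₁) (Int.natCast_dvd_natCast.1 hdvd))
  · intro h
    refine Set.Subset.antisymm ?_ ?_
    · rintro _ ⟨z, rfl⟩
      obtain ⟨c, hc⟩ := P.2.2 (Q₁.1 z)
      refine ⟨c, ?_⟩
      change Q.1 (algebraMap K K' c) = Q.1 (algebraMap E K' z)
      rw [he c, hQ₁ z, h, hc]
    · rintro _ ⟨c, rfl⟩
      exact ⟨algebraMap K E c, rfl⟩

/-- The extension over the inertia field is totally ramified. -/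
theorem exists_place_inertiaField (Q : Place k K') [Algebra.IsSeparable k (IsLocalRing.ResidueField Q.O)] :
    ∃ Q₁ : Place k (IntermediateField.fixedField (ramGroup K Q 1)),
      IsOverWith Q Q₁ (Module.finrank (IntermediateField.fixedField (ramGroup K Q 1)) K') ∧
      Module.finrank (IntermediateField.fixedField (ramGroup K Q 1)) K' = Nat.card (ramGroup K Q 1) := by
  obtain ⟨Q₁, h⟩ := exists_below_intermediate hK (IntermediateField.fixedField (ramGroup K Q 1)) Q
  have e1 : Module.finrank (IntermediateField.fixedField (ramGroup K Q 1)) K' = Nat.card (ramGroup K Q 1) :=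
    IntermediateField.finrank_fixedField_eq_card _
  refine ⟨Q₁, ?_, e1⟩
  rw [IntermediateField.fixingSubgroup_fixedField, inf_idem] at h
  rwa [e1]

end Groth.Agent.FF
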