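import Mathlib
import Groth.Agent.FF.Diff
import Groth.Agent.FF.Ext
import Groth.Agent.FF.LocalRings
import Groth.Agent.FF.GaloisPlaces

/-! Coefficient fields of expansions of a separable extension are separable. -/

set_option autoImplicit false
set_option linter.style.haveILetI false

namespace Groth.Agent.FF

open FunFld LaurentSeries HahnSeries
open scoped WithZero IntermediateField

attribute [local instance high] FunFld.Place.algRes
attribute [-instance] IsLocalRing.instModuleResidueFieldOfAlgebra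

universe u v w

variable {k : Type u} {K K' : Type v} [Field k] [Field K] [Field K'] [Algebra k K] [Algebra K K'] [Algebra k K']
  [IsScalarTower k K K'] [FiniteDimensional K K'] [Algebra.IsSeparable K K']

/-- Differentials of a separable extension form a line. -/
theorem exists_smul_D_eq_ext (hK : IsFunctionField k K) (hg : IsGeometric k K) {t : K'}
    (ht : KaehlerDifferential.D k K' t ≠ 0) (ω : Ω[K'⁄k]) : ∃ c : K', c • KaehlerDifferential.D k K' t = ω := by
  obtain ⟨x, hx, hsep⟩ := exists_separating hK hg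
  set x' := algebraMap K K' x
  haveI : Algebra.IsSeparable k⟮x⟯ K' := Algebra.IsSeparable.trans k⟮x⟯ K K'
  let i : k⟮x⟯ →+* k⟮x'⟯ := ((algebraMap K K').comp k⟮x⟯.subtype).codRestrict k⟮x'⟯ fun c => by
    have hle : k⟮x⟯ ≤ k⟮x'⟯.comap (IsScalarTower.toAlgHom k K K') :=
      IntermediateField.adjoin_simple_le_iff.2 (IntermediateField.mem_adjoin_simple_self k x')
    exact hle c.2
  letI : Algebra k⟮x⟯ k⟮x'⟯ := i.toAlgebra
  haveI : IsScalarTower k⟮x⟯ k⟮x'⟯ K' := IsScalarTower.of_algebraMap_eq fun c => by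
    rw [IsScalarTower.algebraMap_apply k⟮x⟯ K K']; rfl
  haveI : Algebra.IsSeparable k⟮x'⟯ K' := Algebra.isSeparable_tower_top_of_isSeparable k⟮x⟯ _ _
  obtain ⟨a, ha⟩ := exists_smul_D_eq (x := x') (KaehlerDifferential.D k K' t)
  have ha0 : a ≠ 0 := fun h => ht (by rw [← ha, h, zero_smul])
  obtain ⟨b, hb⟩ := exists_smul_D_eq (x := x') ω
  exact ⟨b * a⁻¹, by rw [← ha, smul_smul, inv_mul_cancel_right₀ ha0, hb]⟩

variable {Q : Place k K'} {F : Type w} [Field F] [Algebra k F] {ψ : K' →ₐ[k] F⸨X⸩}
  (hψ : LocRes.IsExpansionAt Q.1 ψ)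
include hψ

/-- The coefficient field is separable over `k`. -/
theorem isSeparable_coeffField_ext (hK : IsFunctionField k K) (hg : IsGeometric k K) : Algebra.IsSeparable k F := by
  haveI : FiniteDimensional k F := by
    obtain ⟨e, -⟩ := exists_residue_equiv hψ
    have hpos : 0 < Module.finrank k (IsLocalRing.ResidueField Q.O) := deg_pos_over (K' := K') hK Q
    haveI : Module.Finite k (IsLocalRing.ResidueField Q.O) := Module.finite_of_finrank_pos hpos
    exact Module.Finite.equiv e.toLinearEquiv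
  obtain ⟨t, ht⟩ := exists_unif Q
  have hdt := D_ne_zero_unif hψ ht
  have hzero : ∀ δ : Derivation k F F, δ = 0 := by
    intro δ
    let Δ : K' →+ F⸨X⸩ := AddMonoidHom.mk' (fun u => coeffDer δ (ψ u)) fun a b => by ext n; simp [coeffDer_coeff]
    have hΔk : ∀ c, Δ (algebraMap k K' c) = 0 := fun c => by
      ext n
      change δ ((ψ (algebraMap k K' c)).coeff n) = 0
      rw [LocRes.map_algebraMap, HahnSeries.C_apply, HahnSeries.coeff_single]
      split_ifs
      · exact δ.map_algebraMap c
      · exact map_zero δ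
    have hΔ : ∀ a b, Δ (a * b) = ψ a * Δ b + ψ b * Δ a := fun a b => by
      change coeffDer δ (ψ (a * b)) = _
      rw [map_mul, coeffDer_mul]; rfl
    set b := LocRes.D F (ψ t)
    obtain ⟨hb0, hbneg⟩ := D_exp_unif_coeff hψ ht
    have hvb : Valued.v b = 1 :=
      le_antisymm (v_le_one_iff_coeff.2 hbneg) (le_of_not_gt fun h => hb0 (v_lt_one_iff_coeff.1 h 0 le_rfl))
    have hva : Valued.v (Δ t) < 1 := by
      rw [v_lt_one_iff_coeff]
      intro m hm
      change δ ((ψ t).coeff m) = 0
      rw [v_le_iff.1 (show Valued.v (ψ t) ≤ WithZero.exp (-1 : ℤ) by rw [hψ.1, ht]) m (by omega), map_zero]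
    ext c
    obtain ⟨f, hf, rfl⟩ := hψ.2.1 c
    obtain ⟨e, he⟩ := exists_smul_D_eq_ext hK hg hdt (KaehlerDifferential.D k K' f)
    have h1 := leibniz_smul ψ Δ hΔk hΔ he
    have h2 := D_exp_eq ψ he
    have h3 : Valued.v (LocRes.D F (ψ f)) ≤ 1 := by
      obtain ⟨G, hG⟩ := exists_power_series hψ hf
      rw [hG, LocRes.D_coe]
      exact (LaurentSeries.val_le_one_iff_eq_coe _ _).2 ⟨_, rfl⟩
    rw [h2, map_mul, hvb, mul_one] at h3
    have h4 : Valued.v (Δ f) < 1 := by
      rw [h1, map_mul]
      exact lt_of_le_of_lt (mul_le_of_le_one_left' h3) hva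
    exact (v_lt_one_iff_coeff.1 h4 0 le_rfl : δ ((ψ f).coeff 0) = 0)
  haveI : Algebra.FormallyUnramified k F := ⟨subsingleton_of_forall_eq 0 fun w => by
    refine (Module.forall_dual_apply_eq_zero_iff F _).1 fun g => ?_
    have hw : w ∈ Submodule.span F (Set.range (KaehlerDifferential.D k F)) :=
      (KaehlerDifferential.span_range_derivation k F).symm ▸ Submodule.mem_top
    refine Submodule.span_le.2 ?_ hw (x := w) |> LinearMap.mem_ker.1
    rintro _ ⟨a, rfl⟩
    exact LinearMap.mem_ker.2 (DFunLike.congr_fun (hzero (g.compDer (KaehlerDifferential.D k F))) a)⟩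
  exact Algebra.FormallyUnramified.isSeparable _ _

end Groth.Agent.FF
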