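import Mathlib
import Groth.Agent.FF.InertiaField
import Groth.Agent.FF.SepExt
import Groth.Agent.FF.DiffSpec

/-! The different exponent in a Galois extension. -/

set_option autoImplicit false
set_option linter.style.haveILetI false

namespace Groth.Agent.FF

open FunFld LaurentSeries HahnSeries
open scoped WithZero

attribute [local instance high] FunFld.Place.algRes
attribute [-instance] IsLocalRing.instModuleResidueFieldOfAlgebra

universe u v w

variable {k : Type u} {K K' : Type v} [Field k] [Field K] [Field K'] [Algebra k K] [Algebra K K'] [Algebra k K']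
  [IsScalarTower k K K'] {F' : Type w} [Field F'] [Algebra k F'] {ψ : K' →ₐ[k] F'⸨X⸩} {Q : Place k K'}
  (hψ : LocRes.IsExpansionAt Q.1 ψ)
include hψ

omit [Algebra K K'] [IsScalarTower k K K'] [Field K] [Algebra k K] in
lemma v_D_le_one {z : K'} (hz : Q.1 z ≤ 1) : Valued.v (LocRes.D F' (ψ z)) ≤ 1 := by
  obtain ⟨G, hG⟩ := exists_power_series hψ hz
  rw [hG, LocRes.D_coe]
  exact (LaurentSeries.val_le_one_iff_eq_coe _ _).2 ⟨_, rfl⟩

omit [Algebra K K'] [IsScalarTower k K K'] [Field K] [Algebra k K] in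
lemma D_exp_mul (a b : K') :
    LocRes.D F' (ψ (a * b)) = ψ a * LocRes.D F' (ψ b) + ψ b * LocRes.D F' (ψ a) := by
  rw [map_mul, Derivation.leibniz, smul_eq_mul, smul_eq_mul]

omit [Algebra K K'] [IsScalarTower k K K'] [Field K] [Algebra k K] hψ in
/-- The chain rule for a polynomial with constant coefficients. -/
lemma D_exp_aeval_const (z : K') (p : Polynomial k) :
    LocRes.D F' (ψ (Polynomial.aeval z p)) = ψ (Polynomial.aeval z p.derivative) * LocRes.D F' (ψ z) := by
  induction p using Polynomial.induction_on' with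
  | add p q hp hq => simp only [map_add, hp, hq, Polynomial.derivative_add]; ring
  | monomial n a =>
    rw [Polynomial.derivative_monomial, Polynomial.aeval_monomial, Polynomial.aeval_monomial, map_mul ψ, map_mul ψ,
      map_pow ψ, map_pow ψ, Derivation.leibniz, Derivation.leibniz_pow, LocRes.map_algebraMap, LocRes.map_algebraMap,
      LocRes.D_apply F' (HahnSeries.C _), LocRes.derivative_C]
    simp only [smul_eq_mul, nsmul_eq_mul, map_mul, map_natCast, mul_zero, add_zero]
    ring

section below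

variable [FiniteDimensional K K'] (E : IntermediateField K K') (Q₁ : Place k E) {n : ℕ} (hQ₁ : IsOverWith Q Q₁ n)
  [Algebra.IsSeparable k (IsLocalRing.ResidueField Q₁.O)] {t : E} (ht : Q₁.1 t = WithZero.exp (-1))
include hQ₁ ht

/-- The differential of an integral element below is bounded by that of a parameter. -/
lemma v_D_le_of_below {a : E} (ha : Q₁.1 a ≤ 1) (hT : Valued.v (LocRes.D F' (ψ (t : K'))) ≠ 0) :
    Valued.v (LocRes.D F' (ψ (a : K'))) ≤ Valued.v (LocRes.D F' (ψ (t : K'))) := by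
  classical
  have hn := pos_of_isOverWith hQ₁
  have hle : ∀ z : E, Q₁.1 z ≤ 1 → Q.1 (z : K') ≤ 1 := fun z hz => by
    rw [show Q.1 (z : K') = Q₁.1 z ^ n from hQ₁ z]; exact pow_le_one' hz _
  have hQt : Q.1 (t : K') ≤ WithZero.exp (-1) := by
    rw [show Q.1 (t : K') = Q₁.1 t ^ n from hQ₁ t, ht, ← WithZero.exp_nsmul, WithZero.exp_le_exp, nsmul_eq_mul]
    linarith [show (1 : ℤ) ≤ n by omega]
  -- approximate roots have small differential
  have happ : ∀ z : E, Q₁.1 z ≤ 1 → ∀ j : ℕ, ∃ c : E, Q₁.1 c ≤ 1 ∧ Q₁.1 (z - c) < 1 ∧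
      Valued.v (LocRes.D F' (ψ (c : K'))) ≤ WithZero.exp (-(j : ℤ)) := by
    intro z hz j
    obtain ⟨f, c, h1, h2, h3⟩ := exists_approx_root ht ⟨z, hz⟩ (j + 1)
    refine ⟨c, c.2, h1, ?_⟩
    set fc : E := ((Polynomial.aeval c f : Q₁.O) : E)
    set t0 := t ^ (j + 1)
    have ht0 : t ≠ 0 := fun h => by rw [h, map_zero] at ht; exact WithZero.exp_ne_zero ht.symm
    have htj : Q₁.1 t0 = WithZero.exp (-((j + 1 : ℕ) : ℤ)) := by
      rw [map_pow, ht, ← WithZero.exp_nsmul]; congr 1; simp
    have hw : Q₁.1 (fc / t0) ≤ 1 := by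
      rw [map_div₀, htj]; exact div_le_one_of_le₀ h2 zero_le
    have hval : ∀ g : Polynomial k, ((((Polynomial.aeval c g : Q₁.O) : E)) : K') = Polynomial.aeval ((c : E) : K') g := by
      intro g
      let val : Q₁.O →ₐ[k] K' :=
        { toRingHom := (algebraMap E K').comp Q₁.O.subtype
          commutes' := fun a => rfl }
      change val _ = _
      rw [← Polynomial.aeval_algHom_apply]
      rfl
    have hrule : LocRes.D F' (ψ (fc : K')) =
        ψ (Polynomial.aeval ((c : E) : K') f.derivative) * LocRes.D F' (ψ ((c : E) : K')) := by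
      rw [show (fc : K') = _ from hval f, D_exp_aeval_const]
    have hD : Valued.v (LocRes.D F' (ψ (fc : K'))) ≤ WithZero.exp (-(j : ℤ)) := by
      have hpow : (fc : K') = (t : K') ^ j * ((t : K') * ((fc / t0 : E) : K')) := by
        have h0 : fc = t ^ j * (t * (fc / t0)) := by
          rw [← mul_assoc, ← pow_succ, mul_div_cancel₀ _ (pow_ne_zero _ ht0)]
        have h0' := congrArg (fun z : E => (z : K')) h0
        simpa using h0'
      have htjle : Q.1 ((t : K') ^ j) ≤ WithZero.exp (-(j : ℤ)) := by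
        rw [map_pow]
        refine (pow_le_pow_left' hQt j).trans ?_
        rw [← WithZero.exp_nsmul]; simp
      have hin : Q.1 ((t : K') * ((fc / t0 : E) : K')) ≤ WithZero.exp (-1) := by
        rw [map_mul]
        exact (mul_le_of_le_one_right' (hle _ hw)).trans hQt
      rw [hpow, D_exp_mul hψ]
      refine (Valuation.map_add _ _ _).trans (max_le ?_ ?_)
      · rw [map_mul, hψ.1]
        exact (mul_le_of_le_one_right' (v_D_le_one hψ (hin.trans (by
          rw [← WithZero.exp_zero, WithZero.exp_le_exp]; omega)))).trans htjle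
      · rw [map_mul, hψ.1]
        -- the derivative of `t ^ j`
        have hder : Valued.v (LocRes.D F' (ψ ((t : K') ^ j))) ≤ WithZero.exp (-((j : ℤ) - 1)) := by
          rw [map_pow, Derivation.leibniz_pow]
          simp only [smul_eq_mul, nsmul_eq_mul, map_mul, map_pow, hψ.1]
          refine (mul_le_mul' (b := 1) ?_ ((mul_le_mul' (pow_le_pow_left' hQt (j - 1))
            (v_D_le_one hψ (hQt.trans (by rw [← WithZero.exp_zero, WithZero.exp_le_exp]; omega)))).trans ?_)).trans
            (le_of_eq (one_mul _))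
          · rw [v_le_one_iff_coeff]
            intro m hm
            rw [← map_natCast (HahnSeries.C : F' →+* F'⸨X⸩), HahnSeries.C_apply, HahnSeries.coeff_single_of_ne (by omega)]
          · rw [mul_one, ← WithZero.exp_nsmul, WithZero.exp_le_exp]; simp only [nsmul_eq_mul, mul_neg, mul_one]; omega
        refine (mul_le_mul' hin hder).trans ?_
        rw [← WithZero.exp_add, WithZero.exp_le_exp]; omega
    rw [hrule, map_mul, hψ.1] at hD
    have hu : Q.1 (Polynomial.aeval ((c : E) : K') f.derivative) = 1 := by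
      rw [← hval, show Q.1 (((Polynomial.aeval c f.derivative : Q₁.O) : E) : K') = _ from hQ₁ _, h3, one_pow]
    rwa [hu, one_mul] at hD
  set T := Valued.v (LocRes.D F' (ψ (t : K')))
  have key : ∀ j : ℕ, ∀ a : E, Q₁.1 a ≤ 1 → Valued.v (LocRes.D F' (ψ (a : K'))) ≤ max T (WithZero.exp (-(j : ℤ))) := by
    intro j
    induction j with
    | zero => exact fun a ha => le_max_of_le_right (by simpa using v_D_le_one hψ (hle a ha))
    | succ j ih =>
      intro a ha
      obtain ⟨c, hc, hac, hDc⟩ := happ a ha (j + 1)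
      have ht0 : t ≠ 0 := fun h => by rw [h, map_zero] at ht; exact WithZero.exp_ne_zero ht.symm
      set a' := (a - c) / t with ha'
      have ha'1 : Q₁.1 a' ≤ 1 := by
        rw [ha', map_div₀, ht]
        exact div_le_one_of_le₀ ((v_lt_one_iff_le_exp Q₁ _).1 hac) zero_le
      have e : (a : K') = (c : K') + (t : K') * (a' : K') := by
        have h0 : a = c + t * a' := by rw [ha', mul_div_cancel₀ _ ht0]; ring
        simpa using congrArg (fun z : E => (z : K')) h0
      rw [e, map_add, map_add, D_exp_mul hψ]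
      refine (Valuation.map_add _ _ _).trans (max_le (le_max_of_le_right hDc)
        ((Valuation.map_add _ _ _).trans (max_le ?_ ?_)))
      · rw [map_mul, hψ.1]
        refine (mul_le_mul' hQt (ih a' ha'1)).trans ?_
        rw [mul_max]
        refine max_le (le_max_of_le_left (mul_le_of_le_one_left' ?_)) (le_max_of_le_right ?_)
        · rw [← WithZero.exp_zero, WithZero.exp_le_exp]; omega
        · rw [← WithZero.exp_add, WithZero.exp_le_exp]; push_cast; omega
      · rw [map_mul, hψ.1]
        exact le_max_of_le_left (mul_le_of_le_one_left' (hle a' ha'1))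
  obtain ⟨j, hj⟩ : ∃ j : ℕ, WithZero.exp (-(j : ℤ)) ≤ T := by
    refine ⟨(-WithZero.log T).toNat, ?_⟩
    rw [← WithZero.exp_log hT, WithZero.exp_le_exp, WithZero.log_exp]
    omega
  exact (key j a ha).trans (max_le le_rfl hj)

/-- At a parameter below there is equality. -/
lemma v_D_eq_of_below {a : E} (ha : Q₁.1 a = WithZero.exp (-1)) (hT : Valued.v (LocRes.D F' (ψ (t : K'))) ≠ 0) :
    Valued.v (LocRes.D F' (ψ (a : K'))) = Valued.v (LocRes.D F' (ψ (t : K'))) := by
  have ht0 : t ≠ 0 := fun h => by rw [h, map_zero] at ht; exact WithZero.exp_ne_zero ht.symm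
  set w := a / t with hw
  have hw1 : Q₁.1 w = 1 := by rw [hw, map_div₀, ha, ht, div_self WithZero.exp_ne_zero]
  have e : (a : K') = (t : K') * (w : K') := by
    have h0 : a = t * w := by rw [hw, mul_div_cancel₀ _ ht0]
    simpa using congrArg (fun z : E => (z : K')) h0
  have hQw : Q.1 (w : K') = 1 := by rw [show Q.1 (w : K') = _ from hQ₁ w, hw1, one_pow]
  have hQt : Q.1 (t : K') < 1 := by
    rw [show Q.1 (t : K') = _ from hQ₁ t, ht, pow_lt_one_iff (pos_of_isOverWith hQ₁).ne', ← WithZero.exp_zero,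
      WithZero.exp_lt_exp]
    omega
  rw [e, D_exp_mul hψ, Valuation.map_add_eq_of_lt_right, map_mul, hψ.1, hQw, one_mul]
  rw [map_mul, map_mul, hψ.1, hψ.1, hQw, one_mul]
  calc Q.1 (t : K') * Valued.v (LocRes.D F' (ψ (w : K')))
      ≤ Q.1 (t : K') * Valued.v (LocRes.D F' (ψ (t : K'))) :=
        mul_le_mul_right (v_D_le_of_below hψ E Q₁ hQ₁ ht hw1.le hT) _
    _ < Valued.v (LocRes.D F' (ψ (t : K'))) := mul_lt_of_lt_one_left (zero_lt_iff.2 hT) hQt

end below

variable [FiniteDimensional K K'] [IsGalois K K']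

/-- Hilbert's formula. -/
theorem diffExp_eq_sum (hK : IsFunctionField k K) (hg : IsGeometric k K) {F : Type w} [Field F] [Algebra k F]
    {P : Place k K} {φ : K →ₐ[k] F⸨X⸩} (hφ : LocRes.IsExpansionAt P.1 φ) {e : ℕ} (he : IsOverWith Q P e)
    {x : K} (hx : LocRes.vDiff φ 1 x ≠ 0) (hx' : LocRes.vDiff ψ 1 (algebraMap K K' x) ≠ 0) :
    (Function.support fun i : ℕ => (Nat.card (ramGroup K Q i) : ℤ) - 1).Finite ∧
      LocRes.diffExp φ ψ e x = ∑ᶠ i : ℕ, if 1 ≤ i then (Nat.card (ramGroup K Q i) : ℤ) - 1 else 0 := by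
  classical
  haveI := isSeparable_coeffField_ext (K := K) hψ hK hg
  obtain ⟨eQ, -⟩ := exists_residue_equiv hψ
  haveI : Algebra.IsSeparable k (IsLocalRing.ResidueField Q.O) := AlgEquiv.Algebra.isSeparable eQ.symm
  set G₁ := ramGroup K Q 1
  set E := IntermediateField.fixedField G₁
  obtain ⟨Q₁, hQ₁, hcard⟩ : ∃ Q₁ : Place k E, IsOverWith Q Q₁ (Module.finrank E K') ∧
      Module.finrank E K' = Nat.card G₁ := exists_place_inertiaField hK Q
  have hen : Module.finrank E K' = e := hcard.trans (card_inertia_eq hK he)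
  haveI : IsScalarTower k E K' := IsScalarTower.of_algebraMap_eq fun c => rfl
  haveI : Algebra.IsSeparable k (IsLocalRing.ResidueField Q₁.O) :=
    Algebra.IsSeparable.of_algHom k _
      ({ toRingHom := resOver (⟨_, hQ₁⟩ : IsOver Q Q₁), commutes' := resOver_algebraMap _ } :
        IsLocalRing.ResidueField Q₁.O →ₐ[k] IsLocalRing.ResidueField Q.O)
  obtain ⟨t, ht⟩ := exists_unif P
  have hd := diffExp_eq_unif hφ hψ he hK hg ht hx hx'
  set d := LocRes.diffExp φ ψ e x
  set tE : E := algebraMap K E t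
  have hte : Q₁.1 tE = WithZero.exp (-1) := by
    have h := hQ₁ tE
    rw [show algebraMap E K' tE = algebraMap K K' t from rfl, he t, hen, ht] at h
    exact (pow_left_inj₀ zero_le zero_le (pos_of_isOverWith he).ne').1 h.symm
  have hT : Valued.v (LocRes.D F' (ψ (tE : K'))) = WithZero.exp (-d) := hd
  obtain ⟨s, hs⟩ := exists_unif Q
  have hs1 : Q.1 s ≤ 1 := by rw [hs, ← WithZero.exp_zero, WithZero.exp_le_exp]; omega
  have hQs : Q.1 s < 1 := by rw [hs, ← WithZero.exp_zero, WithZero.exp_lt_exp]; omega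
  have hσv : ∀ σ ∈ G₁, ∀ z : K', Q.1 (σ z) = Q.1 z := fun σ hσ z => by
    rw [← galPlace_apply, ramGroup_zero_iff.1 (ramGroup_anti Q zero_le_one hσ)]
  -- the polynomial with roots the conjugates of `s` under inertia
  set Gs : Finset (K' ≃ₐ[K] K') := Finset.univ.filter (· ∈ G₁) with hGs
  set p : Polynomial K' := ∏ σ ∈ Gs, (Polynomial.X - Polynomial.C (σ s)) with hp
  have hfix : ∀ τ ∈ G₁, p.map (τ : K' →+* K') = p := fun τ hτ => by
    rw [hp, Polynomial.map_prod]
    simp only [Polynomial.map_sub, Polynomial.map_X, Polynomial.map_C, RingHom.coe_coe]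
    exact Finset.prod_equiv (Equiv.mulLeft τ) (fun σ => by simp [hGs, Subgroup.mul_mem_cancel_left _ hτ])
      fun σ _ => rfl
  have hmemE : ∀ i, p.coeff i ∈ E := fun i => by
    rintro ⟨τ, hτ⟩
    have h := congrArg (fun q => Polynomial.coeff q i) (hfix τ hτ)
    simpa [Polynomial.coeff_map] using h
  have hcardGs : Gs.card = e := by
    rw [← card_inertia_eq hK he, Nat.card_eq_fintype_card, Fintype.card_of_subtype]
    intro σ; simp [hGs, G₁]
  have hcoeff : ∀ i, Q₁.1 ⟨p.coeff i, hmemE i⟩ ≤ 1 := fun i => by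
    rw [← le_one_iff_of_isOver (⟨_, hQ₁⟩ : IsOver Q Q₁)]
    change Q.1 (p.coeff i) ≤ 1
    let q : Polynomial Q.O := ∏ σ ∈ Gs.attach, (Polynomial.X - Polynomial.C
      ⟨σ.1 s, show Q.1 (σ.1 s) ≤ 1 from (hσv σ.1 (Finset.mem_filter.1 σ.2).2 s).le.trans hs1⟩)
    have hq : q.map Q.O.subtype = p := by
      simp only [q, hp, Polynomial.map_prod, Polynomial.map_sub, Polynomial.map_X, Polynomial.map_C]
      exact Finset.prod_attach Gs fun σ => (Polynomial.X - Polynomial.C (σ s))
    rw [← hq, Polynomial.coeff_map]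
    exact (q.coeff i).2
  have hp0 : Q.1 (p.coeff 0) = WithZero.exp (-(e : ℤ)) := by
    rw [hp, Polynomial.coeff_zero_eq_eval_zero, Polynomial.eval_prod, map_prod, Finset.prod_congr rfl
      (g := fun _ => WithZero.exp (-1)) fun σ hσ => by
        rw [Polynomial.eval_sub, Polynomial.eval_X, Polynomial.eval_C, zero_sub, Valuation.map_neg,
          hσv σ (Finset.mem_filter.1 hσ).2 s, hs],
      Finset.prod_const, hcardGs, ← WithZero.exp_nsmul]
    congr 1; simp
  have hc0 : Q₁.1 ⟨p.coeff 0, hmemE 0⟩ = WithZero.exp (-1) := by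
    have h := hQ₁ ⟨p.coeff 0, hmemE 0⟩
    rw [hen, show Q.1 (algebraMap E K' ⟨p.coeff 0, hmemE 0⟩) = _ from hp0] at h
    refine (pow_left_inj₀ zero_le zero_le (pos_of_isOverWith he).ne').1 ?_
    change Q₁.1 _ ^ e = WithZero.exp (-1) ^ e
    rw [← h, ← WithZero.exp_nsmul]; congr 1; simp
  have h1mem : (1 : K' ≃ₐ[K] K') ∈ Gs := Finset.mem_filter.2 ⟨Finset.mem_univ _, one_mem _⟩
  -- differentiate
  have hpd : Polynomial.aeval s (Polynomial.derivative p) = ∏ σ ∈ Gs.erase 1, (s - σ s) := by
    rw [hp, ← Finset.mul_prod_erase _ _ h1mem, Polynomial.derivative_mul, map_add, map_mul, map_mul]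
    simp [map_prod]
  have hps : Polynomial.aeval s p = 0 := by
    rw [hp, map_prod]; exact Finset.prod_eq_zero h1mem (by simp)
  have key := D_exp_aeval (F' := F') (K := K') (ψ := ψ) s p
  rw [hps, map_zero, map_zero] at key
  have hS : Valued.v (p.sum fun i a => LocRes.D F' (ψ (algebraMap K' K' a)) * ψ s ^ i) = WithZero.exp (-d) := by
    rw [Polynomial.sum_over_range _ (fun i => by simp), Finset.sum_range_succ']
    simp only [pow_zero, mul_one, Algebra.algebraMap_self, RingHom.id_apply]
    have h0 : Valued.v (LocRes.D F' (ψ (p.coeff 0))) = WithZero.exp (-d) :=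
      (v_D_eq_of_below hψ E Q₁ hQ₁ hte hc0 (by rw [hT]; exact WithZero.exp_ne_zero)).trans hT
    rw [Valuation.map_add_eq_of_lt_right, h0]
    rw [h0]
    refine Valuation.map_sum_lt _ WithZero.exp_ne_zero fun i _ => ?_
    rw [map_mul, map_pow, hψ.1]
    have hle := (v_D_le_of_below hψ E Q₁ hQ₁ hte (hcoeff (i + 1)) (by rw [hT]; exact WithZero.exp_ne_zero)).trans hT.le
    exact lt_of_le_of_lt (mul_le_mul' hle le_rfl)
      (mul_lt_of_lt_one_right WithZero.exp_pos (pow_lt_one₀ zero_le hQs (Nat.succ_ne_zero i)))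
  have hprod : Q.1 (∏ σ ∈ Gs.erase 1, (s - σ s)) = WithZero.exp (-d) := by
    rw [hpd] at key
    have h := congrArg Valued.v (eq_neg_of_add_eq_zero_left key.symm)
    rwa [map_mul, Valuation.map_neg, hψ.1, v_D_unif hψ hs, mul_one, hS] at h
  -- the levels
  have hne : ∀ σ ∈ Gs.erase 1, σ s - s ≠ 0 := fun σ hσ h => by
    obtain ⟨hσ1, hσG⟩ := Finset.mem_erase.1 hσ
    have hall : ∀ j : ℕ, σ ∈ ramGroup K Q j := fun j =>
      (mem_ramGroup_iff_unif hs (Finset.mem_filter.1 hσG).2 j).2 (by rw [h, map_zero]; exact zero_le)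
    have hfixO : ∀ z : K', Q.1 z ≤ 1 → σ z = z := fun z hz => by
      by_contra hzz
      have h2 := hall ((Q.ord (σ z - z)).toNat + 1) z hz
      rw [v_eq_exp Q (sub_ne_zero.2 hzz), WithZero.exp_le_exp] at h2
      push_cast at h2; omega
    refine hσ1 (AlgEquiv.ext fun z => ?_)
    rcases le_total (Q.1 z) 1 with hz | hz
    · exact hfixO z hz
    · have hz0 : z ≠ 0 := fun h0 => by rw [h0, map_zero] at hz; exact not_lt_of_ge hz zero_lt_one
      have h3 := hfixO z⁻¹ (by rw [map_inv₀]; exact inv_le_one_of_one_le₀ hz)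
      rw [map_inv₀] at h3
      exact inv_injective h3
  set lev : (K' ≃ₐ[K] K') → ℕ := fun σ => (Q.ord (σ s - s)).toNat
  have hlev : ∀ σ ∈ Gs.erase 1, 1 ≤ lev σ ∧ (Q.ord (σ s - s) = lev σ) ∧
      ∀ i, σ ∈ ramGroup K Q i ↔ i ≤ lev σ := fun σ hσ => by
    have hσG : σ ∈ G₁ := (Finset.mem_filter.1 (Finset.mem_erase.1 hσ).2).2
    have h1 := hσG s hs1
    rw [v_eq_exp Q (hne σ hσ), WithZero.exp_le_exp] at h1
    push_cast at h1
    refine ⟨by simp only [lev]; omega, by simp only [lev]; omega, fun i => ?_⟩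
    rw [mem_ramGroup_iff_unif hs hσG, v_eq_exp Q (hne σ hσ), WithZero.exp_le_exp]
    simp only [lev]; omega
  have hdsum : d = ∑ σ ∈ Gs.erase 1, (lev σ : ℤ) := by
    have h : Q.1 (∏ σ ∈ Gs.erase 1, (s - σ s)) = WithZero.exp (-∑ σ ∈ Gs.erase 1, (lev σ : ℤ)) := by
      have hexp : ∀ f : (K' ≃ₐ[K] K') → ℤ, WithZero.exp (∑ σ ∈ Gs.erase 1, f σ) = ∏ σ ∈ Gs.erase 1, WithZero.exp (f σ) := by
        intro f
        induction Gs.erase 1 using Finset.induction with
        | empty => simp
        | insert a S ha ih => rw [Finset.sum_insert ha, Finset.prod_insert ha, WithZero.exp_add, ih]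
      rw [map_prod, ← Finset.sum_neg_distrib, hexp]
      exact Finset.prod_congr rfl fun σ hσ => by
        rw [Q.1.map_sub_swap, v_eq_exp Q (hne σ hσ), (hlev σ hσ).2.1]
    rw [hprod, WithZero.exp_inj] at h
    omega
  set M := ∑ σ ∈ Gs.erase 1, lev σ
  have hcount : ∀ i, 1 ≤ i → (Nat.card (ramGroup K Q i) : ℤ) - 1 =
      ((Gs.erase 1).filter fun σ => i ≤ lev σ).card := fun i hi => by
    have hset : (Finset.univ.filter (· ∈ ramGroup K Q i)) = insert 1 ((Gs.erase 1).filter fun σ => i ≤ lev σ) := by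
      ext σ
      simp only [Finset.mem_filter, Finset.mem_univ, true_and, Finset.mem_insert]
      constructor
      · intro h
        refine or_iff_not_imp_left.2 fun h1 => ?_
        have hm : σ ∈ Gs.erase 1 := Finset.mem_erase.2 ⟨h1, Finset.mem_filter.2
          ⟨Finset.mem_univ _, ramGroup_anti Q hi h⟩⟩
        exact ⟨hm, ((hlev σ hm).2.2 i).1 h⟩
      · rintro (rfl | ⟨hm, hle⟩)
        · exact one_mem _
        · exact ((hlev σ hm).2.2 i).2 hle
    rw [Nat.card_eq_fintype_card, Fintype.card_of_subtype (Finset.univ.filter (· ∈ ramGroup K Q i))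
      (fun σ => by simp), hset, Finset.card_insert_of_notMem (by simp)]
    push_cast; ring
  have hbig : ∀ i, M < i → (Nat.card (ramGroup K Q i) : ℤ) - 1 = 0 := fun i hi => by
    rw [hcount i (by omega), Finset.filter_eq_empty_iff.2 fun σ hσ => ?_, Finset.card_empty, Nat.cast_zero]
    have := Finset.single_le_sum (f := lev) (fun _ _ => Nat.zero_le _) hσ
    simp only [M] at hi; omega
  refine ⟨(Set.finite_le_nat M).subset fun i hi => by
    by_contra hc
    exact hi (hbig i (not_le.1 hc)), ?_⟩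
  rw [finsum_eq_sum_of_support_subset _ (s := Finset.Icc 1 M) fun i hi => ?_, hdsum]
  · rw [Finset.sum_congr rfl (g := fun i => (((Gs.erase 1).filter fun σ => i ≤ lev σ).card : ℤ)) fun i hi => by
      rw [Finset.mem_Icc] at hi
      rw [if_pos hi.1, hcount i hi.1]]
    simp only [Finset.card_filter, Nat.cast_sum]
    rw [Finset.sum_comm]
    refine Finset.sum_congr rfl fun σ hσ => ?_
    rw [← Nat.cast_sum, ← Finset.card_filter]
    have hle : lev σ ≤ M := Finset.single_le_sum (f := lev) (fun _ _ => Nat.zero_le _) hσ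
    have hf : (Finset.Icc 1 M).filter (fun i => i ≤ lev σ) = Finset.Icc 1 (lev σ) := by
      ext i; simp only [Finset.mem_filter, Finset.mem_Icc]; omega
    rw [hf, Nat.card_Icc]; simp
  · simp only [Finset.coe_Icc, Set.mem_Icc]
    simp only [Function.mem_support] at hi
    split_ifs at hi with h
    · refine ⟨h, ?_⟩
      by_contra hc
      exact hi (hbig i (not_le.1 hc))
    · exact absurd rfl hi

end Groth.Agent.FF
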