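import Groth.Agent.FF.PlaneChart
import Groth.Agent.FF.Divisors
import Groth.Agent.FF.Expansion
import Groth.Prelude.Def_W4bk4goldsch45

/-! The local ring of a projective map at a place: Taylor expansion and the tangent criterion. -/

set_option autoImplicit false
set_option linter.style.haveILetI false

namespace Groth.Agent.FF

open FunFld MvPolynomial
open scoped WithZero

universe u v w

section taylor

variable {k : Type u} [CommRing k] {R : Type v} [CommRing R] [Algebra k R] {σ : Type w} [Fintype σ]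

/-- Taylor expansion modulo the square of an ideal containing the coordinates. -/
lemma taylor_mem (I : Ideal R) (x : σ → R) (c : σ → k) (hI : ∀ i, x i - algebraMap k R (c i) ∈ I)
    (g : MvPolynomial σ k) :
    aeval x g - algebraMap k R (eval c g) ∈ I ∧
      aeval x g - algebraMap k R (eval c g) -
        ∑ i, algebraMap k R (eval c (pderiv i g)) * (x i - algebraMap k R (c i)) ∈ I ^ 2 := by
  classical
  have hlin : ∀ g : MvPolynomial σ k,
      ∑ i, algebraMap k R (eval c (pderiv i g)) * (x i - algebraMap k R (c i)) ∈ I := fun g =>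
    Ideal.sum_mem _ fun i _ => Ideal.mul_mem_left _ _ (hI i)
  suffices h : aeval x g - algebraMap k R (eval c g) -
      ∑ i, algebraMap k R (eval c (pderiv i g)) * (x i - algebraMap k R (c i)) ∈ I ^ 2 from
    ⟨by simpa using Ideal.add_mem _ (Ideal.pow_le_self two_ne_zero h) (hlin g), h⟩
  induction g using MvPolynomial.induction_on with
  | C a => simp
  | add p q hp hq =>
    convert Ideal.add_mem _ hp hq using 1
    simp only [map_add, add_mul, Finset.sum_add_distrib]
    ring
  | mul_X p j hp =>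
    have e : aeval x (p * X j) - algebraMap k R (eval c (p * X j)) -
        ∑ i, algebraMap k R (eval c (pderiv i (p * X j))) * (x i - algebraMap k R (c i)) =
        (aeval x p - algebraMap k R (eval c p) -
          ∑ i, algebraMap k R (eval c (pderiv i p)) * (x i - algebraMap k R (c i))) * x j +
        (∑ i, algebraMap k R (eval c (pderiv i p)) * (x i - algebraMap k R (c i))) * (x j - algebraMap k R (c j)) := by
      have hs : ∑ i, algebraMap k R (eval c (pderiv i (p * X j))) * (x i - algebraMap k R (c i)) =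
          algebraMap k R (c j) * (∑ i, algebraMap k R (eval c (pderiv i p)) * (x i - algebraMap k R (c i))) +
            algebraMap k R (eval c p) * (x j - algebraMap k R (c j)) := by
        rw [Finset.mul_sum]
        simp only [pderiv_mul, map_add, map_mul, eval_X, add_mul, Finset.sum_add_distrib, pderiv_X, Pi.single_apply,
          apply_ite (eval c), apply_ite (algebraMap k R), map_one, map_zero, mul_ite, mul_one, mul_zero, ite_mul,
          zero_mul, Finset.sum_ite_eq, Finset.mem_univ, if_true]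
        congr 1
        exact Finset.sum_congr rfl fun i _ => by ring
      rw [hs, map_mul, map_mul, aeval_X, eval_X, map_mul]
      ring
    rw [e]
    refine Ideal.add_mem _ (Ideal.mul_mem_right _ _ hp) ?_
    rw [pow_two]
    exact Ideal.mul_mem_mul (hlin p) (hI j)

end taylor

variable {k : Type u} {K : Type v} [Field k] [Field K] [Algebra k K] (P : Place k K)

lemma mem_maximalIdeal_O_iff (z : P.O) : z ∈ IsLocalRing.maximalIdeal P.O ↔ P.1 (z : K) < 1 := by
  rw [← IsLocalRing.residue_eq_zero_iff, residue_eq_zero_iff]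

lemma v_le_of_mem_sq {z : P.O} (hz : z ∈ IsLocalRing.maximalIdeal P.O ^ 2) :
    P.1 (z : K) ≤ WithZero.exp (-2) := by
  rw [pow_two] at hz
  induction hz using Submodule.mul_induction_on' with
  | mem_mul_mem a ha b hb =>
    rw [mem_maximalIdeal_O_iff, v_lt_one_iff_le_exp] at ha hb
    change P.1 ((a : K) * (b : K)) ≤ _
    rw [map_mul, show ((-2 : ℤ)) = -1 + -1 from rfl, WithZero.exp_add]
    exact mul_le_mul' ha hb
  | add a _ b _ ha hb =>
    change P.1 ((a : K) + (b : K)) ≤ _
    exact (P.1.map_add _ _).trans (max_le ha hb)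

section point

variable {σ : Type w} [Fintype σ] (x : σ → K) (c : σ → k)
  (hxc : ∀ i, P.1 (x i - algebraMap k K (c i)) < 1)

include hxc

lemma v_coord_le (i : σ) : P.1 (x i) ≤ 1 := by
  rw [show x i = (x i - algebraMap k K (c i)) + algebraMap k K (c i) by ring]
  exact (P.1.map_add _ _).trans (max_le (hxc i).le (P.2.1 _))

/-- The Taylor expansion at the image point. -/
lemma v_taylor (g : MvPolynomial σ k) :
    P.1 (aeval x g - algebraMap k K (eval c g)) < 1 ∧
      P.1 (aeval x g - algebraMap k K (eval c g) -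
        ∑ i, algebraMap k K (eval c (pderiv i g)) * (x i - algebraMap k K (c i))) ≤ WithZero.exp (-2) := by
  let x' : σ → P.O := fun i => ⟨x i, v_coord_le P x c hxc i⟩
  obtain ⟨h1, h2⟩ := taylor_mem (IsLocalRing.maximalIdeal P.O) x' c
    (fun i => (mem_maximalIdeal_O_iff P _).2 (hxc i)) g
  let inc : P.O →ₐ[k] K := ⟨P.O.subtype, fun _ => rfl⟩
  have ha : ((aeval x' g : P.O) : K) = aeval x g := by
    show inc (aeval x' g) = _
    rw [← AlgHom.comp_apply, comp_aeval]
    rfl
  rw [mem_maximalIdeal_O_iff] at h1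
  have h2' := v_le_of_mem_sq P h2
  simp only [AddSubgroupClass.coe_sub, AddSubmonoidClass.coe_finsetSum, MulMemClass.coe_mul, ha] at h1 h2'
  exact ⟨h1, h2'⟩

lemma eval_eq_zero_of_aeval {g : MvPolynomial σ k} (hg : P.1 (aeval x g) < 1) : eval c g = 0 := by
  by_contra hne
  have h1 := (v_taylor P x c hxc g).1
  rw [Valuation.map_sub_eq_of_lt_right _ (by rw [v_algebraMap P hne]; exact hg), v_algebraMap P hne] at h1
  exact lt_irrefl _ h1

/-- Tangent relations. -/
lemma v_linear_of_aeval_eq_zero {g : MvPolynomial σ k} (hg : aeval x g = 0) :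
    P.1 (∑ i, algebraMap k K (eval c (pderiv i g)) * (x i - algebraMap k K (c i))) ≤ WithZero.exp (-2) := by
  have h := (v_taylor P x c hxc g).2
  rwa [hg, eval_eq_zero_of_aeval P x c hxc (g := g) (by rw [hg, map_zero]; exact zero_lt_one), map_zero,
    sub_zero, zero_sub, Valuation.map_neg] at h

lemma v_le_one_of_mem_adjoin {a : K} (ha : a ∈ Algebra.adjoin k (Set.range x)) : P.1 a ≤ 1 := by
  induction ha using Algebra.adjoin_induction with
  | mem z hz => obtain ⟨i, rfl⟩ := hz; exact v_coord_le P x c hxc i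
  | algebraMap r => exact P.2.1 r
  | add _ _ _ _ h₁ h₂ => exact (P.1.map_add _ _).trans (max_le h₁ h₂)
  | mul _ _ _ _ h₁ h₂ => rw [map_mul]; exact mul_le_one' h₁ h₂

lemma v_le_one_of_mem_fracAt {z : K} (hz : z ∈ fracAt P (Algebra.adjoin k (Set.range x))) : P.1 z ≤ 1 := by
  obtain ⟨a, ha, b, -, hb, e⟩ := hz
  have h := v_le_one_of_mem_adjoin P x c hxc ha
  rwa [← e, map_mul, hb, mul_one] at h

/-- If the linear parts of the relations leave one tangent direction, the point is nonsingular. -/
theorem regular_of_relations (hbir : IntermediateField.adjoin k (Set.range x) = ⊤) (i₀ : σ)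
    (hrel : ∀ i, ∃ (G : MvPolynomial σ k) (w v : k), w ≠ 0 ∧ aeval x G = 0 ∧
      ∑ l, algebraMap k K (eval c (pderiv l G)) * (x l - algebraMap k K (c l)) =
        algebraMap k K w * (x i - algebraMap k K (c i)) - algebraMap k K v * (x i₀ - algebraMap k K (c i₀))) :
    ∀ z : K, P.1 z ≤ 1 → z ∈ fracAt P (Algebra.adjoin k (Set.range x)) := by
  classical
  set A := fracAt P (Algebra.adjoin k (Set.range x)) with hA
  have hxA : ∀ i, x i ∈ A := fun i => subset_fracAt P _ (Algebra.subset_adjoin ⟨i, rfl⟩)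
  have hle : ∀ a : A, P.1 (a : K) ≤ 1 := fun a => v_le_one_of_mem_fracAt P x c hxc a.2
  have hunit : ∀ a : A, P.1 (a : K) = 1 → IsUnit a := fun a ha => by
    have h0 : (a : K) ≠ 0 := fun h => by rw [h, map_zero] at ha; exact zero_ne_one ha
    refine IsUnit.of_mul_eq_one (⟨1 / (a : K), div_mem_fracAt A.one_mem a.2 ha⟩ : A) (Subtype.ext ?_)
    show (a : K) * (1 / (a : K)) = 1
    field_simp
  have hnonunit : ∀ a : A, a ∈ nonunits A ↔ P.1 (a : K) < 1 := fun a => by
    refine ⟨fun h => (hle a).lt_of_ne fun he => h (hunit a he), fun h hu => ?_⟩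
    obtain ⟨b, hb⟩ := hu.exists_right_inv
    have e : P.1 (a : K) * P.1 (b : K) = 1 := by
      rw [← map_mul, show (a : K) * (b : K) = 1 from congrArg Subtype.val hb, map_one]
    exact (mul_lt_one_of_lt_of_le h (hle b)).ne e
  haveI : Nontrivial A := ⟨0, 1, fun h => zero_ne_one (congrArg Subtype.val h : (0 : K) = 1)⟩
  haveI : IsLocalRing A := IsLocalRing.of_nonunits_add fun a b ha hb => by
    rw [hnonunit] at ha hb ⊢
    exact (P.1.map_add _ _).trans_lt (max_lt ha hb)
  let x' : σ → A := fun i => ⟨x i, hxA i⟩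
  let X' : σ → A := fun i => x' i - algebraMap k A (c i)
  let M : Ideal A := Ideal.span (Set.range X')
  have hxM : ∀ i, x' i - algebraMap k A (c i) ∈ M := fun i => Ideal.subset_span ⟨i, rfl⟩
  have haeval : ∀ g : MvPolynomial σ k, ((aeval x' g : A) : K) = aeval x g := fun g => by
    show A.val (aeval x' g) = _
    rw [← AlgHom.comp_apply, comp_aeval]
    rfl
  have hmax : ∀ a : A, P.1 (a : K) < 1 → a ∈ M := fun a ha => by
    obtain ⟨u, hu, w, hw, hw1, e⟩ := a.2
    rw [Algebra.adjoin_range_eq_range_aeval] at hu hw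
    obtain ⟨gu, hgu⟩ := hu
    obtain ⟨gw, hgw⟩ := hw
    change aeval x gu = u at hgu
    change aeval x gw = w at hgw
    have hgu0 : eval c gu = 0 := eval_eq_zero_of_aeval P x c hxc (by
      rw [hgu, ← e, map_mul, hw1, mul_one]; exact ha)
    have h1 := (taylor_mem M x' c hxM gu).1
    rw [hgu0, map_zero, sub_zero] at h1
    have e' : aeval x' gu = a * aeval x' gw := Subtype.ext (by
      rw [MulMemClass.coe_mul, haeval, haeval, hgu, hgw, e])
    rw [e'] at h1
    obtain ⟨b, hb⟩ := (hunit (aeval x' gw) (by rw [haeval, hgw, hw1])).exists_right_inv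
    have h2 := M.mul_mem_right b h1
    rwa [mul_assoc, hb, mul_one] at h2
  have hMT : M ≤ Ideal.span {X' i₀} := by
    refine Submodule.le_of_le_smul_of_le_jacobson_bot (I := M) (Submodule.fg_span (Set.finite_range _)) ?_ ?_
    · rw [IsLocalRing.jacobson_eq_maximalIdeal ⊥ bot_ne_top]
      refine Ideal.span_le.2 ?_
      rintro _ ⟨i, rfl⟩
      rw [SetLike.mem_coe, IsLocalRing.mem_maximalIdeal, hnonunit]
      exact hxc i
    · refine Ideal.span_le.2 ?_
      rintro _ ⟨i, rfl⟩
      obtain ⟨G, w, v, hw, hG, hlin⟩ := hrel i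
      have hG' : aeval x' G = 0 := Subtype.ext (by rw [haeval, hG]; rfl)
      have hG0 : eval c G = 0 := eval_eq_zero_of_aeval P x c hxc (by rw [hG, map_zero]; exact zero_lt_one)
      have h2 := (taylor_mem M x' c hxM G).2
      rw [hG', hG0, map_zero, sub_zero, zero_sub] at h2
      have hlin' : ∑ l, algebraMap k A (eval c (pderiv l G)) * (x' l - algebraMap k A (c l)) =
          algebraMap k A w * X' i - algebraMap k A v * X' i₀ := Subtype.ext (by
        simp only [AddSubgroupClass.coe_sub, AddSubmonoidClass.coe_finsetSum, MulMemClass.coe_mul, X', x']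
        exact hlin)
      rw [hlin', neg_sub] at h2
      have e : X' i = (algebraMap k A w⁻¹ * algebraMap k A v) * X' i₀ +
          -(algebraMap k A w⁻¹) * (algebraMap k A v * X' i₀ - algebraMap k A w * X' i) := by
        have hh : algebraMap k A w⁻¹ * algebraMap k A w = 1 := by rw [← map_mul, inv_mul_cancel₀ hw, map_one]
        linear_combination (-(X' i)) * hh
      rw [SetLike.mem_coe, e]
      refine Submodule.add_mem_sup (Ideal.mem_span_singleton'.2 ⟨_, rfl⟩) ?_
      rw [smul_eq_mul, ← pow_two]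
      exact Ideal.mul_mem_left _ _ h2
  have hfac : ∀ (n : ℕ) (a : A), (a : K) ≠ 0 → P.ord (a : K) ≤ (n : ℤ) →
      ∃ (m : ℕ) (e : A), P.1 (e : K) = 1 ∧ (a : K) = (X' i₀ : K) ^ m * e := by
    intro n
    induction n with
    | zero =>
      intro a ha hn
      refine ⟨0, a, le_antisymm (hle a) (not_lt.1 fun h => ?_), by simp⟩
      rw [v_lt_one_iff P ha] at h
      omega
    | succ n ih =>
      intro a ha hn
      rcases (hle a).lt_or_eq with h | h
      · obtain ⟨b, hb⟩ := Ideal.mem_span_singleton'.1 (hMT (hmax a h))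
        have hb' : (b : K) * (X' i₀ : K) = (a : K) := congrArg Subtype.val hb
        have hb0 : (b : K) ≠ 0 := fun h0 => ha (by rw [← hb', h0, zero_mul])
        have ht0 : (X' i₀ : K) ≠ 0 := fun h0 => ha (by rw [← hb', h0, mul_zero])
        have ht1 : 0 < P.ord (X' i₀ : K) := (v_lt_one_iff P ht0).1 (hxc i₀)
        obtain ⟨m, e, he, heq⟩ := ih b hb0 (by
          have h2 := congrArg P.ord hb'
          rw [ord_mul P hb0 ht0] at h2
          push_cast at hn
          omega)
        exact ⟨m + 1, e, he, by rw [← hb', heq]; ring⟩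
      · exact ⟨0, a, h, by simp⟩
  intro z hz
  have hrep : ∃ p q : A, (q : K) ≠ 0 ∧ z * (q : K) = (p : K) := by
    have hz' : z ∈ IntermediateField.adjoin k (Set.range x) := hbir ▸ IntermediateField.mem_top
    rw [IntermediateField.mem_adjoin_range_iff] at hz'
    obtain ⟨r, s, rfl⟩ := hz'
    rcases eq_or_ne (aeval x s) 0 with h0 | h0
    · exact ⟨0, 1, one_ne_zero, by simp [h0]⟩
    · exact ⟨aeval x' r, aeval x' s, by rw [haeval]; exact h0, by rw [haeval, haeval, div_mul_cancel₀ _ h0]⟩
  obtain ⟨p, q, hq, hzq⟩ := hrep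
  rcases eq_or_ne z 0 with rfl | hz0
  · exact A.zero_mem
  have hp : (p : K) ≠ 0 := hzq ▸ mul_ne_zero hz0 hq
  obtain ⟨m, e, he, hpe⟩ := hfac (P.ord (p : K)).toNat p hp (Int.self_le_toNat _)
  obtain ⟨n, f, hf, hqf⟩ := hfac (P.ord (q : K)).toNat q hq (Int.self_le_toNat _)
  set t : K := (X' i₀ : K)
  have ht1 : P.1 t < 1 := hxc i₀
  have hf0 : (f : K) ≠ 0 := fun h => by rw [h, map_zero] at hf; exact zero_ne_one hf
  rcases le_or_gt n m with hnm | hnm
  · obtain ⟨d, rfl⟩ := Nat.exists_eq_add_of_le hnm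
    have htn : t ^ n ≠ 0 := left_ne_zero_of_mul (hqf ▸ hq)
    have : z = t ^ d * ((e : K) / (f : K)) := by
      rw [hpe, hqf, pow_add] at hzq
      field_simp
      refine mul_left_cancel₀ htn ?_
      linear_combination hzq
    rw [this]
    exact A.mul_mem (A.pow_mem (X' i₀).2 d) (div_mem_fracAt e.2 f.2 hf)
  · exfalso
    obtain ⟨d, rfl⟩ := Nat.exists_eq_add_of_lt hnm
    have h1 := congrArg P.1 hzq
    rw [hpe, hqf, map_mul, map_mul, map_mul, he, hf, map_pow, map_pow, mul_one, mul_one] at h1
    have ht0 : 0 < P.1 t := zero_lt_iff.2 ((Valuation.ne_zero_iff _).2 fun h => hq (by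
      rw [hqf, h, zero_pow (by omega), zero_mul]))
    have h2 : P.1 z * P.1 t ^ (m + d + 1) < P.1 t ^ m := by
      calc P.1 z * P.1 t ^ (m + d + 1) ≤ P.1 t ^ (m + d + 1) := mul_le_of_le_one_left' hz
        _ < P.1 t ^ m := pow_lt_pow_right_of_lt_one₀ ht0 ht1 (by omega)
    exact h2.ne h1

/-- At a nonsingular point some coordinate is a local parameter. -/
theorem exists_coord_unif (hreg : ∀ z : K, P.1 z ≤ 1 → z ∈ fracAt P (Algebra.adjoin k (Set.range x))) :
    ∃ i, P.1 (x i - algebraMap k K (c i)) = WithZero.exp (-1) := by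
  obtain ⟨π, hπ⟩ := P.2.2 (WithZero.exp (-1 : ℤ))
  obtain ⟨u, hu, w, -, hw, e⟩ := hreg π (by rw [hπ, ← WithZero.exp_zero, WithZero.exp_le_exp]; omega)
  rw [Algebra.adjoin_range_eq_range_aeval] at hu
  obtain ⟨g, hg⟩ := hu
  change aeval x g = u at hg
  have hvg : P.1 (aeval x g) = WithZero.exp (-1) := by rw [hg, ← e, map_mul, hw, mul_one, hπ]
  have hg0 : eval c g = 0 := eval_eq_zero_of_aeval P x c hxc (by
    rw [hvg, ← WithZero.exp_zero, WithZero.exp_lt_exp]; omega)
  by_contra hcon
  push Not at hcon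
  have hsmall : ∀ i, P.1 (x i - algebraMap k K (c i)) ≤ WithZero.exp (-2) := fun i => by
    rcases eq_or_ne (x i - algebraMap k K (c i)) 0 with h | h
    · rw [h, map_zero]; exact zero_le
    · have h1 := hxc i
      have h2 := hcon i
      rw [v_eq_exp P h, ← WithZero.exp_zero, WithZero.exp_lt_exp] at h1
      rw [v_eq_exp P h, Ne, WithZero.exp_injective.eq_iff] at h2
      rw [v_eq_exp P h, WithZero.exp_le_exp]
      omega
  have h := (v_taylor P x c hxc g).2
  rw [hg0, map_zero, sub_zero] at h
  have hs : P.1 (∑ i, algebraMap k K (eval c (pderiv i g)) * (x i - algebraMap k K (c i))) ≤ WithZero.exp (-2) :=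
    P.1.map_sum_le fun i _ => by rw [map_mul]; exact (mul_le_of_le_one_left' (P.2.1 _)).trans (hsmall i)
  have h3 := (P.1.map_add _ _).trans (max_le h hs)
  rw [sub_add_cancel, hvg, WithZero.exp_le_exp] at h3
  omega

open scoped Classical in
/-- At a nonsingular point each coordinate satisfies a relation with linear part in two variables. -/
theorem exists_relation_of_regular (hreg : ∀ z : K, P.1 z ≤ 1 → z ∈ fracAt P (Algebra.adjoin k (Set.range x)))
    {i₀ : σ} (hi₀ : P.1 (x i₀ - algebraMap k K (c i₀)) = WithZero.exp (-1)) (i : σ) :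
    ∃ (G : MvPolynomial σ k) (w v : k), w ≠ 0 ∧ aeval x G = 0 ∧
      ∀ l, eval c (pderiv l G) = w * (if l = i then 1 else 0) - v * (if l = i₀ then 1 else 0) := by
  have hne : x i₀ - algebraMap k K (c i₀) ≠ 0 := fun h => by rw [h, map_zero] at hi₀; exact WithZero.exp_ne_zero hi₀.symm
  obtain ⟨u, hu, w, hw, hw1, e⟩ := hreg ((x i - algebraMap k K (c i)) / (x i₀ - algebraMap k K (c i₀))) (by
    rw [map_div₀, hi₀, div_le_one₀ WithZero.exp_pos]
    exact (v_lt_one_iff_le_exp P _).1 (hxc i))
  rw [Algebra.adjoin_range_eq_range_aeval] at hu hw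
  obtain ⟨gu, hgu⟩ := hu
  obtain ⟨gw, hgw⟩ := hw
  change aeval x gu = u at hgu
  change aeval x gw = w at hgw
  refine ⟨(X i - C (c i)) * gw - (X i₀ - C (c i₀)) * gu, eval c gw, eval c gu, fun h0 => ?_, ?_, fun l => ?_⟩
  · have h1 := (v_taylor P x c hxc gw).1
    rw [h0, map_zero, sub_zero, hgw, hw1] at h1
    exact lt_irrefl _ h1
  · simp only [map_sub, map_mul, aeval_X, aeval_C, hgu, hgw]
    rw [← e]
    field_simp
    ring
  · simp only [map_sub, pderiv_mul, map_add, map_mul, pderiv_C, eval_X, eval_C, pderiv_X, Pi.single_apply,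
      apply_ite (eval c), map_one, map_zero]
    simp [eq_comm]

end point

section chart

variable {ι : Type w} {φ : ι → K} {j : ι}

/-- The local ring may be computed in any chart containing the point. -/
lemma isNonsingularAt_iff (hj0 : φ j ≠ 0) (hj : ∀ i, P.1 (φ i) ≤ P.1 (φ j)) :
    IsNonsingularAt φ P ↔ ∀ z : K, P.1 z ≤ 1 → z ∈ fracAt P (Algebra.adjoin k (Set.range fun i => φ i / φ j)) := by
  have key : ∀ z, InLocRing φ P z ↔ z ∈ fracAt P (Algebra.adjoin k (Set.range fun i => φ i / φ j)) := fun z => by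
    constructor
    · rintro ⟨j', hj'0, hj', u, hu, w, hw, hw1, e⟩
      have hle : Algebra.adjoin k (Set.range fun i => φ i / φ j') ≤
          fracAt P (Algebra.adjoin k (Set.range fun i => φ i / φ j)) := by
        refine Algebra.adjoin_le ?_
        rintro _ ⟨i, rfl⟩
        show φ i / φ j' ∈ _
        rw [show φ i / φ j' = (φ i / φ j) / (φ j' / φ j) by field_simp]
        refine div_mem_fracAt (subset_fracAt P _ (Algebra.subset_adjoin ⟨i, rfl⟩))
          (subset_fracAt P _ (Algebra.subset_adjoin ⟨j', rfl⟩)) ?_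
        rw [map_div₀, le_antisymm (hj j') (hj' j), div_self ((map_ne_zero _).2 hj0)]
      exact fracAt_idem hle ⟨u, hu, w, hw, hw1, e⟩
    · rintro ⟨u, hu, w, hw, hw1, e⟩
      exact ⟨j, hj0, hj, u, hu, w, hw, hw1, e⟩
  simp only [IsNonsingularAt, key]

end chart

end Groth.Agent.FF
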