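import Groth.Agent.FF.Plane
import Groth.Agent.FF.PointLocal
import Groth.Agent.FF.Places

/-! Finite colength: approximation at finitely many rational places, and the conductor of a plane model. -/

set_option autoImplicit false
set_option linter.style.haveILetI false

namespace Groth.Agent.FF

open FunFld
open scoped WithZero

universe u v

variable {k : Type u} {K : Type v} [Field k] [Field K] [Algebra k K]

/-- Elements of order at least `n` at the places of `T`. -/
def ordGe (T : Finset (Place k K)) (n : Place k K → ℕ) : Submodule k K where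
  carrier := {z | ∀ Q ∈ T, Q.1 z ≤ WithZero.exp (-(n Q : ℤ))}
  add_mem' {a b} ha hb Q hQ := (Q.1.map_add a b).trans (max_le (ha Q hQ) (hb Q hQ))
  zero_mem' Q _ := by rw [map_zero]; exact zero_le
  smul_mem' c z hz Q hQ := (v_smul_le Q c z).trans (hz Q hQ)

lemma ordGe_zero_iff (T : Finset (Place k K)) (z : K) :
    z ∈ ordGe T (fun _ => 0) ↔ ∀ Q ∈ T, Q.1 z ≤ 1 := by
  simp [ordGe]

variable [IsAlgClosed k] (hK : IsFunctionField k K)

include hK

/-- The codimension of a jet condition. -/
lemma exists_ordGe_complement (T : Finset (Place k K)) (n : Place k K → ℕ) :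
    ∃ W : Submodule k K, FiniteDimensional k W ∧ W ⊓ ordGe T n = ⊥ ∧ W ⊔ ordGe T n = ordGe T (fun _ => 0) ∧
      Module.finrank k W = ∑ Q ∈ T, n Q := by
  classical
  suffices h : ∀ N n, ∑ Q ∈ T, n Q = N → ∃ W : Submodule k K, FiniteDimensional k W ∧ W ⊓ ordGe T n = ⊥ ∧
      W ⊔ ordGe T n = ordGe T (fun _ => 0) ∧ Module.finrank k W = N by
    exact h _ n rfl
  intro N
  induction N with
  | zero =>
    intro n hn
    refine ⟨⊥, inferInstance, bot_inf_eq _, ?_, finrank_bot k K⟩
    rw [bot_sup_eq]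
    refine SetLike.ext fun z => ?_
    have h0 : ∀ Q ∈ T, n Q = 0 := fun Q hQ => Finset.sum_eq_zero_iff.1 hn Q hQ
    exact forall₂_congr fun Q hQ => by rw [h0 Q hQ]
  | succ N ih =>
    intro n hn
    obtain ⟨Q₀, hQ₀, hpos⟩ : ∃ Q ∈ T, 0 < n Q := by
      by_contra hcon
      push Not at hcon
      rw [Finset.sum_eq_zero fun Q hQ => Nat.le_zero.1 (hcon Q hQ)] at hn
      omega
    let m : Place k K → ℕ := Function.update n Q₀ (n Q₀ - 1)
    have hmQ : m Q₀ = n Q₀ - 1 := Function.update_self ..
    have hmne : ∀ Q, Q ≠ Q₀ → m Q = n Q := fun Q h => Function.update_of_ne h ..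
    have hm : ∑ Q ∈ T, m Q = N := by
      rw [← Finset.add_sum_erase _ _ hQ₀] at hn
      rw [← Finset.add_sum_erase _ _ hQ₀]
      rw [hmQ, Finset.sum_congr rfl (fun Q hQ => hmne Q (Finset.ne_of_mem_erase hQ))]
      have h2 : n Q₀ + (T.erase Q₀).sum n = N + 1 := hn
      generalize n Q₀ = q at h2 hpos ⊢
      generalize (T.erase Q₀).sum n = r at h2 ⊢
      omega
    obtain ⟨W, hWfin, hWinf, hWsup, hWdim⟩ := ih m hm
    haveI := hWfin
    obtain ⟨σ, hσ⟩ := Q₀.2.2 (WithZero.exp (-((m Q₀ : ℤ))))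
    obtain ⟨π, hπ⟩ := approx T (fun Q => if Q = Q₀ then σ else 0) (fun Q => -((n Q : ℤ)))
    have hπQ : Q₀.1 π = WithZero.exp (-((m Q₀ : ℤ))) := by
      have h1 := hπ Q₀ hQ₀
      rw [if_pos rfl] at h1
      rw [show π = σ + (π - σ) by ring, Valuation.map_add_eq_of_lt_left _ (by
        rw [hσ]; refine h1.trans_lt ?_; rw [WithZero.exp_lt_exp]; omega), hσ]
    have hπm : π ∈ ordGe T m := fun Q hQ => by
      rcases eq_or_ne Q Q₀ with rfl | hne
      · exact hπQ.le
      · have h1 := hπ Q hQ
        rw [if_neg hne, sub_zero] at h1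
        rwa [hmne Q hne]
    have hπ0 : π ∉ ordGe T n := fun h => by
      have h1 := h Q₀ hQ₀
      rw [hπQ, WithZero.exp_le_exp] at h1
      omega
    have hle : ordGe T n ≤ ordGe T m := fun z hz Q hQ => (hz Q hQ).trans (by
      rw [WithZero.exp_le_exp]
      rcases eq_or_ne Q Q₀ with rfl | hne
      · rw [hmQ]; omega
      · rw [hmne Q hne])
    have hstep : ordGe T m ≤ Submodule.span k {π} ⊔ ordGe T n := fun z hz => by
      have hπne : π ≠ 0 := fun h => hπ0 (h ▸ Submodule.zero_mem _)
      obtain ⟨c, hc⟩ := exists_const hK Q₀ (z := z / π) (by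
        rw [map_div₀, hπQ, div_le_one₀ WithZero.exp_pos]; exact hz Q₀ hQ₀)
      have hmem : z - c • π ∈ ordGe T n := fun Q hQ => by
        rcases eq_or_ne Q Q₀ with rfl | hne
        · rw [show z - c • π = (z / π - algebraMap k K c) * π by rw [Algebra.smul_def, sub_mul, div_mul_cancel₀ _ hπne],
            map_mul, hπQ]
          refine (mul_le_mul' ((v_lt_one_iff_le_exp Q _).1 hc) le_rfl).trans ?_
          rw [← WithZero.exp_add, WithZero.exp_le_exp]
          omega
        · rw [← hmne Q hne]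
          exact ((ordGe T m).sub_mem hz ((ordGe T m).smul_mem c hπm)) Q hQ
      exact Submodule.mem_sup.2 ⟨c • π, Submodule.smul_mem _ _ (Submodule.mem_span_singleton_self π), _, hmem, by ring⟩
    refine ⟨W ⊔ Submodule.span k {π}, inferInstance, ?_, ?_, ?_⟩
    · rw [Submodule.eq_bot_iff]
      rintro z ⟨hz1, hz2⟩
      obtain ⟨w, hw, s, hs, rfl⟩ := Submodule.mem_sup.1 hz1
      obtain ⟨c, rfl⟩ := Submodule.mem_span_singleton.1 hs
      have hw0 : w = 0 := by
        have : w ∈ W ⊓ ordGe T m := ⟨hw, by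
          have h := (ordGe T m).sub_mem (hle hz2) ((ordGe T m).smul_mem c hπm)
          rwa [add_sub_cancel_right] at h⟩
        rwa [hWinf, Submodule.mem_bot] at this
      subst hw0
      rw [zero_add] at hz2 ⊢
      by_contra hne
      have hc : c ≠ 0 := fun h => hne (by rw [h, zero_smul])
      exact hπ0 (by simpa [smul_smul, inv_mul_cancel₀ hc] using (ordGe T n).smul_mem c⁻¹ hz2)
    · rw [sup_assoc, ← hWsup, le_antisymm hstep (sup_le ((Submodule.span_singleton_le_iff_mem _ _).2 hπm) hle)]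
    · have hdisj : W ⊓ Submodule.span k {π} = ⊥ := by
        rw [Submodule.eq_bot_iff]
        rintro z ⟨hz1, hz2⟩
        have : z ∈ W ⊓ ordGe T m := ⟨hz1, (Submodule.span_singleton_le_iff_mem _ _).2 hπm hz2⟩
        rwa [hWinf, Submodule.mem_bot] at this
      have h := Submodule.finrank_sup_add_finrank_inf_eq W (Submodule.span k {π})
      rw [hdisj, finrank_bot, add_zero, hWdim, finrank_span_singleton (fun h0 : π = 0 => hπ0 (h0 ▸ Submodule.zero_mem _))] at h
      exact h

omit hK [IsAlgClosed k] in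
/-- Invariance of the colength of multiplication under a change of lattice. -/
lemma finrank_quot_eq_of_lattice {V : Type*} [AddCommGroup V] [Module k V] (φ : V →ₗ[k] V)
    (hφ : Function.Injective φ) {N X C M : Submodule k V} [FiniteDimensional k C] [FiniteDimensional k M]
    (hX : C ⊔ N = X) (hCN : C ⊓ N = ⊥) (hN : M ⊔ N.map φ = N) (hMN : M ⊓ N.map φ = ⊥) (hφX : X.map φ ≤ X) :
    Module.finrank k (↥X ⧸ Submodule.comap X.subtype (X.map φ)) = Module.finrank k M := by
  classical
  let π := (N.map φ).mkQ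
  have hMleN : M ≤ N := hN ▸ le_sup_left
  have hNleX : N ≤ X := hX ▸ le_sup_right
  have hφNN : N.map φ ≤ N := le_sup_right.trans hN.le
  have hπinj : ∀ (S : Submodule k V), S ⊓ N.map φ = ⊥ → Module.finrank k (S.map π) = Module.finrank k S := by
    intro S hS
    have hinj : Function.Injective (π.domRestrict S) := by
      rw [← LinearMap.ker_eq_bot, LinearMap.ker_eq_bot']
      rintro ⟨s, hs⟩ h0
      change π s = 0 at h0
      rw [Submodule.mkQ_apply, Submodule.Quotient.mk_eq_zero] at h0
      have : s ∈ S ⊓ N.map φ := ⟨hs, h0⟩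
      rw [hS, Submodule.mem_bot] at this
      exact Subtype.ext this
    rw [← LinearMap.finrank_range_of_inj hinj, LinearMap.range_domRestrict]
  have hπN : N.map π = M.map π := by
    refine (congrArg (Submodule.map π) hN.symm).trans ?_
    rw [Submodule.map_sup, sup_eq_left]
    rintro _ ⟨z, hz, rfl⟩
    rw [show π z = 0 from (Submodule.Quotient.mk_eq_zero _).2 hz]
    exact Submodule.zero_mem _
  have hCM : (C ⊔ M) ⊓ N.map φ = ⊥ := by
    rw [Submodule.eq_bot_iff]
    rintro z ⟨hz1, hz2⟩
    obtain ⟨a, ha, b, hb, rfl⟩ := Submodule.mem_sup.1 hz1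
    have ha0 : a ∈ C ⊓ N := ⟨ha, by
      have := N.sub_mem (hφNN hz2) (hMleN hb)
      rwa [add_sub_cancel_right] at this⟩
    rw [hCN, Submodule.mem_bot] at ha0
    subst ha0
    rw [zero_add] at hz2 ⊢
    have : b ∈ M ⊓ N.map φ := ⟨hb, hz2⟩
    rwa [hMN, Submodule.mem_bot] at this
  have hdCM : Module.finrank k ↥(C ⊔ M) = Module.finrank k C + Module.finrank k M := by
    have h := Submodule.finrank_sup_add_finrank_inf_eq C M
    rw [le_bot_iff.1 ((inf_le_inf_left C hMleN).trans hCN.le), finrank_bot, add_zero] at h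
    exact h
  have hC' : C.map φ ⊓ N.map φ = ⊥ := by
    rw [← Submodule.map_inf φ hφ, hCN, Submodule.map_bot]
  have hπX : X.map π = (C ⊔ M).map π := by
    rw [← hX, Submodule.map_sup, Submodule.map_sup, hπN]
  have hπφX : (X.map φ).map π = (C.map φ).map π := by
    rw [← hX, Submodule.map_sup, Submodule.map_sup, sup_eq_left]
    rintro _ ⟨z, hz, rfl⟩
    rw [show π z = 0 from (Submodule.Quotient.mk_eq_zero _).2 hz]
    exact Submodule.zero_mem _
  haveI : FiniteDimensional k (X.map π) := hπX ▸ inferInstance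
  have hsub : (X.map φ).map π ≤ X.map π := Submodule.map_mono hφX
  let g : ↥X →ₗ[k] ↥(X.map π) ⧸ Submodule.comap (X.map π).subtype ((X.map φ).map π) :=
    (Submodule.mkQ _).comp ((π.domRestrict X).codRestrict (X.map π) fun z => ⟨z.1, z.2, rfl⟩)
  have hg : Function.Surjective g := fun q => by
    obtain ⟨⟨w, z, hz, rfl⟩, rfl⟩ := Submodule.Quotient.mk_surjective _ q
    exact ⟨⟨z, hz⟩, rfl⟩
  have hker : LinearMap.ker g = Submodule.comap X.subtype (X.map φ) := by
    ext z
    rw [LinearMap.mem_ker, LinearMap.comp_apply, Submodule.mkQ_apply, Submodule.Quotient.mk_eq_zero,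
      Submodule.mem_comap, Submodule.mem_comap]
    constructor
    · rintro ⟨w, hw, he⟩
      have h1 : (z : V) - w ∈ N.map φ := (Submodule.Quotient.eq _).1 he.symm
      have h2 := (X.map φ).add_mem ((Submodule.map_mono hNleX) h1) hw
      rwa [sub_add_cancel] at h2
    · intro hz
      exact ⟨_, hz, rfl⟩
  rw [← hker, (LinearMap.quotKerEquivOfSurjective g hg).finrank_eq]
  have h1 := Submodule.finrank_quotient_add_finrank (Submodule.comap (X.map π).subtype ((X.map φ).map π))
  rw [(Submodule.comapSubtypeEquivOfLe hsub).finrank_eq] at h1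
  have hφC : Module.finrank k (C.map φ) = Module.finrank k C :=
    (Submodule.equivMapOfInjective φ hφ C).finrank_eq.symm
  have eX : Module.finrank k (X.map π) = Module.finrank k C + Module.finrank k M := by
    rw [hπX, hπinj _ hCM, hdCM]
  have eφ : Module.finrank k ((X.map φ).map π) = Module.finrank k C := by
    rw [hπφX, hπinj _ hC', hφC]
  omega

variable (x y : K) (hxy : IntermediateField.adjoin k ({x, y} : Set K) = ⊤)

include hxy

open MvPolynomial (aeval) in
/-- A plane model has a conductor. -/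
theorem exists_plane_conductor : ∃ e ∈ Algebra.adjoin k (Set.range ![x, y]), e ≠ 0 ∧
    ∀ z : K, (∀ Q : Place k K, (∀ i, Q.1 (![x, y] i) ≤ 1) → Q.1 z ≤ 1) →
      e * z ∈ Algebra.adjoin k (Set.range ![x, y]) := by
  classical
  set S := Algebra.adjoin k (Set.range ![x, y]) with hS
  let φ := ![(1 : K), x, y]
  let D := mapDiv k φ
  have hprop := proper_xy (k := k) x y hK
  obtain ⟨f, hf, hfxy⟩ := exists_relation x y hK hxy
  have hdeg := deg_mapDiv_eq x y hK hxy hf hfxy
  set a := f.totalDegree with ha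
  let U : Submodule k K :=
    { carrier := {z | ∀ Q : Place k K, (∀ i, Q.1 (![x, y] i) ≤ 1) → Q.1 z ≤ 1}
      add_mem' := fun {p q} hp hq Q hQ => (Q.1.map_add p q).trans (max_le (hp Q hQ) (hq Q hQ))
      zero_mem' := fun Q _ => by rw [map_zero]; exact zero_le
      smul_mem' := fun c z hz Q hQ => (v_smul_le Q c z).trans (hz Q hQ) }
  have hSU : ∀ z ∈ S, z ∈ U := fun z hz Q hQ => by
    induction hz using Algebra.adjoin_induction with
    | mem w hw => obtain ⟨i, rfl⟩ := hw; exact hQ i
    | algebraMap r => exact Q.2.1 r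
    | add _ _ _ _ h₁ h₂ => exact (Q.1.map_add _ _).trans (max_le h₁ h₂)
    | mul _ _ _ _ h₁ h₂ => rw [map_mul]; exact mul_le_one' h₁ h₂
  have hUS : ∀ z ∈ S, ∀ w ∈ U, z * w ∈ U := fun z hz w hw Q hQ => by
    rw [map_mul]; exact mul_le_one' (hSU z hz Q hQ) (hw Q hQ)
  -- elements of `U` lie in some `L(mD)`
  have hin : ∀ z ∈ U, ∃ m₀ : ℕ, ∀ m, m₀ ≤ m → z ∈ L ((m : ℤ) • D) := fun z hz => by
    rcases eq_or_ne z 0 with rfl | hz0
    · exact ⟨0, fun m _ => Submodule.zero_mem _⟩
    refine ⟨((finite_support hK z).toFinset.sup fun Q => (Q.ord z).natAbs), fun m hm => ?_⟩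
    rw [mem_L_iff_ord hz0]
    intro Q
    have hnn := mapDiv_nonneg x y hK Q
    rw [Finsupp.smul_apply, smul_eq_mul]
    by_cases hfinQ : ∀ i, Q.1 (![x, y] i) ≤ 1
    · have h1 := (v_le_one_iff Q hz0).1 (hz Q hfinQ)
      have h2 : (0 : ℤ) ≤ (m : ℤ) * D Q := mul_nonneg (Int.natCast_nonneg m) hnn
      omega
    · push Not at hfinQ
      obtain ⟨i, hi⟩ := hfinQ
      obtain ⟨j, hj⟩ := hprop.isMax Q
      have h1 : 1 ≤ D Q := by
        have h2 := hprop.2 Q j hj
        have h3 : 1 < Q.1 (φ j) := hi.trans_le (le_of_eq_of_le (by fin_cases i <;> rfl) (hj.2 i.succ))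
        rw [← h2, ← WithZero.exp_zero, WithZero.exp_lt_exp] at h3
        exact h3
      rcases eq_or_ne (Q.ord z) 0 with h0 | h0
      · rw [h0]; positivity
      have h4 : (Q.ord z).natAbs ≤ m := le_trans
        (Finset.le_sup (f := fun R : Place k K => (R.ord z).natAbs)
          ((Set.Finite.mem_toFinset _).2 (Function.mem_support.2 h0))) hm
      have h5 : (m : ℤ) ≤ (m : ℤ) * D Q := le_mul_of_one_le_right (by positivity) h1
      omega
  -- bound on complements of `S` in `U`
  have hbound : ∀ W : Submodule k K, FiniteDimensional k W → W ≤ U → W ⊓ Subalgebra.toSubmodule S = ⊥ →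
      Module.finrank k W ≤ a * a + 2 := fun W hW hWU hWS => by
    haveI := hW
    let b := Module.finBasis k W
    choose m₀ hm₀ using fun l => hin _ (hWU (b l).2)
    set m := a + Finset.univ.sup m₀ + 1
    haveI := finite_pow x y hK (k := k) m
    haveI := finite_L hK ((m : ℤ) • D)
    have hWL : W ≤ L ((m : ℤ) • D) := fun w hw => by
      have e : (∑ l, b.repr ⟨w, hw⟩ l • (b l : K)) = w := by
        have := congrArg Subtype.val (b.sum_repr ⟨w, hw⟩)
        rw [AddSubmonoidClass.coe_finsetSum] at this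
        exact this
      rw [← e]
      refine Submodule.sum_mem _ fun l _ => Submodule.smul_mem _ _ (hm₀ l m ?_)
      have := Finset.le_sup (f := m₀) (Finset.mem_univ l)
      omega
    have hVS : (Submodule.span k (Set.range φ)) ^ m ≤ Subalgebra.toSubmodule S := by
      rw [show (Submodule.span k (Set.range φ)) ^ m = _ from pow_eq_map x y m]
      rintro _ ⟨p, -, rfl⟩
      exact (Algebra.adjoin_range_eq_range_aeval k ![x, y]).ge ⟨p, rfl⟩
    have h1 := Submodule.finrank_sup_add_finrank_inf_eq W ((Submodule.span k (Set.range φ)) ^ m)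
    rw [le_bot_iff.1 ((inf_le_inf_left W hVS).trans hWS.le), finrank_bot, add_zero] at h1
    have h2 := Submodule.finrank_mono (sup_le hWL (pow_le_L hprop m))
    have h3 := two_mul_finrank_pow x y hK hxy hf hfxy (m := m) (by omega)
    have h4 := ell_le_deg_add_one hK (D := (m : ℤ) • D) (smul_nonneg (Int.natCast_nonneg m) (mapDiv_nonneg x y hK))
    rw [deg_smul, hdeg] at h4
    simp only [FunFld.ell] at h4
    have h5 : ((Module.finrank k W : ℤ)) + (Module.finrank k ↥((Submodule.span k (Set.range φ)) ^ m) : ℤ) ≤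
        (Module.finrank k (L ((m : ℤ) • D)) : ℤ) := by exact_mod_cast (h1 ▸ h2)
    have h6 : (0 : ℤ) ≤ (a : ℤ) := Int.natCast_nonneg a
    rw [← Int.ofNat_le]
    push_cast
    nlinarith
  -- a maximal complement
  let Good : ℕ → Prop := fun n => ∃ W : Submodule k K, FiniteDimensional k W ∧ W ≤ U ∧
    W ⊓ Subalgebra.toSubmodule S = ⊥ ∧ Module.finrank k W = n
  have hgood0 : Good 0 := ⟨⊥, inferInstance, bot_le, bot_inf_eq _, finrank_bot k K⟩
  obtain ⟨W, hWfin, hWU, hWS, hWdim⟩ := Nat.findGreatest_spec (P := Good) (Nat.zero_le (a * a + 2)) hgood0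
  haveI := hWfin
  have hcover : U ≤ W ⊔ Subalgebra.toSubmodule S := fun z hz => by
    by_contra hzW
    have hz0 : z ≠ 0 := fun h => hzW (h ▸ Submodule.zero_mem _)
    have hg : Good (Module.finrank k W + 1) := by
      refine ⟨W ⊔ Submodule.span k {z}, inferInstance, sup_le hWU ((Submodule.span_singleton_le_iff_mem _ _).2 hz),
        ?_, ?_⟩
      · rw [Submodule.eq_bot_iff]
        rintro w ⟨hw1, hw2⟩
        obtain ⟨p, hp, q, hq, rfl⟩ := Submodule.mem_sup.1 hw1
        obtain ⟨c, rfl⟩ := Submodule.mem_span_singleton.1 hq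
        rcases eq_or_ne c 0 with rfl | hc
        · rw [zero_smul, add_zero] at hw2 ⊢
          have : p ∈ W ⊓ Subalgebra.toSubmodule S := ⟨hp, hw2⟩
          rwa [hWS, Submodule.mem_bot] at this
        · exfalso
          apply hzW
          have e : z = c⁻¹ • (p + c • z) - c⁻¹ • p := by
            rw [smul_add, smul_smul, inv_mul_cancel₀ hc, one_smul]; ring
          rw [e]
          exact Submodule.sub_mem _ (Submodule.mem_sup_right (Submodule.smul_mem _ _ hw2))
            (Submodule.mem_sup_left (Submodule.smul_mem _ _ hp))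
      · have h := Submodule.finrank_sup_add_finrank_inf_eq W (Submodule.span k {z})
        rw [show W ⊓ Submodule.span k {z} = ⊥ by
          rw [Submodule.eq_bot_iff]
          rintro w ⟨hw1, hw2⟩
          obtain ⟨c, rfl⟩ := Submodule.mem_span_singleton.1 hw2
          by_contra hne
          have hc : c ≠ 0 := fun h0 => hne (by rw [h0, zero_smul])
          exact hzW (Submodule.mem_sup_left (by simpa [smul_smul, inv_mul_cancel₀ hc] using W.smul_mem c⁻¹ hw1)),
          finrank_bot, add_zero, finrank_span_singleton hz0] at h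
        exact h
    obtain ⟨W', hW'fin, hW'U, hW'S, hW'dim⟩ := id hg
    have h1 := hbound W' hW'fin hW'U hW'S
    have h2 := Nat.le_findGreatest (P := Good) (m := Module.finrank k W + 1) (n := a * a + 2) (by omega) hg
    omega
  -- the annihilator
  let b := Module.finBasis k W
  let Q0 := (Subalgebra.toSubmodule S).mkQ
  let Wq := W.map Q0
  haveI : FiniteDimensional k Wq := inferInstance
  have hmul : ∀ (e : S) l, Q0 ((e : K) * (b l : K)) ∈ Wq := fun e l => by
    obtain ⟨p, hp, q, hq, he⟩ := Submodule.mem_sup.1 (hcover (hUS e e.2 _ (hWU (b l).2)))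
    refine ⟨p, hp, ?_⟩
    rw [← he, map_add, show Q0 q = 0 from (Submodule.Quotient.mk_eq_zero _).2 hq, add_zero]
  let Φ : S →ₗ[k] (Fin (Module.finrank k W) → Wq) := LinearMap.pi fun l =>
    (Q0 ∘ₗ ((LinearMap.mulRight k (b l : K)) ∘ₗ S.val.toLinearMap)).codRestrict Wq fun e => hmul e l
  have hker : LinearMap.ker Φ ≠ ⊥ := fun hbot => by
    haveI : FiniteDimensional k S := Module.Finite.of_injective Φ (LinearMap.ker_eq_bot.1 hbot)
    obtain ⟨i, hi⟩ := exists_transcendental_coord x y hK hxy
    have hint := Algebra.IsIntegral.isIntegral (R := k) (⟨_, Algebra.subset_adjoin ⟨i, rfl⟩⟩ : S)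
    exact hi (hint.map S.val).isAlgebraic
  obtain ⟨e, he, he0⟩ := Submodule.exists_mem_ne_zero_of_ne_bot hker
  refine ⟨e, e.2, fun h => he0 (Subtype.ext h), fun z hz => ?_⟩
  obtain ⟨p, hp, q, hq, rfl⟩ := Submodule.mem_sup.1 (hcover hz)
  rw [mul_add]
  refine S.add_mem ?_ (S.mul_mem e.2 hq)
  have e' : (∑ l, b.repr ⟨p, hp⟩ l • (b l : K)) = p := by
    have := congrArg Subtype.val (b.sum_repr ⟨p, hp⟩)
    rw [AddSubmonoidClass.coe_finsetSum] at this
    exact this
  rw [← e', Finset.mul_sum]
  refine S.sum_mem fun l _ => ?_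
  rw [mul_smul_comm]
  refine S.smul_mem ?_ _
  have h1 := congrArg Subtype.val (congrFun (LinearMap.mem_ker.1 he) l)
  exact (Submodule.Quotient.mk_eq_zero _).1 h1

end Groth.Agent.FF
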