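import Mathlib
import Groth.Agent.FF.RatPlaces
import Groth.Agent.FF.Quadratic

/-! The double covers `y² = f(x)` of the line in odd characteristic. -/

set_option autoImplicit false
set_option linter.style.haveILetI false

namespace Groth.Agent.FF.Hyp

open FunFld Polynomial LaurentSeries
open scoped WithZero IntermediateField

universe u v w

variable {k : Type u} {K : Type v} [Field k] [Field K] [Algebra k K] [Algebra (RatFunc k) K]
  [IsScalarTower k (RatFunc k) K]


lemma two_ne (h2 : ringChar k ≠ 2) : (2 : k) ≠ 0 := Ring.two_ne_zero h2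

lemma two_ne' (h2 : ringChar k ≠ 2) : (2 : K) ≠ 0 := by
  rw [← map_ofNat (algebraMap k K) 2]
  exact (_root_.map_ne_zero _).2 (two_ne h2)

lemma v_two (h2 : ringChar k ≠ 2) (Q : Place k K) : Q.1 (2 : K) = 1 := by
  rw [← map_ofNat (algebraMap k K) 2]
  exact v_algebraMap Q (two_ne h2)

section

variable {y : K} {f : k[X]} (hf : Squarefree f) (hd : 1 ≤ f.natDegree)
  (heq : y ^ 2 = (algebraMap (RatFunc k) K) ((algebraMap k[X] (RatFunc k)) f))

include heq hf in
lemma y_ne_zero : y ≠ 0 := by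
  rintro rfl
  rw [zero_pow two_ne_zero, eq_comm, map_eq_zero] at heq
  exact RatFunc.algebraMap_ne_zero hf.ne_zero heq

include hf hd heq in
lemma y_not_range : y ∉ Set.range (algebraMap (RatFunc k) K) := by
  rintro ⟨r, rfl⟩
  rw [← map_pow] at heq
  have hr : r ^ 2 = (algebraMap k[X] (RatFunc k)) f := (algebraMap (RatFunc k) K).injective heq
  have hi : IsIntegral k[X] r := IsIntegral.of_pow two_pos (hr ▸ isIntegral_algebraMap)
  obtain ⟨a, rfl⟩ := IsIntegrallyClosed.isIntegral_iff.1 hi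
  have : a ^ 2 = f := RatFunc.algebraMap_injective k (by rw [map_pow, hr])
  subst this
  have hu : IsUnit a := hf a ⟨1, by ring⟩
  rw [natDegree_pow, Polynomial.natDegree_eq_zero_of_isUnit hu, mul_zero] at hd
  omega

include hf heq in
lemma two_ord_y {Q : Place k K} {P : Place k (RatFunc k)} {e : ℕ} (h : IsOverWith Q P e) :
    2 * Q.ord y = e * P.ord ((algebraMap k[X] (RatFunc k)) f) := by
  have h1 := congrArg Q.ord heq
  rw [ord_pow, ord_of_isOverWith h] at h1
  exact_mod_cast h1

lemma rel {a : K} {r : RatFunc k} (ha : a ^ 2 = (algebraMap (RatFunc k) K) r) : a ^ 2 = (algebraMap (RatFunc k) K) 0 * a + (algebraMap (RatFunc k) K) r := by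
  rw [map_zero, zero_mul, zero_add, ha]

variable (hdeg : Module.finrank (RatFunc k) K = 2) (h2 : ringChar k ≠ 2)

/-- Above a finite place: ramified exactly at the zeros of `f`. -/
theorem finite_cases (hf : Squarefree f) (hd : 1 ≤ f.natDegree) (heq : y ^ 2 = (algebraMap (RatFunc k) K) ((algebraMap k[X] (RatFunc k)) f))
    (hdeg : Module.finrank (RatFunc k) K = 2) (h2 : ringChar k ≠ 2)
    {Q : Place k K} {P : Place k (RatFunc k)} {e : ℕ} (h : IsOverWith Q P e)
    (hP : 0 ≤ P.ord (RatFunc.X : RatFunc k)) :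
    (P.ord ((algebraMap k[X] (RatFunc k)) f) = 1 ∧ e = 2 ∧ Q.ord y = 1) ∨ (P.ord ((algebraMap k[X] (RatFunc k)) f) = 0 ∧ e = 1 ∧ Q.ord y = 0) := by
  have ho := two_ord_y hf heq h
  rcases Rat.ord_squarefree hP hf with h0 | h1
  · refine Or.inr ⟨h0, ?_, by rw [h0] at ho; omega⟩
    have hy : Q.1 y = 1 := by
      rw [v_eq_exp Q (y_ne_zero hf heq)]
      rw [h0] at ho
      rw [show Q.ord y = 0 by omega, neg_zero, WithZero.exp_zero]
    refine Quad.unramified_of_disc Rat.isFunctionField hdeg (y_not_range hf hd heq) (rel heq) h hy.le ?_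
    rw [map_zero, sub_zero, map_mul, v_two h2, hy, one_mul]
  · obtain ⟨rfl, hy⟩ := Quad.ramified_of_odd Rat.isFunctionField hdeg h ho (by rw [h1]; exact odd_one)
    exact Or.inl ⟨h1, rfl, hy.trans h1⟩

/-- Above infinity: ramified exactly for odd degree. -/
theorem inf_cases (hf : Squarefree f) (hd : 1 ≤ f.natDegree) (heq : y ^ 2 = (algebraMap (RatFunc k) K) ((algebraMap k[X] (RatFunc k)) f))
    (hdeg : Module.finrank (RatFunc k) K = 2) (h2 : ringChar k ≠ 2)
    {Q : Place k K} {P : Place k (RatFunc k)} {e : ℕ} (h : IsOverWith Q P e)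
    (hP : P.ord (RatFunc.X : RatFunc k) < 0) :
    2 * Q.ord y = -(e * f.natDegree : ℤ) ∧ (Odd f.natDegree → e = 2) ∧ (Even f.natDegree → e = 1) := by
  have ho := two_ord_y hf heq h
  rw [Rat.ord_poly_inf hP] at ho
  refine ⟨by rw [ho]; ring, fun hodd => ?_, fun ⟨m, hm⟩ => ?_⟩
  · refine (Quad.ramified_of_odd Rat.isFunctionField hdeg (s := y) (r := (algebraMap k[X] (RatFunc k)) f) h ?_ ?_).1
    · rw [Rat.ord_poly_inf hP]; exact ho
    · rw [Rat.ord_poly_inf hP, odd_neg]; exact_mod_cast hodd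
  · set s := y * (algebraMap (RatFunc k) K) ((RatFunc.X ^ m)⁻¹) with hs
    have hXm : ((RatFunc.X : RatFunc k) ^ m)⁻¹ ≠ 0 := inv_ne_zero (pow_ne_zero _ RatFunc.X_ne_zero)
    have hs0 : s ≠ 0 := mul_ne_zero (y_ne_zero hf heq) ((_root_.map_ne_zero _).2 hXm)
    have hsr : s ∉ Set.range (algebraMap (RatFunc k) K) := fun ⟨r, hr⟩ => y_not_range hf hd heq
      ⟨r * ((RatFunc.X : RatFunc k) ^ m), by
        rw [map_mul, hr, hs, mul_assoc, ← map_mul, inv_mul_cancel₀ (pow_ne_zero _ RatFunc.X_ne_zero), map_one, mul_one]⟩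
    have hsord : Q.1 s = 1 := by
      rw [v_eq_exp Q hs0, hs, ord_mul Q (y_ne_zero hf heq) ((_root_.map_ne_zero _).2 hXm), ord_of_isOverWith h, ord_inv,
        ord_pow, Rat.ord_X_inf hP, ← WithZero.exp_zero]
      congr 1
      rw [hm] at ho
      push_cast at ho ⊢
      linarith
    refine Quad.unramified_of_disc Rat.isFunctionField hdeg hsr (rel (r := (algebraMap k[X] (RatFunc k)) f * ((RatFunc.X ^ m)⁻¹) ^ 2) ?_) h hsord.le ?_
    · rw [hs, mul_pow, heq, map_mul, map_pow]
    · rw [map_zero, sub_zero, map_mul, v_two h2, hsord, one_mul]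

end

section Field

variable {y : K} {f : k[X]}

omit [Algebra k K] [IsScalarTower k (RatFunc k) K] in
/-- The minimal polynomial of `y`. -/
lemma minpoly_y (hf : Squarefree f) (hd : 1 ≤ f.natDegree)
    (heq : y ^ 2 = algebraMap (RatFunc k) K (algebraMap k[X] (RatFunc k) f)) :
    minpoly (RatFunc k) y = X ^ 2 - C (algebraMap k[X] (RatFunc k) f) := by
  have hirr : Irreducible (X ^ 2 - C (algebraMap k[X] (RatFunc k) f)) := by
    refine X_pow_sub_C_irreducible_of_prime Nat.prime_two fun b hb => ?_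
    have hi : IsIntegral k[X] b := IsIntegral.of_pow two_pos (hb ▸ isIntegral_algebraMap)
    obtain ⟨a, rfl⟩ := IsIntegrallyClosed.isIntegral_iff.1 hi
    have ha : a ^ 2 = f := RatFunc.algebraMap_injective k (by rw [map_pow, hb])
    subst ha
    rw [natDegree_pow, Polynomial.natDegree_eq_zero_of_isUnit (hf a ⟨1, by ring⟩), mul_zero] at hd
    omega
  refine (minpoly.eq_of_irreducible_of_monic hirr ?_ (monic_X_pow_sub_C _ two_ne_zero)).symm
  simp [heq]

omit [Algebra k K] [IsScalarTower k (RatFunc k) K] in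
lemma adjoin_y (hdeg : Module.finrank (RatFunc k) K = 2) (hf : Squarefree f) (hd : 1 ≤ f.natDegree)
    (heq : y ^ 2 = algebraMap (RatFunc k) K (algebraMap k[X] (RatFunc k) f)) :
    (RatFunc k)⟮y⟯ = ⊤ := by
  haveI : FiniteDimensional (RatFunc k) K := Module.finite_of_finrank_eq_succ hdeg
  refine Field.primitive_element_iff_minpoly_natDegree_eq (RatFunc k) y |>.2 ?_
  rw [minpoly_y hf hd heq, natDegree_X_pow_sub_C, hdeg]

omit [Algebra k K] [IsScalarTower k (RatFunc k) K] in
lemma isSeparable (hdeg : Module.finrank (RatFunc k) K = 2) (h2 : ringChar k ≠ 2) (hf : Squarefree f)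
    (hd : 1 ≤ f.natDegree) (heq : y ^ 2 = algebraMap (RatFunc k) K (algebraMap k[X] (RatFunc k) f)) :
    Algebra.IsSeparable (RatFunc k) K := by
  haveI : Algebra.IsSeparable (RatFunc k) (RatFunc k)⟮y⟯ := by
    refine (IntermediateField.isSeparable_adjoin_simple_iff_isSeparable _ _).2 ?_
    rw [IsSeparable, minpoly_y hf hd heq]
    refine separable_X_pow_sub_C _ ?_ (RatFunc.algebraMap_ne_zero hf.ne_zero)
    rw [Nat.cast_ofNat, ← map_ofNat (algebraMap k (RatFunc k)) 2]
    exact (_root_.map_ne_zero _).2 (two_ne h2)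
  exact Algebra.IsSeparable.of_algHom (RatFunc k) (RatFunc k)⟮y⟯
    ((IntermediateField.equivOfEq (adjoin_y hdeg hf hd heq)).trans IntermediateField.topEquiv).symm.toAlgHom

/-- The double cover is a function field over `k`. -/
theorem isFunctionField (hdeg : Module.finrank (RatFunc k) K = 2) (h2 : ringChar k ≠ 2) (hf : Squarefree f)
    (hd : 1 ≤ f.natDegree) (heq : y ^ 2 = algebraMap (RatFunc k) K (algebraMap k[X] (RatFunc k) f)) :
    IsFunctionField k K := by
  haveI : FiniteDimensional (RatFunc k) K := Module.finite_of_finrank_eq_succ hdeg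
  refine ⟨⟨algebraMap (RatFunc k) K RatFunc.X,
    transcendental_algebraMap (K' := K) Rat.isFunctionField RatFunc.transcendental_X,
    (finrank_adjoin_map (K' := K) Rat.isFunctionField RatFunc.transcendental_X).1⟩, fun c hc => ?_⟩
  obtain ⟨a, b, rfl⟩ := Quad.exists_repr hdeg (y_not_range hf hd heq) c
  have hty : Algebra.trace (RatFunc k) K y = 0 := by
    rw [trace_eq_finrank_mul_minpoly_nextCoeff, minpoly_y hf hd heq,
      Polynomial.nextCoeff, natDegree_X_pow_sub_C, if_neg two_ne_zero]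
    simp
  have htr : Algebra.trace (RatFunc k) K (algebraMap (RatFunc k) K a + algebraMap (RatFunc k) K b * y) = 2 * a := by
    rw [map_add, Algebra.trace_algebraMap, hdeg, ← Algebra.smul_def, LinearMap.map_smul, hty, smul_zero, add_zero,
      nsmul_eq_mul, Nat.cast_ofNat]
  have ha : IsAlgebraic k (2 * a) := htr ▸ (Algebra.isIntegral_trace hc.isIntegral).isAlgebraic
  obtain ⟨c₁, hc₁⟩ := Rat.isFunctionField.2 _ ha
  have haK : algebraMap (RatFunc k) K a = algebraMap k K (c₁ / 2) := by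
    rw [IsScalarTower.algebraMap_apply k (RatFunc k) K, map_div₀, hc₁, map_ofNat]
    have h20 : (2 : RatFunc k) ≠ 0 := by
      rw [← map_ofNat (algebraMap k (RatFunc k)) 2]; exact (_root_.map_ne_zero _).2 (two_ne h2)
    rw [mul_div_cancel_left₀ _ h20]
  rw [haK] at hc ⊢
  have hby : IsIntegral k (algebraMap (RatFunc k) K b * y) := by
    have h := hc.isIntegral.sub (isIntegral_algebraMap (R := k) (A := K) (x := c₁ / 2))
    rwa [add_sub_cancel_left] at h
  have hsq : IsAlgebraic k (b ^ 2 * algebraMap k[X] (RatFunc k) f) := by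
    refine (isAlgebraic_algebraMap_iff (algebraMap (RatFunc k) K).injective).1 ?_
    rw [map_mul, map_pow, ← heq, ← mul_pow]
    exact (hby.pow 2).isAlgebraic
  obtain ⟨γ, hγ⟩ := Rat.isFunctionField.2 _ hsq
  suffices hb : b = 0 by
    subst hb
    exact ⟨c₁ / 2, by simp⟩
  by_contra hb
  obtain ⟨q, hqi, hqf⟩ := WfDvdMonoid.exists_irreducible_factor
    (fun hu => by rw [Polynomial.natDegree_eq_zero_of_isUnit hu] at hd; omega) hf.ne_zero
  obtain ⟨P, hP⟩ := Rat.exists_over_irreducible hqi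
  obtain ⟨r, rfl⟩ := hqf
  have hr := right_ne_zero_of_mul hf.ne_zero
  have h1 := congrArg P.ord hγ
  rw [ord_algebraMap, ord_mul P (pow_ne_zero _ hb) (RatFunc.algebraMap_ne_zero hf.ne_zero), ord_pow] at h1
  rcases Rat.ord_squarefree (Rat.finite_of_poly_zero hP) hf with h | h
  · rw [map_mul, ord_mul P (RatFunc.algebraMap_ne_zero hqi.ne_zero) (RatFunc.algebraMap_ne_zero hr)] at h
    have := Rat.ord_nonneg_of_le_one (Rat.v_poly_le_one (Rat.finite_of_poly_zero hP) r)
    omega
  · rw [h] at h1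
    omega

end Field

end Groth.Agent.FF.Hyp
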