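import Mathlib
import Groth.Agent.FF.Hyperelliptic

/-! A field `k(x, y)` with `y² = f(x)` as an extension of `RatFunc k`. -/

set_option autoImplicit false
set_option linter.style.haveILetI false

namespace Groth.Agent.FF.Hyp

open FunFld Polynomial
open scoped IntermediateField

universe u v

variable {k : Type u} {K : Type v} [Field k] [Field K] [Algebra k K]

/-- The embedding of `RatFunc k` sending `X` to a transcendental element. -/
noncomputable def ratEmb {x : K} (hx : Transcendental k x) : RatFunc k →ₐ[k] K :=
  RatFunc.liftAlgHom (Polynomial.aeval x) fun p hp => by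
    rw [Submonoid.mem_comap, mem_nonZeroDivisors_iff_ne_zero]
    exact fun h => (mem_nonZeroDivisors_iff_ne_zero.1 hp) (transcendental_iff.1 hx p h)

lemma ratEmb_algebraMap {x : K} (hx : Transcendental k x) (p : k[X]) :
    ratEmb hx (algebraMap k[X] (RatFunc k) p) = aeval x p := by
  show RatFunc.liftAlgHom (Polynomial.aeval x) _ _ = _
  rw [RatFunc.liftAlgHom_apply]
  simp

/-- The model: an algebra structure over `RatFunc k` with degree two. -/
theorem exists_model {x y : K} (hx : Transcendental k x)
    (hxy : IntermediateField.adjoin k ({x, y} : Set K) = ⊤) {f : k[X]} (hf : Squarefree f) (hd : 1 ≤ f.natDegree)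
    (heq : y ^ 2 = Polynomial.aeval x f) :
    ∃ (_ : Algebra (RatFunc k) K) (_ : IsScalarTower k (RatFunc k) K),
      algebraMap (RatFunc k) K RatFunc.X = x ∧ Module.finrank (RatFunc k) K = 2 ∧
      y ^ 2 = algebraMap (RatFunc k) K (algebraMap k[X] (RatFunc k) f) := by
  letI alg : Algebra (RatFunc k) K := (ratEmb hx).toRingHom.toAlgebra
  haveI tow : IsScalarTower k (RatFunc k) K := IsScalarTower.of_algebraMap_eq fun c => ((ratEmb hx).commutes c).symm
  have hX : algebraMap (RatFunc k) K RatFunc.X = x := by
    show ratEmb hx RatFunc.X = x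
    rw [← RatFunc.algebraMap_X, ratEmb_algebraMap, aeval_X]
  have heq' : y ^ 2 = algebraMap (RatFunc k) K (algebraMap k[X] (RatFunc k) f) := by
    show y ^ 2 = ratEmb hx _
    rw [ratEmb_algebraMap, heq]
  refine ⟨alg, tow, hX, ?_, heq'⟩
  have htop : (RatFunc k)⟮y⟯ = ⊤ := by
    refine IntermediateField.restrictScalars_injective k (top_le_iff.1 ?_)
    have hxmem : x ∈ IntermediateField.restrictScalars k (RatFunc k)⟮y⟯ := by
      rw [IntermediateField.mem_restrictScalars, ← hX]
      exact IntermediateField.algebraMap_mem (RatFunc k)⟮y⟯ RatFunc.X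
    have hymem : y ∈ IntermediateField.restrictScalars k (RatFunc k)⟮y⟯ := by
      rw [IntermediateField.mem_restrictScalars]
      exact IntermediateField.mem_adjoin_simple_self _ y
    rw [← hxy, IntermediateField.adjoin_le_iff]
    exact Set.insert_subset hxmem (Set.singleton_subset_iff.2 hymem)
  have hint : IsIntegral (RatFunc k) y := IsIntegral.of_pow two_pos (heq' ▸ isIntegral_algebraMap)
  rw [← IntermediateField.finrank_top', ← htop, IntermediateField.adjoin.finrank hint, minpoly_y hf hd heq',
    natDegree_X_pow_sub_C]

end Groth.Agent.FF.Hyp
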