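import Groth.Agent.FF.NonSing
import Groth.Agent.FF.RatModel
import Groth.Agent.FF.RatPlaces
import Groth.Agent.FF.LocalRings

/-! Unramified places over the rational subfield of a separating element are nonsingular. -/

set_option autoImplicit false
set_option linter.style.haveILetI false

namespace Groth.Agent.FF

open FunFld
open scoped WithZero IntermediateField

universe u u' v v'

section den

variable {k : Type u} {K : Type v} [Field k] [Field K] [Algebra k K] {x : K}

/-- Reduced fractions at a finite place of `k(x)`. -/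
lemma exists_num_den (hx : Transcendental k x) {p : Place k k⟮x⟯}
    (hp : p.1 ⟨x, IntermediateField.mem_adjoin_simple_self k x⟩ ≤ 1) {r : k⟮x⟯} (hr : p.1 r ≤ 1) :
    ∃ n s : Polynomial k, p.1 (Polynomial.aeval (⟨x, IntermediateField.mem_adjoin_simple_self k x⟩ : k⟮x⟯) s) = 1 ∧
      r * Polynomial.aeval (⟨x, IntermediateField.mem_adjoin_simple_self k x⟩ : k⟮x⟯) s =
        Polynomial.aeval (⟨x, IntermediateField.mem_adjoin_simple_self k x⟩ : k⟮x⟯) n := by
  set g : k⟮x⟯ := ⟨x, IntermediateField.mem_adjoin_simple_self k x⟩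
  have hg : Transcendental k g := fun h => hx (h.algebraMap (A := K))
  let e₀ := Hyp.ratEmb hg
  have hsurj : Function.Surjective e₀ := fun w => by
    have hle : k⟮x⟯ ≤ ((IntermediateField.val k⟮x⟯).comp e₀).fieldRange :=
      IntermediateField.adjoin_simple_le_iff.2 ⟨algebraMap (Polynomial k) (RatFunc k) Polynomial.X, by
        show ((e₀ _ : k⟮x⟯) : K) = x
        rw [Hyp.ratEmb_algebraMap, Polynomial.aeval_X]⟩
    obtain ⟨t, ht⟩ := hle w.2
    exact ⟨t, Subtype.ext ht⟩
  obtain ⟨t, rfl⟩ := hsurj r
  have hden : Polynomial.aeval g t.denom ≠ 0 := fun h => t.denom_ne_zero (transcendental_iff.1 hg _ h)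
  have heq : e₀ t * Polynomial.aeval g t.denom = Polynomial.aeval g t.num := by
    rw [← Hyp.ratEmb_algebraMap hg, ← Hyp.ratEmb_algebraMap hg, ← map_mul]
    congr 1
    conv_lhs => arg 1; rw [← RatFunc.num_div_denom t]
    rw [div_mul_cancel₀]
    exact RatFunc.algebraMap_ne_zero t.denom_ne_zero
  refine ⟨t.num, t.denom, le_antisymm (Rat.v_aeval_le_one hp _) (not_lt.1 fun hlt => ?_), heq⟩
  have hnum : p.1 (Polynomial.aeval g t.num) < 1 := by
    rw [← heq, map_mul]
    exact (mul_le_of_le_one_left' hr).trans_lt hlt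
  obtain ⟨a, b, hab⟩ := RatFunc.isCoprime_num_denom t
  have h1 := congrArg (fun q => p.1 (Polynomial.aeval g q)) hab
  simp only [map_add, map_mul, map_one] at h1
  have h2 := p.1.map_add (Polynomial.aeval g a * Polynomial.aeval g t.num) (Polynomial.aeval g b * Polynomial.aeval g t.denom)
  rw [h1, map_mul, map_mul] at h2
  refine absurd (h2.trans_lt (max_lt ?_ ?_)) (lt_irrefl 1)
  · exact (mul_le_of_le_one_left' (Rat.v_aeval_le_one hp a)).trans_lt hnum
  · exact (mul_le_of_le_one_left' (Rat.v_aeval_le_one hp b)).trans_lt hlt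

end den

variable {k : Type u} {k' : Type u'} {K : Type v} {K' : Type v'} [Field k] [Field k'] [Field K] [Field K']
  [Algebra k k'] [FiniteDimensional k k'] [Algebra k K] [Algebra K K'] [Algebra k' K'] [Algebra k K']
  [IsScalarTower k k' K'] [IsScalarTower k K K']
  {b : Module.Basis (Fin (Module.finrank k k')) K K'}
  (hb : ∀ i, b i = algebraMap k' K' (Module.finBasis k k' i))
  {x : K} (hx : Transcendental k x)

include hb hx

/-- The base case `k(x)`: integral combinations of constants have integral coefficients. -/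
lemma coeff_le_one_of_isIntegral (p : Place k k⟮x⟯)
    (hp : p.1 ⟨x, IntermediateField.mem_adjoin_simple_self k x⟩ ≤ 1) (a : Fin (Module.finrank k k') → k⟮x⟯)
    {Q : Polynomial k⟮x⟯} (hQm : Q.Monic) (hQc : ∀ l, p.1 (Q.coeff l) ≤ 1)
    (hQu : Polynomial.aeval (∑ i, algebraMap K K' (a i : K) * b i) Q = 0) (i : Fin (Module.finrank k k')) :
    p.1 (a i) ≤ 1 := by
  classical
  set g : k⟮x⟯ := ⟨x, IntermediateField.mem_adjoin_simple_self k x⟩
  set x' := algebraMap K K' x with hx'def
  haveI : Algebra.IsAlgebraic k k' := Algebra.IsAlgebraic.of_finite k k'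
  have hx' : Transcendental k' x' := fun hal =>
    hx ((isAlgebraic_algebraMap_iff (algebraMap K K').injective).1 (hal.restrictScalars k))
  choose n s hs hns using fun l => exists_num_den hx hp (hQc l)
  let S : Polynomial k := ∏ l ∈ Finset.range Q.natDegree, s l
  have hS : p.1 (Polynomial.aeval g S) = 1 := by
    rw [map_prod, map_prod, Finset.prod_eq_one fun l _ => hs l]
  let ρ : Polynomial k →ₐ[k] k⟮x⟯ := Polynomial.aeval g
  -- scale the relation
  have hlift : Q.scaleRoots (ρ S) ∈ Polynomial.lifts ρ.toRingHom := by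
    rw [Polynomial.lifts_iff_coeff_lifts]
    intro l
    rw [Polynomial.coeff_scaleRoots]
    rcases lt_trichotomy l Q.natDegree with hl | hl | hl
    · refine ⟨n l * (∏ m ∈ (Finset.range Q.natDegree).erase l, s m) * S ^ (Q.natDegree - l - 1), ?_⟩
      show ρ _ = _
      rw [show Q.natDegree - l = 1 + (Q.natDegree - l - 1) by omega, pow_add, pow_one]
      rw [show 1 + (Q.natDegree - l - 1) - 1 = Q.natDegree - l - 1 by omega, map_mul, map_mul, map_pow]
      rw [show ρ (n l) = Q.coeff l * ρ (s l) from (hns l).symm, mul_assoc (Q.coeff l), ← map_mul ρ (s l),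
        Finset.mul_prod_erase _ s (Finset.mem_range.2 hl)]
      ring
    · exact ⟨1, by rw [hl, hQm.coeff_natDegree, Nat.sub_self, pow_zero, mul_one]; exact map_one ρ⟩
    · exact ⟨0, by rw [Polynomial.coeff_eq_zero_of_natDegree_lt hl, zero_mul]; exact map_zero ρ⟩
  obtain ⟨H, hH, -, hHm⟩ := Polynomial.lifts_and_degree_eq_and_monic hlift
    ((Polynomial.monic_scaleRoots_iff _).2 hQm)
  set u := ∑ i, algebraMap K K' (a i : K) * b i with hu
  have hHu : Polynomial.eval₂ ((algebraMap k⟮x⟯ K').comp ρ.toRingHom) (algebraMap k⟮x⟯ K' (ρ S) * u) H = 0 := by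
    rw [← Polynomial.eval₂_map, hH]
    exact Polynomial.scaleRoots_eval₂_eq_zero _ hQu
  -- integrality over k'[X]
  have hcomp : (algebraMap k⟮x⟯ K').comp ρ.toRingHom =
      (Polynomial.aeval x' : Polynomial k' →ₐ[k'] K').toRingHom.comp (Polynomial.mapRingHom (algebraMap k k')) := by
    refine RingHom.ext fun q => ?_
    show algebraMap k⟮x⟯ K' (Polynomial.aeval g q) = Polynomial.aeval x' (q.map (algebraMap k k'))
    rw [Polynomial.aeval_map_algebraMap, IsScalarTower.algebraMap_apply k⟮x⟯ K K', hx'def,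
      Polynomial.aeval_algebraMap_apply]
    congr 1
    exact (IntermediateField.aeval_coe k⟮x⟯ g q).symm
  obtain ⟨G, hG⟩ : ∃ G : Polynomial k', Polynomial.aeval x' G = algebraMap k⟮x⟯ K' (ρ S) * u := by
    let ψ := Hyp.ratEmb hx'
    have hψp : ∀ q : Polynomial k', ψ (algebraMap _ _ q) = Polynomial.aeval x' q := fun q => Hyp.ratEmb_algebraMap hx' q
    obtain ⟨r, hr⟩ : ∃ r, ψ r = algebraMap k⟮x⟯ K' (ρ S) * u := by
      have hmem : ∀ w : k⟮x⟯, algebraMap k⟮x⟯ K' w ∈ ψ.fieldRange := fun w => by
        obtain ⟨nn, dd, e⟩ := (IntermediateField.mem_adjoin_simple_iff k (w : K)).1 w.2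
        rw [IsScalarTower.algebraMap_apply k⟮x⟯ K K']
        show algebraMap K K' (w : K) ∈ _
        rw [e, map_div₀, ← Polynomial.aeval_algebraMap_apply, ← Polynomial.aeval_algebraMap_apply,
          ← Polynomial.aeval_map_algebraMap k', ← Polynomial.aeval_map_algebraMap k' _ dd, ← hψp, ← hψp]
        exact div_mem ⟨_, rfl⟩ ⟨_, rfl⟩
      have : algebraMap k⟮x⟯ K' (ρ S) * u ∈ ψ.fieldRange := by
        refine mul_mem (hmem _) (sum_mem fun l _ => mul_mem ?_ ?_)
        · have := hmem (a l)
          rwa [IsScalarTower.algebraMap_apply k⟮x⟯ K K'] at this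
        · rw [hb]; exact IntermediateField.algebraMap_mem _ _
      exact this
    have hint : IsIntegral (Polynomial k') r := by
      refine ⟨H.map (Polynomial.mapRingHom (algebraMap k k')), hHm.map _, ψ.toRingHom.injective ?_⟩
      rw [Polynomial.eval₂_map, Polynomial.hom_eval₂, map_zero]
      show Polynomial.eval₂ _ (ψ r) H = 0
      rw [hr, ← hHu, hcomp]
      congr 1
      exact RingHom.ext fun q => hψp _
    obtain ⟨G, rfl⟩ := IsIntegrallyClosed.isIntegral_iff.1 hint
    exact ⟨G, (hψp G).symm.trans hr⟩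
  -- compare coordinates
  have hdec : Polynomial.aeval x' G = ∑ l, algebraMap K K' (Polynomial.aeval x
      (∑ m ∈ G.support, Polynomial.monomial m ((Module.finBasis k k').repr (G.coeff m) l))) * b l := by
    conv_lhs => rw [G.as_sum_support]
    simp only [map_sum, Polynomial.aeval_monomial, Finset.sum_mul]
    rw [Finset.sum_comm]
    refine Finset.sum_congr rfl fun m _ => ?_
    conv_lhs => arg 1; rw [← (Module.finBasis k k').sum_repr (G.coeff m), map_sum]
    rw [Finset.sum_mul]
    refine Finset.sum_congr rfl fun l _ => ?_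
    rw [hb, Algebra.smul_def, map_mul, map_mul, ← IsScalarTower.algebraMap_apply, ← IsScalarTower.algebraMap_apply,
      hx'def, map_pow]
    ring
  have hleft : algebraMap k⟮x⟯ K' (ρ S) * u = ∑ l, algebraMap K K' ((ρ S * a l : k⟮x⟯) : K) * b l := by
    rw [hu, Finset.mul_sum, IsScalarTower.algebraMap_apply k⟮x⟯ K K']
    refine Finset.sum_congr rfl fun l _ => ?_
    rw [← mul_assoc, ← map_mul]
    rfl
  have hcoord := congrArg (fun w => b.repr w i) ((hdec.symm.trans hG).trans hleft)
  simp only [← Algebra.smul_def, b.repr_sum_self] at hcoord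
  have hfinal : ρ S * a i = Polynomial.aeval g
      (∑ m ∈ G.support, Polynomial.monomial m ((Module.finBasis k k').repr (G.coeff m) i)) :=
    Subtype.ext (hcoord.symm.trans (IntermediateField.aeval_coe k⟮x⟯ g _))
  have h1 := congrArg p.1 hfinal
  rw [map_mul, hS, one_mul] at h1
  rw [h1]
  exact Rat.v_aeval_le_one hp _

/-- Unramified over `k(x)` implies nonsingular. -/
theorem nonsing_of_unit (hK : IsFunctionField k K) [FiniteDimensional k⟮x⟯ K] [Algebra.IsSeparable k⟮x⟯ K]
    (hKF : IsFunctionField k k⟮x⟯) {y : K} (hy : IntermediateField.adjoin k⟮x⟯ ({y} : Set K) = ⊤)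
    {P : Place k K} {p : Place k k⟮x⟯} (hPp : IsOver P p)
    (hp : p.1 ⟨x, IntermediateField.mem_adjoin_simple_self k x⟩ ≤ 1)
    (hcoef : ∀ i, p.1 ((minpoly k⟮x⟯ y).coeff i) ≤ 1)
    (hg : P.1 (Polynomial.aeval y (Polynomial.derivative (minpoly k⟮x⟯ y))) = 1) :
    ∀ z : K', IntOver P z → ∀ i, P.1 (b.repr z i) ≤ 1 := by
  classical
  haveI : FiniteDimensional K K' := Module.Finite.of_basis b
  haveI : FiniteDimensional k⟮x⟯ K' := Module.Finite.trans K K'
  haveI : IsScalarTower k k⟮x⟯ K' := IsScalarTower.of_algebraMap_eq fun c => by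
    rw [IsScalarTower.algebraMap_apply k⟮x⟯ K K', IsScalarTower.algebraMap_apply k K K']
    rfl
  intro z hz
  obtain ⟨w, hw1, hw⟩ := exists_shift (K'' := K') hKF p hPp hz
  set a := fun i => b.repr (algebraMap K K' w * z) i with ha
  -- the trace to `k(x) ⊗ k'`
  letI : Algebra p.O K' := ((algebraMap k⟮x⟯ K').comp p.O.subtype).toAlgebra
  haveI : IsScalarTower p.O k⟮x⟯ K' := IsScalarTower.of_algebraMap_eq fun _ => rfl
  letI : Algebra p.O K := ((algebraMap k⟮x⟯ K).comp p.O.subtype).toAlgebra
  haveI : IsScalarTower p.O k⟮x⟯ K := IsScalarTower.of_algebraMap_eq fun _ => rfl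
  have hyi : IsIntegral p.O y := by
    obtain ⟨q, hq, -, hqm⟩ := Polynomial.lifts_and_degree_eq_and_monic (f := algebraMap p.O k⟮x⟯) (p := minpoly k⟮x⟯ y)
      ((Polynomial.lifts_iff_coeff_lifts _).2 fun i => ⟨⟨_, hcoef i⟩, rfl⟩) (minpoly.monic (IsIntegral.of_finite _ y))
    refine ⟨q, hqm, ?_⟩
    rw [← Polynomial.aeval_def, ← Polynomial.aeval_map_algebraMap k⟮x⟯ y q, hq]
    exact minpoly.aeval _ y
  have hT : ∀ (v : K), IntOver p v → ∀ i, p.1 (Algebra.trace k⟮x⟯ K (v * a i)) ≤ 1 := by
    intro v hv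
    let Ω := AlgebraicClosure K'
    haveI : IsScalarTower k⟮x⟯ K' Ω := inferInstance
    let u := algebraMap K K' v * (algebraMap K K' w * z)
    have hu : IntOver p u := IntOver.mul (fun R hR => by
      obtain ⟨P₀, hP₀⟩ := exists_middle (K' := K) hKF R
      have hP₀p : IsOver P₀ p := by
        obtain ⟨p', hp'⟩ := exists_isOver hKF P₀
        rwa [place_below_unique hR (IsOver.trans hP₀ hp')]
      exact (le_one_iff_of_isOver hP₀ v).2 (hv P₀ hP₀p)) hw
    obtain ⟨q, hqm, hqu⟩ := isIntegral_of_intOver hKF hu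
    have hcoordu : ∀ i, b.repr u i = v * a i := fun i => by
      rw [show u = algebraMap K K' v * (algebraMap K K' w * z) from rfl, ← Algebra.smul_def, map_smul,
        Finsupp.smul_apply, smul_eq_mul]
    -- the conjugates of `u`
    let θ := fun i => algebraMap K' Ω (b i)
    let conj : (K →ₐ[k⟮x⟯] Ω) → Ω := fun σ => ∑ i, σ (v * a i) * θ i
    have hconj : ∀ σ, IsIntegral p.O (conj σ) := fun σ => by
      let σk : K →ₐ[k] Ω := { σ.toRingHom with
        commutes' := fun c => by
          show σ (algebraMap k K c) = algebraMap K' Ω (algebraMap k K' c)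
          rw [show algebraMap k K c = algebraMap k⟮x⟯ K (algebraMap k k⟮x⟯ c) from rfl, σ.commutes,
            IsScalarTower.algebraMap_apply k⟮x⟯ K' Ω, ← IsScalarTower.algebraMap_apply k k⟮x⟯ K'] }
      let ι : k' →ₐ[k] Ω := { ((algebraMap K' Ω).comp (algebraMap k' K')) with
        commutes' := fun c => by
          show algebraMap K' Ω (algebraMap k' K' (algebraMap k k' c)) = algebraMap K' Ω (algebraMap k K' c)
          rw [← IsScalarTower.algebraMap_apply k k' K'] }
      have hbij : Function.Bijective (Algebra.TensorProduct.productMap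
          (IsScalarTower.toAlgHom k k' K') (IsScalarTower.toAlgHom k K K')) := by
        let g : TensorProduct k K k' →ₐ[K] K' :=
          Algebra.TensorProduct.lift (Algebra.ofId K K') (IsScalarTower.toAlgHom k k' K') fun _ _ => Commute.all _ _
        let B := (Module.finBasis k k').baseChange K
        have e : g.toLinearMap = (B.equiv b (Equiv.refl _)).toLinearMap := B.ext fun l => by
          rw [LinearEquiv.coe_coe, Module.Basis.equiv_apply, Equiv.refl_apply, hb, Module.Basis.baseChange_apply]
          show g ((1 : K) ⊗ₜ[k] (Module.finBasis k k') l) = _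
          simp [g]
        have hg' : (Algebra.TensorProduct.productMap (IsScalarTower.toAlgHom k k' K') (IsScalarTower.toAlgHom k K K') :
            TensorProduct k k' K → K') = g ∘ Algebra.TensorProduct.comm k k' K := funext fun z => by
          induction z using TensorProduct.induction_on with
          | zero => simp
          | tmul a c => simp [g, mul_comm]
          | add a c ha hc => simp only [Function.comp_apply, map_add] at *; rw [ha, hc]
        rw [hg']
        refine Function.Bijective.comp ?_ (Algebra.TensorProduct.comm k k' K).bijective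
        rw [show (g : TensorProduct k K k' → K') = g.toLinearMap from rfl, e]
        exact (B.equiv b (Equiv.refl _)).bijective
      let E := AlgEquiv.ofBijective _ hbij
      let σ' : K' →ₐ[k] Ω := (Algebra.TensorProduct.productMap ι σk).comp E.symm.toAlgHom
      have hσK : ∀ c : K, σ' (algebraMap K K' c) = σ c := fun c => by
        have e1 : E.symm (algebraMap K K' c) = (1 : k') ⊗ₜ[k] c := (AlgEquiv.symm_apply_eq E).2 (by simp [E])
        show Algebra.TensorProduct.productMap ι σk (E.symm (algebraMap K K' c)) = _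
        rw [e1, Algebra.TensorProduct.productMap_apply_tmul, map_one, one_mul]
        rfl
      have hσc : ∀ i, σ' (b i) = θ i := fun i => by
        have e1 : E.symm (algebraMap k' K' (Module.finBasis k k' i)) = (Module.finBasis k k' i) ⊗ₜ[k] (1 : K) :=
          (AlgEquiv.symm_apply_eq E).2 (by simp [E])
        show Algebra.TensorProduct.productMap ι σk (E.symm (b i)) = _
        rw [hb, e1, Algebra.TensorProduct.productMap_apply_tmul, map_one, mul_one]
        show algebraMap K' Ω _ = algebraMap K' Ω _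
        rw [hb]
      have hσu : σ' u = conj σ := by
        conv_lhs => rw [← b.sum_repr u]
        rw [map_sum]
        refine Finset.sum_congr rfl fun i _ => ?_
        rw [Algebra.smul_def, map_mul, hσK, hσc, hcoordu]
      refine ⟨q, hqm, ?_⟩
      have h0 := congrArg σ'.toRingHom hqu
      rw [map_zero, Polynomial.hom_eval₂] at h0
      rw [← hσu, ← h0]
      congr 1
      refine RingHom.ext fun c => ?_
      show algebraMap K' Ω (algebraMap k⟮x⟯ K' c.1) = σ' (algebraMap k⟮x⟯ K' c.1)
      rw [IsScalarTower.algebraMap_apply k⟮x⟯ K K' c.1, hσK, σ.commutes, ← IsScalarTower.algebraMap_apply k⟮x⟯ K K']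
      exact (IsScalarTower.algebraMap_apply k⟮x⟯ K' Ω c.1).symm
    have hsum : IsIntegral p.O (∑ σ : K →ₐ[k⟮x⟯] Ω, conj σ) := IsIntegral.sum _ fun σ _ => hconj σ
    have heq : ∑ σ : K →ₐ[k⟮x⟯] Ω, conj σ = algebraMap K' Ω
        (∑ i, algebraMap K K' (algebraMap k⟮x⟯ K (Algebra.trace k⟮x⟯ K (v * a i))) * b i) := by
      simp only [conj]
      rw [Finset.sum_comm, map_sum]
      refine Finset.sum_congr rfl fun i _ => ?_
      rw [← Finset.sum_mul, ← trace_eq_sum_embeddings Ω, map_mul (algebraMap K' Ω), ← IsScalarTower.algebraMap_apply k⟮x⟯ K K',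
        ← IsScalarTower.algebraMap_apply k⟮x⟯ K' Ω]
    rw [heq] at hsum
    obtain ⟨Q, hQm, hQ⟩ := hsum
    have hQ' : Polynomial.eval₂ (algebraMap p.O K') (∑ i, algebraMap K K'
        (algebraMap k⟮x⟯ K (Algebra.trace k⟮x⟯ K (v * a i))) * b i) Q = 0 :=
      (algebraMap K' Ω).injective (by
        rw [Polynomial.hom_eval₂, map_zero]
        exact hQ)
    exact coeff_le_one_of_isIntegral hb hx p hp (fun i => Algebra.trace k⟮x⟯ K (v * a i))
      (Q := Q.map (algebraMap p.O k⟮x⟯)) (hQm.map _) (fun l => by rw [Polynomial.coeff_map]; exact (Q.coeff l).2) (by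
        rw [Polynomial.aeval_map_algebraMap]
        exact hQ')
  intro i
  have hmem : a i * Polynomial.aeval y (Polynomial.derivative (minpoly k⟮x⟯ y)) ∈ Algebra.adjoin p.O ({y} : Set K) :=
    (mem_adjoin_iff_trace hy hyi (a i)).2 fun v hv => by
      rw [mul_comm]
      exact hT v (intOver_of_mem_adjoin hyi hv) i
  have h1 := intOver_of_mem_adjoin hyi hmem P hPp
  rw [map_mul, hg, mul_one] at h1
  change P.1 (b.repr (algebraMap K K' w * z) i) ≤ 1 at h1
  rwa [← Algebra.smul_def, map_smul, Finsupp.smul_apply, smul_eq_mul, map_mul, hw1, one_mul] at h1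

end Groth.Agent.FF
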