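import Mathlib
import Groth.Agent.FF.Hyperelliptic

/-! The spaces `L(n D∞)` and the genus of `y² = f(x)`. -/

set_option autoImplicit false
set_option linter.style.haveILetI false

namespace Groth.Agent.FF.Hyp

open FunFld Polynomial
open scoped WithZero IntermediateField

universe u v

variable {k : Type u} {K : Type v} [Field k] [Field K] [Algebra k K] [Algebra (RatFunc k) K]
  [IsScalarTower k (RatFunc k) K] {y : K} {f : k[X]}

omit [Algebra k K] [IsScalarTower k (RatFunc k) K] in
lemma exists_conj (hdeg : Module.finrank (RatFunc k) K = 2) (hf : Squarefree f) (hd : 1 ≤ f.natDegree)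
    (heq : y ^ 2 = algebraMap (RatFunc k) K (algebraMap k[X] (RatFunc k) f)) :
    ∃ σ : K ≃ₐ[RatFunc k] K, σ y = -y := by
  haveI : FiniteDimensional (RatFunc k) K := Module.finite_of_finrank_eq_succ hdeg
  have hint : IsIntegral (RatFunc k) y := Algebra.IsIntegral.isIntegral y
  let pb := IntermediateField.adjoin.powerBasis hint
  let e : (RatFunc k)⟮y⟯ ≃ₐ[RatFunc k] K :=
    (IntermediateField.equivOfEq (adjoin_y hdeg hf hd heq)).trans IntermediateField.topEquiv
  let ψ : (RatFunc k)⟮y⟯ →ₐ[RatFunc k] K := pb.lift (-y) (by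
    rw [IntermediateField.adjoin.powerBasis_gen, IntermediateField.minpoly_gen, minpoly_y hf hd heq]
    simp [heq])
  refine ⟨AlgEquiv.ofBijective (ψ.comp e.symm.toAlgHom) (AlgHom.bijective _), ?_⟩
  show ψ (e.symm y) = -y
  rw [show e.symm y = pb.gen from e.symm_apply_eq.2 rfl]
  exact pb.lift_gen _ _

/-- Bounding the two coordinates of an element by bounding it at all places above. -/
lemma coord_bound (hdeg : Module.finrank (RatFunc k) K = 2) (h2 : ringChar k ≠ 2) (hf : Squarefree f)
    (hd : 1 ≤ f.natDegree) (heq : y ^ 2 = algebraMap (RatFunc k) K (algebraMap k[X] (RatFunc k) f))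
    (P : Place k (RatFunc k)) (m : ℤ) {a b : RatFunc k}
    (hz : ∀ (Q : Place k K) (e : ℕ), IsOverWith Q P e →
      Q.1 (algebraMap (RatFunc k) K a + algebraMap (RatFunc k) K b * y) ≤ WithZero.exp ((e : ℤ) * m)) :
    P.1 a ≤ WithZero.exp m ∧ P.1 (b ^ 2 * algebraMap k[X] (RatFunc k) f) ≤ WithZero.exp (2 * m) := by
  obtain ⟨σ, hσ⟩ := exists_conj hdeg hf hd heq
  obtain ⟨Q, e, hQ⟩ := Quad.exists_above Rat.isFunctionField hdeg P
  have hpos := (pos_of_isOverWith hQ).ne'
  set z := algebraMap (RatFunc k) K a + algebraMap (RatFunc k) K b * y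
  have h1 := hz Q e hQ
  have h1' : Q.1 (σ z) ≤ WithZero.exp ((e : ℤ) * m) := by
    rw [← galPlace_apply]
    exact hz _ _ (isOverWith_galPlace hQ)
  have hs : z + σ z = 2 * algebraMap (RatFunc k) K a := by
    simp only [z, map_add, map_mul, σ.commutes, hσ]; ring
  have hdf : z - σ z = 2 * (algebraMap (RatFunc k) K b * y) := by
    simp only [z, map_add, map_mul, σ.commutes, hσ]; ring
  have ha : Q.1 (algebraMap (RatFunc k) K a) ≤ WithZero.exp ((e : ℤ) * m) := by
    have := (Q.1.map_add z (σ z)).trans (max_le h1 h1')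
    rwa [hs, map_mul, v_two h2, one_mul] at this
  have hb : Q.1 (algebraMap (RatFunc k) K b * y) ≤ WithZero.exp ((e : ℤ) * m) := by
    have := (Q.1.map_sub z (σ z)).trans (max_le h1 h1')
    rwa [hdf, map_mul, v_two h2, one_mul] at this
  constructor
  · rw [hQ a, ← nsmul_eq_mul, WithZero.exp_nsmul] at ha
    exact (pow_le_pow_iff_left₀ zero_le zero_le hpos).1 ha
  · have h3 := pow_le_pow_left₀ zero_le hb 2
    rw [← map_pow, mul_pow, heq, ← map_pow, ← map_mul, hQ, ← WithZero.exp_nsmul,
      show (2 • ((e : ℤ) * m)) = e • (2 * m) by simp only [nsmul_eq_mul]; push_cast; ring, WithZero.exp_nsmul] at h3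
    exact (pow_le_pow_iff_left₀ zero_le zero_le hpos).1 h3

/-- The elements of `L(n D∞)`. -/
lemma mem_L_iff (hdeg : Module.finrank (RatFunc k) K = 2) (h2 : ringChar k ≠ 2) (hf : Squarefree f)
    (hd : 1 ≤ f.natDegree) (heq : y ^ 2 = algebraMap (RatFunc k) K (algebraMap k[X] (RatFunc k) f))
    {Pinf : Place k (RatFunc k)} (hinf : Pinf.ord (RatFunc.X : RatFunc k) < 0) (n : ℕ) (z : K) :
    z ∈ L (conorm K (Finsupp.single Pinf (n : ℤ)) : Divisor k K) ↔
      ∃ p q : k[X], p.degree < ((n + 1 : ℕ) : WithBot ℕ) ∧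
        q.degree < ((n + 1 - (f.natDegree + 1) / 2 : ℕ) : WithBot ℕ) ∧
        z = algebraMap (RatFunc k) K (algebraMap k[X] (RatFunc k) p) +
          algebraMap (RatFunc k) K (algebraMap k[X] (RatFunc k) q) * y := by
  have hD : ∀ (Q : Place k K) (P : Place k (RatFunc k)) (e : ℕ), IsOverWith Q P e →
      conorm K (Finsupp.single Pinf (n : ℤ)) Q = if P.ord (RatFunc.X : RatFunc k) < 0 then (e : ℤ) * n else 0 := by
    intro Q P e h
    split
    · next hP =>
      obtain rfl := Rat.inf_unique hinf hP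
      exact Quad.conorm_single_apply Rat.isFunctionField hdeg _ h
    · next hP =>
      exact Quad.conorm_single_apply_of_ne Rat.isFunctionField hdeg _ ⟨e, h⟩ fun h' => hP (h' ▸ hinf)
  constructor
  · intro hz
    obtain ⟨a, b, rfl⟩ := Quad.exists_repr hdeg (y_not_range hf hd heq) z
    have hfin : ∀ P : Place k (RatFunc k), 0 ≤ P.ord (RatFunc.X : RatFunc k) → 0 ≤ P.ord a ∧ 0 ≤ P.ord b := by
      intro P hP
      obtain ⟨ha, hb⟩ := coord_bound hdeg h2 hf hd heq P 0 (a := a) (b := b) fun Q e he => by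
        have := hz Q
        rwa [hD Q P e he, if_neg (by omega), ← mul_zero (e : ℤ)] at this
      refine ⟨Rat.ord_nonneg_of_le_one (by rwa [WithZero.exp_zero] at ha), ?_⟩
      rcases eq_or_ne b 0 with rfl | hb0
      · rw [ord_zero]
      have hne := mul_ne_zero (pow_ne_zero 2 hb0) (RatFunc.algebraMap_ne_zero hf.ne_zero)
      rw [v_le_exp_iff P hne, ord_mul P (pow_ne_zero 2 hb0) (RatFunc.algebraMap_ne_zero hf.ne_zero), ord_pow] at hb
      rcases Rat.ord_squarefree hP hf with h | h <;> omega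
    obtain ⟨p, rfl⟩ := Rat.exists_poly fun P hP => (hfin P hP).1
    obtain ⟨q, rfl⟩ := Rat.exists_poly fun P hP => (hfin P hP).2
    obtain ⟨hp, hq⟩ := coord_bound hdeg h2 hf hd heq Pinf n (a := algebraMap k[X] (RatFunc k) p)
      (b := algebraMap k[X] (RatFunc k) q) fun Q e he => by
        have := hz Q
        rwa [hD Q Pinf e he, if_pos hinf] at this
    refine ⟨p, q, ?_, ?_, rfl⟩
    · rcases eq_or_ne p 0 with rfl | hp0
      · simpa using WithBot.bot_lt_coe (n + 1)
      rw [v_le_exp_iff Pinf (RatFunc.algebraMap_ne_zero hp0), Rat.ord_poly_inf hinf] at hp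
      rw [Polynomial.degree_eq_natDegree hp0, Nat.cast_lt]
      omega
    · rcases eq_or_ne q 0 with rfl | hq0
      · simpa using WithBot.bot_lt_coe (n + 1 - (f.natDegree + 1) / 2)
      rw [← map_pow, ← map_mul, v_le_exp_iff Pinf (RatFunc.algebraMap_ne_zero (mul_ne_zero (pow_ne_zero 2 hq0) hf.ne_zero)),
        Rat.ord_poly_inf hinf, natDegree_mul (pow_ne_zero 2 hq0) hf.ne_zero, natDegree_pow] at hq
      rw [Polynomial.degree_eq_natDegree hq0, Nat.cast_lt]
      omega
  · rintro ⟨p, q, hp, hq, rfl⟩ Q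
    obtain ⟨P, e, he⟩ := Quad.exists_below Rat.isFunctionField hdeg Q
    rw [hD Q P e he]
    by_cases hP : P.ord (RatFunc.X : RatFunc k) < 0
    · rw [if_pos hP]
      obtain ⟨hy, -, -⟩ := inf_cases hf hd heq hdeg h2 he hP
      refine (Q.1.map_add _ _).trans (max_le ?_ ?_)
      · rcases eq_or_ne p 0 with rfl | hp0
        · simp
        rw [Polynomial.degree_eq_natDegree hp0, Nat.cast_lt] at hp
        rw [v_le_exp_iff Q ((_root_.map_ne_zero _).2 (RatFunc.algebraMap_ne_zero hp0)), ord_of_isOverWith he,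
          Rat.ord_poly_inf hP, mul_neg]
        exact neg_le_neg (mul_le_mul_of_nonneg_left (by omega) (Int.natCast_nonneg e))
      · rcases eq_or_ne q 0 with rfl | hq0
        · simp
        rw [Polynomial.degree_eq_natDegree hq0, Nat.cast_lt] at hq
        have hq' : (algebraMap (RatFunc k) K (algebraMap k[X] (RatFunc k) q)) ≠ 0 :=
          (_root_.map_ne_zero _).2 (RatFunc.algebraMap_ne_zero hq0)
        rw [v_le_exp_iff Q (mul_ne_zero hq' (y_ne_zero hf heq)), ord_mul Q hq' (y_ne_zero hf heq),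
          ord_of_isOverWith he, Rat.ord_poly_inf hP]
        have hkey : 2 * (q.natDegree : ℤ) + f.natDegree ≤ 2 * n := by omega
        nlinarith [mul_le_mul_of_nonneg_left hkey (Int.natCast_nonneg e)]
    · rw [if_neg hP, WithZero.exp_zero]
      have hy : Q.1 y ≤ 1 := Rat.le_one_of_ord_nonneg (by
        rcases finite_cases hf hd heq hdeg h2 he (by omega) with h | h <;> omega)
      have hc : ∀ r : k[X], Q.1 (algebraMap (RatFunc k) K (algebraMap k[X] (RatFunc k) r)) ≤ 1 := fun r => by
        rw [he]; exact pow_le_one' (Rat.v_poly_le_one (by omega) r) e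
      refine (Q.1.map_add _ _).trans (max_le (hc p) ?_)
      rw [map_mul]; exact mul_le_one' (hc q) hy

/-- The dimension of `L(n D∞)`. -/
lemma ell_eq (hdeg : Module.finrank (RatFunc k) K = 2) (h2 : ringChar k ≠ 2) (hf : Squarefree f)
    (hd : 1 ≤ f.natDegree) (heq : y ^ 2 = algebraMap (RatFunc k) K (algebraMap k[X] (RatFunc k) f))
    {Pinf : Place k (RatFunc k)} (hinf : Pinf.ord (RatFunc.X : RatFunc k) < 0) (n : ℕ) :
    ell (conorm K (Finsupp.single Pinf (n : ℤ)) : Divisor k K) = (n + 1) + (n + 1 - (f.natDegree + 1) / 2) := by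
  let c : k[X] →ₗ[k] K := ((IsScalarTower.toAlgHom k (RatFunc k) K).comp (IsScalarTower.toAlgHom k k[X] (RatFunc k))).toLinearMap
  let Φ : (degreeLT k (n + 1)) × (degreeLT k (n + 1 - (f.natDegree + 1) / 2)) →ₗ[k] K :=
    (c.comp (Submodule.subtype _)).coprod ((LinearMap.mulRight k y).comp (c.comp (Submodule.subtype _)))
  have happ : ∀ pq, Φ pq = algebraMap (RatFunc k) K (algebraMap k[X] (RatFunc k) pq.1.1) +
      algebraMap (RatFunc k) K (algebraMap k[X] (RatFunc k) pq.2.1) * y := fun pq => rfl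
  have hinj : Function.Injective Φ := by
    rw [← LinearMap.ker_eq_bot, LinearMap.ker_eq_bot']
    intro pq h
    rw [happ] at h
    obtain ⟨h1, h2⟩ := Quad.repr_zero (y_not_range hf hd heq) h
    exact Prod.ext (Subtype.ext (RatFunc.algebraMap_injective k (h1.trans (map_zero _).symm)))
      (Subtype.ext (RatFunc.algebraMap_injective k (h2.trans (map_zero _).symm)))
  have hrange : LinearMap.range Φ = L (conorm K (Finsupp.single Pinf (n : ℤ)) : Divisor k K) := by
    refine Submodule.ext fun z => ?_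
    rw [mem_L_iff hdeg h2 hf hd heq hinf, LinearMap.mem_range]
    constructor
    · rintro ⟨pq, rfl⟩
      exact ⟨pq.1.1, pq.2.1, mem_degreeLT.1 pq.1.2, mem_degreeLT.1 pq.2.2, happ pq⟩
    · rintro ⟨p, q, hp, hq, rfl⟩
      exact ⟨(⟨p, mem_degreeLT.2 hp⟩, ⟨q, mem_degreeLT.2 hq⟩), happ _⟩
  haveI : ∀ m : ℕ, Module.Finite k (degreeLT k m) := fun m => Module.Finite.equiv (degreeLTEquiv k m).symm
  have hm : ∀ m : ℕ, Module.finrank k (degreeLT k m) = m := fun m => by
    rw [(degreeLTEquiv k m).finrank_eq, Module.finrank_fintype_fun_eq_card, Fintype.card_fin]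
  rw [ell, ← hrange, LinearMap.finrank_range_of_inj hinj, Module.finrank_prod, hm, hm]

/-- The genus of `y² = f(x)`. -/
theorem genus_eq (hdeg : Module.finrank (RatFunc k) K = 2) (h2 : ringChar k ≠ 2) (hf : Squarefree f)
    (hd : 1 ≤ f.natDegree) (heq : y ^ 2 = algebraMap (RatFunc k) K (algebraMap k[X] (RatFunc k) f)) :
    genus k K = (f.natDegree - 1) / 2 := by
  obtain ⟨Pinf, hinf⟩ := Rat.exists_inf (k := k)
  set n := genus k K + f.natDegree with hn
  have h1 := ell_eq hdeg h2 hf hd heq hinf n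
  have hdeg' : (conorm K (Finsupp.single Pinf (n : ℤ)) : Divisor k K).deg = 2 * n := by
    rw [Quad.conorm_deg Rat.isFunctionField hdeg, deg_single, Rat.deg_inf hinf, Nat.cast_one, mul_one]
  have h3 := ell_of_deg_large (isFunctionField hdeg h2 hf hd heq)
    (D := (conorm K (Finsupp.single Pinf (n : ℤ)) : Divisor k K)) (by rw [hdeg']; omega)
  rw [hdeg'] at h3
  omega

end Groth.Agent.FF.Hyp
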