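import Groth.Agent.FF.ConstRing
import Groth.Agent.FF.Places

/-! Nonsingular places: the valuation-ring criterion in coordinates, and shifting between places over one place. -/

set_option autoImplicit false
set_option linter.style.haveILetI false

namespace Groth.Agent.FF

open FunFld
open scoped WithZero

universe u u' v v' v''

section trans

variable {k : Type u} {K : Type v} {K' : Type v'} {K'' : Type v''} [Field k] [Field K] [Field K'] [Field K'']
  [Algebra k K] [Algebra K K'] [Algebra k K'] [Algebra K' K''] [Algebra K K''] [Algebra k K'']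
  [IsScalarTower K K' K'']

lemma IsOver.trans {R : Place k K''} {Q : Place k K'} {P : Place k K} (h : IsOver R Q) (h' : IsOver Q P) :
    IsOver R P := by
  obtain ⟨e, he⟩ := h
  obtain ⟨e', he'⟩ := h'
  refine ⟨e' * e, fun x => ?_⟩
  rw [IsScalarTower.algebraMap_apply K K' K'', he, he', ← pow_mul]

end trans

section middle

variable {k : Type u} {K : Type v} {K' : Type v'} {K'' : Type v''} [Field k] [Field K] [Field K'] [Field K'']
  [Algebra k K] [Algebra K K'] [Algebra k K'] [Algebra K' K''] [Algebra K K''] [Algebra k K'']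
  [IsScalarTower k K K'] [IsScalarTower k K' K''] [IsScalarTower K K' K'']
  [FiniteDimensional K K'] [FiniteDimensional K' K''] (hK : IsFunctionField k K)

include hK

omit [Algebra K K''] [IsScalarTower K K' K''] in
/-- Every place of a finite extension lies over a place of an intermediate field. -/
lemma exists_middle (R : Place k K'') : ∃ Q : Place k K', IsOver R Q := by
  haveI := finite_constField (K' := K') hK
  have hL := isFunctionField_constField (K' := K') hK
  let R₁ : Place (algebraicClosure k K') K'' := ⟨R.1, fun c => v_le_one_of_isAlgebraic R (by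
    have h : IsAlgebraic k (c : K') := mem_algebraicClosure_iff.1 c.2
    rw [IsScalarTower.algebraMap_apply (algebraicClosure k K') K' K'']
    exact h.algebraMap), R.2.2⟩
  obtain ⟨Q₁, hQ₁⟩ := exists_isOver hL R₁
  exact ⟨(placeEquiv k K' (algebraicClosure k K')).symm Q₁, hQ₁⟩

/-- Multiply by a unit at `Q` to kill the poles over the other places above `P`. -/
lemma exists_shift [IsScalarTower k K K''] (P : Place k K) {Q : Place k K'} (hQ : IsOver Q P) {z : K''}
    (hz : IntOver Q z) : ∃ w : K', Q.1 w = 1 ∧ IntOver P (algebraMap K' K'' w * z) := by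
  classical
  haveI : FiniteDimensional K K'' := Module.Finite.trans K' K''
  obtain ⟨hfin', -⟩ := finite_over_and_sum (K' := K') hK P
  obtain ⟨hfin'', -⟩ := finite_over_and_sum (K' := K'') hK P
  set N := hfin''.toFinset.sup fun R => (R.ord z).natAbs
  obtain ⟨w, hw⟩ := approx hfin'.toFinset (fun Q' => if Q' = Q then 1 else 0) (fun _ => -((N : ℤ) + 1))
  have hw1 : Q.1 w = 1 := by
    have h := hw Q (hfin'.mem_toFinset.2 hQ)
    rw [if_pos rfl] at h
    rw [show w = 1 + (w - 1) by ring, Valuation.map_add_eq_of_lt_left _ (by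
      rw [map_one]; refine h.trans_lt ?_; rw [← WithZero.exp_zero, WithZero.exp_lt_exp]; omega), map_one]
  refine ⟨w, hw1, fun R hR => ?_⟩
  obtain ⟨Q', hQ'⟩ := exists_middle (K' := K') hK R
  have hQ'P : IsOver Q' P := by
    obtain ⟨P', hP'⟩ := exists_isOver hK Q'
    rwa [place_below_unique hR (IsOver.trans hQ' hP')]
  rw [map_mul]
  obtain ⟨e, he⟩ := hQ'
  rw [he w]
  rcases eq_or_ne Q' Q with rfl | hne
  · rw [hw1, one_pow, one_mul]
    exact hz R ⟨e, he⟩
  have h := hw Q' (hfin'.mem_toFinset.2 hQ'P)
  rw [if_neg hne, sub_zero] at h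
  have hepos := pos_of_isOverWith he
  have h1 : Q'.1 w ^ e ≤ WithZero.exp (-((N : ℤ) + 1)) :=
    (pow_le_of_le_one zero_le (h.trans (by rw [← WithZero.exp_zero, WithZero.exp_le_exp]; omega)) hepos.ne').trans h
  rcases eq_or_ne z 0 with rfl | hz0
  · simp
  refine (mul_le_mul' h1 le_rfl).trans ?_
  rw [v_eq_exp R hz0, ← WithZero.exp_add, ← WithZero.exp_zero, WithZero.exp_le_exp]
  have h2 : (R.ord z).natAbs ≤ N := Finset.le_sup (f := fun R : Place k K'' => (R.ord z).natAbs) (hfin''.mem_toFinset.2 hR)
  omega

end middle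

section criterion

variable {k : Type u} {k' : Type u'} {K : Type v} {K' : Type v'} [Field k] [Field k'] [Field K] [Field K']
  [Algebra k k'] [FiniteDimensional k k'] [Algebra k K] [Algebra K K'] [Algebra k' K'] [Algebra k K']
  [IsScalarTower k k' K'] [IsScalarTower k K K']
  {b : Module.Basis (Fin (Module.finrank k k')) K K'}
  (hb : ∀ i, b i = algebraMap k' K' (Module.finBasis k k' i)) (hK : IsFunctionField k K) (P : Place k K)

include hb hK

/-- Nonsingularity in coordinates. -/
theorem nonsing_iff :
    integralClosure (P.O.toSubring.map (algebraMap K K')) K' =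
        Algebra.adjoin (P.O.toSubring.map (algebraMap K K')) (Set.range (algebraMap k' K')) ↔
      ∀ z : K', IntOver P z → ∀ i, P.1 (b.repr z i) ≤ 1 := by
  classical
  haveI : FiniteDimensional K K' := Module.Finite.of_basis b
  letI : Algebra P.O K' := ((algebraMap K K').comp P.O.subtype).toAlgebra
  haveI : IsScalarTower P.O K K' := IsScalarTower.of_algebraMap_eq fun _ => rfl
  set R := P.O.toSubring.map (algebraMap K K')
  have hrange : Set.range (algebraMap R K') = Set.range (algebraMap P.O K') := by
    ext z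
    constructor
    · rintro ⟨⟨_, a, ha, rfl⟩, rfl⟩
      exact ⟨⟨a, ha⟩, rfl⟩
    · rintro ⟨⟨a, ha⟩, rfl⟩
      exact ⟨⟨_, a, ha, rfl⟩, rfl⟩
  have hadj : ∀ z : K', z ∈ Algebra.adjoin R (Set.range (algebraMap k' K')) ↔ ∀ i, P.1 (b.repr z i) ≤ 1 := fun z => by
    rw [← Subalgebra.mem_toSubring, Algebra.adjoin_eq_ring_closure, hrange, ← Algebra.adjoin_eq_ring_closure,
      Subalgebra.mem_toSubring, mem_constRing_iff hb P]
  let q : P.O →+* R := ((algebraMap K K').comp P.O.subtype).codRestrict R fun a => ⟨a.1, a.2, rfl⟩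
  have hq : Function.Surjective q := by
    rintro ⟨_, a, ha, rfl⟩
    exact ⟨⟨a, ha⟩, rfl⟩
  have hint : ∀ z : K', IsIntegral R z ↔ IntOver P z := fun z => by
    constructor
    · rintro ⟨p, hp, hpz⟩
      obtain ⟨p₀, hp₀, -, hp₀m⟩ := Polynomial.lifts_and_degree_eq_and_monic (f := q) (p := p)
        ((Polynomial.mem_lifts _).2 (Polynomial.map_surjective _ hq p)) hp
      refine intOver_of_isIntegral ⟨p₀, hp₀m, ?_⟩
      rw [← hp₀, Polynomial.eval₂_map] at hpz
      exact hpz
    · intro h
      obtain ⟨p, hp, hpz⟩ := isIntegral_of_intOver hK h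
      exact ⟨p.map q, hp.map _, by rw [Polynomial.eval₂_map]; exact hpz⟩
  constructor
  · intro h z hz i
    exact (hadj z).1 (h ▸ (hint z).2 hz) i
  · intro h
    refine le_antisymm (fun z hz => (hadj z).2 (h z ((hint z).1 hz))) (Algebra.adjoin_le ?_)
    rintro _ ⟨c, rfl⟩
    exact (hint _).2 fun Q _ => v_le_one_of_isAlgebraic Q
      ((Algebra.IsAlgebraic.isAlgebraic (R := k) c).algebraMap)

end criterion

end Groth.Agent.FF
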