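import Groth.Agent.FF.Plane
import Groth.Agent.FF.PlaneChart
import Groth.Agent.FF.PlaneDiff

/-! The homogeneous ideal of a plane curve. -/

namespace Groth.Agent.FF

open MvPolynomial FunFld

universe u v

variable {k : Type u} [Field k]

/-- Dehomogenisation is injective on homogeneous polynomials. -/
lemma dehomog_injective [Infinite k] {G : MvPolynomial (Fin 3) k} {e : ℕ} (hG : G.IsHomogeneous e)
    (h : aeval ![(1 : MvPolynomial (Fin 2) k), X 0, X 1] G = 0) : G = 0 := by
  have h0 : X 0 * G = 0 := by
    refine MvPolynomial.funext fun v => ?_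
    rw [map_mul, eval_X, map_zero]
    rcases eq_or_ne (v 0) 0 with h0 | h0
    · rw [h0, zero_mul]
    · have h1 : aeval ![(1 : k), v 1 / v 0, v 2 / v 0] G = 0 := by
        rw [(aeval_dehomog h (v 1 / v 0) (v 2 / v 0)).1, map_zero]
      have h2 := aeval_smul_homogeneous hG (v 0) ![(1 : k), v 1 / v 0, v 2 / v 0]
      rw [h1, mul_zero] at h2
      have hv : (fun i => v 0 * ![(1 : k), v 1 / v 0, v 2 / v 0] i) = v := by
        funext i; fin_cases i <;> simp [mul_div_cancel₀ _ h0]
      rw [hv] at h2
      have : eval v G = 0 := by rw [← h2, aeval_def, eval₂_eq_eval_map]; simp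
      rw [this, mul_zero]
  exact (mul_eq_zero.1 h0).resolve_left (X_ne_zero 0)

lemma totalDegree_dehomog_le {G : MvPolynomial (Fin 3) k} {e : ℕ} (hG : G.IsHomogeneous e) :
    (aeval ![(1 : MvPolynomial (Fin 2) k), X 0, X 1] G).totalDegree ≤ e := by
  classical
  rw [G.as_sum, map_sum]
  refine (totalDegree_finset_sum _ _).trans (Finset.sup_le fun m hm => ?_)
  have hd : m 0 + m 1 + m 2 = e := by
    have := hG (mem_support_iff.1 hm)
    rw [Finsupp.weight_apply, Finsupp.sum_fintype _ _ (fun _ => by simp), Fin.sum_univ_three] at this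
    simpa using this
  rw [aeval_monomial, Finsupp.prod_fintype _ _ (fun i => pow_zero _), Fin.prod_univ_three]
  refine (totalDegree_mul _ _).trans ?_
  rw [show (algebraMap k (MvPolynomial (Fin 2) k) (G.coeff m)) = C (G.coeff m) from rfl, totalDegree_C, zero_add]
  simp only [Matrix.cons_val_zero, Matrix.cons_val_one, Matrix.cons_val, one_pow, one_mul]
  refine (totalDegree_mul _ _).trans ?_
  rw [totalDegree_X_pow, totalDegree_X_pow]
  omega

variable {K : Type v} [Field K] [Algebra k K] [IsAlgClosed k] (x y : K) (hK : IsFunctionField k K)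
  (hxy : IntermediateField.adjoin k ({x, y} : Set K) = ⊤)

include hK hxy

/-- A homogeneous form vanishing on the curve is a multiple of the homogenised equation. -/
lemma homog_dvd {f : MvPolynomial (Fin 2) k} (hf : Irreducible f) (hfxy : aeval ![x, y] f = 0)
    {F : MvPolynomial (Fin 3) k} (hF : F.IsHomogeneous f.totalDegree)
    (hFf : aeval ![(1 : MvPolynomial (Fin 2) k), X 0, X 1] F = f) {g : MvPolynomial (Fin 3) k} {e : ℕ}
    (hg : g.IsHomogeneous e) (hgxy : aeval ![(1 : K), x, y] g = 0) : F ∣ g := by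
  set g' := aeval ![(1 : MvPolynomial (Fin 2) k), X 0, X 1] g with hg'
  have h0 : aeval ![x, y] g' = 0 := by rw [← (aeval_dehomog hg'.symm x y).1, hgxy]
  obtain ⟨h, hh⟩ := ker_eq_span x y hK hxy hf hfxy h0
  rcases eq_or_ne h 0 with rfl | hne
  · rw [mul_zero] at hh
    rw [dehomog_injective hg hh]
    exact dvd_zero F
  obtain ⟨H, hH, hHh⟩ := exists_homog h
  have hle : f.totalDegree + h.totalDegree ≤ e := by
    rw [← totalDegree_mul_of_isDomain hf.ne_zero hne, ← hh]
    exact totalDegree_dehomog_le hg
  obtain ⟨c, hc⟩ := Nat.exists_eq_add_of_le hle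
  have hhom : (F * H * X 0 ^ c - g).IsHomogeneous e := by
    refine IsHomogeneous.sub ?_ hg
    rw [hc]
    simpa using (hF.mul hH).mul ((isHomogeneous_X k (0 : Fin 3)).pow c)
  have hz : aeval ![(1 : MvPolynomial (Fin 2) k), X 0, X 1] (F * H * X 0 ^ c - g) = 0 := by
    rw [map_sub, map_mul, map_mul, hFf, hHh, map_pow, aeval_X, ← hg', hh]
    simp
  exact ⟨H * X 0 ^ c, by rw [← sub_eq_zero.1 (dehomog_injective hhom hz), mul_assoc]⟩

omit hK hxy [IsAlgClosed k] in
/-- The homogeneous vanishing ideal, componentwise. -/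
lemma coeff_aeval_line {n : ℕ} (φ : Fin n → K) (g : MvPolynomial (Fin n) k) (d : ℕ) :
    (aeval (fun i => Polynomial.C (φ i) * Polynomial.X) g).coeff d = aeval φ (homogeneousComponent d g) := by
  classical
  have key : ∀ (G : MvPolynomial (Fin n) k) (m : ℕ), G.IsHomogeneous m →
      aeval (fun i => Polynomial.C (φ i) * Polynomial.X) G = Polynomial.C (aeval φ G) * Polynomial.X ^ m := fun G m hG => by
    rw [show (fun i => Polynomial.C (φ i) * (Polynomial.X : Polynomial K)) = fun i => Polynomial.X * Polynomial.C (φ i) from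
      funext fun i => mul_comm _ _, aeval_smul_homogeneous hG, mul_comm]
    congr 1
    rw [show (fun i => Polynomial.C (φ i)) = fun i => IsScalarTower.toAlgHom k K (Polynomial K) (φ i) from rfl,
      ← comp_aeval]
    rfl
  conv_lhs => rw [← sum_homogeneousComponent g, map_sum, Polynomial.finsetSum_coeff]
  simp only [key _ _ (homogeneousComponent_isHomogeneous _ g), Polynomial.coeff_C_mul_X_pow]
  rw [Finset.sum_ite_eq (Finset.range (g.totalDegree + 1)) d]
  by_cases hd : d ∈ Finset.range (g.totalDegree + 1)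
  · rw [if_pos hd]
  · rw [if_neg hd, homogeneousComponent_eq_zero _ _ (by simpa using hd), map_zero]

/-- The homogeneous ideal of a plane curve. -/
lemma exists_homog_generator : ∃ (f : MvPolynomial (Fin 2) k) (F : MvPolynomial (Fin 3) k),
    Irreducible f ∧ aeval ![x, y] f = 0 ∧ aeval ![(1 : MvPolynomial (Fin 2) k), X 0, X 1] F = f ∧
      Irreducible F ∧ F.IsHomogeneous F.totalDegree ∧ F.totalDegree = f.totalDegree ∧
      RingHom.ker (aeval fun i => Polynomial.C (![(1 : K), x, y] i) * Polynomial.X : MvPolynomial (Fin 3) k →ₐ[k] Polynomial K) =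
        Ideal.span {F} := by
  obtain ⟨f, hf, hfxy⟩ := exists_relation x y hK hxy
  obtain ⟨F, hF, hFf⟩ := exists_homog f
  have hF0 : F ≠ 0 := fun h => hf.ne_zero (by rw [← hFf, h, map_zero])
  have hker : RingHom.ker (aeval fun i => Polynomial.C (![(1 : K), x, y] i) * Polynomial.X : MvPolynomial (Fin 3) k →ₐ[k] Polynomial K) =
      Ideal.span {F} := by
    apply le_antisymm
    · intro g hg
      rw [RingHom.mem_ker] at hg
      rw [← sum_homogeneousComponent g]
      refine Ideal.sum_mem _ fun d _ => Ideal.mem_span_singleton.2 ?_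
      refine homog_dvd x y hK hxy hf hfxy hF hFf (homogeneousComponent_isHomogeneous d g) ?_
      rw [← coeff_aeval_line, hg, Polynomial.coeff_zero]
    · rw [Ideal.span_le, Set.singleton_subset_iff, SetLike.mem_coe, RingHom.mem_ker]
      refine Polynomial.ext fun d => ?_
      rw [coeff_aeval_line, Polynomial.coeff_zero, homogeneousComponent_of_mem hF]
      split_ifs with hd
      · rw [(aeval_dehomog hFf x y).1, hfxy]
      · rw [map_zero]
  refine ⟨f, F, hf, hfxy, hFf, ?_, by rw [hF.totalDegree hF0]; exact hF, hF.totalDegree hF0, hker⟩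
  exact ((Ideal.span_singleton_prime hF0).1 (hker ▸ RingHom.ker_isPrime _)).irreducible

end Groth.Agent.FF
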