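import Groth.Agent.FF.PointLocal
import Groth.Agent.FF.PlaneHom

/-! Nonsingular points of a plane model. -/

set_option autoImplicit false

namespace Groth.Agent.FF

open FunFld MvPolynomial
open scoped WithZero

universe u v w

variable {k : Type u} [Field k] {σ : Type w}

section homog

variable {K : Type v} [Field K] [Algebra k K]

/-- Homogenisation at a coordinate equal to one. -/
lemma exists_homog_at [Fintype σ] (j : σ) (G : MvPolynomial σ k) {x : σ → K} {c : σ → k} (hx : x j = 1) (hc : c j = 1) :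
    ∃ H : MvPolynomial σ k, H.IsHomogeneous G.totalDegree ∧ aeval x H = aeval x G ∧
      ∀ l, l ≠ j → eval c (pderiv l H) = eval c (pderiv l G) := by
  classical
  refine ⟨∑ e ∈ Finset.range (G.totalDegree + 1), homogeneousComponent e G * X j ^ (G.totalDegree - e), ?_, ?_, ?_⟩
  · refine IsHomogeneous.sum _ _ _ fun e he => ?_
    have h := (homogeneousComponent_isHomogeneous e G).mul ((isHomogeneous_X k j).pow (G.totalDegree - e))
    rwa [one_mul, Nat.add_sub_of_le (Nat.lt_succ_iff.1 (Finset.mem_range.1 he))] at h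
  · conv_rhs => rw [← sum_homogeneousComponent G]
    simp [map_sum, hx]
  · intro l hl
    conv_rhs => rw [← sum_homogeneousComponent G]
    simp [map_sum, pderiv_mul, pderiv_pow, pderiv_X_of_ne hl.symm, hc]

lemma aeval_div_eq_zero [Fintype σ] {g : MvPolynomial σ k} {d : ℕ} (hg : g.IsHomogeneous d) {φ : σ → K} {a : K} (ha : a ≠ 0) :
    aeval (fun i => φ i / a) g = 0 ↔ aeval φ g = 0 := by
  rw [show (fun i => φ i / a) = fun i => a⁻¹ * φ i from funext fun i => by rw [div_eq_inv_mul],
    aeval_smul_homogeneous hg]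
  simp [ha]

lemma adjoin_chart_eq_top {φ : σ → K} {j₀ j : σ} (hj : φ j ≠ 0)
    (h : IntermediateField.adjoin k (Set.range fun i => φ i / φ j₀) = ⊤) :
    IntermediateField.adjoin k (Set.range fun i => φ i / φ j) = ⊤ := by
  refine top_le_iff.1 (h ▸ IntermediateField.adjoin_le_iff.2 ?_)
  rintro _ ⟨i, rfl⟩
  show φ i / φ j₀ ∈ _
  rw [show φ i / φ j₀ = (φ i / φ j) / (φ j₀ / φ j) by field_simp]
  exact div_mem (IntermediateField.subset_adjoin k _ ⟨i, rfl⟩) (IntermediateField.subset_adjoin k _ ⟨j₀, rfl⟩)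

variable [IsAlgClosed k]

/-- The equation divides every homogeneous form vanishing on the curve. -/
lemma dvd_of_vanishing (hK : IsFunctionField k K) {φ : Fin 3 → K} (h0 : φ 0 ≠ 0)
    (hbir : IntermediateField.adjoin k (Set.range fun i => φ i / φ 0) = ⊤)
    {f : MvPolynomial (Fin 3) k} (hf : Irreducible f) {d : ℕ} (hd : f.IsHomogeneous d) (hfφ : aeval φ f = 0)
    {g : MvPolynomial (Fin 3) k} {e : ℕ} (he : g.IsHomogeneous e) (hgφ : aeval φ g = 0) : f ∣ g := by
  have hxy : IntermediateField.adjoin k ({φ 1 / φ 0, φ 2 / φ 0} : Set K) = ⊤ := by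
    refine top_le_iff.1 (hbir ▸ IntermediateField.adjoin_le_iff.2 ?_)
    rintro _ ⟨i, rfl⟩
    fin_cases i
    · simp only [Fin.zero_eta, div_self h0]; exact one_mem _
    · exact IntermediateField.subset_adjoin k _ (Or.inl rfl)
    · exact IntermediateField.subset_adjoin k _ (Or.inr rfl)
  obtain ⟨f₀, F, hf₀, hf₀xy, hFf, hF, hFhom, hFdeg, -⟩ := exists_homog_generator (φ 1 / φ 0) (φ 2 / φ 0) hK hxy
  have hv : (fun i => φ i / φ 0) = ![(1 : K), φ 1 / φ 0, φ 2 / φ 0] := by
    funext i; fin_cases i <;> simp [h0]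
  have key : ∀ {g : MvPolynomial (Fin 3) k} {e : ℕ}, g.IsHomogeneous e → aeval φ g = 0 → F ∣ g := by
    intro g e he hg
    refine homog_dvd _ _ hK hxy hf₀ hf₀xy (hFdeg ▸ hFhom) hFf he ?_
    rw [← hv]
    exact (aeval_div_eq_zero he h0).2 hg
  exact (hF.associated_of_dvd hf (key hd hfφ)).symm.dvd.trans (key he hgφ)

end homog

/-- Euler's identity at a zero. -/
lemma euler_eval [Fintype σ] {f : MvPolynomial σ k} {d : ℕ} (hd : f.IsHomogeneous d) {c : σ → k} (h : eval c f = 0) :
    ∑ i, c i * eval c (pderiv i f) = 0 := by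
  have := congrArg (eval c) (IsHomogeneous.sum_X_mul_pderiv hd)
  simpa [map_sum, h] using this

end Groth.Agent.FF
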