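import Groth.Agent.FF.Embed

/-! Powers of a linear system: nonsingular everywhere iff the powers fill the Riemann-Roch spaces. -/

namespace Groth.Agent.FF

open FunFld
open scoped WithZero

variable {k K : Type*} [Field k] [Field K] [Algebra k K] {ι : Type*} [Fintype ι] [Nonempty ι]

/-- The value of the divisor of the map is read off at an entry of least order, and the entries are not all zero. -/
def Proper (φ : ι → K) : Prop :=
  (∃ i, φ i ≠ 0) ∧ ∀ (P : Place k K) (j : ι), IsMax φ P j → WithZero.exp (mapDiv k φ P) = P.1 (φ j)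

lemma proper_of_ne_zero (hK : IsFunctionField k K) {φ : ι → K} (h0 : ∀ i, φ i ≠ 0) : Proper (k := k) φ :=
  ⟨⟨Classical.arbitrary ι, h0 _⟩, fun _ _ hj => exp_mapDiv hK h0 hj.2⟩

lemma proper_of_one (hK : IsFunctionField k K) {φ : ι → K} {i₀ : ι} (h1 : φ i₀ = 1) : Proper (k := k) φ := by
  refine ⟨⟨i₀, by rw [h1]; exact one_ne_zero⟩, fun P j hj => ?_⟩
  rw [mapDiv_apply_inf hK, v_eq_exp P hj.1]
  congr 2
  refine le_antisymm (Finset.inf'_le _ (Finset.mem_univ j)) (Finset.le_inf' _ _ fun i _ => ?_)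
  by_cases hi : φ i = 0
  · have h := hj.2 i₀
    rw [h1, map_one, v_eq_exp P hj.1, ← WithZero.exp_zero, WithZero.exp_le_exp] at h
    rw [hi, ord_zero]; omega
  · have h := hj.2 i
    rw [v_eq_exp P hi, v_eq_exp P hj.1, WithZero.exp_le_exp] at h
    omega

lemma Proper.isMax {φ : ι → K} (hφ : Proper (k := k) φ) (P : Place k K) : ∃ j, IsMax φ P j := exists_isMax P φ hφ.1

local notation "Wsp" φ => Submodule.span k (Set.range φ)

variable {φ : ι → K}

omit [Fintype ι] [Nonempty ι] in
/-- An element of a chart is a homogeneous element of some degree divided by a power of the entry. -/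
lemma chart_homog {j : ι} (hj : φ j ≠ 0) {r : K} (hr : r ∈ chart k φ j) :
    ∃ N : ℕ, r * φ j ^ N ∈ (Submodule.span k (Set.range φ)) ^ N := by
  have hjW : φ j ∈ Submodule.span k (Set.range φ) := Submodule.subset_span ⟨j, rfl⟩
  induction hr using Algebra.adjoin_induction with
  | mem z hz =>
    obtain ⟨i, rfl⟩ := hz
    exact ⟨1, by rw [pow_one, pow_one, div_mul_cancel₀ _ hj]; exact Submodule.subset_span ⟨i, rfl⟩⟩
  | algebraMap c => exact ⟨0, by rw [pow_zero, pow_zero, mul_one]; exact Submodule.algebraMap_mem c⟩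
  | add a b _ _ ha hb =>
    obtain ⟨M, hM⟩ := ha; obtain ⟨N, hN⟩ := hb
    refine ⟨M + N, ?_⟩
    rw [show (a + b) * φ j ^ (M + N) = a * φ j ^ M * φ j ^ N + φ j ^ M * (b * φ j ^ N) by ring, pow_add _ M N]
    exact Submodule.add_mem _ (Submodule.mul_mem_mul hM (Submodule.pow_mem_pow _ hjW N))
      (Submodule.mul_mem_mul (Submodule.pow_mem_pow _ hjW M) hN)
  | mul a b _ _ ha hb =>
    obtain ⟨M, hM⟩ := ha; obtain ⟨N, hN⟩ := hb
    refine ⟨M + N, ?_⟩
    rw [show a * b * φ j ^ (M + N) = (a * φ j ^ M) * (b * φ j ^ N) by ring, pow_add _ M N]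
    exact Submodule.mul_mem_mul hM hN

omit [Fintype ι] [Nonempty ι] in
lemma div_pow_mem_chart {j : ι} {m : ℕ} {u : K} (hu : u ∈ (Submodule.span k (Set.range φ)) ^ m) :
    u / φ j ^ m ∈ chart k φ j := by
  induction m generalizing u with
  | zero =>
    rw [pow_zero, Submodule.mem_one] at hu
    obtain ⟨c, rfl⟩ := hu
    simpa using Subalgebra.algebraMap_mem _ c
  | succ m ih =>
    rw [pow_succ] at hu
    induction hu using Submodule.mul_induction_on' with
    | mem_mul_mem a ha b hb =>
      rw [pow_succ, mul_div_mul_comm]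
      refine mul_mem (ih ha) ?_
      induction hb using Submodule.span_induction with
      | mem z hz => obtain ⟨i, rfl⟩ := hz; exact ratio_mem_chart φ j i
      | zero => simp
      | add a b _ _ ha hb => rw [add_div]; exact add_mem ha hb
      | smul c a _ ha => rw [Algebra.smul_def, mul_div_assoc]; exact mul_mem (Subalgebra.algebraMap_mem _ c) ha
    | add a _ b _ iha ihb => rw [add_div]; exact add_mem iha ihb

omit [Fintype ι] [Nonempty ι] in
/-- A large power of a sum lies in the span of large powers of the summands. -/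
lemma span_pow_pigeon (N : ℕ) (s : Finset ι) :
    ∀ M : ℕ, s.card * N < M → (Submodule.span k (φ '' (s : Set ι))) ^ M ≤
      ⨆ j ∈ s, Submodule.span k {φ j ^ N} * (Submodule.span k (Set.range φ)) ^ (M - N) := by
  classical
  induction s using Finset.induction_on with
  | empty =>
    intro M hM
    simp at hM
    rw [Finset.coe_empty, Set.image_empty, Submodule.span_empty, Submodule.bot_pow (by omega)]
    exact bot_le
  | insert a s ha ih =>
    intro M hM
    rw [Finset.card_insert_of_notMem ha, add_mul, one_mul] at hM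
    set A := Submodule.span k {φ a}
    set B := Submodule.span k (φ '' (s : Set ι))
    set W := Submodule.span k (Set.range φ)
    rw [Finset.coe_insert, Set.image_insert_eq, Submodule.span_insert, Finset.iSup_insert]
    have hAW : A ≤ W := Submodule.span_mono (by rintro _ rfl; exact ⟨a, rfl⟩)
    have hBW : B ≤ W := Submodule.span_mono (Set.image_subset_range _ _)
    change (A + B) ^ M ≤ _
    rw [add_pow]
    refine Finset.sum_induction _ (· ≤ _) (fun X Y hX hY => sup_le hX hY) bot_le fun i hi => ?_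
    have hcoef : ∀ (X : Submodule k K) (n : ℕ), X * (n : Submodule k K) ≤ X := fun X n => by
      induction n with
      | zero => simp
      | succ n ih' => rw [Nat.cast_succ, mul_add, mul_one]; exact sup_le ih' le_rfl
    refine (hcoef _ _).trans ?_
    rw [Finset.mem_range] at hi
    rcases le_or_gt N i with h | h
    · refine le_sup_of_le_left ?_
      obtain ⟨e, rfl⟩ := Nat.exists_eq_add_of_le h
      rw [pow_add, Submodule.span_pow, Set.singleton_pow, mul_assoc]
      refine mul_le_mul' le_rfl ?_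
      rw [show M - N = e + (M - (N + e)) by omega, pow_add]
      exact mul_le_mul' (pow_le_pow_left' hAW e) (pow_le_pow_left' hBW _)
    · refine le_sup_of_le_right ((mul_le_mul' (pow_le_pow_left' hAW i) (ih (M - i) (by omega))).trans ?_)
      simp only [Submodule.mul_iSup]
      refine iSup₂_mono fun j hj => ?_
      have hs1 : N ≤ s.card * N := Nat.le_mul_of_pos_left N (Finset.card_pos.2 ⟨j, hj⟩)
      rw [mul_left_comm, ← pow_add, show i + (M - i - N) = M - N by omega]

variable [IsAlgClosed k] (hK : IsFunctionField k K) (hφ : Proper (k := k) φ)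

local notation "W" => Submodule.span k (Set.range φ)
local notation "Emd" => mapDiv k φ

omit [IsAlgClosed k] in
include hφ in
lemma pow_le_L (m : ℕ) : (W) ^ m ≤ L ((m : ℤ) • Emd) := by
  induction m with
  | zero =>
    rw [pow_zero, Submodule.one_le, Nat.cast_zero, zero_smul]
    exact one_mem_L le_rfl
  | succ m ih =>
    rw [pow_succ, Submodule.mul_le]
    intro a ha b hb
    rw [Nat.cast_succ, add_smul, one_smul]
    refine mul_mem_L (ih ha) ?_
    refine (Submodule.span_le.2 ?_ : (W) ≤ L Emd) hb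
    rintro _ ⟨i, rfl⟩ P
    obtain ⟨j, hj⟩ := hφ.isMax P
    rw [hφ.2 P j hj]; exact hj.2 i

omit [IsAlgClosed k] in
lemma inLocRing_chart {P : Place k K} {j : ι} (hj : IsMax φ P j) {z : K} (h : InLocRing φ P z) :
    ∃ u ∈ chart k φ j, ∃ w ∈ chart k φ j, P.1 w = 1 ∧ z * w = u := by
  obtain ⟨l, hl0, hl, u, hu, w, hw, hw1, e⟩ := h
  have hconv : ∀ r ∈ chart k φ l, ∃ N : ℕ, r * (φ l / φ j) ^ N ∈ chart k φ j := by
    intro r hr
    obtain ⟨N, hN⟩ := chart_homog hl0 hr
    refine ⟨N, ?_⟩
    rw [_root_.div_pow, mul_div_assoc']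
    exact div_pow_mem_chart hN
  obtain ⟨a, ha⟩ := hconv u hu
  obtain ⟨b, hb⟩ := hconv w hw
  have hunit : P.1 (φ l / φ j) = 1 := by
    refine le_antisymm (hj.ratio_le l) ?_
    rw [map_div₀, one_le_div₀ (zero_lt_iff.2 ((Valuation.ne_zero_iff _).2 hj.1))]
    exact hl j
  have hmem := ratio_mem_chart (k := k) φ j l
  refine ⟨u * (φ l / φ j) ^ a * (φ l / φ j) ^ b, mul_mem ha (pow_mem hmem b),
    w * (φ l / φ j) ^ b * (φ l / φ j) ^ a, mul_mem hb (pow_mem hmem a), ?_, by rw [← e]; ring⟩
  rw [map_mul, map_mul, hw1, map_pow, map_pow, hunit, one_pow, one_pow, one_mul, one_mul]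

include hK hφ

/-- Regular functions on a chart lie in its coordinate ring when the map is nonsingular everywhere. -/
lemma regular_le_chart (hns : ∀ P : Place k K, IsNonsingularAt φ P) {j : ι} (hj : φ j ≠ 0) {a : K}
    (ha : ∀ P : Place k K, IsMax φ P j → P.1 a ≤ 1) : a ∈ chart k φ j := by
  classical
  set R := chart k φ j
  let I : Ideal R :=
    { carrier := {r | (r : K) * a ∈ R}
      add_mem' := fun {x y} hx hy => by
        change ((x : K) + y) * a ∈ R
        rw [add_mul]; exact add_mem hx hy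
      zero_mem' := by simp
      smul_mem' := fun c x hx => by
        change (c : K) * x * a ∈ R
        rw [mul_assoc]; exact mul_mem c.2 hx }
  by_cases hI : I = ⊤
  · have : (1 : R) ∈ I := hI ▸ Submodule.mem_top
    simpa [I] using this
  exfalso
  obtain ⟨M, hM, hIM⟩ := I.exists_le_maximal hI
  -- the constants lie in the ring
  have hkR : Set.range (algebraMap k K) ⊆ R := by rintro _ ⟨c, rfl⟩; exact R.algebraMap_mem c
  obtain ⟨P, hPR, hPM⟩ : ∃ P : Place k K, (∀ r ∈ R, P.1 r ≤ 1) ∧ ∀ r : R, r ∈ M → P.1 (r : K) < 1 := by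
    obtain ⟨V, hRV, hV⟩ := Ideal.image_subset_nonunits_valuationSubring (K := K) (A := R.toSubring) M hM.ne_top
    have hzero : V = ⊤ → ∀ r : R, r ∈ M → (r : K) = 0 := fun htop r hr => by
      by_contra hr0
      have h1 : V.valuation (r : K) < 1 := hV ⟨r, hr, rfl⟩
      have h2 : V.valuation (r : K)⁻¹ ≤ 1 := (V.valuation_le_one_iff _).2 (htop ▸ trivial)
      have h3 : V.valuation ((r : K) * (r : K)⁻¹) < 1 := by
        rw [map_mul]; exact (mul_le_mul' le_rfl h2).trans_lt (by rwa [mul_one])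
      rw [mul_inv_cancel₀ hr0, map_one] at h3
      exact lt_irrefl _ h3
    by_cases hVtop : V = ⊤
    · -- then the maximal ideal is zero and the chart is a field
      obtain ⟨P, hP⟩ : ∃ P : Place k K, IsMax φ P j := by
        have hfield : IsField R := by
          refine Ring.isField_iff_maximal_bot.2 ?_
          have hbot : M = ⊥ := (Submodule.eq_bot_iff M).2 fun r hr => Subtype.ext (hzero hVtop r hr)
          exact hbot ▸ hM
        letI := hfield.toField
        haveI : Algebra.FiniteType k R := ⟨(Subalgebra.fg_top R).2 (Subalgebra.fg_def.2 ⟨_, Set.finite_range _, rfl⟩)⟩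
        haveI : Module.Finite k R := finite_of_finite_type_of_isJacobsonRing k R
        obtain ⟨P₀, hP₀⟩ := exists_zero hK (id hK).1.choose_spec.1
        refine ⟨P₀, IsMax.of_ratio hj fun i => ?_⟩
        have halg : IsIntegral k (⟨φ i / φ j, ratio_mem_chart φ j i⟩ : R) := IsIntegral.of_finite k _
        obtain ⟨c, hc⟩ := (id hK).2 _ ((halg.map R.val).isAlgebraic)
        rw [show φ i / φ j = algebraMap k K c from hc.symm]
        exact P₀.2.1 c
      refine ⟨P, fun r hr => chart_le_one hP hr, fun r hr => ?_⟩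
      have h0 : (r : K) = 0 := hzero hVtop r hr
      rw [h0, map_zero]; exact zero_lt_one
    · obtain ⟨P, hP⟩ := exists_place_of_valuationSubring hK V (hkR.trans hRV) hVtop
      refine ⟨P, fun r hr => (hP r).1 (hRV hr), fun r hr => ?_⟩
      have h1 : V.valuation (r : K) < 1 := hV ⟨r, hr, rfl⟩
      refine lt_of_le_of_ne ((hP _).1 (hRV r.2)) fun h => ?_
      have h2 : V.valuation (r : K)⁻¹ ≤ 1 := (V.valuation_le_one_iff _).2 ((hP _).2 (by rw [map_inv₀, h, inv_one]))
      have hr0 : (r : K) ≠ 0 := fun h0 => by rw [h0, map_zero] at h; exact zero_ne_one h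
      have h3 : V.valuation ((r : K) * (r : K)⁻¹) < 1 := by
        rw [map_mul]; exact (mul_le_mul' le_rfl h2).trans_lt (by rwa [mul_one])
      rw [mul_inv_cancel₀ hr0, map_one] at h3
      exact lt_irrefl _ h3
  have hjP : IsMax φ P j := IsMax.of_ratio hj fun i => hPR _ (ratio_mem_chart φ j i)
  obtain ⟨u, hu, w, hw, hw1, e⟩ := inLocRing_chart hjP (hns P a (ha P hjP))
  have : (⟨w, hw⟩ : R) ∈ I := by
    change w * a ∈ R
    rw [mul_comm, e]; exact hu
  exact absurd hw1 (hPM _ (hIM this)).ne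

/-- The pencil trick. -/
lemma L_succ_le : ∃ m₀ : ℕ, ∀ m, m₀ ≤ m → L (((m + 1 : ℕ) : ℤ) • Emd) ≤ (W) * L ((m : ℤ) • Emd) := by
  classical
  haveI : Infinite k := IsAlgClosed.instInfinite
  have hWL : (W) ≤ L Emd := by simpa using pow_le_L hφ 1
  obtain ⟨i₀, hi₀⟩ := hφ.1
  set u := φ i₀
  have huW : u ∈ W := Submodule.subset_span ⟨i₀, rfl⟩
  set Du := div k u + Emd
  have hDu : 0 ≤ Du := fun P => by
    have := (mem_L_iff_ord hi₀).1 (hWL huW) P
    simp only [Du, Finsupp.coe_zero, Pi.zero_apply, Finsupp.add_apply, div_apply hK]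
    omega
  haveI : FiniteDimensional k W := finite_of_le_L hK hWL
  let bad : Du.support → Submodule k W := fun P => Submodule.comap (W).subtype (L (Emd - Finsupp.single (P : Place k K) 1))
  obtain ⟨v, hv⟩ : ∃ v : W, (v : K) ≠ 0 ∧ ∀ P, v ∉ bad P := by
    have hne : ∀ P, bad P ≠ ⊤ := fun P htop => by
      obtain ⟨j, hj⟩ := hφ.isMax (P : Place k K)
      have h1 : φ j ∈ L (Emd - Finsupp.single (P : Place k K) 1) :=
        htop.symm.le (Submodule.mem_top (x := (⟨φ j, Submodule.subset_span ⟨j, rfl⟩⟩ : W)))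
      have h2 := h1 (P : Place k K)
      rw [Finsupp.sub_apply, Finsupp.single_eq_same, ← hφ.2 _ j hj, WithZero.exp_le_exp] at h2
      omega
    by_cases hs : IsEmpty Du.support
    · exact ⟨⟨u, huW⟩, hi₀, fun P => hs.elim P⟩
    · rw [not_isEmpty_iff] at hs
      obtain ⟨v, hv⟩ := Submodule.exists_forall_notMem_of_forall_ne_top bad hne
      refine ⟨v, fun h0 => hv hs.some ?_, hv⟩
      change (v : K) ∈ L _
      rw [h0]; exact Submodule.zero_mem _
  obtain ⟨hv0, hv⟩ := hv
  set Dv := div k (v : K) + Emd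
  have hDv : 0 ≤ Dv := fun P => by
    have := (mem_L_iff_ord hv0).1 (hWL v.2) P
    simp only [Dv, Finsupp.coe_zero, Pi.zero_apply, Finsupp.add_apply, div_apply hK]
    omega
  -- the zeros of `u` and `v` are disjoint
  have hdisj : ∀ P, Du P = 0 ∨ Dv P = 0 := fun P => by
    by_cases hP : P ∈ Du.support
    · refine Or.inr (le_antisymm ?_ (hDv P))
      by_contra hpos
      refine hv ⟨P, hP⟩ ((mem_L_iff_ord hv0).2 fun R => ?_)
      have h1 := (mem_L_iff_ord hv0).1 (hWL v.2) R
      rcases eq_or_ne R P with rfl | hR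
      · simp only [Dv, Finsupp.add_apply, div_apply hK] at hpos
        simp; omega
      · simpa [Finsupp.single_eq_of_ne hR] using h1
    · exact Or.inl (Finsupp.notMem_support_iff.1 hP)
  set e := (mapDiv k φ).deg
  have hE : 0 ≤ e := by
    have := deg_nonneg hDu
    rw [deg_add, deg_div hK] at this
    simpa [e] using this
  by_cases he : e = 0
  · refine ⟨0, fun m _ => ?_⟩
    have hz := eq_zero_of_nonneg_of_deg hK hDu (by rw [deg_add, deg_div hK]; omega)
    intro g hg
    have hgu : g / u ∈ L ((m : ℤ) • Emd) := by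
      rcases eq_or_ne g 0 with rfl | hg0
      · simp
      refine (mem_L_iff_ord (div_ne_zero hg0 hi₀)).2 fun P => ?_
      have h1 := (mem_L_iff_ord hg0).1 hg P
      have h2 := DFunLike.congr_fun hz P
      simp only [Du, Finsupp.add_apply, div_apply hK, Finsupp.coe_zero, Pi.zero_apply] at h2
      rw [div_eq_mul_inv, ord_mul P hg0 (inv_ne_zero hi₀), ord_inv]
      simp only [Finsupp.smul_apply, smul_eq_mul] at h1 ⊢
      push_cast at h1
      rw [add_mul, one_mul] at h1
      omega
    rw [← mul_div_cancel₀ g hi₀]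
    exact Submodule.mul_mem_mul huW hgu
  refine ⟨2 * genus k K + 1, fun m hm => ?_⟩
  have hmd : 2 * (genus k K : ℤ) - 1 ≤ ((m : ℤ) - 1) * e := by
    have : 2 * (genus k K : ℤ) ≤ (m : ℤ) - 1 := by omega
    nlinarith [mul_le_mul_of_nonneg_left (show (1 : ℤ) ≤ e by omega) (show (0 : ℤ) ≤ (m : ℤ) - 1 by omega)]
  haveI := finite_L hK ((m : ℤ) • Emd)
  haveI := finite_L hK (((m + 1 : ℕ) : ℤ) • Emd)
  haveI := finite_L hK (((m : ℤ) - 1) • Emd)
  set X := (L ((m : ℤ) • Emd)).map (LinearMap.mulLeft k u)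
  set Y := (L ((m : ℤ) • Emd)).map (LinearMap.mulLeft k (v : K))
  have hsucc : ((m + 1 : ℕ) : ℤ) • Emd = Emd + (m : ℤ) • Emd := by
    rw [Nat.cast_succ, add_smul, one_smul, add_comm]
  have hXY : X ⊔ Y ≤ L (((m + 1 : ℕ) : ℤ) • Emd) := by
    refine sup_le ?_ ?_ <;> rintro _ ⟨a, ha, rfl⟩ <;> rw [hsucc]
    exacts [mul_mem_L (hWL huW) ha, mul_mem_L (hWL v.2) ha]
  refine le_trans (Submodule.eq_of_le_of_finrank_le hXY ?_).ge (sup_le ?_ ?_)
  · have hinf : X ⊓ Y ≤ (L (((m : ℤ) - 1) • Emd)).map (LinearMap.mulLeft k (u * v)) := by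
      rintro _ ⟨⟨a, ha, rfl⟩, ⟨b, hb, hab⟩⟩
      simp only [LinearMap.mulLeft_apply] at hab ⊢
      refine ⟨a / (v : K), ?_, by simp only [LinearMap.mulLeft_apply]; field_simp⟩
      rcases eq_or_ne a 0 with rfl | ha0
      · simp
      have hb0 : b ≠ 0 := fun h => by
        rw [h, mul_zero] at hab; exact mul_ne_zero hi₀ ha0 hab.symm
      refine (mem_L_iff_ord (div_ne_zero ha0 hv0)).2 fun P => ?_
      have h1 := (mem_L_iff_ord ha0).1 ha P
      have h2 := (mem_L_iff_ord hb0).1 hb P
      have h3 := congrArg P.ord hab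
      rw [ord_mul P hv0 hb0, ord_mul P hi₀ ha0] at h3
      rw [div_eq_mul_inv, ord_mul P ha0 (inv_ne_zero hv0), ord_inv]
      simp only [Finsupp.smul_apply, smul_eq_mul] at h1 h2 ⊢
      rw [sub_mul, one_mul]
      rcases hdisj P with hd | hd
      · simp only [Du, Finsupp.add_apply, div_apply hK] at hd; omega
      · simp only [Dv, Finsupp.add_apply, div_apply hK] at hd; omega
    have h1 := Submodule.finrank_sup_add_finrank_inf_eq X Y
    have h2 := Submodule.finrank_mono hinf
    have h3 : Module.finrank k X = ell ((m : ℤ) • Emd) :=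
      (Submodule.equivMapOfInjective _ (mul_right_injective₀ hi₀) _).finrank_eq.symm
    have h4 : Module.finrank k Y = ell ((m : ℤ) • Emd) :=
      (Submodule.equivMapOfInjective _ (mul_right_injective₀ hv0) _).finrank_eq.symm
    have h5 : Module.finrank k ((L (((m : ℤ) - 1) • Emd)).map (LinearMap.mulLeft k (u * v))) = ell (((m : ℤ) - 1) • Emd) :=
      (Submodule.equivMapOfInjective _ (mul_right_injective₀ (mul_ne_zero hi₀ hv0)) _).finrank_eq.symm
    have l1 := ell_of_deg_large hK (D := (m : ℤ) • Emd) (by rw [deg_smul]; nlinarith)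
    have l2 := ell_of_deg_large hK (D := ((m + 1 : ℕ) : ℤ) • Emd) (by rw [deg_smul]; push_cast; nlinarith)
    have l3 := ell_of_deg_large hK (D := ((m : ℤ) - 1) • Emd) (by rw [deg_smul]; exact hmd)
    rw [deg_smul] at l1 l2 l3
    simp only [ell] at l1 l2 l3 h3 h4 h5
    push_cast at l2 ⊢
    rw [add_mul, one_mul] at l2
    rw [sub_mul, one_mul] at l3
    omega
  · rintro _ ⟨a, ha, rfl⟩; exact Submodule.mul_mem_mul huW ha
  · rintro _ ⟨a, ha, rfl⟩; exact Submodule.mul_mem_mul v.2 ha

/-- The Riemann-Roch spaces are generated in bounded degree. -/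
lemma L_le_pow_mul : ∃ m₀ : ℕ, ∀ n, L (((m₀ + n : ℕ) : ℤ) • Emd) ≤ (W) ^ n * L ((m₀ : ℤ) • Emd) := by
  obtain ⟨m₀, h⟩ := L_succ_le hK hφ
  refine ⟨m₀, fun n => ?_⟩
  induction n with
  | zero => simp
  | succ n ih =>
    refine (h (m₀ + n) (Nat.le_add_right _ _)).trans ?_
    rw [pow_succ', mul_assoc]
    exact mul_le_mul' le_rfl ih

/-- Nonsingular everywhere: large powers of the system fill the Riemann-Roch spaces. -/
lemma pow_eq_L (hns : ∀ P : Place k K, IsNonsingularAt φ P) : ∃ m₁ : ℕ, ∀ m, m₁ ≤ m → (W) ^ m = L ((m : ℤ) • Emd) := by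
  classical
  obtain ⟨m₀, hgen⟩ := L_le_pow_mul hK hφ
  set F := L ((m₀ : ℤ) • Emd)
  haveI : FiniteDimensional k F := finite_L hK _
  let b := Module.finBasis k F
  have hclear : ∀ (j : ι) (i : Fin (Module.finrank k F)), ∃ N : ℕ, φ j ^ N * (b i : K) ∈ (W) ^ (m₀ + N) := by
    intro j i
    by_cases hj : φ j = 0
    · exact ⟨1, by rw [hj, zero_pow one_ne_zero, zero_mul]; exact Submodule.zero_mem _⟩
    have ha : (b i : K) / φ j ^ m₀ ∈ chart k φ j := regular_le_chart hK hφ hns hj fun P hP => by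
      have h1 := (b i).2 P
      rw [Finsupp.smul_apply, smul_eq_mul, ← nsmul_eq_mul, WithZero.exp_nsmul, hφ.2 P j hP] at h1
      rw [map_div₀, map_pow]
      exact div_le_one_of_le₀ h1 zero_le
    obtain ⟨N, hN⟩ := chart_homog hj ha
    refine ⟨N, ?_⟩
    have h2 := Submodule.mul_mem_mul (Submodule.pow_mem_pow _ (Submodule.subset_span ⟨j, rfl⟩ : φ j ∈ W) m₀) hN
    rw [← pow_add] at h2
    rwa [show φ j ^ m₀ * ((b i : K) / φ j ^ m₀ * φ j ^ N) = φ j ^ N * (b i : K) by field_simp] at h2
  choose N hN using hclear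
  set M := ∑ j, ∑ i, N j i
  have hM : ∀ j, Submodule.span k {φ j ^ M} * F ≤ (W) ^ (m₀ + M) := by
    intro j
    refine Submodule.mul_le.2 fun a ha g hg => ?_
    obtain ⟨c, rfl⟩ := Submodule.mem_span_singleton.1 ha
    rw [smul_mul_assoc]
    refine Submodule.smul_mem _ c ?_
    have hg' := b.mem_span (⟨g, hg⟩ : F)
    have h2 := Submodule.mem_map_of_mem (f := F.subtype) hg'
    rw [Submodule.map_span] at h2
    change g ∈ _ at h2
    clear hg' hg
    induction h2 using Submodule.span_induction with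
    | mem z hz =>
      obtain ⟨_, ⟨i, rfl⟩, rfl⟩ := hz
      have hle : N j i ≤ M :=
        le_trans (Finset.single_le_sum (f := fun l => N j l) (fun _ _ => Nat.zero_le _) (Finset.mem_univ i))
          (Finset.single_le_sum (f := fun l => ∑ i, N l i) (fun _ _ => Nat.zero_le _) (Finset.mem_univ j))
      obtain ⟨e, he⟩ := Nat.exists_eq_add_of_le hle
      have h3 := Submodule.mul_mem_mul (Submodule.pow_mem_pow _ (Submodule.subset_span ⟨j, rfl⟩ : φ j ∈ W) e) (hN j i)
      rw [← pow_add, show e + (m₀ + N j i) = m₀ + M by omega, ← mul_assoc, ← pow_add,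
        show e + N j i = M by omega] at h3
      exact h3
    | zero => simp
    | add a b _ _ iha ihb => rw [mul_add]; exact Submodule.add_mem _ iha ihb
    | smul c a _ iha => rw [mul_smul_comm]; exact Submodule.smul_mem _ c iha
  refine ⟨m₀ + (Fintype.card ι * M + 1), fun m hm => le_antisymm (pow_le_L hφ m) ?_⟩
  obtain ⟨n, rfl⟩ := Nat.exists_eq_add_of_le (le_trans (Nat.le_add_right m₀ _) hm)
  refine (hgen n).trans ?_
  have hp := span_pow_pigeon (k := k) (φ := φ) M Finset.univ n (by rw [Finset.card_univ]; omega)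
  rw [Finset.coe_univ, Set.image_univ] at hp
  refine (mul_le_mul' hp le_rfl).trans ?_
  simp only [Submodule.iSup_mul]
  refine iSup₂_le fun j _ => ?_
  have hMn : M ≤ n := by
    have h5 : 1 * M ≤ Fintype.card ι * M := Nat.mul_le_mul_right M Fintype.card_pos
    omega
  rw [mul_assoc, mul_comm ((W) ^ (n - M)) F, ← mul_assoc]
  refine (mul_le_mul' (hM j) le_rfl).trans_eq ?_
  rw [← pow_add, show m₀ + M + (n - M) = m₀ + n by omega]

/-- Conversely, if large powers fill the Riemann-Roch spaces the map is nonsingular. -/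
lemma nonsingular_of_pow_eq_L {m₁ : ℕ} (h : ∀ m, m₁ ≤ m → (W) ^ m = L ((m : ℤ) • Emd))
    (hdeg : 0 < (mapDiv k φ).deg) (P : Place k K) : IsNonsingularAt φ P := by
  classical
  intro z hz
  obtain ⟨j, hj⟩ := hφ.isMax P
  rcases eq_or_ne z 0 with rfl | hz0
  · exact inLocRing_ratio hj (Subalgebra.zero_mem _)
  set Z := zeros (k := k) z⁻¹
  have hZP : Z P = 0 := by
    have := (v_le_one_iff P hz0).1 hz
    rw [zeros_apply hK, ord_inv]; omega
  set m := m₁ + (2 * genus k K + 1 + (Z.deg).natAbs)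
  set D := (m : ℤ) • Emd - Z
  have hDdeg : 2 * (genus k K : ℤ) ≤ D.deg := by
    rw [deg_sub, deg_smul]
    have h1 : (m : ℤ) * 1 ≤ (m : ℤ) * (mapDiv k φ).deg := mul_le_mul_of_nonneg_left hdeg (by positivity)
    push_cast at *
    omega
  have hlt : ell (D - Finsupp.single P 1) < ell D := by
    have l1 := ell_of_deg_large hK (D := D) (by omega)
    have l2 := ell_of_deg_large hK (D := D - Finsupp.single P 1) (by rw [deg_sub_single hK]; omega)
    rw [deg_sub_single hK] at l2
    omega
  obtain ⟨b, hb0, hb, hbo⟩ := exists_mem_L_ord hlt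
  have hbm : b ∈ (W) ^ m := by
    rw [h m (Nat.le_add_right _ _)]
    exact L_mono (sub_le_self _ (zeros_nonneg _)) hb
  have hzb : z * b ∈ (W) ^ m := by
    rw [h m (Nat.le_add_right _ _)]
    have hzL : z ∈ L Z := by simpa [Z] using mem_L_zeros_inv hK hz0 1
    have := mul_mem_L hzL hb
    rwa [show Z + D = (m : ℤ) • Emd from add_sub_cancel _ _] at this
  refine ⟨j, hj.1, hj.2, z * b / φ j ^ m, div_pow_mem_chart hzb, b / φ j ^ m, div_pow_mem_chart hbm, ?_, by ring⟩
  rw [map_div₀, map_pow, ← hφ.2 P j hj, v_eq_exp P hb0, hbo, neg_neg, Finsupp.sub_apply, hZP, sub_zero,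
    Finsupp.smul_apply, smul_eq_mul, ← WithZero.exp_nsmul, nsmul_eq_mul, div_self WithZero.exp_ne_zero]

end Groth.Agent.FF
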