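import Groth.Agent.FF.AlgClosed

/-! Linear series on a curve: vanishing dimensions at a place and their sums. -/

namespace Groth.Agent.FF

open FunFld
open scoped WithZero

variable {k K : Type*} [Field k] [Field K] [Algebra k K]

/-- Dimension of the part of `V` vanishing to order `n` at `P` relative to `D`. -/
noncomputable def vd (V : Submodule k K) (D : Divisor k K) (P : Place k K) (n : ℤ) : ℕ :=
  Module.finrank k ↥(V ⊓ L (D - Finsupp.single P n))

/-- Sum of the vanishing orders of `V` at `P`. -/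
noncomputable def wsum (d : ℕ) (V : Submodule k K) (D : Divisor k K) (P : Place k K) : ℕ :=
  ∑ n ∈ Finset.range d, vd V D P ((n : ℤ) + 1)

lemma two_mul_sum_range_sub (r d : ℕ) (h : r ≤ d) : 2 * ∑ n ∈ Finset.range d, (r - n) = r * (r + 1) := by
  rw [← Finset.sum_subset (Finset.range_subset_range.2 h) (fun n _ hn => by simp at hn; omega)]
  have h1 := Finset.sum_range_reflect (fun j => j + 1) r
  have h2 : ∑ n ∈ Finset.range r, (r - n) = ∑ n ∈ Finset.range r, ((r - 1 - n) + 1) :=
    Finset.sum_congr rfl fun n hn => by simp at hn; omega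
  rw [h2, h1, Finset.sum_add_distrib, Finset.sum_const, Finset.card_range, smul_eq_mul, mul_one, mul_add,
    mul_comm 2, Finset.sum_range_id_mul_two]
  rcases r with _ | r
  · rfl
  · rw [Nat.add_sub_cancel]; ring

lemma half_two_mul (r : ℕ) : 2 * (r * (r + 1) / 2) = r * (r + 1) :=
  Nat.mul_div_cancel' (Nat.even_mul_succ_self r).two_dvd

section

variable [IsAlgClosed k] (hK : IsFunctionField k K)
variable {V : Submodule k K} {D : Divisor k K}

include hK

lemma finite_of_le_L (hV : V ≤ L D) : FiniteDimensional k V :=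
  haveI := finite_L hK D
  Submodule.finiteDimensional_of_le hV

omit [IsAlgClosed k] hK in
lemma vd_zero (hV : V ≤ L D) (P : Place k K) : vd V D P 0 = Module.finrank k V := by
  rw [vd, Finsupp.single_zero, sub_zero, inf_eq_left.2 hV]

lemma finite_vd (V : Submodule k K) (D : Divisor k K) (P : Place k K) (n : ℤ) :
    FiniteDimensional k ↥(V ⊓ L (D - Finsupp.single P n)) :=
  haveI := finite_L hK (D - Finsupp.single P n)
  Submodule.finiteDimensional_of_le inf_le_right

lemma vd_anti (P : Place k K) {m n : ℤ} (h : m ≤ n) : vd V D P n ≤ vd V D P m := by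
  haveI := finite_vd hK V D P m
  exact Submodule.finrank_mono (inf_le_inf_left _ (L_mono (sub_le_sub_left (Finsupp.single_mono h) D)))

lemma vd_le (hV : V ≤ L D) (P : Place k K) (n : ℤ) : vd V D P n ≤ Module.finrank k V := by
  haveI := finite_of_le_L hK hV
  exact Submodule.finrank_mono inf_le_left

lemma vd_le_ell (P : Place k K) (n : ℤ) : vd V D P n ≤ ell (D - Finsupp.single P n) := by
  haveI := finite_L hK (D - Finsupp.single P n)
  exact Submodule.finrank_mono inf_le_right

lemma vd_eq_zero (P : Place k K) {n : ℤ} (h : D.deg < n) : vd V D P n = 0 := by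
  have := vd_le_ell hK (V := V) (D := D) P n
  rw [ell_eq_zero_of_deg_neg hK (by rw [deg_sub_single hK]; omega)] at this
  omega

lemma vd_step (P : Place k K) (n : ℤ) : vd V D P n ≤ vd V D P (n + 1) + 1 :=
  finrank_inf_single_step hK V D P n

lemma le_vd_add (hV : V ≤ L D) (P : Place k K) (n : ℕ) : Module.finrank k V ≤ vd V D P n + n := by
  induction n with
  | zero => simp [vd_zero hV P]
  | succ n ih =>
    have := vd_step hK (V := V) (D := D) P n
    push_cast
    omega

lemma ell_le_of_deg_nonneg {E : Divisor k K} (h : 0 ≤ E.deg) : (ell E : ℤ) ≤ E.deg + 1 := by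
  by_cases h0 : ell E = 0
  · omega
  obtain ⟨z, hz, hzE⟩ := exists_ne_zero_of_ell_pos (Nat.pos_of_ne_zero h0)
  have h1 := ell_le_deg_add_one hK (le_add_div_of_mem_L hK hz hzE)
  rw [ell_add_div hK _ hz, deg_add, deg_div hK] at h1
  omega

lemma le_deg_of_finrank (hV : V ≤ L D) {d r : ℕ} (hD : D.deg = d) (hr : Module.finrank k V = r + 1) : r ≤ d := by
  haveI := finite_L hK D
  have h1 : r + 1 ≤ ell D := hr ▸ Submodule.finrank_mono hV
  have h2 := ell_le_of_deg_nonneg hK (E := D) (by omega)
  omega

/-- Two places: orders adding to more than the degree cut out complementary subspaces. -/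
lemma vd_add_le (hV : V ≤ L D) {P Q : Place k K} (hPQ : P ≠ Q) {m n : ℤ} (h : D.deg < m + n) :
    vd V D P m + vd V D Q n ≤ Module.finrank k V := by
  classical
  haveI := finite_of_le_L hK hV
  haveI := finite_L hK (D - Finsupp.single P m - Finsupp.single Q n)
  have hle : (V ⊓ L (D - Finsupp.single P m)) ⊓ (V ⊓ L (D - Finsupp.single Q n)) ≤
      L (D - Finsupp.single P m - Finsupp.single Q n) := by
    rintro x ⟨⟨-, h1⟩, -, h2⟩ R
    rcases eq_or_ne R Q with rfl | hR
    · simpa [Finsupp.single_eq_of_ne (Ne.symm hPQ)] using h2 R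
    · simpa [Finsupp.single_eq_of_ne hR] using h1 R
  have hbot : (V ⊓ L (D - Finsupp.single P m)) ⊓ (V ⊓ L (D - Finsupp.single Q n)) = ⊥ := by
    refine le_bot_iff.1 (hle.trans (Submodule.finrank_eq_zero.1 ?_).le)
    exact ell_eq_zero_of_deg_neg hK (by rw [deg_sub_single hK, deg_sub_single hK]; omega)
  have h1 := Submodule.finrank_sup_add_finrank_inf_eq (V ⊓ L (D - Finsupp.single P m)) (V ⊓ L (D - Finsupp.single Q n))
  rw [hbot, finrank_bot, add_zero] at h1
  rw [vd, vd, ← h1]
  exact Submodule.finrank_mono (sup_le inf_le_left inf_le_left)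

/-- If the dimensions overlap, some section has its divisor supported on the two places. -/
lemma exists_exact (hV : V ≤ L D) {P Q : Place k K} (hPQ : P ≠ Q) {m n : ℤ} (h : m + n = D.deg)
    (hlt : Module.finrank k V < vd V D P m + vd V D Q n) :
    ∃ f ∈ V, f ≠ 0 ∧ div k f + D = Finsupp.single P m + Finsupp.single Q n := by
  classical
  haveI := finite_of_le_L hK hV
  have hne : (V ⊓ L (D - Finsupp.single P m)) ⊓ (V ⊓ L (D - Finsupp.single Q n)) ≠ ⊥ := by
    intro hb
    have h1 := Submodule.finrank_sup_add_finrank_inf_eq (V ⊓ L (D - Finsupp.single P m)) (V ⊓ L (D - Finsupp.single Q n))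
    rw [hb, finrank_bot, add_zero] at h1
    have h2 : Module.finrank k ↥((V ⊓ L (D - Finsupp.single P m)) ⊔ (V ⊓ L (D - Finsupp.single Q n))) ≤
      Module.finrank k V := Submodule.finrank_mono (sup_le inf_le_left inf_le_left)
    simp only [vd] at hlt
    omega
  obtain ⟨f, ⟨⟨hfV, h1⟩, -, h2⟩, hf⟩ := Submodule.exists_mem_ne_zero_of_ne_bot hne
  refine ⟨f, hfV, hf, ?_⟩
  have hge : 0 ≤ div k f + D - (Finsupp.single P m + Finsupp.single Q n) := by
    intro R
    have e1 := (mem_L_iff_ord hf).1 h1 R
    have e2 := (mem_L_iff_ord hf).1 h2 R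
    simp only [Finsupp.coe_zero, Pi.zero_apply, Finsupp.coe_sub, Pi.sub_apply, Finsupp.coe_add, Pi.add_apply,
      div_apply hK] at e1 e2 ⊢
    rcases eq_or_ne R P with rfl | hR
    · rw [Finsupp.single_eq_of_ne hPQ]; omega
    · rw [Finsupp.single_eq_of_ne hR] at e1 ⊢; omega
  refine sub_eq_zero.1 (eq_zero_of_nonneg_of_deg hK hge ?_)
  rw [deg_sub, deg_add, deg_add, deg_div hK, deg_single_ac hK, deg_single_ac hK]
  omega

variable {d r : ℕ}

lemma wsum_add_le (hV : V ≤ L D) (hD : D.deg = d) {P Q : Place k K} (hPQ : P ≠ Q) :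
    wsum d V D P + wsum d V D Q ≤ Module.finrank k V * d := by
  rw [wsum, wsum, ← Finset.sum_range_reflect (fun n : ℕ => vd V D Q ((n : ℤ) + 1)), ← Finset.sum_add_distrib]
  refine (Finset.sum_le_card_nsmul _ _ (Module.finrank k V) fun n hn => ?_).trans_eq ?_
  · rw [Finset.mem_range] at hn
    exact vd_add_le hK hV hPQ (by omega)
  · rw [Finset.card_range, smul_eq_mul, mul_comm]

lemma wsum_ge (hV : V ≤ L D) (hD : D.deg = d) (hr : Module.finrank k V = r + 1) (P : Place k K) :
    r * (r + 1) / 2 ≤ wsum d V D P := by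
  have h : ∑ n ∈ Finset.range d, (r - n) ≤ wsum d V D P := Finset.sum_le_sum fun n _ => by
    have := le_vd_add hK hV P (n + 1)
    push_cast at this
    omega
  have := two_mul_sum_range_sub r d (le_deg_of_finrank hK hV hD hr)
  omega

lemma cusp_lt (hD : D.deg = d) {Q : Place k K} (hr : 1 ≤ r) (hc : r ≤ vd V D Q 2) : r < d := by
  by_contra h
  rcases lt_or_ge (D.deg) 2 with h2 | h2
  · rw [vd_eq_zero hK Q h2] at hc; omega
  · have h1 := vd_le_ell hK (V := V) (D := D) Q 2
    have h3 := ell_le_of_deg_nonneg hK (E := D - Finsupp.single Q 2) (by rw [deg_sub_single hK]; omega)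
    rw [deg_sub_single hK] at h3
    omega

lemma wsum_ge_cusp (hD : D.deg = d) (hr : 1 ≤ r) {Q : Place k K} (hc : r ≤ vd V D Q 2) :
    r * (r + 1) / 2 + r ≤ wsum d V D Q := by
  have hlt := cusp_lt hK hD hr hc
  have h2 : ∀ j : ℕ, vd V D Q 2 ≤ vd V D Q ((j : ℤ) + 2) + j := fun j => by
    induction j with
    | zero => simp
    | succ j ih =>
      have := vd_step hK (V := V) (D := D) Q ((j : ℤ) + 2)
      push_cast
      rw [show ((j : ℤ) + 1 + 2) = (j : ℤ) + 2 + 1 by ring]
      omega
  have hcard : ∑ n ∈ Finset.range d, ((r - n) + if 1 ≤ n ∧ n ≤ r then 1 else 0) ≤ wsum d V D Q :=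
    Finset.sum_le_sum fun n _ => by
      rcases n with _ | n
      · have := vd_anti hK (V := V) (D := D) Q (show (1 : ℤ) ≤ 2 by norm_num)
        simp; omega
      · have := h2 n
        push_cast
        rw [show ((n : ℤ) + 1 + 1) = (n : ℤ) + 2 by ring]
        split <;> omega
  have hr' : (Finset.range d).filter (fun n => 1 ≤ n ∧ n ≤ r) = Finset.Icc 1 r := by
    ext n; simp; omega
  rw [Finset.sum_add_distrib, Finset.sum_boole, hr', Nat.card_Icc] at hcard
  have := two_mul_sum_range_sub r d hlt.le
  simp at hcard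
  omega

/-- In positive genus, a divisor of positive degree has `ℓ ≤ deg`. -/
lemma ell_le_deg (hg : 0 < genus k K) {E : Divisor k K} (h : 1 ≤ E.deg) : (ell E : ℤ) ≤ E.deg := by
  classical
  by_cases h0 : ell E = 0
  · omega
  obtain ⟨z, hz, hzE⟩ := exists_ne_zero_of_ell_pos (Nat.pos_of_ne_zero h0)
  have hnn := le_add_div_of_mem_L hK hz hzE
  rw [← ell_add_div hK _ hz]
  have hdeg : (E + div k z).deg = E.deg := by rw [deg_add, deg_div hK, add_zero]
  rw [← hdeg] at h ⊢
  generalize E + div k z = F at hnn h ⊢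
  obtain ⟨P, hP⟩ := Finsupp.ne_iff.1 (show F ≠ 0 by rintro rfl; simp [deg_zero] at h)
  have hPF : Finsupp.single P 1 ≤ F := fun R => by
    rcases eq_or_ne R P with rfl | hR
    · have := hnn R
      simp only [Finsupp.coe_zero, Pi.zero_apply] at this hP
      simp; omega
    · simpa [Finsupp.single_eq_of_ne hR] using hnn R
  have h1 : ell (Finsupp.single P 1 : Divisor k K) ≤ 1 := by
    by_contra hh
    obtain ⟨x, hx0, hxL, hxo⟩ := exists_mem_L_ord (D := (Finsupp.single P 1 : Divisor k K)) (P := P)
      (by rw [sub_self, ell_zero hK]; omega)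
    simp at hxo
    have hx : Transcendental k x⁻¹ := transcendental_of_not_mem hK (by
      rintro ⟨c, hc⟩
      have e := congrArg P.ord hc
      rw [ord_algebraMap, ord_inv, hxo] at e
      omega)
    have hz' : zeros (k := k) x⁻¹ = Finsupp.single P 1 := by
      ext R
      rw [zeros_apply hK, ord_inv]
      rcases eq_or_ne R P with rfl | hR
      · simp [hxo]
      · have := (mem_L_iff_ord hx0).1 hxL R
        rw [Finsupp.single_eq_of_ne hR] at this ⊢
        omega
    have hfr := deg_zeros hK hx
    rw [hz', deg_single_ac hK, adjoin_inv] at hfr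
    have htop := IntermediateField.finrank_eq_one_iff_eq_top.1 (show Module.finrank _ K = 1 by exact_mod_cast hfr.symm)
    have hg0 := genus_spec hK
    obtain ⟨D₀, hD₀⟩ := hg0.2
    -- a rational function field has genus zero
    have hP0 : ∀ n : ℕ, n + 1 ≤ ell ((n : ℤ) • Finsupp.single P 1 : Divisor k K) := fun n => by
      haveI := finite_L hK ((n : ℤ) • Finsupp.single P 1 : Divisor k K)
      have hli : LinearIndependent k (fun i : Fin (n + 1) => x ^ (i : ℕ)) := by
        refine linearIndependent_of_ord P _ (fun i => pow_ne_zero _ hx0) fun a b hab => ?_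
        simp only [ord_pow, hxo] at hab
        exact Fin.ext (by omega)
      have hm : ∀ i : Fin (n + 1), x ^ (i : ℕ) ∈ L ((n : ℤ) • Finsupp.single P 1 : Divisor k K) := fun i => by
        rw [← hz']
        refine L_mono ?_ (mem_L_zeros_inv hK hx0 i)
        intro R
        simp only [Finsupp.smul_apply, smul_eq_mul]
        exact mul_le_mul_of_nonneg_right (by have := i.isLt; omega) (by have := zeros_nonneg (k := k) x⁻¹ R; simpa using this)
      have := (LinearIndependent.of_comp (L ((n : ℤ) • Finsupp.single P 1 : Divisor k K)).subtype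
        (v := fun i : Fin (n + 1) => (⟨x ^ (i : ℕ), hm i⟩ : L ((n : ℤ) • Finsupp.single P 1 : Divisor k K))) hli).fintype_card_le_finrank
      simpa [ell] using this
    obtain ⟨N, hN⟩ := exists_riemann_bound hK
    have hd := hN ((N.natAbs : ℤ) • Finsupp.single P 1) (by rw [deg_smul, deg_single_ac hK]; omega)
    have := hP0 N.natAbs
    rw [defect, deg_smul, deg_single_ac hK] at hd
    omega
  have h2 := ell_sub_le hK hPF
  rw [deg_single_ac hK] at h2
  omega

lemma wsum_le_genus_pos (hg : 0 < genus k K) (hV : V ≤ L D) (hD : D.deg = d)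
    (hr : Module.finrank k V = r + 1) (hr1 : 1 ≤ r) (P : Place k K) :
    wsum d V D P + r + r * (r + 1) / 2 ≤ (r + 1) * d := by
  haveI := finite_L hK D
  have hd0 : r + 1 ≤ d := by
    have h1 : r + 1 ≤ ell D := hr ▸ Submodule.finrank_mono hV
    rcases Nat.eq_zero_or_pos d with h0 | h0
    · have := ell_le_of_deg_nonneg hK (E := D) (by omega); omega
    · have := ell_le_deg hK hg (E := D) (by omega); omega
  have h := Finset.sum_le_sum (s := Finset.range d)
    (f := fun j => vd V D P (((d - 1 - j : ℕ) : ℤ) + 1) + ((r - (j - 1)) * if 1 ≤ j then 1 else 0) + if j = 0 then r else 0)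
    (g := fun _ => r + 1) fun j hj => by
      rw [Finset.mem_range] at hj
      have h1 := vd_le_ell hK (V := V) (D := D) P (((d - 1 - j : ℕ) : ℤ) + 1)
      have h2 := vd_le hK hV P (((d - 1 - j : ℕ) : ℤ) + 1)
      have hdeg : (D - Finsupp.single P (((d - 1 - j : ℕ) : ℤ) + 1)).deg = j := by rw [deg_sub_single hK, hD]; omega
      rcases j with _ | j
      · have h3 := ell_le_of_deg_nonneg hK (E := D - Finsupp.single P (((d - 1 - 0 : ℕ) : ℤ) + 1)) (by omega)
        simp at *; omega
      · have h3 := ell_le_deg hK hg (E := D - Finsupp.single P (((d - 1 - (j + 1) : ℕ) : ℤ) + 1)) (by omega)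
        simp at *; omega
  rw [Finset.sum_add_distrib, Finset.sum_add_distrib, Finset.sum_range_reflect (fun n : ℕ => vd V D P ((n : ℤ) + 1)),
    Finset.sum_const, Finset.card_range, smul_eq_mul, Finset.sum_ite_eq' (Finset.range d) 0 (fun _ => r)] at h
  obtain ⟨e, rfl⟩ : ∃ e, d = e + 1 := ⟨d - 1, by omega⟩
  rw [Finset.sum_range_succ' (fun j => (r - (j - 1)) * if 1 ≤ j then 1 else 0)] at h
  simp at h
  have := two_mul_sum_range_sub r e (by omega)
  rw [wsum]
  rw [mul_comm (r + 1) (e + 1)]
  omega

end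

end Groth.Agent.FF
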