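import Groth.Agent.FF.ConstBar
import Groth.Agent.FF.AlgClosed

/-! Rational places over an algebraically closed constant extension. -/

set_option autoImplicit false
set_option linter.style.haveILetI false

namespace Groth.Agent.FF

attribute [local instance high] FunFld.Place.algRes
attribute [-instance] IsLocalRing.instModuleResidueFieldOfAlgebra

open FunFld
open scoped WithZero TensorProduct IntermediateField

universe u u' u'' v v' w

section field

variable {k : Type u} {K : Type v} [Field k] [Field K] [Algebra k K]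

/-- A geometric function field stays a field under algebraic constant extensions. -/
lemma isField_baseChange (hg : IsGeometric k K) (k' : Type u) [Field k'] [Algebra k k'] [Algebra.IsAlgebraic k k'] :
    IsField (k' ⊗[k] K) := by
  classical
  let F (S : Finset k') : (IntermediateField.adjoin k (S : Set k')) ⊗[k] K →ₐ[k] k' ⊗[k] K :=
    Algebra.TensorProduct.map (IntermediateField.adjoin k (S : Set k')).val (AlgHom.id k K)
  have mono : ∀ {S T : Finset k'}, S ⊆ T → ∀ w, ∃ w', F T w' = F S w := fun {S T} hST w => by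
    induction w using TensorProduct.induction_on with
    | zero => exact ⟨0, by rw [map_zero, map_zero]⟩
    | tmul a c =>
      refine ⟨(⟨(a : k'), IntermediateField.adjoin.mono k _ _ (Finset.coe_subset.2 hST) a.2⟩ :
        IntermediateField.adjoin k (T : Set k')) ⊗ₜ[k] c, ?_⟩
      simp [F]
    | add a c ha hc =>
      obtain ⟨a', ha⟩ := ha
      obtain ⟨c', hc⟩ := hc
      exact ⟨a' + c', by rw [map_add, map_add, ha, hc]⟩
  have key : ∀ z : k' ⊗[k] K, ∃ S w, F S w = z := fun z => by
    induction z using TensorProduct.induction_on with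
    | zero => exact ⟨∅, 0, map_zero _⟩
    | tmul a c =>
      exact ⟨{a}, (⟨a, IntermediateField.subset_adjoin k _ (Finset.mem_singleton_self a)⟩ :
        IntermediateField.adjoin k (({a} : Finset k') : Set k')) ⊗ₜ[k] c, by simp [F]⟩
    | add a c ha hc =>
      obtain ⟨S, wa, ha⟩ := ha
      obtain ⟨T, wc, hc⟩ := hc
      obtain ⟨wa', ha'⟩ := mono (Finset.subset_union_left (s₂ := T)) wa
      obtain ⟨wc', hc'⟩ := mono (Finset.subset_union_right (s₁ := S)) wc
      exact ⟨S ∪ T, wa' + wc', by rw [map_add, ha', hc', ha, hc]⟩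
  refine ⟨exists_pair_ne _, mul_comm, fun {z} hz => ?_⟩
  obtain ⟨S, w, rfl⟩ := key z
  haveI : FiniteDimensional k (IntermediateField.adjoin k (S : Set k')) :=
    IntermediateField.finiteDimensional_adjoin fun c _ => Algebra.IsIntegral.isIntegral c
  have hw0 : w ≠ 0 := fun h0 => hz (by rw [h0, map_zero])
  obtain ⟨w', hw'⟩ := (hg (IntermediateField.adjoin k (S : Set k')) inferInstance).mul_inv_cancel hw0
  refine ⟨F S w', ?_⟩
  rw [← map_mul, hw']
  exact (F S).toRingHom.map_one

end field

section transitive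

variable {k : Type u} {k' : Type u'} {k'' : Type u''} {K : Type v} {K' : Type v'} {K'' : Type w}
  [Field k] [Field k'] [Field k''] [Field K] [Field K'] [Field K'']
  [Algebra k k'] [Algebra k k''] [Algebra k' k''] [IsScalarTower k k' k'']
  [Algebra k K] [Algebra K K'] [Algebra k' K'] [Algebra k K'] [IsScalarTower k k' K'] [IsScalarTower k K K']
  [Algebra k'' K''] [Algebra K K''] [Algebra k K''] [IsScalarTower k k'' K''] [IsScalarTower k K K'']
  [Algebra K' K''] [Algebra k' K''] [IsScalarTower k' k'' K''] [IsScalarTower k' K' K''] [IsScalarTower K K' K'']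

/-- The constant extensions are compatible. -/
lemma bijective_of_tower
    (h1 : Function.Bijective (Algebra.TensorProduct.productMap
      (IsScalarTower.toAlgHom k k' K') (IsScalarTower.toAlgHom k K K')))
    (h2 : Function.Bijective (Algebra.TensorProduct.productMap
      (IsScalarTower.toAlgHom k k'' K'') (IsScalarTower.toAlgHom k K K''))) :
    Function.Bijective (Algebra.TensorProduct.productMap
      (IsScalarTower.toAlgHom k' k'' K'') (IsScalarTower.toAlgHom k' K' K'')) := by
  obtain ⟨b1, hb1⟩ := exists_extBasis h1 (Module.Free.chooseBasis k K)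
  obtain ⟨b2, hb2⟩ := exists_extBasis h2 (Module.Free.chooseBasis k K)
  let g : k'' ⊗[k'] K' →ₐ[k''] K'' :=
    Algebra.TensorProduct.lift (Algebra.ofId k'' K'') (IsScalarTower.toAlgHom k' K' K'') fun _ _ => Commute.all _ _
  have hg : (g : k'' ⊗[k'] K' → K'') = Algebra.TensorProduct.productMap
      (IsScalarTower.toAlgHom k' k'' K'') (IsScalarTower.toAlgHom k' K' K'') := funext fun z => by
    induction z using TensorProduct.induction_on with
    | zero => simp
    | tmul a c => simp [g]
    | add a c ha hc => rw [map_add, map_add, ha, hc]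
  have e : g.toLinearMap = ((b1.baseChange k'').equiv b2 (Equiv.refl _)).toLinearMap :=
    (b1.baseChange k'').ext fun i => by
      rw [LinearEquiv.coe_coe, Module.Basis.equiv_apply, Equiv.refl_apply, hb2, Module.Basis.baseChange_apply]
      show g ((1 : k'') ⊗ₜ[k'] b1 i) = _
      simp [g, hb1, ← IsScalarTower.algebraMap_apply]
  rw [← hg, show (g : k'' ⊗[k'] K' → K'') = g.toLinearMap from rfl, e]
  exact ((b1.baseChange k'').equiv b2 (Equiv.refl _)).bijective

end transitive

section deg

variable {k : Type u} {k' : Type u'} {K : Type v} {K' : Type v'} [Field k] [Field k'] [Field K] [Field K']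
  [Algebra k k'] [Algebra k K] [Algebra K K'] [Algebra k' K'] [Algebra k K']
  [IsScalarTower k k' K'] [IsScalarTower k K K']
  (h : Function.Bijective (Algebra.TensorProduct.productMap
      (IsScalarTower.toAlgHom k k' K') (IsScalarTower.toAlgHom k K K')))

include h

/-- Linear disjointness from the constants. -/
lemma linearIndependent_bar {ι : Type*} {w : ι → K} (hw : LinearIndependent k w) :
    LinearIndependent k' (fun i => algebraMap K K' (w i)) := by
  let B := Module.Basis.extend hw.linearIndepOn_id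
  obtain ⟨b', hb'⟩ := exists_extBasis h B
  have hmem : ∀ i, w i ∈ hw.linearIndepOn_id.extend (Set.subset_univ _) := fun i =>
    hw.linearIndepOn_id.subset_extend _ ⟨i, rfl⟩
  have := b'.linearIndependent.comp (fun i => (⟨w i, hmem i⟩ : hw.linearIndepOn_id.extend (Set.subset_univ _)))
    (fun i j hij => hw.injective (congrArg Subtype.val hij))
  convert this using 1
  funext i
  rw [Function.comp_apply, hb', Module.Basis.extend_apply_self]

/-- Constants are algebraically closed below. -/
lemma mem_range_of_isAlgebraic [IsAlgClosed k'] {y : K} (hy : IsAlgebraic k y) :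
    y ∈ Set.range (algebraMap k K) := by
  by_contra hcon
  obtain ⟨c, hc⟩ := minpoly.mem_range_of_degree_eq_one k' (algebraMap K K' y)
    (IsAlgClosed.degree_eq_one_of_irreducible k' (minpoly.irreducible
      ((hy.algebraMap (A := K')).isIntegral.tower_top)))
  have hli : LinearIndependent k ![(1 : K), y] := by
    rw [LinearIndependent.pair_iff' one_ne_zero]
    exact fun a ha => hcon ⟨a, by rw [← ha, Algebra.smul_def, mul_one]⟩
  have := (linearIndependent_bar h hli)
  rw [show (fun i => algebraMap K K' (![(1 : K), y] i)) = ![(1 : K'), algebraMap k' K' c] by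
    funext i; fin_cases i <;> simp [hc], LinearIndependent.pair_iff' one_ne_zero] at this
  exact this c (by rw [Algebra.smul_def, mul_one])

/-- Below an algebraically closed constant extension there is a function field. -/
lemma isFunctionField_below [IsAlgClosed k'] (hfin : ∃ x : K, Transcendental k x ∧ FiniteDimensional k⟮x⟯ K) :
    IsFunctionField k K :=
  ⟨hfin, fun _ hy => mem_range_of_isAlgebraic h hy⟩

variable [Algebra.IsAlgebraic k k'] [IsAlgClosed k'] (hK : IsFunctionField k K)

omit [IsAlgClosed k'] in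
include hK in
lemma exists_below (R : Place k' K') : ∃ Q : Place k K, ∀ w : K, R.1 (algebraMap K K' w) ≤ 1 ↔ Q.1 w ≤ 1 := by
  let V : ValuationSubring K := R.O.comap (algebraMap K K')
  have hmem : ∀ w, w ∈ V ↔ R.1 (algebraMap K K' w) ≤ 1 := fun _ => Iff.rfl
  have hkV : Set.range (algebraMap k K) ⊆ V := by
    rintro _ ⟨c, rfl⟩
    rw [SetLike.mem_coe, hmem, ← IsScalarTower.algebraMap_apply, IsScalarTower.algebraMap_apply k k' K']
    exact R.2.1 _
  have hV : V ≠ ⊤ := fun htop => by
    have hfinw : ∀ z : K', R.1 z ≤ 1 := fun z => by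
      obtain ⟨T, hT⟩ := exists_finset_mem_adjoin h z
      induction hT using Algebra.adjoin_induction with
      | mem a ha => obtain ⟨c, -, rfl⟩ := ha; exact R.2.1 c
      | algebraMap a => exact (hmem a).1 (htop ▸ ValuationSubring.mem_top a)
      | add _ _ _ _ h₁ h₂ => exact (R.1.map_add _ _).trans (max_le h₁ h₂)
      | mul _ _ _ _ h₁ h₂ => rw [map_mul]; exact mul_le_one' h₁ h₂
    obtain ⟨z, hz⟩ := R.2.2 (WithZero.exp (1 : ℤ))
    have h1 := hfinw z
    rw [hz, ← WithZero.exp_zero, WithZero.exp_le_exp] at h1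
    omega
  obtain ⟨Q, hQ⟩ := exists_place_of_valuationSubring hK V hkV hV
  exact ⟨Q, fun w => (hmem w).symm.trans (hQ w)⟩

omit h [Algebra.IsAlgebraic k k'] [IsAlgClosed k'] in
lemma lt_one_iff_of_le_one_iff {R : Place k' K'} {Q : Place k K}
    (hR : ∀ w : K, R.1 (algebraMap K K' w) ≤ 1 ↔ Q.1 w ≤ 1) (w : K) :
    R.1 (algebraMap K K' w) < 1 ↔ Q.1 w < 1 := by
  rcases eq_or_ne w 0 with rfl | hw
  · simp
  have h1 := hR w⁻¹
  rw [map_inv₀, map_inv₀, map_inv₀, inv_le_one₀ (zero_lt_iff.2 ((map_ne_zero _).2 ((map_ne_zero _).2 hw))),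
    inv_le_one₀ (zero_lt_iff.2 ((map_ne_zero _).2 hw))] at h1
  rw [← not_le, ← not_le, h1]

include hK in
/-- A place defined over the base is rational. -/
theorem deg_eq_one_of_defined (Q : Place k K)
    (hdef : ∀ R : Place k' K', (∀ w : K, R.1 (algebraMap K K' w) ≤ 1 ↔ Q.1 w ≤ 1) →
      ∃ t z : K, R.1 (algebraMap K K' t) = WithZero.exp (-1) ∧ R.1 (algebraMap K K' z) < 1 ∧
        ∀ R' : Place k' K', R'.1 (algebraMap K K' z) < 1 → R' = R) :
    Q.deg = 1 := by
  classical
  have hK' := isFunctionField_bar h hK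
  -- a place above
  obtain ⟨z₁, n₁, hn₁, hz₁, hzero⟩ := exists_zeros_eq_single hK Q
  have hz₁' : Transcendental k' (algebraMap K K' z₁) := fun hal =>
    hz₁ ((isAlgebraic_algebraMap_iff (algebraMap K K').injective).1 (hal.restrictScalars k))
  obtain ⟨R, hRz⟩ := exists_zero hK' hz₁'
  obtain ⟨Q', hQ'⟩ := exists_below h hK R
  obtain rfl : Q' = Q := by
    by_contra hne
    have h1 := (lt_one_iff_of_le_one_iff hQ' z₁).1 hRz
    rw [v_lt_one_iff Q' (fun h0 => hz₁ (by rw [h0]; exact isAlgebraic_zero))] at h1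
    have h2 := congrArg (fun D : Divisor k K => D Q') hzero
    simp only [zeros_apply hK, Finsupp.single_eq_of_ne hne] at h2
    omega
  obtain ⟨t, z, ht, hz, huniq⟩ := hdef R hQ'
  have honly : ∀ R₂ : Place k' K', (∀ w : K, R₂.1 (algebraMap K K' w) ≤ 1 ↔ Q'.1 w ≤ 1) → R₂ = R :=
    fun R₂ hR₂ => huniq R₂ ((lt_one_iff_of_le_one_iff hR₂ z).2 ((lt_one_iff_of_le_one_iff hQ' z).1 hz))
  -- ramification index one
  have ht0 : t ≠ 0 := fun h0 => by rw [h0, map_zero, map_zero] at ht; exact WithZero.exp_ne_zero ht.symm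
  obtain ⟨π, hπ⟩ := Q'.2.2 (WithZero.exp (-1 : ℤ))
  have hπ0 : π ≠ 0 := fun h0 => by rw [h0, map_zero] at hπ; exact WithZero.exp_ne_zero hπ.symm
  have hπo : Q'.ord π = 1 := (ord_eq_iff Q' hπ0).2 hπ
  have hunit : ∀ u : K, u ≠ 0 → Q'.ord u = 0 → R.ord (algebraMap K K' u) = 0 := fun u hu h0 => by
    have hu' : algebraMap K K' u ≠ 0 := (map_ne_zero _).2 hu
    have h1 := (v_le_one_iff R hu').1 ((hQ' u).2 ((v_le_one_iff Q' hu).2 h0.ge))
    have h2 : ¬ R.1 (algebraMap K K' u) < 1 := fun hlt => by
      have h3 := (lt_one_iff_of_le_one_iff hQ' u).1 hlt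
      rw [v_lt_one_iff Q' hu] at h3
      omega
    rw [v_lt_one_iff R hu'] at h2
    omega
  have hpropn : ∀ (n : ℕ) (w : K), w ≠ 0 → Q'.ord w = (n : ℤ) →
      R.ord (algebraMap K K' w) = (n : ℤ) * R.ord (algebraMap K K' π) := by
    intro n w hw hwo
    have hu : w / π ^ n ≠ 0 := div_ne_zero hw (pow_ne_zero _ hπ0)
    have huo : Q'.ord (w / π ^ n) = 0 := by
      rw [div_eq_mul_inv, ord_mul Q' hw (inv_ne_zero (pow_ne_zero _ hπ0)), ord_inv, ord_pow, hπo, hwo]; ring
    have e : algebraMap K K' w = algebraMap K K' (w / π ^ n) * algebraMap K K' π ^ n := by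
      rw [← map_pow, ← map_mul, div_mul_cancel₀ _ (pow_ne_zero _ hπ0)]
    rw [e, ord_mul R ((map_ne_zero _).2 hu) (pow_ne_zero _ ((map_ne_zero _).2 hπ0)), hunit _ hu huo, ord_pow]
    ring
  have hprop : ∀ w : K, w ≠ 0 → R.ord (algebraMap K K' w) = Q'.ord w * R.ord (algebraMap K K' π) := by
    intro w hw
    rcases le_or_gt 0 (Q'.ord w) with hp | hp
    · obtain ⟨n, hn⟩ := Int.eq_ofNat_of_zero_le hp
      rw [hpropn n w hw hn, hn]
    · obtain ⟨n, hn⟩ := Int.eq_ofNat_of_zero_le (neg_nonneg.2 hp.le)
      have h1 := hpropn n w⁻¹ (inv_ne_zero hw) (by rw [ord_inv]; omega)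
      rw [map_inv₀, ord_inv] at h1
      have hw' : Q'.ord w = -(n : ℤ) := by omega
      rw [hw']; linear_combination -h1
  have hd : R.ord (algebraMap K K' π) = 1 := by
    have h1 := hprop t ht0
    rw [(ord_eq_iff R ((map_ne_zero _).2 ht0)).2 ht] at h1
    have h2 : 0 < R.ord (algebraMap K K' π) :=
      (v_lt_one_iff R ((map_ne_zero _).2 hπ0)).1
        ((lt_one_iff_of_le_one_iff hQ' π).2 (by rw [hπ, ← WithZero.exp_zero, WithZero.exp_lt_exp]; omega))
    have h3 : R.ord (algebraMap K K' π) ∣ 1 := ⟨Q'.ord t, by linear_combination h1⟩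
    exact Int.eq_one_of_dvd_one h2.le h3
  -- compare Riemann-Roch spaces
  have hdeg0 := deg_pos hK Q'
  by_contra hne
  set N : ℕ := 2 * genus k K + 2 * genus k' K' + 3 with hN
  haveI := finite_L hK (Finsupp.single Q' (N : ℤ))
  haveI := finite_L hK' (Finsupp.single R (N : ℤ))
  have hmap : ∀ w ∈ L (Finsupp.single Q' (N : ℤ) : Divisor k K),
      algebraMap K K' w ∈ L (Finsupp.single R (N : ℤ) : Divisor k' K') := by
    intro w hw R₂
    rcases eq_or_ne w 0 with rfl | hw0
    · simp
    rcases eq_or_ne R₂ R with rfl | hR₂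
    · rw [Finsupp.single_eq_same, v_eq_exp R₂ ((map_ne_zero _).2 hw0), WithZero.exp_le_exp, hprop w hw0, hd, mul_one]
      have h1 := hw Q'
      rw [Finsupp.single_eq_same, v_eq_exp Q' hw0, WithZero.exp_le_exp] at h1
      exact h1
    · rw [Finsupp.single_eq_of_ne hR₂, WithZero.exp_zero]
      obtain ⟨Q₂, hQ₂⟩ := exists_below h hK R₂
      have hne : Q₂ ≠ Q' := fun he => hR₂ (honly R₂ (he ▸ hQ₂))
      rw [hQ₂]
      have h1 := hw Q₂
      rwa [Finsupp.single_eq_of_ne hne, WithZero.exp_zero] at h1
  let B := Module.finBasis k (L (Finsupp.single Q' (N : ℤ) : Divisor k K))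
  have hli := linearIndependent_bar h (B.linearIndependent.map' (L _).subtype (Submodule.ker_subtype _))
  have hli' : LinearIndependent k' (fun i => (⟨algebraMap K K' (B i : K), hmap _ (B i).2⟩ :
      L (Finsupp.single R (N : ℤ) : Divisor k' K'))) :=
    LinearIndependent.of_comp (L _).subtype hli
  have hle := hli'.fintype_card_le_finrank
  rw [Fintype.card_fin] at hle
  have e1 := ell_of_deg_large hK (D := Finsupp.single Q' (N : ℤ))
    (by rw [deg_single]; have : (N : ℤ) ≤ N * Q'.deg := le_mul_of_one_le_right (by positivity) (by exact_mod_cast hdeg0)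
        omega)
  have hR1 : R.deg = 1 := deg_eq_one hK' R
  have e2 := ell_of_deg_large hK' (D := Finsupp.single R (N : ℤ)) (by rw [deg_single, hR1]; push_cast; omega)
  rw [deg_single] at e1
  rw [deg_single, hR1] at e2
  simp only [ell] at e1 e2
  have h4 : (N : ℤ) * 2 ≤ N * Q'.deg := mul_le_mul_of_nonneg_left (by exact_mod_cast (by omega : 2 ≤ Q'.deg)) (by positivity)
  omega

end deg

end Groth.Agent.FF
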