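import Mathlib
import Groth.Agent.FF.RR

/-! A function field of genus at least two has at most one rational subfield of index two. -/

set_option autoImplicit false
set_option linter.style.haveILetI false

namespace Groth.Agent.FF

open FunFld Polynomial
open scoped WithZero IntermediateField

universe u v

variable {k : Type u} {K : Type v} [Field k] [Field K] [Algebra k K]

lemma eq_zero_of_nonneg_of_deg (hK : IsFunctionField k K) {D : Divisor k K} (h : 0 ≤ D) (hd : D.deg ≤ 0) : D = 0 := by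
  classical
  by_contra hne
  obtain ⟨P, hP⟩ := Finsupp.ne_iff.1 hne
  simp only [Finsupp.coe_zero, Pi.zero_apply] at hP
  have h1 : 1 ≤ D P := by
    have := h P
    simp only [Finsupp.coe_zero, Pi.zero_apply] at this
    omega
  have hle : Finsupp.single P (1 : ℤ) ≤ D := fun Q => by
    rcases eq_or_ne Q P with rfl | hQ
    · simpa using h1
    · rw [Finsupp.single_eq_of_ne hQ]; exact h Q
  have := deg_mono hle
  rw [deg_single] at this
  have := deg_pos hK P
  omega

lemma exists_div_sub (hK : IsFunctionField k K) {C D : Divisor k K} (hC : IsCanonical k K C)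
    (hdeg : D.deg = 2 * genus k K - 2) (hell : genus k K ≤ ell D) :
    ell D = genus k K ∧ ∃ z : K, z ≠ 0 ∧ D = C + div k z := by
  obtain ⟨hC1, hC2⟩ := canonical_deg hK hC
  have h := riemann_roch hK hC D
  obtain ⟨z, hz0, hz⟩ := exists_ne_zero_of_ell_pos (D := C - D) (by omega)
  have hzero := eq_zero_of_nonneg_of_deg hK (le_add_div_of_mem_L hK hz0 hz)
    (by rw [deg_add, deg_div hK, deg_sub]; omega)
  have hD : D = C + div k z := by
    rw [eq_comm, ← sub_eq_zero, ← hzero]; abel
  exact ⟨by rw [hD, ell_add_div hK _ hz0, hC1], z, hz0, hD⟩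

/-- `L((g - 1) D)` for the pole divisor `D` of a function of degree two. -/
theorem double_cover_L (hK : IsFunctionField k K) {x : K}
    (hx : Module.finrank k⟮x⟯ K = 2) :
    Transcendental k x ∧ ∀ C : Divisor k K, IsCanonical k K C → 1 ≤ genus k K → ∃ z : K, z ≠ 0 ∧
      ((genus k K - 1 : ℕ) : ℤ) • zeros (k := k) x⁻¹ = C + div k z ∧
      ∀ w ∈ L ((((genus k K - 1 : ℕ)) : ℤ) • zeros (k := k) x⁻¹ : Divisor k K), ∃ p : k[X], w = aeval x p := by
  have htr : Transcendental k x := by
    refine transcendental_of_not_mem hK ?_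
    rintro ⟨c, rfl⟩
    obtain ⟨⟨x₀, hx₀, -⟩, -⟩ := id hK
    have hbot : k⟮algebraMap k K c⟯ = ⊥ := IntermediateField.adjoin_simple_eq_bot_iff.2 (IntermediateField.algebraMap_mem _ c)
    rw [hbot, IntermediateField.finrank_bot'] at hx
    haveI : FiniteDimensional k K := Module.finite_of_finrank_eq_succ hx
    exact hx₀ (Algebra.IsAlgebraic.isAlgebraic x₀)
  refine ⟨htr, fun C hC hg => ?_⟩
  set D := ((genus k K - 1 : ℕ) : ℤ) • zeros (k := k) x⁻¹ with hD
  have hx0 : x ≠ 0 := fun h => htr (h ▸ isAlgebraic_zero)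
  have hdeg : D.deg = 2 * genus k K - 2 := by
    have hxi : Transcendental k x⁻¹ := fun h => htr (by simpa using h.inv)
    rw [hD, deg_smul, deg_zeros hK hxi, adjoin_inv, hx]; omega
  let φ : degreeLT k (genus k K) →ₗ[k] K := (Polynomial.aeval x).toLinearMap.comp (Submodule.subtype _)
  have hinj : Function.Injective φ := fun a b h => Subtype.ext (transcendental_iff_injective.1 htr h)
  have hrange : LinearMap.range φ ≤ L D := by
    rintro _ ⟨⟨p, hp⟩, rfl⟩
    show aeval x p ∈ L D
    rw [mem_degreeLT] at hp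
    rw [aeval_eq_sum_range]
    refine Submodule.sum_mem _ fun i hi => Submodule.smul_mem _ _ ?_
    rw [Finset.mem_range] at hi
    have hple : p.natDegree ≤ genus k K - 1 := by
      rcases eq_or_ne p 0 with rfl | hp0
      · simp
      rw [degree_eq_natDegree hp0, Nat.cast_lt] at hp
      omega
    refine L_mono ?_ (mem_L_zeros_inv hK hx0 i)
    rw [hD]
    exact smul_le_smul_of_nonneg_right (by omega) (zeros_nonneg _)
  haveI := finite_L hK D
  have hfr : Module.finrank k (LinearMap.range φ) = genus k K := by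
    rw [LinearMap.finrank_range_of_inj hinj, (degreeLTEquiv k _).finrank_eq, Module.finrank_fintype_fun_eq_card,
      Fintype.card_fin]
  obtain ⟨hellD, z, hz, hDz⟩ := exists_div_sub hK hC hdeg (hfr ▸ Submodule.finrank_mono hrange)
  refine ⟨z, hz, hDz, fun w hw => ?_⟩
  rw [← Submodule.eq_of_le_of_finrank_le hrange (by rw [hfr]; exact hellD.le)] at hw
  obtain ⟨⟨p, -⟩, rfl⟩ := hw
  exact ⟨p, rfl⟩

/-- One inclusion of the uniqueness of the rational subfield. -/
theorem double_cover_le (hK : IsFunctionField k K) (hg : 2 ≤ genus k K) {x x' : K}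
    (hx : Module.finrank k⟮x⟯ K = 2) (hx' : Module.finrank k⟮x'⟯ K = 2) : k⟮x'⟯ ≤ k⟮x⟯ := by
  obtain ⟨C, hC⟩ := exists_canonical hK
  obtain ⟨z, hz, hD, hspan⟩ := (double_cover_L hK hx).2 C hC (by omega)
  obtain ⟨htr', h'⟩ := double_cover_L hK hx'
  obtain ⟨z', hz', hD', -⟩ := h' C hC (by omega)
  have hx'0 : x' ≠ 0 := fun h => htr' (h ▸ isAlgebraic_zero)
  have key : ∀ i : ℕ, i ≤ genus k K - 1 → ∃ p : k[X], aeval x p = z' / z * x' ^ i := fun i hi => by
    have hm : x' ^ i ∈ L (((genus k K - 1 : ℕ) : ℤ) • zeros (k := k) x'⁻¹ : Divisor k K) :=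
      L_mono (smul_le_smul_of_nonneg_right (by omega) (zeros_nonneg _)) (mem_L_zeros_inv hK hx'0 i)
    rw [hD'] at hm
    have h1 : z' * x' ^ i ∈ L C := (mem_L_add_div hK C hz' _).2 hm
    have h2 : z' / z * x' ^ i ∈ L (C + div k z) :=
      (mem_L_add_div hK C hz _).1 (by rwa [← mul_assoc, mul_div_cancel₀ _ hz])
    rw [← hD] at h2
    obtain ⟨p, hp⟩ := hspan _ h2
    exact ⟨p, hp.symm⟩
  obtain ⟨p₀, hp₀⟩ := key 0 (Nat.zero_le _)
  obtain ⟨p₁, hp₁⟩ := key 1 (by omega)
  rw [pow_zero, mul_one] at hp₀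
  rw [pow_one] at hp₁
  rw [IntermediateField.adjoin_simple_le_iff]
  have hxeq : x' = aeval x p₁ / aeval x p₀ := by
    rw [hp₀, hp₁]; field_simp
  rw [hxeq]
  have hmem : ∀ p : k[X], aeval x p ∈ k⟮x⟯ := fun p =>
    IntermediateField.algebra_adjoin_le_adjoin k _ (aeval_mem_adjoin_singleton k x)
  exact div_mem (hmem p₁) (hmem p₀)

theorem double_cover_unique (hK : IsFunctionField k K) (hg : 2 ≤ genus k K) {x x' : K}
    (hx : Module.finrank k⟮x⟯ K = 2) (hx' : Module.finrank k⟮x'⟯ K = 2) : k⟮x⟯ = k⟮x'⟯ :=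
  le_antisymm (double_cover_le hK hg hx' hx) (double_cover_le hK hg hx hx')

end Groth.Agent.FF
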