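import Mathlib
import Groth.Agent.FF.IntBasis
import Groth.Agent.FF.Conorm

/-! Almost all places are unramified in a separable extension. -/

set_option autoImplicit false
set_option linter.style.haveILetI false

namespace Groth.Agent.FF

open FunFld
open scoped WithZero Polynomial

universe u v v'

variable {k : Type u} {K : Type v} {K' : Type v'} [Field k] [Field K] [Field K'] [Algebra k K] [Algebra K K']
  [Algebra k K'] [IsScalarTower k K K'] [FiniteDimensional K K']

/-- An element vanishing at every place above has trace vanishing at the place. -/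
lemma v_trace_lt_one (hK : IsFunctionField k K) {P : Place k K} {u : K'}
    (hu : ∀ Q : Place k K', IsOver Q P → Q.1 u < 1) : P.1 (Algebra.trace K K' u) < 1 := by
  classical
  obtain ⟨ι, _, b, hb, hint, -⟩ := exists_intBasis (K' := K') hK P
  obtain ⟨hfin, -⟩ := finite_over_and_sum (K' := K') hK P
  obtain ⟨t, ht⟩ := exists_unif P
  have ht0 : t ≠ 0 := fun h => by rw [h, map_zero] at ht; exact WithZero.exp_ne_zero ht.symm
  have htK : algebraMap K K' t ≠ 0 := by simpa using ht0
  set N := ∑ Q ∈ hfin.toFinset, ramIdx Q P with hN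
  have huI : IntOver P u := fun Q hQ => (hu Q hQ).le
  have hM : ∀ i j, P.1 (Algebra.leftMulMatrix b u i j) ≤ 1 := fun i j => by
    rw [Algebra.leftMulMatrix_eq_repr_mul]; exact (hint _).1 (huI.mul (hb j)) i
  let M₀ : Matrix ι ι P.O := fun i j => ⟨Algebra.leftMulMatrix b u i j, hM i j⟩
  have hM₀ : M₀.map (P.O.subtype : P.O →+* K) = Algebra.leftMulMatrix b u := rfl
  have hpow : ∀ i j, P.1 (Algebra.leftMulMatrix b (u ^ N) i j) < 1 := fun i j => by
    have hdiv : IntOver P (u ^ N * b j / algebraMap K K' t) := fun Q hQ => by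
      have he := isOverWith_ramIdx hQ
      have heN : ramIdx Q P ≤ N := Finset.single_le_sum (f := fun R : Place k K' => ramIdx R P) (fun _ _ => Nat.zero_le _) (hfin.mem_toFinset.2 hQ)
      have hQt : Q.1 (algebraMap K K' t) = WithZero.exp (-(ramIdx Q P : ℤ)) := by
        rw [he, ht, ← WithZero.exp_nsmul]; simp
      have huN : Q.1 (u ^ N) ≤ WithZero.exp (-(ramIdx Q P : ℤ)) := by
        rw [map_pow]
        refine (pow_le_pow_left₀ zero_le ((v_lt_one_iff_le_exp Q u).1 (hu Q hQ)) N).trans ?_
        rw [← WithZero.exp_nsmul, WithZero.exp_le_exp]; simp; omega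
      rw [map_div₀, map_mul, hQt, div_eq_mul_inv, ← WithZero.exp_neg, neg_neg]
      refine (mul_le_mul' (mul_le_mul' huN (hb j Q hQ)) le_rfl).trans ?_
      rw [mul_one, ← WithZero.exp_add, neg_add_cancel, WithZero.exp_zero]
    have h1 := (hint _).1 hdiv i
    have heq : u ^ N * b j = t • (u ^ N * b j / algebraMap K K' t) := by
      rw [Algebra.smul_def, mul_div_cancel₀ _ htK]
    rw [Algebra.leftMulMatrix_eq_repr_mul, heq, map_smul, Finsupp.smul_apply, smul_eq_mul, map_mul, ht]
    exact (mul_le_of_le_one_right' h1).trans_lt (by rw [← WithZero.exp_zero, WithZero.exp_lt_exp]; omega)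
  have hnil : IsNilpotent (M₀.map (IsLocalRing.residue P.O)) := by
    refine ⟨N, Matrix.ext fun i j => ?_⟩
    rw [← Matrix.map_pow]
    simp only [Matrix.map_apply, Matrix.zero_apply]
    refine (residue_eq_zero_iff _).2 ?_
    have hij : ((M₀ ^ N) i j : K) = Algebra.leftMulMatrix b (u ^ N) i j := by
      rw [map_pow, ← hM₀, ← Matrix.map_pow, Matrix.map_apply]; rfl
    rw [hij]
    exact hpow i j
  have htr := (Matrix.isNilpotent_trace_of_isNilpotent hnil).eq_zero
  have htr' : (M₀.map (IsLocalRing.residue P.O)).trace = IsLocalRing.residue P.O M₀.trace := by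
    rw [Matrix.trace, Matrix.trace, map_sum]; rfl
  rw [htr', residue_eq_zero_iff] at htr
  have : (M₀.trace : K) = Algebra.trace K K' u := by
    rw [Algebra.trace_eq_matrix_trace b, ← hM₀, Matrix.trace, Matrix.trace, AddSubmonoidClass.coe_finsetSum]; rfl
  rwa [this] at htr

variable [Algebra.IsSeparable K K']

/-- A place at which a primitive integral element has unit derivative is unramified. -/
theorem ramIdx_eq_one_of_unit (hK : IsFunctionField k K) {P : Place k K} [Algebra P.O K'] [IsScalarTower P.O K K']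
    {y : K'} (hy : IntermediateField.adjoin K ({y} : Set K') = ⊤) (hyi : IsIntegral P.O y) {Q : Place k K'}
    (hQ : IsOver Q P) (hg : Q.1 (Polynomial.aeval y (Polynomial.derivative (minpoly K y))) = 1) : ramIdx Q P = 1 := by
  classical
  obtain ⟨hfin, -⟩ := finite_over_and_sum (K' := K') hK P
  have hpos := pos_of_isOverWith (isOverWith_ramIdx hQ)
  by_contra hne
  obtain ⟨π, hπ⟩ := exists_unif Q
  obtain ⟨s, hs⟩ := approx (insert Q hfin.toFinset) (fun R => if R = Q then π else 1) (fun R => if R = Q then -2 else -1)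
  have hsQ : Q.1 s = WithZero.exp (-1) := by
    have h := hs Q (Finset.mem_insert_self _ _)
    simp only [if_pos] at h
    rw [Valuation.map_eq_of_sub_lt Q.1 (x := π) (h.trans_lt (by rw [hπ, WithZero.exp_lt_exp]; omega)), hπ]
  have hsR : ∀ R : Place k K', IsOver R P → R ≠ Q → R.1 s = 1 := fun R hR hne' => by
    have h := hs R (Finset.mem_insert_of_mem (hfin.mem_toFinset.2 hR))
    simp only [if_neg hne'] at h
    rw [Valuation.map_eq_of_sub_lt R.1 (x := 1)
      (h.trans_lt (by rw [map_one, ← WithZero.exp_zero, WithZero.exp_lt_exp]; omega)), map_one]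
  obtain ⟨t, ht⟩ := exists_unif P
  have hw : InDual P s⁻¹ := fun z hz => by
    have hlt : ∀ R : Place k K', IsOver R P → R.1 (t • (s⁻¹ * z)) < 1 := fun R hR => by
      have he := isOverWith_ramIdx hR
      have hp := pos_of_isOverWith he
      rw [Algebra.smul_def, map_mul, map_mul, he, ht, ← mul_assoc]
      refine (mul_le_of_le_one_right' (hz R hR)).trans_lt ?_
      rw [map_inv₀, ← WithZero.exp_nsmul]
      rcases eq_or_ne R Q with rfl | hne'
      · rw [hsQ, ← WithZero.exp_neg, ← WithZero.exp_add, ← WithZero.exp_zero, WithZero.exp_lt_exp]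
        simp; omega
      · rw [hsR R hR hne', inv_one, mul_one, ← WithZero.exp_zero, WithZero.exp_lt_exp]
        simp; omega
    have h1 := (v_lt_one_iff_le_exp P _).1 (v_trace_lt_one hK hlt)
    rw [map_smul, smul_eq_mul, map_mul, ht] at h1
    exact le_of_mul_le_mul_left (h1.trans_eq (mul_one _).symm) WithZero.exp_pos
  have h := v_mul_le_one_of_inDual hy hyi hw hQ
  rw [hg, mul_one, map_inv₀, hsQ, ← WithZero.exp_neg, ← WithZero.exp_zero, WithZero.exp_le_exp] at h
  omega

/-- Almost all places are unramified. -/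
theorem finite_ramified (hK : IsFunctionField k K) :
    {Q : Place k K' | ¬ Function.Surjective (Q.1.comap (algebraMap K K'))}.Finite := by
  classical
  obtain ⟨y, hy⟩ := Field.exists_primitive_element K K'
  set m := minpoly K y
  set g := Polynomial.aeval y (Polynomial.derivative m)
  set BP : Set (Place k K) := ⋃ i ∈ Finset.range (m.natDegree + 1), Function.support fun P : Place k K => P.ord (m.coeff i)
  have hBP : BP.Finite := (Finset.range (m.natDegree + 1)).finite_toSet.biUnion fun i _ => finite_support hK _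
  refine ((finite_support_ext hK g).union (hBP.biUnion fun P _ => (finite_over_and_sum (K' := K') hK P).1)).subset ?_
  intro Q hQ
  by_contra hbad
  simp only [Set.mem_union, Function.mem_support, Set.mem_iUnion, not_or, not_exists, not_not] at hbad
  obtain ⟨hg0, hP0⟩ := hbad
  obtain ⟨P, hP⟩ := exists_isOver hK Q
  have hcoef : ∀ i, P.1 (m.coeff i) ≤ 1 := fun i => by
    by_contra hc
    have hi : i ≤ m.natDegree := by
      by_contra h
      rw [Polynomial.coeff_eq_zero_of_natDegree_lt (not_le.1 h), map_zero] at hc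
      exact hc zero_le
    have hne : m.coeff i ≠ 0 := fun h => by rw [h, map_zero] at hc; exact hc zero_le
    refine hP0 P ?_ hP
    simp only [BP, Set.mem_iUnion, Function.mem_support]
    exact ⟨i, Finset.mem_range.2 (Nat.lt_succ_of_le hi), fun h => hc ((v_le_one_iff P hne).2 h.ge)⟩
  letI : Algebra P.O K' := ((algebraMap K K').comp P.O.subtype).toAlgebra
  haveI : IsScalarTower P.O K K' := IsScalarTower.of_algebraMap_eq fun _ => rfl
  have hyi : IsIntegral P.O y := by
    obtain ⟨p, hp, -, hpm⟩ := Polynomial.lifts_and_degree_eq_and_monic (f := algebraMap P.O K) (p := m)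
      ((Polynomial.lifts_iff_coeff_lifts _).2 fun i => ⟨⟨_, hcoef i⟩, rfl⟩) (minpoly.monic (IsIntegral.of_finite K y))
    refine ⟨p, hpm, ?_⟩
    rw [← Polynomial.aeval_def, ← Polynomial.aeval_map_algebraMap K y p, hp]
    exact minpoly.aeval K y
  have hgne : g ≠ 0 := (Algebra.IsSeparable.isSeparable K y).aeval_derivative_ne_zero (minpoly.aeval _ _)
  have h1 := ramIdx_eq_one_of_unit hK hy hyi hP (by rw [v_eq_exp Q hgne, hg0, neg_zero, WithZero.exp_zero])
  have hw := isOverWith_ramIdx hP
  rw [h1] at hw
  refine hQ fun z => ?_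
  obtain ⟨x, hx⟩ := P.2.2 z
  exact ⟨x, by rw [Valuation.comap_apply, hw x, pow_one, hx]⟩

end Groth.Agent.FF
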