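import Mathlib
import Groth.Agent.FF.Canonical
import Groth.Agent.FF.Classical
import Groth.Agent.FF.Clifford
import Groth.Agent.S12609

/-! Weierstrass points in large characteristic. -/

set_option autoImplicit false
set_option linter.style.haveILetI false

namespace Groth.Agent.FF

open FunFld HahnSeries LaurentSeries
open scoped WithZero IntermediateField

universe u v

variable {k : Type u} {K : Type v} [Field k] [IsAlgClosed k] [Field K] [Algebra k K] (hK : IsFunctionField k K)

include hK

/-- The orders of a map are classical when the characteristic exceeds its degree. -/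
theorem classical_orders {n : ℕ} {φ : Fin (n + 1) → K} (hφ : LinearIndependent k φ)
    (hchar : ringChar k = 0 ∨ (mapDiv k φ).deg < ringChar k) {s : K} {H : K →ₐ[k] PowerSeries K}
    (hH : LocRes.IsHasseFamily s H) :
    IsOrders K (hcol (AlgHom.id k K) H φ) (fun l : Fin n => (l : ℕ) + 1) := by
  classical
  obtain ⟨⟨x, hx, -⟩, -⟩ := id hK
  obtain ⟨P, -⟩ := exists_zero hK hx
  set ι := AlgHom.id k K
  have hfix : IsFixedPt ι P := fun z hz => hz
  obtain ⟨J, hJ, -⟩ := exists_orders hK hφ ι hH
  obtain ⟨t, Ht, ht, hHt⟩ := exists_hasse_param hK P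
  obtain ⟨y, hy, hli, heff, hnorm⟩ := exists_normalized hK P hφ
  have hJ₁ : IsOrders K (hcol ι Ht (y • φ)) J :=
    ((Groth.Agent.S12597.result k K hK φ hφ ι t Ht hHt y hy).1 J).2
      (((Groth.Agent.S12598.result k K hK φ hφ ι s H hH t Ht hHt).1 J).2 hJ)
  obtain ⟨J', hJ'⟩ := exists_orders_at hK hli heff hnorm ht hHt
  have hbound : ∀ l, (J' l : ℤ) ≤ (mapDiv k φ).deg := fun l => by
    have h := orders_at_le_deg hK hli heff hnorm ht hHt hJ' l
    rwa [mapDiv_smul_eq hK hφ.ne_zero hy, deg_sub, deg_div hK, sub_zero] at h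
  have hB : ringChar k = 0 ∨ (mapDiv k φ).deg.toNat < ringChar k := by
    rcases hchar with h | h
    · exact Or.inl h
    · rcases Nat.eq_zero_or_pos (ringChar k) with h' | h'
      · exact Or.inl h'
      · exact Or.inr (by omega)
  have hle : ∀ l, J' l ≤ (mapDiv k φ).deg.toNat := fun l => by have := hbound l; omega
  set I : Fin n → ℕ := fun l => (l : ℕ) + 1
  have hI : StrictMono I := fun a b h => Nat.add_lt_add_right (show (a : ℕ) < b from h) 1
  have h := ((Groth.Agent.S12605.result k K hK ι P hfix (y • φ) hli heff hnorm t ht Ht hHt J' hJ' I hI).2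
    (Or.inl fun l => Nat.succ_pos _)).2 (det_binomMat_succ hJ'.1 (orders_at_pos hK hnorm ht hHt hJ') hle hB)
  have hne : (wrMat ι Ht (y • φ) I).det ≠ 0 := fun h0 => by
    rw [h0, map_zero] at h; exact WithZero.exp_ne_zero h.symm
  rw [wrMat_eq] at hne
  have hge : ∀ l, 1 ≤ J l := fun l => by
    by_contra hl
    obtain h0 : J l = 0 := by omega
    have h1 := (hJ₁.2 (J l)).1 ⟨l, rfl⟩
    rw [h0] at h1
    exact h1 (Submodule.subset_span ⟨0, by simp, funext fun i => (hasseD_zero hHt _).symm⟩)
  have hJI : J = I := funext fun l =>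
    le_antisymm (isOrders_le hJ₁ hI hne l) (le_of_strictMono hJ.1 hge l)
  exact hJI ▸ hJ

/-- Consecutive multiples of a place differ by at most one dimension. -/
lemma ell_step (P : Place k K) (m : ℤ) :
    ell (Finsupp.single P (m + 1) : Divisor k K) ≤ ell (Finsupp.single P m : Divisor k K) + 1 := by
  have h := ell_sub_le hK (D₁ := (Finsupp.single P m : Divisor k K)) (D₂ := Finsupp.single P (m + 1))
    (Finsupp.single_mono (by omega))
  rw [deg_single_ac hK, deg_single_ac hK] at h
  omega

lemma eq_iff_ell (P : Place k K) (m : ℤ) :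
    L (Finsupp.single P (m + 1) : Divisor k K) = L (Finsupp.single P m) ↔
      ell (Finsupp.single P (m + 1) : Divisor k K) = ell (Finsupp.single P m : Divisor k K) := by
  constructor
  · intro h; rw [ell, ell, h]
  · intro h
    haveI := finite_L hK (Finsupp.single P (m + 1) : Divisor k K)
    exact (Submodule.eq_of_le_of_finrank_eq (L_mono (Finsupp.single_mono (by omega))) h.symm).symm

/-- The first `N` gaps. -/
lemma gaps_iff_ell (P : Place k K) (N : ℕ) :
    (∀ j < N, L (Finsupp.single P ((j : ℤ) + 1) : Divisor k K) = L (Finsupp.single P (j : ℤ))) ↔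
      ell (Finsupp.single P (N : ℤ) : Divisor k K) = 1 := by
  constructor
  · intro h
    induction N with
    | zero => rw [Nat.cast_zero, Finsupp.single_zero, ell_zero hK]
    | succ N ih =>
      rw [Nat.cast_succ, (eq_iff_ell hK P N).1 (h N N.lt_succ_self)]
      exact ih fun j hj => h j (by omega)
  · intro h j hj
    refine (eq_iff_ell hK P j).2 ?_
    have h1 : ell (Finsupp.single P ((j : ℤ) + 1) : Divisor k K) ≤ ell (Finsupp.single P (N : ℤ) : Divisor k K) :=
      ell_mono hK (Finsupp.single_mono (by omega))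
    have h2 : ell (0 : Divisor k K) ≤ ell (Finsupp.single P (j : ℤ) : Divisor k K) :=
      ell_mono hK (Finsupp.single_nonneg.2 (Int.natCast_nonneg j))
    rw [ell_zero hK] at h2
    have h3 : ell (Finsupp.single P (j : ℤ) : Divisor k K) ≤ ell (Finsupp.single P ((j : ℤ) + 1) : Divisor k K) :=
      ell_mono hK (Finsupp.single_mono (by omega))
    omega

/-- A gap is at most one more than twice the number of smaller gaps. -/
lemma gap_bound (P : Place k K) (c : ℕ)
    (hc : L (Finsupp.single P ((c : ℤ) + 1) : Divisor k K) = L (Finsupp.single P (c : ℤ))) (S : Finset ℕ)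
    (hS : ∀ a : ℕ, a < c → L (Finsupp.single P ((a : ℤ) + 1) : Divisor k K) = L (Finsupp.single P (a : ℤ)) → a ∈ S) :
    c ≤ 2 * S.card := by
  classical
  set A := (Finset.range c).filter fun a : ℕ =>
    L (Finsupp.single P ((a : ℤ) + 1) : Divisor k K) = L (Finsupp.single P (a : ℤ))
  have hA : A ⊆ S := fun a ha => by
    rw [Finset.mem_filter, Finset.mem_range] at ha
    exact hS a ha.1 ha.2
  have hpair : Finset.range c ⊆ A ∪ A.image (fun a => c - 1 - a) := by
    intro a ha
    rw [Finset.mem_range] at ha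
    rw [Finset.mem_union]
    by_contra hno
    rw [not_or] at hno
    have h1 : ¬ L (Finsupp.single P ((a : ℤ) + 1) : Divisor k K) = L (Finsupp.single P (a : ℤ)) := fun h =>
      hno.1 (Finset.mem_filter.2 ⟨Finset.mem_range.2 ha, h⟩)
    have h2 : ¬ L (Finsupp.single P (((c - 1 - a : ℕ) : ℤ) + 1) : Divisor k K) =
        L (Finsupp.single P ((c - 1 - a : ℕ) : ℤ)) := fun h => hno.2 (Finset.mem_image.2
      ⟨c - 1 - a, Finset.mem_filter.2 ⟨Finset.mem_range.2 (by omega), h⟩, by omega⟩)
    have h := nongap_add hK P (m := (a : ℤ) + 1) (n := ((c - 1 - a : ℕ) : ℤ) + 1)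
      (by rwa [add_sub_cancel_right]) (by rwa [add_sub_cancel_right])
    rw [show (a : ℤ) + 1 + (((c - 1 - a : ℕ) : ℤ) + 1) = (c : ℤ) + 1 by omega, add_sub_cancel_right] at h
    exact h hc
  have h := Finset.card_le_card hpair
  rw [Finset.card_range] at h
  have := Finset.card_union_le A (A.image fun a => c - 1 - a)
  have := Finset.card_image_le (s := A) (f := fun a => c - 1 - a)
  have := Finset.card_le_card hA
  omega

omit [IsAlgClosed k] hK in
lemma two_mul_sum_succ (n : ℕ) : 2 * ∑ i ∈ Finset.range n, (i + 1) = n * (n + 1) := by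
  induction n with
  | zero => rfl
  | succ n ih => rw [Finset.sum_range_succ, mul_add, ih]; ring

section canonical

variable {C : Divisor k K} (hC : IsCanonical k K C) {n : ℕ} {φ : Fin (n + 1) → K} (hφ : LinearIndependent k φ)
  (hspan : Submodule.span k (Set.range φ) = L C) (hchar : ringChar k = 0 ∨ 2 * genus k K - 2 < ringChar k)
  {Φ : Place k K → (K →ₐ[k] k⸨X⸩)} (hΦ : ∀ P, LocRes.IsExpansionAt P.1 (Φ P))
  {s : K} {H : K →ₐ[k] PowerSeries K} (hH : LocRes.IsHasseFamily s H) {J : Fin n → ℕ}
  (hJ : IsOrders K (hcol (AlgHom.id k K) H φ) J)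

include hC hφ hspan in
lemma genus_eq : genus k K = n + 1 := by rw [← (canonical_deg hK hC).1, ell_pos_of_span hφ hspan]

include hC hφ hspan hchar hH hJ in
lemma orders_eq : J = fun l : Fin n => (l : ℕ) + 1 := by
  refine isOrders_unique hJ (classical_orders hK hφ ?_ hH)
  rw [mapDiv_canonical hK hC hφ hspan, (canonical_deg hK hC).2]
  rcases hchar with h | h
  · exact Or.inl h
  · exact Or.inr (by have := genus_eq hK hC hφ hspan; omega)

include hC hφ hspan hchar hΦ hH hJ in
/-- The weight of a place. -/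
theorem exists_weight (P : Place k K) :
    ∃ G : Fin n → ℕ, StrictMono G ∧ (∀ l, 1 ≤ G l ∧ G l ≤ 2 * ((l : ℕ) + 1)) ∧
      (∀ j : ℕ, 1 ≤ j → (j ∈ Set.range G ↔
        L (Finsupp.single P ((j : ℤ) + 1) : Divisor k K) = L (Finsupp.single P (j : ℤ)))) ∧
      wDiv (AlgHom.id k K) H Φ s φ J P = ∑ l, ((G l : ℤ) - ((l : ℕ) + 1)) := by
  classical
  obtain ⟨t, Ht, ht, hHt⟩ := exists_hasse_param hK P
  obtain ⟨y, hy, hli, heff, hnorm⟩ := exists_normalized hK P hφ
  obtain ⟨hJ₁, hW⟩ := wDiv_eq_of_equiv hK hΦ φ hφ (AlgHom.id k K) hH hHt hJ 1 (by simp) hy (y • φ)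
    (fun i => by simp [Matrix.one_apply])
  obtain ⟨G, hG⟩ := exists_orders_at hK hli heff hnorm ht hHt
  have hpos := orders_at_pos hK hnorm ht hHt hG
  have hgap : ∀ j : ℕ, 1 ≤ j → (j ∈ Set.range G ↔
      L (Finsupp.single P ((j : ℤ) + 1) : Divisor k K) = L (Finsupp.single P (j : ℤ))) := fun j hj =>
    (hG.2 j).trans (Groth.Agent.S12609.result k K hK C hC φ hφ hspan P y hy heff hnorm t ht Ht hHt j hj)
  refine ⟨G, hG.1, fun l => ⟨hpos l, ?_⟩, hgap, ?_⟩
  · refine le_trans (gap_bound hK P (G l) ((hgap _ (hpos l)).1 ⟨l, rfl⟩) (insert 0 ((Finset.Iio l).image G))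
      fun a ha hgapa => ?_) ?_
    · rcases Nat.eq_zero_or_pos a with rfl | ha0
      · exact Finset.mem_insert_self _ _
      · obtain ⟨i, hi⟩ := (hgap a ha0).2 hgapa
        refine Finset.mem_insert_of_mem (Finset.mem_image.2 ⟨i, Finset.mem_Iio.2 ?_, hi⟩)
        by_contra hle
        have := hG.1.monotone (not_lt.1 hle)
        omega
    · have h1 := Finset.card_insert_le 0 ((Finset.Iio l).image G)
      have h2 := Finset.card_image_le (s := Finset.Iio l) (f := G)
      rw [Fin.card_Iio] at h2
      omega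
  · obtain ⟨hlow, hiff⟩ := wDiv_apply_fixed hK hΦ (fun z hz => hz) hli heff hnorm ht hHt hJ₁ hG
    rw [← hW]
    have hJe := orders_eq hK hC hφ hspan hchar hH hJ
    have hle : ∀ l, G l ≤ (2 * genus k K - 2) := fun l => by
      have h := orders_at_le_deg hK hli heff hnorm ht hHt hG l
      rw [mapDiv_smul_eq hK hφ.ne_zero hy, deg_sub, deg_div hK, sub_zero, mapDiv_canonical hK hC hφ hspan,
        (canonical_deg hK hC).2] at h
      have := genus_eq hK hC hφ hspan
      omega
    rw [(hiff (Or.inl rfl)).2 (by rw [hJe]; exact det_binomMat_succ hG.1 hpos hle hchar)]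
    simp [hJe]

include hC hφ hspan hchar hΦ hH hJ in
/-- Weierstrass points are the places with a small nongap. -/
theorem wDiv_ne_zero_iff (P : Place k K) :
    wDiv (AlgHom.id k K) H Φ s φ J P ≠ 0 ↔ 1 < ell (Finsupp.single P (genus k K : ℤ) : Divisor k K) := by
  classical
  have hg := genus_eq hK hC hφ hspan
  obtain ⟨G, hG, hbd, hgap, hW⟩ := exists_weight hK hC hφ hspan hchar hΦ hH hJ P
  have hge : ∀ l : Fin n, (l : ℕ) + 1 ≤ G l := le_of_strictMono hG fun l => (hbd l).1
  have h0 : L (Finsupp.single P ((0 : ℕ) : ℤ) + Finsupp.single P 1 : Divisor k K) =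
      L (Finsupp.single P ((0 : ℕ) : ℤ)) := by
    rw [← Finsupp.single_add, Nat.cast_zero]
    refine (eq_iff_ell hK P 0).2 ?_
    rw [zero_add, ell_single_one hK (by omega), Finsupp.single_zero, ell_zero hK]
  rw [← Finsupp.single_add] at h0
  have h1 : 1 ≤ ell (Finsupp.single P (genus k K : ℤ) : Divisor k K) := by
    rw [← ell_zero hK]; exact ell_mono hK (Finsupp.single_nonneg.2 (Int.natCast_nonneg _))
  rw [hW, lt_iff_le_and_ne, and_iff_right h1, Ne, Ne, eq_comm (a := 1), ← gaps_iff_ell hK P (genus k K), not_iff_not]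
  constructor
  · intro hsum j hj
    rcases Nat.eq_zero_or_pos j with rfl | hj0
    · exact h0
    have h2 := (Finset.sum_eq_zero_iff_of_nonneg (fun l _ => by have := hge l; omega)).1 hsum
      ⟨j - 1, by omega⟩ (Finset.mem_univ _)
    refine (hgap j hj0).1 ⟨⟨j - 1, by omega⟩, ?_⟩
    simp only at h2
    omega
  · intro h
    refine Finset.sum_eq_zero fun l _ => ?_
    obtain ⟨i, hi⟩ := (hgap ((l : ℕ) + 1) (by omega)).2 (h ((l : ℕ) + 1) (by have := l.2; omega))
    have h2 := hge i
    have hsub : Finset.Icc 1 ((l : ℕ) + 1) ⊆ (Finset.Iic i).image G := by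
      intro j hj
      rw [Finset.mem_Icc] at hj
      obtain ⟨r, hr⟩ := (hgap j hj.1).2 (h j (by have := l.2; omega))
      refine Finset.mem_image.2 ⟨r, Finset.mem_Iic.2 ?_, hr⟩
      by_contra hlt
      have := hG (not_le.1 hlt)
      omega
    have hc := (Finset.card_le_card hsub).trans Finset.card_image_le
    rw [Nat.card_Icc, Fin.card_Iic] at hc
    obtain rfl : l = i := Fin.ext (by omega)
    omega

include hC hφ hspan hchar hΦ hH hJ in
/-- There are at least `2g + 2` Weierstrass points, with equality only if each has nongap `2`. -/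
theorem ncard_weierstrass (hg2 : 1 < genus k K) :
    2 * genus k K + 2 ≤ Set.ncard {P : Place k K | wDiv (AlgHom.id k K) H Φ s φ J P ≠ 0} ∧
    (Set.ncard {P : Place k K | wDiv (AlgHom.id k K) H Φ s φ J P ≠ 0} = 2 * genus k K + 2 →
      ∀ P : Place k K, wDiv (AlgHom.id k K) H Φ s φ J P ≠ 0 →
        1 < ell (Finsupp.single P (2 : ℤ) : Divisor k K)) := by
  classical
  have hg := genus_eq hK hC hφ hspan
  have hJe := orders_eq hK hC hφ hspan hchar hH hJ
  set W := wDiv (AlgHom.id k K) H Φ s φ J
  have hnn : 0 ≤ W := wDiv_nonneg hK hΦ φ hφ _ hH hJ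
  have hdeg : W.deg = ((1 : ℤ) + n) * (2 * (genus k K : ℤ) - 2) + (2 * (genus k K : ℤ) - 2) * ∑ l, (J l : ℤ) := by
    rw [wDiv_deg hK hΦ φ _ hH J, mapDiv_canonical hK hC hφ hspan, (canonical_deg hK hC).2]
    congr 2
    have : Module.finrank (AlgHom.id k K).fieldRange K = 1 := by
      rw [AlgHom.fieldRange_eq_top.2 Function.surjective_id, IntermediateField.finrank_top]
    rw [this]
    norm_num
  have hsupp : {P : Place k K | W P ≠ 0} = ↑W.support := by ext P; simp [Finsupp.mem_support_iff]
  rw [hsupp, Set.ncard_coe_finset]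
  set S : ℕ := ∑ l : Fin n, ((l : ℕ) + 1) with hS
  have hSJ : ∑ l, (J l : ℤ) = S := by rw [hJe, hS]; push_cast; rfl
  have hS2 : 2 * S = n * (n + 1) := by
    rw [hS, Fin.sum_univ_eq_sum_range fun i => i + 1, two_mul_sum_succ]
  have hbound : ∀ P, W P ≤ S := by
    intro P
    obtain ⟨G, -, hbd, -, hW⟩ := exists_weight hK hC hφ hspan hchar hΦ hH hJ P
    change wDiv (AlgHom.id k K) H Φ s φ J P ≤ _
    rw [hW, hS, Nat.cast_sum]
    exact Finset.sum_le_sum fun l _ => by have := (hbd l).2; push_cast; omega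
  have heq : ∀ P, W P = S → 1 < ell (Finsupp.single P (2 : ℤ) : Divisor k K) := by
    intro P hP
    obtain ⟨G, hG, hbd, hgap, hW⟩ := exists_weight hK hC hφ hspan hchar hΦ hH hJ P
    change wDiv (AlgHom.id k K) H Φ s φ J P = _ at hP
    rw [hW, hS, Nat.cast_sum] at hP
    have h0 := (Finset.sum_eq_sum_iff_of_le (fun l _ => by have := (hbd l).2; push_cast; omega)).1 hP
      ⟨0, by omega⟩ (Finset.mem_univ _)
    have hG0 : G ⟨0, by omega⟩ = 2 := by simp only at h0; push_cast at h0; omega
    have h1 : ¬ L (Finsupp.single P (((1 : ℕ) : ℤ) + 1) : Divisor k K) = L (Finsupp.single P ((1 : ℕ) : ℤ)) := by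
      intro h
      obtain ⟨i, hi⟩ := (hgap 1 le_rfl).2 h
      have := hG.monotone (show (⟨0, by omega⟩ : Fin n) ≤ i from Nat.zero_le _)
      omega
    rw [Nat.cast_one, eq_iff_ell hK, show (1 : ℤ) + 1 = 2 from rfl, ell_single_one hK (by omega)] at h1
    have : 1 ≤ ell (Finsupp.single P (2 : ℤ) : Divisor k K) := by
      rw [← ell_zero hK]; exact ell_mono hK (Finsupp.single_nonneg.2 (by norm_num))
    omega
  have hsum : W.deg = ∑ P ∈ W.support, W P := by
    rw [Divisor.deg, Finsupp.sum]
    exact Finset.sum_congr rfl fun P _ => by rw [deg_eq_one hK P, Nat.cast_one, mul_one]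
  have hval : W.deg = (2 * (genus k K : ℤ) + 2) * S := by
    rw [hdeg, hSJ, hg]
    have hS2' : (2 : ℤ) * S = (n : ℤ) * (n + 1) := by exact_mod_cast hS2
    push_cast
    linear_combination (-2 : ℤ) * hS2'
  have hle : ∑ P ∈ W.support, W P ≤ (W.support.card : ℤ) * S := by
    rw [← nsmul_eq_mul, ← Finset.sum_const]
    exact Finset.sum_le_sum fun P _ => hbound P
  have hSpos : (0 : ℤ) < S := by
    have : 0 < S := Nat.pos_of_ne_zero fun h => by rw [h] at hS2; nlinarith
    exact_mod_cast this
  have hN : (2 * (genus k K : ℤ) + 2) ≤ W.support.card := by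
    refine le_of_mul_le_mul_right ?_ hSpos
    rw [← hval, hsum]; exact hle
  refine ⟨by exact_mod_cast hN, fun hcard P hP => heq P ?_⟩
  have hall : ∑ P ∈ W.support, W P = ∑ P ∈ W.support, (S : ℤ) := by
    rw [Finset.sum_const, nsmul_eq_mul, ← hsum, hval, hcard]
    push_cast
    ring
  exact (Finset.sum_eq_sum_iff_of_le fun P _ => hbound P).1 hall P (Finsupp.mem_support_iff.2 hP)

include hC hφ hspan in
/-- All degree two elements generate the same subfield. -/
theorem adjoin_eq_of_finrank_two (hg2 : 1 < genus k K) {x x' : K}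
    (hx : Transcendental k x) (hx2 : Module.finrank k⟮x⟯ K = 2)
    (hx' : Transcendental k x') (hx2' : Module.finrank k⟮x'⟯ K = 2) : k⟮x⟯ = k⟮x'⟯ := by
  classical
  have hg := genus_eq hK hC hφ hspan
  obtain ⟨hell, hdeg⟩ := canonical_deg hK hC
  haveI := finite_L hK C
  suffices key : ∀ a b : K, Transcendental k a → Module.finrank k⟮a⟯ K = 2 → Transcendental k b →
      Module.finrank k⟮b⟯ K = 2 → k⟮a⟯ ≤ k⟮b⟯ from le_antisymm (key x x' hx hx2 hx' hx2') (key x' x hx' hx2' hx hx2)
  intro a b ha ha2 hb hb2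
  have hgen : ∀ c : K, Transcendental k c → Module.finrank k⟮c⟯ K = 2 → ∃ z : K, z ≠ 0 ∧
      Submodule.span k (Set.range fun i : Fin (genus k K) => z * c ^ (i : ℕ)) = L C := by
    intro c hc hc2
    have hc0 : c ≠ 0 := fun h => hc (h ▸ isAlgebraic_zero)
    have hci : Transcendental k c⁻¹ := fun h => hc (by simpa using h.inv)
    set E : Divisor k K := zeros c⁻¹
    have hE : E.deg = 2 := by rw [deg_zeros hK hci, adjoin_inv, hc2]; rfl
    set D : Divisor k K := ((n : ℕ) : ℤ) • E
    have hD : ∀ i : Fin (genus k K), c ^ (i : ℕ) ∈ L D := fun i =>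
      L_mono (smul_le_smul_of_nonneg_right (by have := i.2; omega) (zeros_nonneg _)) (mem_L_zeros_inv hK hc0 _)
    have hpow : LinearIndependent k fun i : Fin (genus k K) => c ^ (i : ℕ) := by
      rw [Fintype.linearIndependent_iff]
      intro a h i
      have h0 : Polynomial.aeval c (∑ j : Fin (genus k K), Polynomial.C (a j) * Polynomial.X ^ (j : ℕ)) = 0 := by
        rw [map_sum, ← h]
        exact Finset.sum_congr rfl fun j _ => by
          rw [map_mul, Polynomial.aeval_C, map_pow, Polynomial.aeval_X, Algebra.smul_def]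
      have := congrArg (fun p => Polynomial.coeff p (i : ℕ)) (transcendental_iff.1 hc _ h0)
      simp only [Polynomial.finsetSum_coeff, Polynomial.coeff_C_mul_X_pow, Polynomial.coeff_zero] at this
      rwa [Finset.sum_eq_single i (fun j _ hj => if_neg fun e => hj (Fin.ext e.symm)) (by simp), if_pos rfl] at this
    haveI := finite_L hK D
    have h1 : genus k K ≤ ell D := by
      have hli : LinearIndependent k fun i : Fin (genus k K) => (⟨c ^ (i : ℕ), hD i⟩ : L D) :=
        LinearIndependent.of_comp (L D).subtype hpow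
      simpa [ell] using hli.fintype_card_le_finrank
    have h2 := riemann_roch hK hC D
    rw [deg_smul, hE] at h2
    have h3 : 0 < ell (C - D) := by omega
    obtain ⟨z, hz0, hz⟩ := exists_ne_zero_of_ell_pos h3
    refine ⟨z, hz0, Submodule.eq_of_le_of_finrank_le (Submodule.span_le.2 ?_) ?_⟩
    · rintro _ ⟨i, rfl⟩
      have := mul_mem_L hz (hD i)
      rwa [sub_add_cancel] at this
    · have hli2 : LinearIndependent k fun i : Fin (genus k K) => z * c ^ (i : ℕ) := hpow.map' (LinearMap.mulLeft k z)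
        (LinearMap.ker_eq_bot.2 (mul_right_injective₀ hz0))
      rw [finrank_span_eq_card hli2, Fintype.card_fin]
      exact hell.le
  obtain ⟨z, hz0, hz⟩ := hgen a ha ha2
  obtain ⟨w, hw0, hw⟩ := hgen b hb hb2
  have hmem : ∀ f ∈ L C, f / w ∈ k⟮b⟯ := by
    intro f hf
    rw [← hw, Submodule.mem_span_range_iff_exists_fun] at hf
    obtain ⟨e, rfl⟩ := hf
    rw [Finset.sum_div]
    refine sum_mem fun i _ => ?_
    rw [Algebra.smul_def, ← mul_assoc, mul_comm (algebraMap k K (e i)), mul_assoc, mul_div_cancel_left₀ _ hw0]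
    exact mul_mem (IntermediateField.algebraMap_mem _ _) (pow_mem (IntermediateField.mem_adjoin_simple_self k b) _)
  refine IntermediateField.adjoin_simple_le_iff.2 ?_
  have hm : ∀ i : Fin (genus k K), z * a ^ (i : ℕ) / w ∈ k⟮b⟯ := fun i =>
    hmem _ (hz ▸ Submodule.subset_span ⟨i, rfl⟩)
  have := div_mem (hm ⟨1, hg2⟩) (hm ⟨0, by omega⟩)
  rwa [div_div_div_cancel_right₀ hw0, mul_div_mul_left _ _ hz0, pow_one, pow_zero, div_one] at this

end canonical

/-- An element with a double pole at one place only. -/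
theorem exists_double_pole (hg2 : 1 ≤ genus k K) {P : Place k K}
    (h : 1 < ell (Finsupp.single P (2 : ℤ) : Divisor k K)) :
    ∃ x : K, Transcendental k x ∧ Module.finrank k⟮x⟯ K = 2 ∧ P.ord x = -2 ∧
      ∀ Q : Place k K, Q ≠ P → 0 ≤ Q.ord x := by
  classical
  obtain ⟨x, hx0, hxL, hxo⟩ := exists_mem_L_ord (D := (Finsupp.single P (2 : ℤ) : Divisor k K)) (P := P) (by
    rw [← Finsupp.single_sub, show (2 : ℤ) - 1 = 1 from rfl, ell_single_one hK hg2]; exact h)
  rw [Finsupp.single_eq_same] at hxo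
  have ht : Transcendental k x := transcendental_of_not_mem hK fun ⟨c, hc⟩ => by
    rw [← hc, ord_algebraMap] at hxo; omega
  have hi : Transcendental k x⁻¹ := fun h0 => ht (by simpa using h0.inv)
  have hother : ∀ Q : Place k K, Q ≠ P → 0 ≤ Q.ord x := fun Q hQ => by
    have := (mem_L_iff_ord hx0).1 hxL Q
    rw [Finsupp.single_eq_of_ne hQ] at this
    omega
  have hz : zeros (k := k) x⁻¹ = Finsupp.single P (2 : ℤ) := Finsupp.ext fun Q => by
    rw [zeros_apply hK, ord_inv]
    rcases eq_or_ne Q P with rfl | hQ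
    · rw [Finsupp.single_eq_same, hxo]; rfl
    · rw [Finsupp.single_eq_of_ne hQ]; have := hother Q hQ; omega
  have hd := deg_zeros hK hi
  rw [hz, deg_single_ac hK, adjoin_inv] at hd
  exact ⟨x, ht, by exact_mod_cast hd.symm, hxo, hother⟩

omit hK in
lemma isFixedPt_iff (σ : K ≃ₐ[k] K) (P : Place k K) :
    IsFixedPt (σ : K →ₐ[k] K) P ↔ comapPlace σ P = P := by
  constructor
  · intro h
    have hlt : ∀ z, P.1 z < 1 → P.1 (σ z) < 1 := h
    refine place_eq_of_le (comapPlace σ P) (fun x hx => ?_)
    rw [comapPlace_apply] at hx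
    by_contra hgt
    rw [not_le] at hgt
    have hx0 : x ≠ 0 := fun h0 => by rw [h0, map_zero] at hgt; exact not_lt.2 zero_le hgt
    have h1 := hlt x⁻¹ (by rw [map_inv₀]; exact inv_lt_one_of_one_lt₀ hgt)
    rw [map_inv₀, map_inv₀, inv_lt_one₀ (zero_lt_iff.2 ((Valuation.ne_zero_iff _).2 ((map_ne_zero σ).2 hx0)))] at h1
    exact absurd hx (not_le.2 h1)
  · intro h z hz
    have : (comapPlace σ P).1 z < 1 := by rw [h]; exact hz
    exact this

/-- An automorphism fixing more than `2g + 2` places is the identity. -/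
theorem eq_refl_of_fixed (σ : K ≃ₐ[k] K) (T : Finset (Place k K)) (hT : 2 * genus k K + 2 < T.card)
    (hfix : ∀ P ∈ T, IsFixedPt (σ : K →ₐ[k] K) P) : σ = AlgEquiv.refl := by
  classical
  have hσ : ∀ (P : Place k K) (c : K), (comapPlace σ P).ord c = P.ord (σ c) := fun _ _ => rfl
  -- a difference vanishing at a fixed place
  have hvan : ∀ (Q : Place k K) (f : K), IsFixedPt (σ : K →ₐ[k] K) Q → Q.1 f ≤ 1 → Q.1 (σ f - f) < 1 := by
    intro Q f hQ hf
    obtain ⟨c, hc⟩ := exists_const hK Q hf
    have h1 : Q.1 (σ (f - algebraMap k K c)) < 1 := hQ _ hc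
    rw [map_sub, σ.commutes] at h1
    rw [show σ f - f = (σ f - algebraMap k K c) - (f - algebraMap k K c) by ring]
    exact (Q.1.map_sub _ _).trans_lt (max_lt h1 hc)
  by_cases hall : ∀ P : Place k K, IsFixedPt (σ : K →ₐ[k] K) P
  · refine AlgEquiv.ext fun f => ?_
    by_contra hne
    have hd : σ f - f ≠ 0 := sub_ne_zero.2 hne
    haveI := infinite_places hK
    have hinf : (Set.univ \ ((finite_support hK (σ f - f)).union (finite_support hK f)).toFinset : Set (Place k K)).Infinite :=
      Set.infinite_univ.sdiff (Finset.finite_toSet _)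
    obtain ⟨Q, -, hQ⟩ := hinf.nonempty
    simp only [Finset.mem_coe, Set.Finite.mem_toFinset, Set.mem_union, Function.mem_support, not_or, not_not] at hQ
    have hf : Q.1 f ≤ 1 := by
      rcases eq_or_ne f 0 with rfl | hf0
      · simp
      · exact (v_le_one_iff Q hf0).2 hQ.2.ge
    have h1 := (v_lt_one_iff Q hd).1 (hvan Q f (hall Q) hf)
    omega
  push Not at hall
  obtain ⟨P, hP⟩ := hall
  set N : ℤ := (genus k K : ℤ) + 1
  set D : Divisor k K := Finsupp.single P N
  obtain ⟨f, hf, hfc⟩ : ∃ f ∈ L D, f ∉ Set.range (algebraMap k K) := by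
    by_contra hnone
    push Not at hnone
    have hle : L D ≤ (1 : Submodule k K) := fun f hf => Submodule.mem_one.2 (hnone f hf)
    haveI : FiniteDimensional k ↥(1 : Submodule k K) := by
      rw [Submodule.one_eq_span]; exact FiniteDimensional.span_singleton k 1
    have h1 : ell D ≤ 1 := (Submodule.finrank_mono hle).trans
      (by rw [Submodule.one_eq_span, finrank_span_singleton one_ne_zero])
    obtain ⟨C, hC⟩ := exists_canonical hK
    have h2 := riemann_roch hK hC D
    rw [deg_single_ac hK] at h2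
    omega
  have hf0 : f ≠ 0 := fun h => hfc (h ▸ ⟨0, map_zero _⟩)
  have hft := transcendental_of_not_mem hK hfc
  have hpole : P.ord f < 0 := by
    by_contra hge
    obtain ⟨R, hR⟩ := exists_zero hK (x := f⁻¹) (fun h => hft (by simpa using h.inv))
    have h1 := (mem_L_iff_ord hf0).1 hf R
    rw [v_lt_one_iff R (inv_ne_zero hf0), ord_inv] at hR
    rcases eq_or_ne R P with rfl | hRP
    · omega
    · rw [Finsupp.single_eq_of_ne hRP] at h1; omega
  have hz : σ f - f ≠ 0 := by
    intro h0
    rw [sub_eq_zero] at h0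
    refine hP ((isFixedPt_iff σ P).2 ?_)
    by_contra hne
    have h1 := hσ P f
    rw [h0] at h1
    have h2 := (mem_L_iff_ord hf0).1 hf (comapPlace σ P)
    rw [Finsupp.single_eq_of_ne hne] at h2
    omega
  set P' := comapPlace σ⁻¹ P
  have hmem : σ f - f ∈ L (Finsupp.single P N + Finsupp.single P' N : Divisor k K) := by
    refine Submodule.sub_mem _ ?_ (L_mono (le_add_of_nonneg_right (Finsupp.single_nonneg.2 (by omega))) hf)
    refine L_mono (le_add_of_nonneg_left (Finsupp.single_nonneg.2 (by omega)))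
      ((mem_L_iff_ord ((map_ne_zero σ).2 hf0)).2 fun Q => ?_)
    have h2 := (mem_L_iff_ord hf0).1 hf (comapPlace σ Q)
    rw [hσ] at h2
    rcases eq_or_ne Q P' with rfl | hQ
    · rw [Finsupp.single_eq_same]
      rcases eq_or_ne (comapPlace σ P') P with e | e
      · rw [e, Finsupp.single_eq_same] at h2; exact h2
      · rw [Finsupp.single_eq_of_ne e] at h2; omega
    · have e : comapPlace σ Q ≠ P := by
        intro e
        refine hQ ?_
        change Q = comapPlace σ⁻¹ P
        rw [← e]
        exact Subtype.ext (Valuation.ext fun z => by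
          change Q.1 z = Q.1 (σ (σ⁻¹ z))
          rw [← AlgEquiv.mul_apply, mul_inv_cancel, AlgEquiv.one_apply])
      rw [Finsupp.single_eq_of_ne e] at h2
      rw [Finsupp.single_eq_of_ne hQ]; exact h2
  set E : Divisor k K := Finsupp.single P N + Finsupp.single P' N - ∑ Q ∈ T, Finsupp.single Q 1
  have hzE : σ f - f ∈ L E := by
    refine (mem_L_iff_ord hz).2 fun Q => ?_
    have h1 := (mem_L_iff_ord hz).1 hmem Q
    have e : (∑ R ∈ T, Finsupp.single R (1 : ℤ)) Q = if Q ∈ T then 1 else 0 := by
      simp [Finsupp.finsetSum_apply, Finsupp.single_apply]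
    rw [Finsupp.sub_apply, e]
    split_ifs with hQT
    · have hfix' := hfix Q hQT
      have hQP : Q ≠ P := fun h => hP (h ▸ hfix')
      have h3 := (mem_L_iff_ord hf0).1 hf Q
      rw [Finsupp.single_eq_of_ne hQP] at h3
      have h4 := (v_lt_one_iff Q hz).1 (hvan Q f hfix' ((v_le_one_iff Q hf0).2 (by omega)))
      have h5 : 0 ≤ (Finsupp.single P N + Finsupp.single P' N : Divisor k K) Q :=
        (add_nonneg (Finsupp.single_nonneg.2 (by omega)) (Finsupp.single_nonneg.2 (by omega)) :
          (0 : Divisor k K) ≤ _) Q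
      omega
    · omega
  haveI := finite_L hK E
  have hneg : ell E = 0 := by
    refine ell_eq_zero_of_deg_neg hK ?_
    have e : ∀ U : Finset (Place k K), Divisor.deg (∑ Q ∈ U, Finsupp.single Q (1 : ℤ)) = U.card := fun U => by
      induction U using Finset.induction_on with
      | empty => simp [deg_zero]
      | insert a U ha ih =>
        rw [Finset.sum_insert ha, deg_add, deg_single_ac hK, ih, Finset.card_insert_of_notMem ha]; push_cast; ring
    rw [deg_sub, deg_add, deg_single_ac hK, deg_single_ac hK, e]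
    omega
  rw [ell, Submodule.finrank_eq_zero] at hneg
  exact absurd ((Submodule.mem_bot k).1 (hneg ▸ hzE)) hz

end Groth.Agent.FF
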